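import Cfsg.Agent.Lib.Sporadic.ThPres.Check

set_option autoImplicit false
set_option maxRecDepth 20000

/-! Facts among double cosets (generated; owner: helper9). -/

namespace CfsgLib.Sporadic.ThPres
open CfsgLib.Recog.SporBound (Q)

/-- facts 288 and on -/
def facts9 : List (Fact × Why) := [
  (⟨false, 2, 2, [67, 44, 42, 57, 28, 34, 27, 16, 11, 16, 10], [66, 54, 52, 33, 27, 34, 16, 4, 16, 25], [59, 50, 44, 30, 28, 30, 2, 23, 8, 17, 25]⟩, .loop 34 2 [60, 50, 48, 30, 38, 26, 16, 21] 6 7 [⟨[23], 127, true, [5, 3, 6, 5, 6, 10]⟩, ⟨[50, 50, 50, 21, 21], 213, false, [2, 3, 4, 5, 6, 1, 4, 6, 4, 5]⟩, ⟨[], 264, true, [0, 2, 4, 10, 5, 6, 4, 5, 3, 5]⟩] []),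
  (⟨false, 5, 2, [59, 49, 28, 40, 33, 17, 22, 6, 18], [67, 54, 47, 28, 36, 34, 16, 10], [60, 44, 43, 30, 29, 30, 2, 23, 25, 19]⟩, .loop 47 2 [67, 44, 48, 52, 34, 27, 28, 16, 24] 4 5 [⟨[], 212, true, [2, 6, 4, 5, 6, 2, 5, 6, 4]⟩, ⟨[24, 23], 280, false, [1, 5, 3, 5, 6, 5, 3, 6, 2, 6, 5]⟩] []),
  (⟨false, 2, 2, [59, 46, 42, 41, 33, 2, 17, 19], [60, 50, 55, 36, 35, 2, 23, 23, 17, 2], [58, 51, 57, 34, 28, 16, 4, 16, 22, 22]⟩, .loop 31 2 [58, 47, 47, 52, 28, 35, 18, 23, 17, 6] 4 5 [⟨[24, 23], 154, true, [1, 5, 6, 2, 6, 10, 5, 6, 4, 6]⟩, ⟨[], 123, false, [0, 4, 10, 5]⟩] [⟨[24, 23], 224, true, [1, 10, 5, 6, 5, 6, 10]⟩]),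
  (⟨false, 2, 2, [59, 48, 50, 31, 36, 34, 16, 21, 16, 19], [62, 47, 47, 30, 16, 4, 16, 8], [59, 44, 42, 35, 35, 26, 2, 16, 16, 16, 24]⟩, .loop 49 2 [62, 47, 47, 30, 27, 2, 23, 17, 2] 4 5 [⟨[24], 258, false, [2, 5, 3, 6]⟩, ⟨[24], 260, true, [0, 2, 3, 6, 5, 3, 6, 5, 6, 10, 5]⟩] []),
  (⟨false, 2, 2, [66, 54, 28, 34, 28, 16, 11, 16, 16], [67, 45, 42, 47, 28, 34, 31, 17, 22, 6, 23], [58, 45, 48, 41, 41, 16, 11, 18]⟩, .loop 47 2 [49, 44, 30, 26, 33, 2, 17, 23, 18, 18] 2 3 [⟨[24, 23], 251, false, [6, 5, 6, 4, 5, 3, 6, 2, 5]⟩] [⟨[24, 23], 209, false, [1, 5, 3, 6, 2, 6, 4, 6, 5, 10]⟩]),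
  (⟨false, 2, 2, [50, 45, 33, 34, 40, 16, 16, 8, 21], [59, 55, 35, 31, 29, 2, 17, 23, 4, 20], [59, 44, 42, 34, 26, 29, 2, 17, 23, 20, 13]⟩, .loop 68 2 [66, 46, 42, 51, 31, 28, 16, 16, 21, 18] 2 3 [⟨[], 96, false, [2, 6, 4, 5, 6, 4, 10, 5, 3]⟩] [⟨[24], 234, false, [0, 4, 6, 4, 6, 4, 6, 10, 5]⟩, ⟨[24, 23], 222, true, [10, 5, 6, 1, 4, 5, 3, 6, 4]⟩]),
  (⟨false, 2, 2, [60, 54, 44, 31, 28, 35, 2, 16, 16, 16], [67, 47, 48, 35, 29, 31, 16, 16, 8, 22], [62, 45, 50, 35, 40, 31, 2, 16]⟩, .loop 45 4 [60, 45, 42, 45, 36, 29, 2, 17, 23, 4, 10] 2 3 [⟨[63, 61], 180, false, [0, 4, 6, 2, 4, 5, 6, 5]⟩] [⟨[61, 61, 30], 180, false, [5, 6, 2, 10, 5, 6, 2]⟩]),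
  (⟨false, 2, 2, [67, 44, 46, 57, 36, 35, 2, 23, 10, 23, 19], [63, 44, 47, 35, 29, 34, 17, 22, 6, 22], [61, 49, 51, 31, 35, 27, 17, 22]⟩, .loop 48 2 [44, 57, 38, 28, 16, 18, 16, 20] 2 3 [⟨[23, 24, 23], 148, true, [4, 6, 2, 6, 4, 5, 6, 2, 6, 10]⟩] [⟨[], 262, true, [4, 6, 10, 5, 6, 2, 4, 5, 3]⟩]),
  (⟨false, 2, 5, [61, 45, 42, 47, 28, 38, 31, 16, 10, 8, 16], [58, 48, 57, 35, 30, 26, 2, 17, 17, 13, 17], [63, 46, 44, 54, 30, 26, 30, 2, 16, 16, 16, 4]⟩, .loop 48 2 [61, 50, 46, 34, 40, 2, 17, 17, 23, 16] 2 3 [⟨[24], 293, true, [1, 6, 10, 5, 3, 6, 2, 6, 2]⟩] [⟨[24], 274, false, [1, 2, 10, 5, 3, 6, 4, 6, 4]⟩]),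
  (⟨false, 2, 2, [66, 51, 46, 30, 29, 34, 2, 23, 13, 23], [63, 44, 43, 30, 38, 29, 2, 23, 23, 0, 13], [58, 44, 42, 57, 28, 40, 33, 16, 24, 23]⟩, .loop 73 5 [58, 47, 42, 34, 41, 2, 17, 17, 13, 22] 4 5 [⟨[], 111, false, [2, 4, 5, 6, 1, 4, 10, 5, 6, 5, 3]⟩, ⟨[], 253, true, [1, 3, 5, 6, 2, 5, 3, 6, 2]⟩] [⟨[66, 66, 37, 38], 254, false, [1, 3, 5, 6, 5, 6, 10]⟩]),
  (⟨false, 5, 2, [59, 45, 50, 42, 34, 36, 2, 17, 22, 22, 6], [62, 45, 57, 34, 27, 41, 2, 23, 17, 24, 6], [61, 50, 49, 30, 27, 17, 22, 6, 17]⟩, .loop 31 3 [63, 35, 31, 32, 16, 16, 21] 4 5 [⟨[21, 50], 159, false, [0, 2, 5, 6, 2, 4, 5, 3, 6, 2, 6, 4]⟩, ⟨[], 141, false, [10, 5, 3, 6, 5, 6, 2, 4, 5]⟩] [⟨[21, 50, 21, 50], 164, false, [1, 6, 4, 10, 5, 3, 6, 2, 6]⟩]),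
  (⟨false, 2, 2, [63, 54, 31, 29, 16, 16, 18, 23], [66, 45, 42, 47, 36, 27, 35, 2, 17, 23], [66, 47, 55, 41, 33, 16, 10, 13]⟩, .loop 48 2 [63, 45, 50, 30, 32, 30, 2, 23, 17, 22, 6] 2 3 [⟨[], 208, true, [6, 5, 6, 2, 6, 4, 5, 10]⟩] [⟨[23], 290, true, [6, 4, 5, 3, 6, 2, 5, 10]⟩]),
  (⟨false, 2, 2, [60, 45, 54, 30, 27, 27, 18, 23, 17, 6], [59, 45, 50, 45, 28, 31, 34, 2, 17, 22, 16, 2], [60, 49, 45, 30, 38, 28, 16, 18, 18]⟩, .loop 70 4 [44, 57, 31, 41, 26, 16, 8, 22, 19] 2 3 [⟨[61], 92, false, [6, 10, 5, 6, 4, 6, 5]⟩] [⟨[30, 61, 61, 29], 184, false, [4, 5, 6, 4, 5, 6, 4, 5, 3, 6]⟩, ⟨[], 117, true, [1, 4, 5, 10, 5, 6, 4]⟩]),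
  (⟨false, 5, 2, [62, 47, 49, 33, 28, 35, 2, 23, 17, 17], [48, 48, 28, 40, 36, 16, 4, 16, 16, 10], [62, 55, 46, 30, 38, 40, 16, 19, 22]⟩, .loop 32 2 [63, 48, 48, 31, 37, 29, 2, 17, 23, 18, 18] 6 7 [⟨[23], 274, false, [0, 2, 3, 6, 4, 5, 6, 2, 4]⟩, ⟨[38, 37], 274, true, [2, 10, 5, 6, 2, 4, 5, 6]⟩, ⟨[23, 24, 23], 204, false, [5, 6, 4, 5, 6, 4, 5, 3, 5]⟩] []),
  (⟨false, 2, 2, [62, 45, 56, 50, 30, 2, 17, 17, 25, 13], [44, 51, 33, 31, 31, 2, 23, 17, 25, 12], [67, 44, 55, 36, 30, 33, 16, 16, 16, 2]⟩, .loop 28 4 [66, 44, 42, 54, 28, 34, 27, 16, 4, 17] 4 5 [⟨[61], 57, false, [1, 5, 6, 2, 6, 4, 5, 6, 2]⟩, ⟨[29, 28, 61], 160, false, [3, 5, 6, 4, 6, 2, 10]⟩] [⟨[61, 27, 61], 110, true, [1, 2, 4, 6, 5, 6, 2, 4, 6, 10]⟩]),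
  (⟨false, 5, 2, [60, 54, 47, 28, 26, 31, 33, 2, 17, 23, 18], [63, 46, 56, 33, 29, 31, 16, 4, 11], [44, 55, 50, 35, 31, 29, 2, 23, 23, 8, 24]⟩, .loop 18 3 [44, 42, 57, 35, 28, 35, 2, 23, 4, 6, 17] 2 3 [⟨[21, 50, 21], 78, false, [3, 6, 4, 5, 10, 5]⟩] [⟨[21, 22, 245, 22, 21], 78, false, [5, 3, 6, 1, 4, 6, 5, 6]⟩, ⟨[66, 37, 66, 66, 38], 270, false, [0, 2, 6, 10, 5, 3, 6, 4, 6, 2, 5]⟩]),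
  (⟨false, 2, 2, [62, 44, 42, 51, 36, 26, 2, 23, 17, 17, 19], [67, 54, 52, 34, 31, 31, 16, 21, 16, 20], [61, 44, 55, 28, 38, 31, 16, 16, 2, 11]⟩, .loop 30 2 [61, 49, 53, 31, 36, 35, 2, 17, 17, 25, 8] 6 7 [⟨[], 117, true, [6, 10, 5, 6, 10, 5, 3, 6, 5, 6, 10]⟩, ⟨[24, 23], 248, true, [4, 5, 3, 5, 6, 5, 6, 4, 6, 10]⟩, ⟨[], 224, true, [0, 3, 4, 6, 5, 6, 2]⟩] []),
  (⟨false, 3, 2, [67, 50, 49, 28, 34, 40, 17, 22, 6, 16], [58, 47, 49, 56, 28, 34, 31, 32, 16, 16, 22, 25], [61, 48, 48, 28, 34, 31, 17, 23, 17, 22, 24]⟩, .loop 67 5 [45, 50, 45, 36, 31, 31, 17, 23, 23, 18] 4 5 [⟨[66], 287, true, [4, 5, 10, 5, 6]⟩, ⟨[], 230, true, [4, 5, 6]⟩] [⟨[37, 66, 66, 38], 298, false, [6, 2, 6, 4, 5, 6, 2, 4, 5, 10]⟩]),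
  (⟨false, 3, 2, [63, 44, 33, 34, 30, 16, 10, 17, 6], [60, 50, 47, 30, 40, 27, 2, 17, 0], [61, 47, 49, 56, 35, 40, 31, 2, 17, 22, 22, 24]⟩, .loop 34 2 [62, 44, 56, 31, 29, 32] 2 3 [⟨[], 99, true, [2, 6, 5, 10, 5, 6, 5, 10, 5]⟩] [⟨[24, 23], 278, false, [4, 6, 2, 5, 3, 6, 4, 6, 5, 3]⟩, ⟨[37, 66, 37], 289, false, [3, 6, 1, 4, 5, 3, 6, 2, 5]⟩]),
  (⟨false, 2, 2, [62, 56, 28, 35, 32, 2, 23, 23, 4, 19], [58, 44, 48, 52, 28, 40, 36, 2, 23, 23, 8, 17], [61, 45, 48, 35, 30, 16, 22, 22, 22]⟩, .loop 21 3 [67, 44, 56, 46, 28, 30, 32, 16, 22, 22, 10] 4 5 [⟨[], 230, false, [1, 10, 5, 6, 2, 4, 5, 3, 6]⟩, ⟨[23, 24], 259, false, [5, 6, 1, 2, 6, 5, 6, 4]⟩] [⟨[50, 50, 21, 22, 245], 305, false, [2, 6, 1, 4, 6, 5, 10, 5, 6, 2]⟩]),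
  (⟨false, 2, 2, [62, 51, 57, 34, 38, 28, 2, 23, 17, 17], [60, 46, 46, 28, 41, 38, 2, 23, 23, 18, 6], [45, 48, 35, 36, 16, 16, 22, 19]⟩, .loop 47 2 [58, 45, 50, 36, 40, 16, 18, 16, 19] 4 5 [⟨[], 177, true, [6, 2, 10, 5, 6, 5, 6, 4]⟩, ⟨[24], 291, true, [2, 5, 3, 6, 5, 6, 2, 10]⟩] []),
  (⟨false, 2, 2, [46, 48, 54, 34, 29, 16, 16, 20, 17], [63, 54, 44, 30, 30, 28, 2, 23, 23, 23, 21], [66, 44, 43, 51, 30, 30, 34, 2, 23, 13, 23, 6]⟩, .loop 45 5 [59, 48, 47, 31, 41, 28, 2, 17, 17, 13, 22] 2 3 [⟨[], 301, false, [6, 10, 5, 6, 2, 4, 6, 5]⟩] [⟨[37, 66], 257, false, [1, 6, 4, 5, 10, 5, 6, 2, 5, 10]⟩]),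
  (⟨false, 5, 2, [60, 50, 42, 30, 37, 32, 16, 19, 6, 17], [58, 55, 47, 30, 28, 37, 16, 16, 22], [45, 42, 28, 41, 38, 2, 17, 23, 11, 25]⟩, .loop 48 2 [67, 45, 52, 30, 27, 28, 2, 17, 17, 10, 25] 2 3 [⟨[23], 270, true, [4, 5, 6, 4, 6, 5, 6, 10, 5, 3]⟩] [⟨[23, 24], 279, false, [5, 3, 5, 6, 5, 3, 5, 6, 4]⟩]),
  (⟨false, 5, 2, [61, 52, 50, 28, 36, 29, 2, 23, 6, 17], [59, 57, 28, 35, 27, 18, 23], [62, 47, 56, 31, 37, 16, 10, 18]⟩, .loop 22 3 [63, 45, 48, 30, 40, 31, 16, 4, 16, 16, 13] 2 3 [⟨[245, 22], 78, false, [6, 1, 2, 5, 3, 6, 5, 6, 4, 10]⟩] [⟨[21, 245, 21, 22], 78, false, [4, 6, 2, 6, 5, 3, 6, 4]⟩, ⟨[], 280, true, [1, 2, 6, 2, 5, 6, 5]⟩]),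
  (⟨false, 2, 2, [62, 44, 48, 35, 31, 29, 2, 23, 19, 16], [62, 44, 53, 56, 30, 34, 27, 2, 23, 23, 17], [60, 49, 47, 35, 36, 30, 16, 16, 20, 24]⟩, .loop 28 2 [63, 44, 57, 55, 30, 29, 34, 2, 23, 17, 17, 10] 6 7 [⟨[24], 235, false, [2, 4, 6, 5, 6, 2, 10, 5]⟩, ⟨[23, 24], 261, true, [2, 4, 6, 1, 2, 10, 5]⟩, ⟨[], 194, false, [2, 4, 6, 2, 6, 5, 10]⟩] []),
  (⟨false, 5, 2, [62, 57, 55, 33, 29, 30, 2, 17, 17, 17, 12], [63, 51, 47, 30, 37, 2, 17, 17, 0, 10], [62, 52, 48, 31, 35, 27, 16, 21, 16, 24]⟩, .loop 17 5 [44, 46, 38, 33, 16, 16, 11, 18, 23] 4 5 [⟨[], 255, false, [4, 5, 3, 6, 4, 5, 10, 5, 6, 2]⟩, ⟨[24, 23], 267, false, [3, 4, 6, 1, 5, 3, 6, 2]⟩] [⟨[66, 66, 38, 66, 37], 301, false, [6, 1, 2, 6, 4, 6, 5, 3, 6]⟩]),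
  (⟨false, 2, 2, [63, 51, 47, 30, 26, 33, 16, 16, 10, 21], [62, 57, 55, 41, 30, 37, 2, 23, 17, 24, 17], [67, 55, 46, 28, 31, 34, 2, 17, 22, 18]⟩, .loop 18 5 [61, 44, 42, 57, 34, 27, 29, 17, 17, 17, 10] 4 5 [⟨[66], 108, true, [1, 3, 5, 6, 4, 5, 6, 2, 6, 5]⟩, ⟨[21, 245, 50, 245, 22], 197, false, [0, 6, 4, 5, 3, 5, 6, 4, 6, 5, 10]⟩] [⟨[37], 174, false, [3, 5, 3, 6, 1, 5, 3, 6, 4]⟩]),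
  (⟨false, 2, 2, [62, 49, 49, 36, 27, 35, 2, 23, 8, 17, 17], [67, 50, 44, 34, 26, 31, 2, 17, 17, 6, 23], [66, 44, 43, 57, 36, 32, 37, 2, 17, 17, 24, 22]⟩, .loop 49 2 [63, 54, 56, 28, 30, 26, 34, 16, 16, 2, 4, 24] 4 5 [⟨[], 294, false, [3, 6, 2, 5, 6, 5, 6, 4]⟩, ⟨[], 297, true, [1, 5, 6, 10, 5, 10]⟩] []),
  (⟨false, 2, 2, [59, 44, 42, 51, 31, 26, 26, 17, 23, 18], [45, 53, 48, 34, 31, 41, 17, 23, 23, 17], [60, 45, 43, 30, 37, 40, 16, 16, 2, 10, 21]⟩, .loop 34 2 [60, 48, 55, 31, 33, 38, 16, 16, 4, 8] 4 5 [⟨[], 300, true, [2, 5, 6, 1, 4, 5, 6, 4, 5]⟩, ⟨[23, 24, 23], 207, true, [2, 3, 5, 6, 2, 5, 6, 4, 10]⟩] [⟨[23, 24], 223, true, [3, 6, 1, 2, 4, 5, 6, 4, 6]⟩]),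
  (⟨false, 2, 2, [67, 44, 42, 35, 31, 29, 2, 23, 17, 24, 6], [60, 51, 44, 30, 29, 34, 2, 16, 6, 17, 19], [48, 43, 28, 34, 36, 2, 23, 13, 23, 6]⟩, .loop 17 2 [59, 55, 47, 35, 31, 32, 2, 17, 22, 10] 2 3 [⟨[], 264, true, [2, 5, 6, 4, 5, 6, 10, 5, 3]⟩] [⟨[], 213, true, [4, 6, 2, 6, 2, 4, 5, 6, 5, 10]⟩, ⟨[245, 50, 22, 50, 22], 305, false, [5, 6, 4, 10, 5, 10]⟩]),
  (⟨false, 2, 2, [67, 48, 47, 30, 40, 26, 16, 25], [67, 57, 53, 34, 41, 2, 17, 22, 16, 21], [62, 45, 46, 31, 35, 27, 17, 17, 22, 21]⟩, .loop 69 2 [59, 49, 53, 31, 26, 36, 2, 23, 17, 25, 6] 4 5 [⟨[24], 280, false, [2, 6, 1, 4, 5, 6, 5, 3, 5]⟩, ⟨[66, 38, 66, 37], 105, false, [4, 6, 4, 10, 5, 6, 2, 5, 10]⟩] [⟨[23, 24], 315, false, [1, 3, 5, 6, 2, 5, 6, 5, 10, 5]⟩]),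
  (⟨false, 4, 2, [66, 49, 44, 28, 30, 30, 2, 17, 18], [59, 57, 55, 28, 30, 35, 16, 16, 25, 18], [62, 47, 47, 28, 31, 27, 31, 2, 16, 6, 22, 6]⟩, .loop 28 4 [63, 51, 43, 38, 29, 30, 16, 4, 17] 2 3 [⟨[], 69, true, [1, 2, 10, 5, 6, 2, 6, 5, 6]⟩] [⟨[61, 63, 63, 29], 75, false, [1, 5, 6, 4, 5, 3, 6, 5, 6, 4]⟩, ⟨[66, 66, 37, 66, 38], 313, false, [0, 4, 5, 6, 4, 5, 3, 5, 6, 2]⟩])]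

/-- facts 320 and on -/
def facts10 : List (Fact × Why) := [
  (⟨false, 2, 5, [61, 54, 28, 41, 38, 2, 17, 17, 11, 19], [66, 50, 45, 35, 31, 29, 17, 23, 16], [59, 50, 44, 36, 27, 40, 2, 17, 17, 24, 23]⟩, .loop 28 5 [66, 49, 57, 34, 27, 31, 16, 11, 17] 6 7 [⟨[38], 310, false, [0, 6, 2, 6, 5, 6, 10, 5, 3]⟩, ⟨[23, 24, 23], 201, false, [1, 6, 10, 5, 6, 4, 6, 2, 6, 5]⟩, ⟨[37, 66, 37], 257, false, [6, 4, 6, 5, 6, 5]⟩] []),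
  (⟨false, 2, 2, [60, 47, 47, 31, 35, 29, 16, 11, 17, 6], [59, 47, 48, 28, 34, 28, 16, 16, 11, 24], [59, 46, 42, 51, 35, 37, 38, 16, 21, 16, 19]⟩, .loop 34 4 [61, 50, 55, 33, 31, 34, 17] 4 5 [⟨[], 45, false, [4, 5, 6, 2, 6, 5, 6, 10]⟩, ⟨[42, 52, 42, 52, 42, 42], 97, false, [4, 6, 1, 2, 10, 5, 6, 5, 10]⟩] [⟨[30, 61, 29], 188, true, [6, 2, 6, 4, 10, 5, 3, 6, 5]⟩]),
  (⟨false, 2, 2, [54, 56, 31, 28, 16, 16, 8, 22, 22], [63, 57, 55, 30, 30, 2, 17, 22, 22, 24], [63, 44, 43, 51, 28, 36, 33, 2, 23, 8, 17]⟩, .loop 45 2 [61, 50, 49, 33, 41, 2, 17, 17, 8, 23] 4 5 [⟨[24], 160, true, [1, 4, 5, 3, 6, 2, 5, 6, 10, 5]⟩, ⟨[61, 28, 63, 63], 256, false, [0, 1, 5, 10]⟩] []),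
  (⟨false, 2, 2, [58, 51, 52, 28, 31, 33, 16, 16, 16], [60, 48, 52, 38, 28, 31, 2, 23, 13, 23, 23], [62, 51, 53, 31, 28, 41, 2, 17, 17, 10]⟩, .loop 48 2 [63, 44, 42, 41, 34, 30, 2, 23, 23, 23] 4 5 [⟨[23], 297, false, [2, 4, 6, 2, 5, 6, 4, 10]⟩, ⟨[], 294, false, [1, 2, 3, 5, 6, 5, 10, 5]⟩] []),
  (⟨false, 2, 2, [63, 49, 44, 41, 30, 2, 17, 17, 8, 19], [45, 45, 30, 28, 28, 16, 2, 19, 16], [66, 44, 51, 46, 31, 37, 29, 2, 17, 23, 18]⟩, .loop 19 2 [62, 47, 44, 51, 36, 27, 35, 2, 23, 24] 4 5 [⟨[], 299, true, [1, 6, 5, 6, 2, 5, 3, 6, 5]⟩, ⟨[], 264, true, [0, 4, 10, 5, 3, 6, 2, 6, 4]⟩] [⟨[24, 23], 314, true, [0, 3, 6, 5, 6, 2, 10, 5, 6, 4]⟩]),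
  (⟨false, 2, 2, [62, 54, 52, 36, 40, 30, 16, 8, 22], [63, 48, 45, 31, 41, 26, 16, 16, 24, 18], [58, 44, 57, 49, 30, 28, 35, 2, 23, 17, 12]⟩, .loop 21 3 [60, 46, 48, 54, 34, 40, 18, 23] 4 5 [⟨[245], 213, false, [0, 3, 6, 2, 4, 5, 6, 5, 3, 6]⟩, ⟨[24, 23], 211, false, [0, 2, 4, 5, 3, 6, 2, 6]⟩] [⟨[245, 22, 245, 22], 159, false, [2, 3, 5, 6, 4, 5, 6, 4, 5]⟩]),
  (⟨false, 4, 4, [62, 45, 42, 51, 33, 30, 2, 23, 17, 25, 10], [59, 45, 42, 51, 28, 30, 26, 34, 2, 23, 23, 25, 10], [62, 46, 48, 34, 31, 31, 2, 23, 23, 0]⟩, .loop 59 2 [63, 45, 54, 56, 30, 29, 35, 16, 18, 18, 6] 6 7 [⟨[24], 297, false, [1, 3, 4, 6, 4, 5, 6, 2, 5, 3]⟩, ⟨[], 294, false, [2, 3, 6, 2, 5, 6, 4, 10]⟩, ⟨[], 180, true, [1, 4, 10, 5, 6, 10, 5, 6]⟩] [⟨[24], 315, false, [1, 3, 6, 5,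 6, 2, 4, 10, 5]⟩, ⟨[], 297, true, [1, 2, 6, 10, 5, 6, 10, 5, 3]⟩, ⟨[], 211, true, [0, 2, 6, 2, 5, 6, 4, 6]⟩, ⟨[], 176, false, [6, 5, 6, 10, 5, 3, 6, 5, 3]⟩]),
  (⟨false, 5, 2, [63, 50, 44, 41, 32, 16, 11, 16, 22], [63, 45, 56, 50, 31, 37, 35, 2, 23, 6, 17, 6], [58, 45, 50, 45, 30, 27, 38, 2, 23, 25, 19]⟩, .loop 19 2 [62, 46, 44, 30, 29, 41, 2, 17, 17, 11] 6 7 [⟨[23], 185, true, [0, 6, 2, 4, 6, 5, 3, 6, 5, 6]⟩, ⟨[23, 24], 235, false, [0, 3, 6, 4, 5, 6, 4, 6, 2, 4, 10]⟩, ⟨[23, 24, 23], 268, false, [1, 10, 5, 6, 2, 5, 6, 5, 3, 5]⟩] []),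
  (⟨false, 2, 2, [62, 46, 56, 35, 31, 29, 2, 23, 6, 19], [61, 46, 44, 54, 33, 41, 30, 17, 23, 16], [67, 49, 49, 28, 36, 33, 2, 17, 22, 6, 23]⟩, .loop 31 2 [59, 55, 46, 30, 27, 28, 16, 25] 6 7 [⟨[23], 83, true, [1, 2, 3, 6, 2, 5, 6, 5, 3, 6, 5]⟩, ⟨[23], 109, false, [3, 6, 2, 5, 6, 2, 4, 10]⟩, ⟨[23], 291, false, [5, 6, 1, 4, 5, 10, 5, 6]⟩] []),
  (⟨false, 2, 5, [63, 50, 55, 30, 2, 17, 17, 6], [60, 44, 48, 52, 30, 30, 28, 2, 17, 17, 6, 4], [60, 44, 47, 47, 41, 34, 16, 21, 16]⟩, .loop 33 2 [63, 38, 35, 36, 16, 21, 16, 11] 4 5 [⟨[24, 23], 251, true, [4, 5, 6, 5, 6, 4, 6, 10]⟩, ⟨[24, 23], 263, false, [0, 2, 6, 4, 5, 6, 4, 6, 2, 10]⟩] [⟨[23], 254, true, [2, 6, 1, 5, 6, 2, 4, 6, 10]⟩]),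
  (⟨false, 2, 5, [66, 44, 51, 31, 38, 16, 16, 18, 18], [62, 44, 46, 48, 36, 35, 40, 16, 2, 19], [58, 44, 42, 47, 28, 34, 37, 2, 17, 17, 10, 21]⟩, .loop 16 5 [59, 57, 38, 34, 16, 18, 18, 6] 6 7 [⟨[], 78, true, [0, 2, 4, 6, 2, 10, 5]⟩, ⟨[50, 245, 50, 22], 230, false, [0, 2, 6, 2, 4, 5, 6, 4, 6, 10]⟩, ⟨[24, 23], 228, false, [0, 6, 4, 6, 5, 6, 2, 5, 3]⟩] []),
  (⟨false, 2, 2, [58, 47, 56, 30, 41, 26, 16, 2, 24, 6, 17], [60, 49, 34, 38, 2, 17, 23, 17, 22], [61, 45, 52, 30, 40, 2, 23, 6, 23, 16]⟩, .loop 23 2 [59, 47, 53, 33, 36, 41, 16, 16, 2, 16] 6 7 [⟨[23, 24, 23], 305, true, [0, 4, 5, 3, 6, 2, 6, 2, 5]⟩, ⟨[245, 50, 50], 108, false, [2, 4, 6, 4, 10, 5, 6, 5, 3]⟩, ⟨[66, 66, 38], 174, false, [0, 6, 4, 6, 2, 4, 5, 6, 10, 5]⟩] []),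
  (⟨false, 2, 2, [61, 44, 51, 46, 33, 31, 33, 16, 19, 22, 25], [58, 50, 46, 28, 35, 31, 2, 23, 17, 24, 11], [48, 56, 31, 35, 27, 2, 16, 16, 16, 6]⟩, .loop 30 2 [67, 44, 51, 48, 30, 38, 29, 16, 10, 25] 4 5 [⟨[23], 195, false, [4, 6, 4, 10, 5, 6, 10, 5, 6, 4]⟩, ⟨[], 173, true, [2, 5, 6, 5, 3, 6, 4, 6]⟩] [⟨[23, 24], 223, false, [0, 4, 5, 6, 2, 6, 4, 5, 3]⟩]),
  (⟨false, 2, 2, [67, 57, 33, 28, 37, 2, 17, 17, 6, 10], [58, 44, 43, 51, 34, 37, 34, 2, 17, 22, 8], [66, 55, 49, 28, 26, 16, 16, 4, 23]⟩, .loop 31 2 [47, 47, 52, 33, 41, 30, 2, 23, 8, 17, 6] 2 3 [⟨[], 148, false, [0, 4, 5, 6, 10, 5, 3, 6, 5, 3]⟩] [⟨[24], 206, true, [2, 3, 4, 6, 2, 5, 6, 4]⟩, ⟨[], 324, true, [1, 3, 6, 2, 5, 6, 5, 3, 6]⟩]),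
  (⟨false, 2, 2, [58, 44, 42, 57, 30, 30, 30, 2, 17, 17, 0, 13], [67, 52, 30, 27, 35, 2, 16, 16, 6], [58, 44, 42, 45, 34, 26, 32, 2, 16, 6, 17]⟩, .loop 48 2 [63, 49, 56, 33, 38, 36, 16, 2, 16, 6] 4 5 [⟨[23], 306, true, [0, 3, 6, 4, 5, 6, 5, 10, 5, 6, 2]⟩, ⟨[21, 245, 50, 245, 22], 197, false, [10, 5, 6, 5, 3, 6, 4, 6, 4]⟩] []),
  (⟨false, 4, 5, [66, 46, 56, 40, 40, 16, 16, 4, 8], [49, 42, 30, 35, 41, 16, 11, 18, 17], [61, 51, 52, 28, 31, 34, 16, 24, 16, 11]⟩, .loop 44 5 [66, 49, 46, 33, 34, 38, 16, 4, 16, 22] 4 5 [⟨[37, 66, 37], 265, true, [4, 6, 4, 10, 5, 6, 2, 4, 5]⟩, ⟨[24, 23], 319, true, [2, 4, 5, 6, 5, 3, 6, 5, 6, 5]⟩] []),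
  (⟨false, 2, 2, [62, 47, 48, 36, 32, 30, 16, 10, 16], [66, 44, 56, 34, 38, 28, 16, 10], [60, 30, 27, 35, 16, 16, 8, 22, 21]⟩, .loop 17 6 [46, 43, 33, 27, 34, 16, 16, 4, 22] 2 3 [⟨[44, 52], 97, false, [6, 4, 6, 5, 6, 10, 5, 6, 10]⟩] [⟨[44, 42, 52, 44, 52, 44, 52, 44, 42], 97, false, [1, 3, 6, 4, 6, 5, 6, 10, 5, 6]⟩, ⟨[], 246, true, [4, 6, 2, 5, 3, 6, 4, 5, 6, 5]⟩]),
  (⟨false, 2, 2, [58, 56, 31, 28, 40, 16, 18, 23], [67, 52, 35, 31, 29, 2, 17, 23, 21], [67, 50, 50, 30, 26, 28, 2, 23, 8, 23, 21]⟩, .loop 44 2 [67, 52, 35, 31, 29, 2, 17, 23, 12, 10] 4 5 [⟨[23, 24, 23], 226, false, [1, 3, 4, 5, 6, 4, 6, 2, 4]⟩, ⟨[66, 37, 66, 38], 255, false, [4, 6, 2, 6, 10, 5, 3, 6, 2, 6]⟩] []),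
  (⟨false, 2, 5, [67, 44, 47, 30, 41, 36, 2, 17, 19], [67, 44, 57, 49, 28, 40, 26, 16, 4, 16, 19, 6], [59, 45, 54, 56, 28, 34, 37, 2, 16, 6]⟩, .loop 33 2 [59, 44, 43, 53, 28, 41, 33, 2, 23, 4, 19] 4 5 [⟨[], 84, false, [10, 5, 6, 2, 6, 10, 5, 6, 4]⟩, ⟨[245, 245, 21, 50], 99, false, [3, 5, 6, 2, 4, 5, 6, 10, 5]⟩] [⟨[23, 24, 23], 278, false, [0, 2, 5, 6, 10, 5, 3, 6, 2, 4]⟩]),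
  (⟨false, 2, 2, [61, 45, 42, 33, 17, 23, 23, 13], [44, 55, 52, 33, 27, 30, 2, 17, 23, 4], [59, 54, 52, 36, 35, 27, 16, 16, 4, 16]⟩, .loop 69 2 [61, 48, 56, 31, 36, 41, 16, 16, 2, 4, 11] 6 7 [⟨[], 166, true, [1, 5, 3, 6, 5, 6, 4, 6, 10]⟩, ⟨[38, 66, 66], 289, false, [0, 4, 6, 2, 4, 5, 6, 2, 6]⟩, ⟨[23], 334, true, [0, 6, 4, 10, 5, 6, 4, 6, 2, 5]⟩] []),
  (⟨false, 2, 2, [60, 45, 50, 41, 27, 34, 16, 21, 17, 17], [63, 45, 53, 33, 34, 2, 17, 25], [58, 44, 48, 52, 31, 34, 30, 16, 16, 18]⟩, .loop 32 2 [60, 46, 44, 30, 34, 29, 2, 17, 23, 24] 2 3 [⟨[23], 331, true, [0, 2, 3, 6, 2, 4, 5]⟩] [⟨[24], 232, false, [1, 3, 6, 5, 6, 4, 6, 5, 6, 10]⟩, ⟨[63, 61, 63, 61], 188, true, [2, 6, 1, 5, 3, 6, 5, 6, 2, 10]⟩]),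
  (⟨false, 2, 2, [61, 47, 44, 51, 41, 28, 16, 22, 22, 4], [63, 56, 30, 26, 31, 16], [66, 45, 52, 31, 33, 33, 16, 24, 16]⟩, .loop 31 3 [58, 45, 52, 28, 30, 32, 16, 8, 17, 23] 4 5 [⟨[21], 239, false, [1, 6, 4, 10, 5, 6, 5, 10, 5]⟩, ⟨[], 332, true, [2, 6, 4, 5, 6, 4, 10, 5, 6]⟩] [⟨[22, 50, 245, 50, 21], 239, false, [5, 6, 10, 5, 6, 4, 10]⟩]),
  (⟨false, 2, 2, [60, 45, 43, 35, 37, 16, 24], [58, 45, 53, 48, 30, 26, 30, 2, 23, 17, 2], [61, 47, 44, 30, 30, 19, 6, 17, 0]⟩, .loop 69 2 [44, 55, 36, 40, 26, 17, 23, 16, 6] 6 7 [⟨[23, 24, 23], 270, true, [4, 6, 10, 5, 6, 4, 5, 10, 5, 6]⟩, ⟨[37, 66], 287, true, [2, 6, 10, 5, 3, 6, 2, 6, 2]⟩, ⟨[23], 318, true, [6, 1, 2, 5, 10]⟩] []),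
  (⟨false, 5, 2, [58, 44, 46, 31, 27, 17, 17, 17, 19], [61, 46, 51, 28, 35, 28, 2, 17, 23, 17, 8], [63, 44, 55, 28, 36, 29, 27, 17, 17, 22, 21]⟩, .loop 21 2 [62, 50, 50, 35, 35, 17, 22, 6, 23] 4 5 [⟨[23], 225, false, [3, 4, 6, 1, 2, 4, 5, 6, 4]⟩, ⟨[24], 296, false, [4, 10, 5, 6, 1, 2, 6, 4, 5, 10]⟩] [⟨[23], 212, true, [4, 5, 6, 10, 5, 3, 6, 2, 5]⟩]),
  (⟨false, 2, 2, [63, 44, 56, 31, 28, 41, 2, 17, 17, 17, 18], [66, 45, 42, 51, 35, 35, 35, 2, 17, 17, 24, 17], [45, 43, 45, 38, 30, 16, 2, 24, 6]⟩, .loop 30 2 [66, 47, 48, 30, 27, 31, 16, 16, 18, 0] 6 7 [⟨[], 293, true, [0, 3, 4, 5, 6, 2, 5, 3, 6, 4]⟩, ⟨[24], 296, false, [5, 3, 5, 6, 2, 4, 5]⟩, ⟨[37, 66, 37, 37], 200, true, [1, 3, 5, 6, 2, 4, 5, 6, 2, 10]⟩] []),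
  (⟨false, 2, 2, [58, 48, 42, 28, 30, 29, 2, 17, 17, 22, 22], [58, 47, 52, 28, 31, 28, 2, 23, 17, 2], [60, 48, 55, 38, 32, 34, 16, 16, 24, 21]⟩, .loop 28 3 [63, 44, 51, 46, 28, 35, 31, 2, 23, 17, 23, 8] 4 5 [⟨[22, 21, 21], 152, true, [3, 5, 6, 2, 6, 4, 5, 3, 6]⟩, ⟨[24], 334, false, [3, 4, 5, 3, 6, 1, 4, 5, 10]⟩] [⟨[245, 245, 22, 21, 21], 81, false, [1, 4, 6, 2, 6, 4, 5, 3, 5]⟩]),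
  (⟨false, 2, 2, [67, 46, 57, 30, 37, 30, 2, 23, 23, 4, 23], [66, 57, 55, 34, 37, 2, 23, 6, 17], [66, 49, 53, 28, 38, 31, 16, 16, 25, 19]⟩, .loop 32 2 [58, 47, 54, 33, 40, 16, 16, 2, 23] 4 5 [⟨[24], 298, true, [3, 6, 5, 3, 6, 2, 5, 6, 10, 5, 6]⟩, ⟨[66, 37, 37, 66], 218, false, [1, 5, 3, 6, 2, 4, 5, 6, 4, 6]⟩] [⟨[24], 269, false, [1, 6, 5, 6, 4, 5, 6, 5]⟩]),
  (⟨false, 5, 5, [66, 54, 47, 40, 40, 32, 16, 21, 16, 22], [66, 54, 50, 31, 35, 30, 2, 23, 23, 13, 10], [61, 47, 54, 34, 40, 16, 16, 24, 12]⟩, .loop 30 4 [51, 47, 33, 28, 2, 17, 25, 19] 4 5 [⟨[63, 61], 67, false, [3, 6, 2, 6, 5, 6, 4, 6, 10]⟩, ⟨[61, 61, 29, 27], 71, false, [0, 2, 4, 10, 5, 6, 2, 6, 5]⟩] [⟨[63, 63, 61, 61, 27], 335, false, [2, 3, 5, 6, 4, 6, 4, 5]⟩]),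
  (⟨false, 5, 2, [60, 48, 52, 30, 27, 38, 17, 23, 18, 17], [58, 50, 50, 33, 34, 30, 16, 16, 24, 18], [45, 42, 45, 31, 33, 30, 2]⟩, .loop 67 5 [66, 54, 46, 28, 41, 35, 17] 2 3 [⟨[], 133, false, [1, 6, 10, 5, 6, 4, 10]⟩] [⟨[66, 37, 37], 238, true, [1, 2, 6, 10, 5, 6, 2, 5, 10]⟩, ⟨[], 147, true, [0, 2, 6, 4, 10, 5, 3, 6, 5]⟩]),
  (⟨false, 2, 5, [62, 52, 50, 31, 27, 32, 16, 10, 16, 25], [67, 49, 56, 28, 34, 31, 16, 2, 19, 22], [62, 44, 42, 46, 30, 30, 41, 2, 16, 16, 6, 16]⟩, .loop 19 2 [58, 52, 48, 35, 28, 32, 16, 16, 19, 23] 4 5 [⟨[], 97, true, [1, 4, 6, 2, 6, 10, 5, 6, 4]⟩, ⟨[42, 52, 52, 42, 42, 52, 52, 44], 97, false, [5, 6, 2, 4, 5]⟩] [⟨[24, 23], 289, true, [6, 1, 4, 5, 3, 5, 6, 2, 6, 4]⟩]),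
  (⟨false, 2, 2, [61, 49, 44, 30, 28, 37, 2, 16, 16, 6, 18], [63, 45, 43, 36, 40, 30, 16, 16, 18, 0], [61, 50, 42, 34, 31, 2, 23, 23, 18, 0]⟩, .loop 16 2 [67, 45, 50, 42, 38, 28, 31, 2, 23, 4, 19] 4 5 [⟨[23], 147, true, [3, 4, 5, 6, 10, 5, 6, 2, 5]⟩, ⟨[], 209, false, [0, 2, 6, 2, 5, 6, 4, 6, 2, 10]⟩] [⟨[23, 24], 323, false, [1, 6, 10, 5, 6, 2, 6, 5, 6, 10]⟩]),
  (⟨false, 2, 2, [63, 44, 46, 44, 38, 27, 16, 16, 16, 19], [63, 48, 36, 40, 26, 2, 17, 22, 16, 16], [46, 42, 34, 33, 34, 2, 23, 25, 19, 17]⟩, .loop 48 2 [56, 50, 30, 29, 40, 16, 16, 8, 22, 21] 4 5 [⟨[], 274, false, [2, 4, 5, 6, 5, 6, 2, 4, 10]⟩, ⟨[66, 37, 38], 330, true, [1, 2, 4, 5, 6, 5, 10, 5]⟩] [])]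

/-- facts 352 and on -/
def facts11 : List (Fact × Why) := [
  (⟨false, 2, 2, [59, 45, 42, 45, 28, 38, 16, 16, 11, 24], [60, 49, 45, 33, 31, 34, 17, 17, 23, 23], [61, 46, 42, 51, 35, 36, 16, 11, 25, 16]⟩, .loop 70 2 [67, 45, 50, 41, 30, 37, 2, 23, 23, 18] 4 5 [⟨[23], 275, true, [0, 4, 5, 6, 10, 5, 6, 10, 5]⟩, ⟨[24, 23], 220, true, [3, 5, 6, 1, 2, 10, 5]⟩] [⟨[24], 314, true, [1, 3, 6, 2, 5, 6, 4, 6]⟩]),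
  (⟨false, 2, 5, [60, 45, 54, 45, 30, 35, 40, 17, 17, 22, 16], [45, 56, 38, 16, 11, 16, 2], [66, 55, 43, 28, 31, 28, 2, 16, 16, 22, 22]⟩, .loop 35 5 [61, 46, 43, 28, 30, 28, 16, 16, 16, 8] 6 7 [⟨[66], 36, false, [1, 2, 6, 5, 6, 4, 5, 6, 2, 5]⟩, ⟨[66, 66, 37, 66, 38], 85, false, [2, 3, 4, 5, 6, 2, 6, 5, 3]⟩, ⟨[37, 66, 37], 204, true, [0, 2, 3, 4, 6, 5, 6, 2, 10]⟩] []),
  (⟨false, 2, 2, [67, 50, 48, 31, 33, 34, 18, 23], [60, 48, 46, 38, 40, 16, 24, 16, 21], [63, 48, 46, 38, 30, 2, 23, 23, 17]⟩, .loop 30 5 [44, 42, 51, 33, 28, 37, 2, 17, 0] 2 3 [⟨[37, 66, 38], 201, true, [10, 5, 6, 4, 5, 6, 2, 10]⟩] [⟨[37, 66, 38], 85, true, [0, 2, 4, 5, 6, 4, 5, 6, 4, 10]⟩, ⟨[66, 66, 37, 37], 282, true, [0, 4, 5, 6, 10, 5, 6, 2, 10, 5]⟩]),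
  (⟨false, 2, 5, [67, 51, 52, 31, 29, 16, 8, 17, 6], [62, 51, 46, 31, 33, 36, 16, 4, 16, 16, 22], [63, 45, 46, 30, 41, 27, 2, 17, 19, 22]⟩, .loop 68 2 [61, 46, 56, 35, 28, 40, 17] 2 3 [⟨[23], 102, false, [5, 3, 6, 2, 4, 5, 10]⟩] [⟨[], 289, true, [1, 2, 3, 6, 5, 6, 2, 10, 5, 6]⟩, ⟨[38, 66, 66], 347, false, [4, 6, 1, 10, 5, 6, 10, 5, 10]⟩]),
  (⟨false, 2, 2, [66, 54, 31, 29, 37, 2, 23, 23, 16], [61, 44, 47, 52, 31, 37, 37, 16, 16, 24, 2], [61, 54, 46, 28, 30, 36, 2, 16, 6, 17, 19]⟩, .loop 19 2 [58, 49, 47, 33, 27, 2, 17, 17, 25, 13] 6 7 [⟨[], 295, false, [6, 4, 6, 2, 4, 5, 10]⟩, ⟨[24, 23], 239, true, [0, 3, 4, 6, 2, 5]⟩, ⟨[21, 22, 245, 21, 21], 159, false, [6, 2, 5, 6, 5, 10, 5]⟩] []),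
  (⟨false, 5, 2, [67, 44, 42, 51, 28, 40, 37, 2, 17, 0, 23, 25], [59, 44, 55, 50, 38, 29, 30, 2, 16, 6], [60, 45, 49, 35, 2, 17, 17, 22]⟩, .loop 49 2 [63, 54, 47, 35, 31, 34, 2, 17, 17, 17, 10] 2 3 [⟨[24], 229, true, [1, 3, 5, 6, 10, 5, 6, 5]⟩] [⟨[], 252, false, [2, 6, 10, 5, 3, 6, 2, 5, 6]⟩]),
  (⟨false, 2, 2, [62, 56, 50, 31, 28, 35, 2, 17, 17, 13], [63, 44, 43, 51, 31, 33, 33, 16, 16, 22], [60, 44, 46, 57, 41, 2, 17, 22, 6, 22]⟩, .loop 49 2 [63, 44, 43, 51, 31, 33, 33, 16, 16, 22, 10] 4 5 [⟨[24], 344, true, [0, 2, 4, 6, 4, 5, 3]⟩, ⟨[23, 24], 308, false, [5, 6, 2, 6, 4, 6, 5, 3, 6, 4]⟩] []),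
  (⟨false, 2, 5, [60, 48, 44, 28, 26, 38, 2, 16, 16, 6, 23], [63, 46, 48, 28, 30, 34, 2, 17, 17, 2], [60, 50, 42, 28, 36, 34, 16, 24, 16, 10]⟩, .loop 23 5 [62, 54, 46, 38, 33, 16, 8, 22, 19] 6 7 [⟨[38], 105, false, [4, 10, 5, 6, 1, 4, 10, 5, 6]⟩, ⟨[23, 24, 23], 342, false, [1, 2, 6, 5, 10, 5, 6, 2, 6]⟩, ⟨[23], 314, true, [6, 5, 6, 4, 10, 5, 6, 5]⟩] []),
  (⟨false, 2, 2, [63, 47, 55, 28, 26, 36, 17, 17, 23, 23], [63, 48, 52, 31, 2, 17, 23, 20], [60, 45, 56, 50, 30, 29, 35, 16, 24, 16, 8]⟩, .loop 35 5 [58, 51, 51, 38, 31, 35, 17, 22, 6, 25] 4 5 [⟨[38], 247, true, [2, 3, 6, 4, 5, 10, 5, 6]⟩, ⟨[23, 24], 281, false, [3, 5, 3, 6, 5, 6, 4, 6]⟩] [⟨[66, 38, 66, 38], 254, false, [2, 6, 2, 4, 5, 6, 5, 3]⟩]),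
  (⟨false, 5, 2, [58, 49, 57, 31, 36, 28, 16, 16, 16, 8], [61, 54, 56, 30, 26, 28, 16, 11], [58, 45, 56, 50, 33, 28, 35, 2, 17, 22, 16, 24]⟩, .loop 23 5 [60, 52, 36, 32, 31, 2, 23, 6, 17, 17] 2 3 [⟨[], 85, true, [0, 2, 6, 5, 6, 4, 6, 2, 4]⟩] [⟨[38, 66, 66], 347, false, [2, 3, 6, 2, 5, 6, 4, 6, 2, 10]⟩, ⟨[38, 66, 37, 37], 303, false, [6, 5, 3, 6, 5, 6, 10, 5, 6, 10]⟩]),
  (⟨false, 5, 2, [58, 44, 55, 28, 34, 31, 32, 16, 16, 22, 10], [62, 44, 48, 52, 28, 30, 35, 2, 17, 22, 10], [63, 45, 53, 41, 41, 2, 23, 10, 17]⟩, .loop 30 2 [63, 54, 46, 34, 29, 41, 16, 4, 16, 19, 6] 6 7 [⟨[23], 242, false, [0, 6, 2, 6, 4, 10, 5, 3, 6]⟩, ⟨[66, 66, 38, 66, 38], 303, false, [3, 4, 5, 6, 4, 6, 4, 5, 10]⟩, ⟨[], 270, true, [0, 2, 5, 3, 6, 5, 6, 2, 4, 10]⟩] []),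
  (⟨false, 2, 4, [59, 46, 34, 37, 2, 17, 17, 6, 23], [61, 51, 53, 30, 37, 30, 16, 2, 11], [61, 46, 42, 31, 35, 30, 16, 2, 19, 22]⟩, .loop 17 2 [62, 46, 46, 30, 30, 38, 2, 23, 10, 17, 0] 2 3 [⟨[], 275, true, [0, 6, 2, 6, 5, 3, 6, 4, 5, 3]⟩] [⟨[23, 24, 23], 292, false, [1, 2, 6, 2, 6, 5, 6, 4, 10, 5]⟩, ⟨[], 256, true, [1, 5, 3, 5, 6, 2]⟩]),
  (⟨false, 2, 2, [58, 47, 48, 38, 32, 35, 16, 2, 11, 23], [60, 49, 53, 33, 31, 33, 16, 24, 16, 25], [66, 46, 51, 55, 41, 28, 33, 2, 17, 22, 22, 11]⟩, .loop 49 2 [46, 53, 30, 27, 36, 16, 8] 2 3 [⟨[24], 237, false, [2, 6, 5, 6, 10, 5, 6, 10, 5]⟩] [⟨[], 354, false, [4, 6, 1, 4, 5, 6, 2, 4, 10, 5]⟩]),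
  (⟨false, 2, 2, [59, 44, 46, 34, 28, 37, 16, 16, 24, 12], [67, 47, 44, 28, 34, 36, 2, 17, 17, 19], [60, 45, 53, 30, 29, 27, 16, 10, 19, 6]⟩, .loop 69 3 [66, 47, 49, 28, 26, 30, 2, 16, 16, 6] 4 5 [⟨[], 132, true, [1, 2, 6, 5, 3, 6, 4, 6, 5, 10]⟩, ⟨[23, 24], 337, true, [0, 2, 4, 6, 5, 6, 2, 4, 5, 6]⟩] [⟨[22, 245, 22, 245], 213, false, [3, 6, 5, 6, 2, 6, 2, 4, 10, 5]⟩]),
  (⟨false, 2, 4, [63, 54, 56, 31, 34, 27, 2, 17, 0], [62, 50, 49, 31, 33, 36, 16, 16, 24, 21], [45, 53, 30, 34, 16, 16, 8, 6]⟩, .loop 44 4 [45, 42, 49, 33, 35, 28, 2, 17, 18, 22, 24] 4 5 [⟨[30, 28], 326, false, [3, 6, 4, 6, 2, 6, 5, 6, 5, 10]⟩, ⟨[], 176, true, [5, 6, 10, 5, 6, 2, 4, 6, 5]⟩] []),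
  (⟨false, 2, 2, [61, 55, 46, 41, 33, 16, 21, 16, 20], [60, 49, 56, 36, 28, 38, 2, 17, 23, 20, 19], [67, 47, 56, 38, 32, 2, 17, 23, 23]⟩, .loop 45 2 [58, 45, 42, 45, 30, 29, 40, 16, 4, 16, 24] 4 5 [⟨[23, 24, 23], 223, false, [5, 6, 5, 6, 4, 6, 5, 6, 10]⟩, ⟨[24], 358, false, [0, 4, 5, 10, 5, 6, 5, 3, 6]⟩] []),
  (⟨false, 2, 2, [48, 42, 34, 27, 17, 23, 23], [51, 53, 38, 36, 2, 17, 17, 23], [62, 44, 42, 51, 35, 28, 40, 2, 23, 13, 23, 18]⟩, .loop 28 2 [58, 44, 43, 33, 34, 40, 16, 10, 17, 6] 2 3 [⟨[23], 286, true, [0, 6, 2, 6, 5, 6, 4, 10, 5, 10]⟩] [⟨[23], 195, false, [1, 3, 6, 2, 4, 5, 6, 2, 5, 10]⟩, ⟨[23], 192, true, [1, 6, 4, 6, 2, 5, 6, 5, 3]⟩]),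
  (⟨false, 2, 2, [60, 51, 47, 33, 36, 41, 17, 22, 21], [63, 45, 52, 41, 34, 2, 23, 4, 19], [58, 48, 43, 30, 26, 40, 16, 21, 17, 17]⟩, .loop 30 2 [61, 47, 55, 30, 41, 26, 16, 16, 2, 11] 6 7 [⟨[24], 148, false, [5, 3, 6, 5, 3, 6, 5, 3]⟩, ⟨[23], 216, false, [1, 10, 5, 6, 4, 5, 3]⟩, ⟨[24, 23], 284, false, [6, 2, 6, 4, 5, 10]⟩] []),
  (⟨false, 2, 3, [59, 47, 49, 56, 30, 38, 28, 2, 23, 13, 23], [67, 44, 42, 48, 35, 28, 37, 17, 23, 16, 10], [59, 45, 43, 45, 35, 28, 37, 16, 18, 16, 24]⟩, .loop 31 3 [60, 47, 44, 51, 36, 32, 30, 16, 24] 6 7 [⟨[21, 22], 158, false, [0, 6, 2, 4, 5, 6, 2, 6, 4, 10]⟩, ⟨[23], 328, true, [0, 4, 6, 10, 5, 6, 4, 5, 6, 10]⟩, ⟨[24], 365, false, [2, 4, 6, 5, 3, 5, 6, 4]⟩] []),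
  (⟨false, 5, 2, [66, 44, 42, 46, 34, 26, 16, 16, 21, 16], [60, 44, 46, 57, 33, 36, 16, 10, 13], [67, 46, 51, 55, 33, 35, 29, 16, 16, 20, 13]⟩, .loop 44 2 [66, 48, 56, 35, 37, 38, 16, 10, 8] 4 5 [⟨[], 269, true, [4, 6, 10, 5, 6, 4, 6, 10, 5, 3]⟩, ⟨[], 313, true, [3, 4, 5, 6, 10, 5, 10]⟩] []),
  (⟨false, 2, 2, [63, 48, 31, 28, 40, 2, 23, 25, 19], [67, 47, 50, 31, 33, 36, 2, 17, 0, 23], [67, 46, 49, 30, 26, 36, 16, 4, 16]⟩, .loop 47 2 [63, 45, 28, 34, 40, 2, 17, 17, 18] 2 3 [⟨[24], 342, true, [1, 2, 6, 5, 6, 4, 5, 3]⟩] [⟨[23, 24], 275, true, [0, 4, 6, 2, 10, 5, 6, 4, 6, 2, 5, 6]⟩]),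
  (⟨false, 2, 2, [59, 48, 33, 35, 32, 16, 16, 16, 16], [62, 45, 56, 55, 31, 28, 41, 2, 23, 6, 11], [61, 44, 43, 53, 31, 29, 40, 2, 17, 17, 8, 21]⟩, .loop 33 5 [66, 44, 51, 33, 35, 41] 4 5 [⟨[], 36, false, [1, 6, 2, 6, 2, 4, 5, 6, 2, 5]⟩, ⟨[66, 38, 66, 66, 38], 361, false, [1, 4, 6, 2, 6, 4, 6, 10]⟩] [⟨[66, 37, 66], 144, true, [0, 3, 5, 6, 4, 6, 2, 6]⟩]),
  (⟨false, 4, 2, [46, 53, 34, 37, 37, 16, 16, 22, 6], [60, 50, 55, 41, 28, 33, 2, 23, 23, 21], [63, 45, 50, 45, 38, 28, 41, 16, 18, 24]⟩, .loop 59 2 [59, 45, 42, 49, 28, 30, 38, 16, 18, 16, 20] 12 13 [⟨[24], 315, true, [1, 3, 4, 6, 5, 3, 6, 4, 5, 3]⟩, ⟨[], 211, true, [2, 4, 6, 2, 5, 6, 5, 3, 5]⟩, ⟨[], 366, false, [3, 5, 6, 4, 5, 6, 2, 6, 5, 3]⟩, ⟨[61, 61, 63, 28], 180, false, [1, 2, 6, 2, 5,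 3, 6, 2, 5]⟩, ⟨[], 297, true, [3, 6, 2, 6, 2, 4, 5, 6, 4, 5, 10]⟩, ⟨[], 176, false, [1, 4, 6, 4, 6, 2, 10]⟩] [⟨[24], 294, false, [3, 4, 6, 2, 4, 5, 6, 2, 5]⟩]),
  (⟨false, 2, 2, [61, 48, 52, 31, 29, 41, 2, 16, 6, 23, 23], [67, 44, 55, 50, 28, 38, 37, 2, 17, 17, 10, 25], [59, 48, 42, 28, 30, 2, 23, 17, 24, 6]⟩, .loop 68 2 [61, 45, 50, 42, 28, 30, 28, 2, 23, 4, 6, 23] 6 7 [⟨[], 183, true, [6, 4, 5, 6, 2, 5, 6, 4, 10]⟩, ⟨[24, 23], 307, true, [0, 6, 10, 5, 3, 6, 4, 5, 6, 2]⟩, ⟨[23], 314, true, [6, 2, 5, 3, 6, 2, 4, 5]⟩] []),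
  (⟨false, 2, 2, [67, 44, 56, 46, 31, 32, 16, 16, 20, 18], [67, 48, 43, 28, 31, 16, 18, 24], [61, 45, 53, 30, 34, 31, 2, 23, 17, 24]⟩, .loop 20 2 [67, 51, 55, 28, 34, 34, 2, 23, 17, 19] 4 5 [⟨[], 229, true, [2, 5, 6, 1, 4, 6, 2, 5, 6, 2]⟩, ⟨[66, 37], 271, true, [6, 4, 6, 4, 5, 6, 2, 4]⟩] [⟨[24, 23], 317, false, [3, 5, 6, 2, 5, 3, 6]⟩]),
  (⟨false, 2, 2, [61, 45, 33, 41, 2, 23, 23, 21], [60, 52, 49, 30, 26, 36, 16, 16, 10, 22], [61, 46, 43, 40, 35, 17, 23, 4, 6]⟩, .loop 22 2 [66, 47, 44, 51, 41, 34, 30, 2, 17, 17, 0, 11] 6 7 [⟨[23], 252, false, [0, 5, 6, 2, 4, 5, 6, 2, 5, 6, 4]⟩, ⟨[], 249, true, [6, 4, 5, 3, 5, 6, 2, 6, 4, 6]⟩, ⟨[23], 281, false, [3, 5, 6, 1, 10, 5, 6, 4, 6, 2]⟩] []),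
  (⟨false, 2, 2, [51, 51, 30, 34, 28, 16, 16, 8, 17, 25], [62, 48, 50, 40, 37, 2, 23, 23, 17, 12], [59, 50, 48, 28, 35, 31, 16, 11, 16, 11]⟩, .loop 72 2 [62, 47, 54, 31, 26, 30, 2, 23, 4, 6, 23] 6 7 [⟨[24], 169, true, [6, 2, 5, 6, 4, 10, 5, 6, 5, 3]⟩, ⟨[23, 24, 23], 317, true, [0, 3, 4, 6, 4, 5, 6, 5]⟩, ⟨[24, 23], 273, true, [5, 6, 4, 10, 5, 6, 10, 5, 6]⟩] []),
  (⟨false, 2, 2, [63, 45, 46, 40, 27, 16, 25], [63, 48, 53, 31, 29, 40, 16, 16, 4, 6], [63, 47, 47, 33, 31, 33, 16, 16, 22, 19]⟩, .loop 30 2 [63, 54, 47, 28, 35, 28, 2, 17, 17, 22, 16] 4 5 [⟨[], 143, true, [0, 3, 6, 2, 5, 6, 2, 10, 5]⟩, ⟨[66, 37, 66], 107, false, [3, 5, 6, 1, 2, 6, 4]⟩] [⟨[23, 24], 248, false, [2, 6, 2, 5, 6, 4, 5, 3]⟩]),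
  (⟨false, 2, 2, [60, 48, 36, 27, 36, 2, 23, 25, 19, 17], [59, 44, 55, 52, 31, 34, 27, 16, 16, 20, 24], [58, 46, 42, 51, 31, 35, 29, 16, 16, 21, 24]⟩, .loop 45 2 [59, 44, 48, 36, 28, 2, 23, 8, 17, 17] 4 5 [⟨[], 182, false, [2, 10, 5, 6, 4, 6]⟩, ⟨[24, 23], 284, false, [6, 2, 4, 5, 6, 4, 10, 5, 6]⟩] []),
  (⟨false, 2, 5, [66, 45, 42, 49, 28, 38, 16, 4, 16, 16, 12], [45, 45, 28, 31, 29, 16, 16, 8, 21], [60, 52, 50, 36, 40, 35, 16, 18, 16, 25]⟩, .loop 28 2 [58, 51, 42, 33, 38, 37, 16, 4, 11] 4 5 [⟨[], 89, false, [2, 6, 5, 6, 10, 5, 3, 6, 5, 6]⟩, ⟨[53, 29, 27], 366, true, [0, 6, 2, 10, 5, 6, 4, 6]⟩] [⟨[], 101, false, [6, 2, 4, 5, 6, 4, 5, 3, 6, 4]⟩]),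
  (⟨false, 2, 2, [63, 45, 43, 45, 28, 36, 29, 2, 23, 23, 23, 0], [60, 47, 42, 28, 35, 2, 17, 23, 13], [61, 46, 31, 29, 27, 2, 17, 17, 6, 16]⟩, .loop 48 2 [67, 45, 54, 40, 27, 16, 10, 17, 23] 4 5 [⟨[], 353, false, [10, 5, 6, 1, 2, 6, 5, 6]⟩, ⟨[38, 37, 66], 166, false, [2, 4, 5, 6, 4, 6, 4, 5, 10]⟩] []),
  (⟨false, 2, 5, [63, 50, 45, 30, 28, 33, 16, 16, 2, 16], [62, 46, 53, 36, 33, 2, 23, 17, 23], [63, 46, 42, 51, 33, 36, 16, 19, 6, 18]⟩, .loop 23 2 [62, 52, 44, 30, 27, 31, 16, 16, 19, 16] 2 3 [⟨[23, 24], 312, true, [1, 2, 6, 5, 6, 2, 5, 10]⟩] [⟨[23], 235, false, [1, 5, 6, 2, 6, 4, 10, 5, 10]⟩, ⟨[24], 257, true, [0, 2, 4, 5, 6, 2, 6, 4, 5]⟩])]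

/-- facts 384 and on -/
def facts12 : List (Fact × Why) := [
  (⟨false, 2, 5, [66, 44, 42, 57, 33, 35, 28, 16, 10, 17], [66, 44, 30, 27, 35, 16, 16, 21, 22], [67, 49, 46, 28, 31, 34, 2, 17, 23, 13]⟩, .loop 48 5 [62, 50, 44, 28, 40, 26, 16, 4, 16, 16] 4 5 [⟨[38], 242, true, [2, 4, 6, 2, 6, 5, 10]⟩, ⟨[], 372, true, [0, 2, 3, 6, 5, 6, 4, 6, 2, 4, 10]⟩] []),
  (⟨false, 4, 2, [63, 44, 51, 33, 30, 36, 2, 17, 23, 4], [67, 44, 42, 57, 28, 30, 2, 23, 23, 18, 18], [55, 46, 30, 34, 2, 17, 0, 23, 17]⟩, .loop 49 2 [60, 47, 47, 52, 34, 31, 41, 2, 23, 17, 0, 23] 4 5 [⟨[24, 23], 375, false, [6, 4, 6, 5, 6, 5, 3, 5]⟩, ⟨[24], 160, true, [0, 6, 5, 6, 4, 6, 10, 5, 6]⟩] []),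
  (⟨false, 2, 5, [61, 46, 46, 30, 40, 26, 2, 17, 19, 22], [58, 57, 53, 28, 40, 30, 16, 8, 17, 23], [62, 46, 42, 30, 32, 30, 16, 4]⟩, .loop 31 5 [62, 45, 42, 47, 33, 28, 16, 11, 19, 6] 6 7 [⟨[38, 37], 303, false, [0, 3, 6, 2, 6, 5, 3, 6, 2, 6]⟩, ⟨[], 361, true, [5, 6, 10, 5, 6, 10, 5, 6, 2, 10]⟩, ⟨[66, 66, 38, 37], 250, true, [6, 4, 6, 4, 6, 2, 10]⟩] []),
  (⟨false, 2, 5, [60, 45, 56, 50, 36, 30, 40, 16, 16, 25], [49, 53, 31, 36, 33, 16, 16, 21, 22], [61, 55, 49, 30, 34, 28, 16, 16, 24, 17]⟩, .loop 35 5 [61, 50, 42, 28, 31, 35, 16, 4, 16, 13] 6 7 [⟨[38], 174, false, [0, 2, 4, 10, 5, 6, 4, 6, 4, 5]⟩, ⟨[24], 174, true, [4, 5, 6, 2, 6, 2, 4, 5, 3, 6]⟩, ⟨[38, 66, 38], 371, false, [3, 5, 6, 4, 6, 2, 6, 4, 5]⟩] []),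
  (⟨false, 2, 2, [49, 33, 34, 33, 16, 16, 16, 24], [61, 46, 56, 28, 26, 40, 38, 2, 23, 23, 16, 8], [49, 53, 28, 31, 2, 17, 17, 25, 10]⟩, .loop 33 2 [58, 52, 44, 33, 27, 40, 2, 17, 22, 22, 6] 2 3 [⟨[], 325, true, [3, 5, 6, 1, 2, 5, 6, 10]⟩] [⟨[], 159, true, [10, 5, 6, 10, 5, 3, 6, 2, 5]⟩, ⟨[50, 21, 245, 21], 239, false, [5, 3, 6, 5, 6, 2, 4, 5]⟩]),
  (⟨false, 2, 2, [58, 44, 43, 51, 30, 26, 40, 16, 16, 4, 22], [60, 52, 28, 26, 31, 33, 2, 23, 17, 25, 21], [49, 44, 33, 29, 37, 16, 21, 16, 21]⟩, .loop 71 2 [58, 44, 57, 28, 35, 35, 19, 6, 23, 23] 6 7 [⟨[23, 24], 286, true, [1, 2, 6, 2, 5, 6, 4, 6, 2, 5]⟩, ⟨[23, 24], 288, false, [1, 3, 4, 6, 4, 6, 4, 5, 10, 5]⟩, ⟨[23], 148, false, [5, 3, 6, 5, 6, 10, 5, 6, 2, 10]⟩] []),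
  (⟨false, 2, 2, [63, 50, 44, 34, 16, 18, 16], [60, 49, 57, 36, 30, 40, 16, 16, 16, 2, 13], [67, 47, 44, 51, 30, 40, 33, 16, 16, 2, 4]⟩, .loop 46 2 [67, 44, 43, 57, 34, 38, 16, 18, 16] 2 3 [⟨[], 378, true, [1, 6, 4, 6, 4, 5, 6, 2, 10]⟩] [⟨[24, 23], 223, false, [0, 2, 6, 2, 5, 6, 10, 5, 6, 4]⟩]),
  (⟨false, 5, 2, [61, 57, 55, 28, 34, 30, 29, 16, 16, 13], [63, 54, 50, 28, 30, 41, 17, 23, 17, 19], [61, 49, 49, 34, 26, 30, 16, 22, 22, 4]⟩, .loop 17 2 [66, 50, 47, 33, 36, 30, 16, 11, 16, 22] 6 7 [⟨[24], 235, true, [5, 3, 6, 1, 2, 6, 4, 5, 6]⟩, ⟨[24, 23], 223, false, [6, 1, 4, 6, 5, 3, 6, 5]⟩, ⟨[23, 24, 23], 166, true, [10, 5, 3, 6, 2, 6, 4, 6]⟩] []),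
  (⟨false, 2, 2, [66, 50, 30, 29, 16, 10, 25], [67, 44, 47, 44, 28, 30, 41, 2, 23, 23, 19], [51, 51, 41, 28, 32, 2, 17, 0, 17, 19]⟩, .loop 32 2 [57, 30, 37, 31, 16, 10, 23] 2 3 [⟨[23], 196, false, [1, 6, 4, 5, 6, 4, 6, 10]⟩] [⟨[], 275, true, [0, 2, 10, 5, 6, 5, 10, 5, 6, 2]⟩, ⟨[23, 24], 252, true, [2, 4, 10, 5, 6, 5, 6, 10]⟩]),
  (⟨false, 2, 2, [49, 53, 33, 38, 37, 16, 16, 2, 10], [60, 51, 53, 31, 28, 30, 2, 16, 6, 17, 22], [58, 44, 53, 56, 40, 40, 32, 2, 17, 17, 6, 20]⟩, .loop 32 3 [58, 48, 52, 30, 26, 30, 2, 17, 22, 22, 21] 4 5 [⟨[245, 50], 164, false, [1, 2, 4, 5, 6, 4, 5, 3, 6, 4]⟩, ⟨[], 376, false, [3, 6, 2, 5, 6, 2, 4, 10, 5]⟩] [⟨[21, 21, 245, 50], 158, false, [0, 3, 5, 6, 2, 6, 4, 10, 5, 10]⟩]),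
  (⟨false, 5, 2, [67, 47, 49, 56, 36, 32, 2, 17, 17, 0, 25], [63, 46, 44, 30, 27, 31, 2, 17, 17, 0, 6], [61, 55, 47, 33, 30, 36, 2, 23, 19, 6]⟩, .loop 34 3 [46, 48, 54, 33, 35, 16, 10, 16, 21] 2 3 [⟨[245], 78, false, [1, 2, 5, 6, 4, 5, 10, 5, 6, 2, 5]⟩] [⟨[245, 50, 245, 22, 21], 108, false, [2, 4, 5, 3, 6, 2, 5, 6, 4, 6]⟩, ⟨[66, 66, 37, 37], 120, false, [0, 4, 6, 4, 6, 4, 5, 6, 5, 3, 5]⟩]),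
  (⟨false, 2, 2, [61, 44, 42, 57, 34, 33, 40, 16, 16, 22, 19], [62, 47, 52, 30, 38, 32, 16, 2, 19, 6], [58, 48, 43, 31, 29, 40, 16, 16, 18, 0]⟩, .loop 47 5 [61, 48, 56, 34, 36, 35, 2, 17, 0, 17, 25] 2 3 [⟨[37, 37], 278, true, [1, 6, 5, 6, 2, 5, 6, 4, 10, 5]⟩] [⟨[66, 66, 38, 66, 38], 265, true, [1, 2, 3, 5, 6, 4, 6, 5]⟩]),
  (⟨false, 2, 2, [67, 44, 46, 44, 30, 37, 27, 16, 16, 10, 16], [47, 49, 56, 35, 40, 2, 17, 23, 6], [45, 50, 42, 38, 28, 2, 23, 17, 8, 21]⟩, .loop 30 4 [60, 45, 48, 34, 26, 16, 16, 11, 23, 23] 4 5 [⟨[30], 256, false, [2, 6, 4, 5, 6, 2, 4, 10]⟩, ⟨[24], 336, true, [0, 3, 4, 5, 6, 2, 10, 5, 6, 2, 6]⟩] [⟨[61, 63, 63, 30], 146, true, [0, 2, 3, 4, 5, 6, 5, 3, 5, 6]⟩]),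
  (⟨false, 2, 2, [67, 49, 53, 30, 35, 41, 2, 17, 17, 25, 8], [59, 45, 54, 56, 41, 31, 2, 17, 19, 22], [59, 48, 42, 35, 28, 37, 17, 17, 23, 10]⟩, .loop 23 5 [58, 44, 43, 41, 34, 16, 16, 19, 20] 2 3 [⟨[], 265, true, [6, 1, 2, 6, 5, 10, 5, 6, 2]⟩] [⟨[37, 66, 38], 335, true, [0, 6, 2, 6, 10, 5, 6, 2, 6, 4]⟩, ⟨[61, 28, 63, 61], 178, true, [5, 10, 5, 6, 5, 6]⟩]),
  (⟨false, 2, 2, [58, 54, 50, 30, 37, 31, 16, 16, 24, 23], [63, 51, 47, 30, 37, 40, 16, 8], [58, 50, 44, 28, 40, 26, 17, 23, 23, 0]⟩, .loop 29 4 [62, 44, 47, 30, 27, 28, 16, 2, 0, 16] 2 3 [⟨[30], 184, false, [1, 3, 6, 2, 6, 2, 4, 5, 6, 10]⟩] [⟨[27, 63, 30], 75, false, [1, 6, 5, 3, 6, 5, 3]⟩, ⟨[66, 66, 37, 37], 95, false, [1, 4, 6, 4, 6, 4, 5, 10]⟩]),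
  (⟨false, 2, 2, [59, 51, 53, 28, 30, 16, 16, 2, 11, 12], [63, 45, 50, 42, 28, 40, 30, 16, 16, 2, 11, 12], [58, 45, 52, 28, 31, 40, 16, 16, 25, 25]⟩, .loop 28 2 [66, 46, 48, 54, 31, 36, 16, 18, 16, 22] 2 3 [⟨[23, 24], 189, true, [2, 4, 6, 5, 6, 4, 5, 6, 5, 6]⟩] [⟨[23, 24, 23], 348, true, [2, 5, 6, 1, 4, 6, 2, 10, 5]⟩, ⟨[37, 66, 37], 270, false, [2, 4, 6, 4, 5, 10, 5, 6]⟩]),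
  (⟨false, 2, 2, [58, 44, 55, 50, 40, 30, 27, 16, 16, 20, 19], [63, 51, 55, 33, 35, 26, 16, 16, 2, 20], [58, 51, 55, 30, 35, 40, 28, 2, 17, 18, 22, 18]⟩, .loop 44 2 [62, 54, 47, 33, 41, 2, 23, 17, 22, 6] 2 3 [⟨[23, 24, 23], 167, true, [0, 6, 4, 10, 5, 6, 4, 5, 6]⟩] [⟨[24], 307, true, [2, 4, 10, 5, 6, 1, 4, 5, 10, 5]⟩]),
  (⟨false, 2, 2, [66, 44, 48, 52, 31, 35, 27, 16, 8], [58, 45, 56, 31, 28, 41, 16, 4, 16, 19], [58, 44, 56, 46, 31, 35, 27, 16, 4, 16, 16, 22]⟩, .loop 34 3 [67, 51, 46, 28, 34, 31, 16, 16, 24] 4 5 [⟨[50, 21], 199, true, [6, 1, 4, 6, 5, 10]⟩, ⟨[23], 83, true, [3, 5, 6, 4, 6, 4, 5, 6, 2, 6]⟩] [⟨[22, 22, 245, 21, 22], 158, false, [1, 4, 5, 6, 2, 6]⟩]),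
  (⟨false, 2, 4, [58, 47, 52, 30, 26, 36, 2, 23, 17, 17, 19], [58, 44, 42, 54, 38, 33, 40, 16, 19, 22, 25], [67, 45, 50, 42, 41, 28, 32, 2, 23, 23, 17, 22]⟩, .loop 33 3 [62, 46, 44, 36, 27, 16, 24, 16, 19] 4 5 [⟨[22, 50], 19, false, [0, 2, 10, 5, 3, 6, 4, 6, 2, 5]⟩, ⟨[23], 401, false, [1, 2, 6, 10, 5, 6, 2, 5, 3, 6]⟩] [⟨[50, 50, 22, 21, 21], 56, false, [2, 6, 1, 5, 10, 5, 6, 2, 4]⟩]),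
  (⟨false, 5, 2, [61, 51, 57, 28, 34, 41, 2, 17, 22, 16], [44, 57, 55, 35, 36, 38, 2, 23, 19, 16], [60, 52, 44, 34, 31, 31, 16, 24, 16, 10]⟩, .loop 19 5 [58, 45, 42, 51, 41, 2, 23, 10, 23, 19] 4 5 [⟨[38], 85, false, [0, 2, 4, 6, 4, 5, 6, 2, 6]⟩, ⟨[38, 66, 66], 347, false, [6, 2, 6, 4, 5, 6, 2, 6, 5]⟩] [⟨[66, 66, 37, 37, 66], 310, false, [4, 10, 5, 6, 1, 2, 6, 5, 3]⟩]),
  (⟨false, 4, 2, [67, 45, 56, 55, 31, 26, 26, 2, 16, 6, 22], [67, 51, 49, 30, 27, 28, 2, 23, 23, 17, 2], [62, 44, 42, 57, 34, 37, 16, 16, 13, 24]⟩, .loop 66 2 [44, 47, 52, 30, 27, 28, 2, 17, 17, 22, 22] 2 3 [⟨[], 256, true, [5, 10, 5, 6, 5, 3, 6, 4, 6]⟩] [⟨[], 395, true, [6, 1, 4, 5, 6, 4, 10]⟩, ⟨[23, 24], 196, true, [2, 6, 5, 3, 5, 6, 2, 5]⟩]),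
  (⟨false, 2, 2, [59, 51, 52, 30, 27, 27, 2, 17, 23, 18], [61, 50, 30, 38, 26, 16, 21, 16, 8], [47, 55, 30, 34, 27, 16, 16, 19]⟩, .loop 20 5 [59, 44, 47, 52, 33, 28, 16, 16, 20, 11] 4 5 [⟨[38, 37, 66], 133, true, [0, 3, 5, 6, 4, 5, 6, 2, 10, 5]⟩, ⟨[66, 66, 37, 37], 144, true, [4, 5, 6, 2, 10, 5, 6, 5, 6]⟩] [⟨[], 280, true, [0, 6, 4, 6, 5, 3, 6, 5, 10]⟩]),
  (⟨false, 5, 2, [45, 54, 38, 34, 16, 24, 16, 8], [67, 46, 57, 40, 38, 2, 17, 17, 20], [59, 55, 42, 36, 33, 16, 11, 18]⟩, .loop 20 2 [58, 55, 49, 31, 28, 38, 2, 17, 0, 17] 4 5 [⟨[24], 331, true, [0, 6, 4, 6, 4, 10, 5, 6, 2, 6]⟩, ⟨[23, 24], 310, true, [2, 4, 6, 4, 6, 4, 6, 5, 10]⟩] [⟨[23, 24], 220, false, [0, 3, 4, 5, 6, 4, 6, 2, 5, 3]⟩]),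
  (⟨false, 4, 2, [59, 44, 42, 46, 35, 35, 31, 2, 17, 22, 16, 2], [59, 51, 49, 30, 27, 36, 16, 2, 19, 22], [67, 47, 44, 31, 28, 32, 17, 23, 17]⟩, .loop 34 2 [62, 50, 46, 30, 37, 35, 2, 23, 6, 17, 6] 6 7 [⟨[23], 240, false, [3, 6, 1, 2, 5]⟩, ⟨[66, 66], 310, false, [2, 4, 10, 5, 3, 6, 1, 4, 6]⟩, ⟨[], 319, true, [1, 2, 5, 6, 10, 5, 6, 2, 6]⟩] []),
  (⟨false, 2, 2, [62, 54, 36, 27, 27, 16, 18], [59, 54, 52, 28, 31, 16, 16, 19, 10], [66, 47, 51, 33, 35, 28, 2, 17, 23, 20, 19]⟩, .loop 23 2 [61, 55, 49, 31, 35, 38, 2, 17, 22, 16, 2] 4 5 [⟨[], 173, true, [5, 10, 5, 6, 2, 6, 5, 6, 2]⟩, ⟨[23, 24], 260, true, [2, 5, 6, 1, 10, 5, 3, 6]⟩] [⟨[], 223, false, [2, 4, 6, 10, 5, 6, 4, 6, 2]⟩]),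
  (⟨false, 2, 2, [66, 45, 54, 34, 38, 28, 2, 17, 23, 10, 19], [60, 49, 53, 36, 28, 38, 16, 16, 16, 18, 24], [60, 44, 42, 45, 30, 41, 16, 16, 18, 17]⟩, .loop 46 2 [60, 49, 45, 33, 27, 34, 16, 16, 11, 16] 2 3 [⟨[24], 314, false, [0, 3, 6, 2, 6, 4, 5, 6, 4, 5]⟩] [⟨[24], 339, false, [6, 1, 2, 5, 6, 4, 6, 2, 5]⟩]),
  (⟨false, 5, 2, [49, 49, 33, 27, 2, 17, 0, 23, 17], [66, 47, 47, 52, 31, 38, 16, 16, 18, 17], [63, 55, 49, 36, 40, 2, 23, 10, 23, 18]⟩, .loop 31 4 [58, 45, 43, 45, 30, 34, 28, 16, 11, 16, 8] 4 5 [⟨[], 232, true, [2, 10, 5, 6, 2, 5, 3]⟩, ⟨[], 136, true, [2, 4, 5, 6, 10, 5, 6, 2, 6]⟩] [⟨[53, 30], 285, true, [4, 5, 10, 5, 6, 5, 6, 4]⟩]),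
  (⟨false, 2, 2, [48, 48, 31, 34, 27, 16, 16, 22, 2], [61, 44, 46, 57, 36, 2, 17, 17, 0, 8], [58, 45, 49, 41, 30, 2, 23, 17, 19, 22]⟩, .loop 49 2 [62, 45, 45, 30, 37, 30, 16, 16, 11, 16] 4 5 [⟨[24], 232, false, [0, 4, 10, 5, 6, 4, 5, 6, 2, 4, 10]⟩, ⟨[63, 27, 61, 61], 407, false, [0, 3, 4, 5, 3, 6, 5, 6, 4]⟩] []),
  (⟨false, 2, 2, [66, 55, 43, 28, 41, 34, 16, 16, 11, 23, 23], [62, 47, 52, 31, 34, 27, 16, 4, 16, 2, 20], [63, 44, 51, 48, 35, 31, 32, 16, 16, 24, 19]⟩, .loop 73 5 [67, 51, 47, 35, 28, 31, 18, 23, 17] 4 5 [⟨[], 87, false, [3, 4, 5, 6, 1, 2, 10, 5, 6, 4]⟩, ⟨[37, 66, 38, 37], 226, true, [6, 4, 6, 2, 6, 10, 5, 6]⟩] [⟨[38, 66, 66], 383, true, [6, 1, 2, 6, 4]⟩]),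
  (⟨false, 2, 2, [62, 45, 45, 38, 32, 34, 16, 2, 19, 6], [61, 45, 53, 28, 31, 26, 2, 23, 18, 6], [44, 47, 52, 33, 35, 41, 2, 17, 23, 4, 21]⟩, .loop 48 2 [60, 52, 44, 30, 32, 34, 16, 16, 16, 24] 2 3 [⟨[23, 24], 233, true, [2, 6, 4, 5, 6, 2, 6, 2, 4, 5]⟩] [⟨[23], 411, true, [1, 5, 3, 6, 4, 6, 2, 5, 6, 5]⟩]),
  (⟨false, 2, 2, [62, 48, 56, 34, 27, 29, 16, 22, 19, 22], [66, 49, 53, 31, 37, 29, 16, 22, 19], [66, 44, 42, 57, 41, 34, 30, 2, 23, 23, 16]⟩, .loop 49 2 [67, 45, 54, 56, 31, 26, 36, 16, 22, 19] 4 5 [⟨[], 138, false, [1, 5, 6, 5, 6, 4, 6, 2, 6, 10]⟩, ⟨[24, 23], 344, false, [2, 10, 5, 6, 5, 6, 4, 10]⟩] []),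
  (⟨false, 2, 2, [60, 47, 49, 56, 31, 34, 33, 2, 23, 17, 17], [54, 43, 31, 36, 41, 16, 8, 17, 17, 22], [61, 44, 47, 44, 28, 30, 26, 34, 16, 21]⟩, .loop 30 2 [58, 47, 50, 31, 26, 26, 16, 16, 20, 11] 4 5 [⟨[], 90, true, [1, 6, 4, 6, 5, 3, 6, 4, 5]⟩, ⟨[28, 61, 27], 113, true, [6, 2, 4, 5, 6, 2, 10, 5, 6, 2]⟩] [⟨[24], 292, true, [0, 2, 5, 6, 4, 6, 10, 5, 6, 5]⟩])]

/-- facts 416 and on -/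
def facts13 : List (Fact × Why) := [
  (⟨false, 2, 2, [44, 49, 40, 32, 2, 17, 17, 8, 23], [44, 57, 49, 41, 26, 16, 16, 18, 18], [66, 50, 55, 28, 41, 29, 16, 19, 6, 16]⟩, .loop 31 2 [62, 51, 43, 35, 35, 35, 2, 23, 4, 19] 4 5 [⟨[23], 110, false, [3, 6, 4, 5, 6, 10, 5, 6, 5, 10]⟩, ⟨[61, 63, 63, 27], 256, false, [3, 6, 2, 6, 5, 6, 2, 4, 6]⟩] [⟨[23], 175, true, [2, 4, 5, 6, 4, 6, 10]⟩]),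
  (⟨false, 2, 2, [57, 55, 28, 36, 40, 36, 16, 16, 24, 19], [58, 50, 50, 30, 26, 30, 16, 16, 2, 4, 11], [62, 44, 47, 44, 31, 33, 31, 16, 2, 19]⟩, .loop 44 4 [60, 56, 34, 33, 2, 17, 17, 25, 12] 2 3 [⟨[28], 404, false, [2, 3, 6, 1, 4, 5, 6]⟩] [⟨[63, 53, 63, 28], 285, true, [6, 5, 6, 2, 6, 4, 10]⟩]),
  (⟨false, 2, 2, [62, 51, 52, 28, 41, 27, 2, 23, 6], [60, 50, 46, 36, 31, 26, 17, 23, 18, 17], [63, 48, 47, 28, 41, 27, 2, 17, 17, 2, 22]⟩, .loop 21 3 [48, 52, 38, 35, 36, 2, 17, 18, 22, 6] 2 3 [⟨[50], 159, false, [1, 6, 2, 6, 5, 3, 5, 6, 5, 10]⟩] [⟨[245, 22, 22, 245, 21], 230, false, [1, 4, 10, 5, 6, 4, 5, 3]⟩, ⟨[23, 24], 259, false, [4, 5, 3, 6, 4, 5, 6, 5, 6, 10]⟩]),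
  (⟨false, 2, 2, [62, 47, 49, 28, 41, 33, 17, 22, 21, 6], [59, 47, 42, 30, 26, 28, 16, 11, 11], [59, 44, 46, 28, 38, 31, 16, 16, 22, 10]⟩, .loop 29 2 [66, 45, 50, 33, 31, 38, 16, 16, 19, 23] 4 5 [⟨[23], 110, false, [1, 5, 3, 6, 4, 5, 3, 6, 5, 10, 5]⟩, ⟨[61, 53, 29], 363, true, [4, 10, 5, 6, 4, 6, 5, 3, 5]⟩] [⟨[23], 401, true, [5, 6, 1, 10, 5]⟩]),
  (⟨false, 2, 2, [66, 50, 44, 35, 28, 35, 17, 17, 22, 16], [62, 47, 44, 51, 31, 33, 31, 2, 17, 23, 24, 23], [61, 45, 50, 42, 28, 26, 40, 38, 16, 16, 18, 23]⟩, .loop 44 5 [67, 47, 50, 35, 29, 34, 16, 24, 17, 22] 2 3 [⟨[38], 394, false, [2, 10, 5, 6, 2, 4, 5, 6, 2, 6, 4]⟩] [⟨[38, 66, 66, 38], 359, true, [0, 4, 10, 5, 3, 6, 5, 6, 2, 10]⟩]),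
  (⟨false, 2, 2, [62, 45, 48, 31, 29, 16, 18, 23], [59, 48, 48, 28, 35, 35, 16, 16, 20, 11], [60, 44, 42, 47, 36, 31, 31, 16, 16, 8, 16, 20]⟩, .loop 22 2 [49, 46, 35, 37, 2, 16, 16, 6, 16] 2 3 [⟨[23], 393, false, [0, 6, 10, 5, 3, 6, 2, 6, 4, 6, 5]⟩] [⟨[23, 24], 364, true, [3, 6, 4, 5, 6, 4, 6, 4, 10]⟩, ⟨[24], 323, true, [5, 6, 1, 2, 6, 4, 6, 5, 6]⟩]),
  (⟨false, 5, 2, [63, 57, 55, 31, 41, 2, 17, 23, 18], [60, 57, 55, 30, 37, 35, 2, 23, 23, 8], [59, 44, 48, 30, 38, 37, 2, 17, 17, 8, 21]⟩, .loop 44 2 [62, 47, 42, 31, 33, 33, 2, 17, 17, 11, 19] 2 3 [⟨[], 357, true, [2, 6, 4, 6, 2, 6, 10]⟩] [⟨[23, 24], 207, true, [5, 3, 6, 1, 4, 6, 2, 4]⟩]),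
  (⟨false, 2, 2, [62, 49, 46, 34, 37, 37, 16, 19, 22, 25], [61, 52, 50, 36, 40, 2, 16, 6, 23, 20], [63, 51, 28, 30, 32, 16, 16, 24, 12]⟩, .loop 49 2 [58, 46, 56, 30, 27, 28, 2, 17, 17, 25, 13] 2 3 [⟨[24], 308, true, [0, 6, 4, 6, 2, 6, 5, 6]⟩] [⟨[], 390, true, [0, 2, 6, 5, 3, 6, 5, 6, 2]⟩]),
  (⟨false, 2, 2, [59, 45, 42, 51, 33, 38, 37, 2, 17, 22, 16, 10], [55, 35, 35, 31, 2, 17, 17, 20], [58, 46, 51, 55, 30, 34, 27, 17]⟩, .loop 68 5 [67, 44, 43, 34, 36, 31, 16, 16, 4, 13, 17] 4 5 [⟨[66, 38, 66], 107, false, [2, 6, 1, 2, 10, 5, 6, 4, 6]⟩, ⟨[24, 23], 299, false, [0, 4, 6, 10, 5, 6, 5]⟩] [⟨[66, 37, 38], 362, false, [2, 10, 5, 6, 1, 4, 6, 5, 3, 5]⟩]),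
  (⟨false, 2, 2, [61, 56, 31, 28, 30, 16, 24, 18], [48, 42, 38, 31, 16, 4, 16, 13], [63, 45, 43, 28, 34, 36, 19, 6, 23, 16]⟩, .loop 22 2 [66, 46, 51, 55, 33, 16, 16, 21, 16] 4 5 [⟨[24, 23], 315, true, [2, 6, 2, 4, 5, 3, 6, 2, 6]⟩, ⟨[24], 400, false, [0, 5, 6, 4, 6, 4, 6]⟩] [⟨[23, 24, 23], 334, false, [5, 6, 4, 6, 5, 6, 2, 5, 10]⟩]),
  (⟨false, 2, 2, [59, 44, 51, 35, 30, 26, 16, 18, 23, 6], [58, 57, 55, 36, 34, 16, 16, 19], [60, 44, 48, 52, 36, 35, 27, 16, 16, 13, 10]⟩, .loop 28 2 [66, 51, 41, 26, 18, 23, 17, 17] 4 5 [⟨[24, 23], 152, false, [0, 3, 6, 2, 6, 5, 6, 4, 6, 10]⟩, ⟨[50, 22, 50, 245], 230, false, [0, 2, 3, 6, 5, 6, 4, 6, 5, 10, 5]⟩] [⟨[24], 308, false, [3, 6, 1, 4, 6, 5, 3, 6, 5]⟩]),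
  (⟨false, 2, 2, [61, 52, 44, 28, 26, 38, 16, 21, 17], [59, 47, 48, 33, 35, 29, 2, 17, 17, 10, 21], [67, 47, 51, 33, 34, 26, 2, 17, 17, 2, 22]⟩, .loop 33 2 [67, 48, 44, 30, 30, 35, 2, 23, 17, 25] 2 3 [⟨[24, 23], 358, false, [0, 5, 3, 6, 4, 5, 6, 2, 5, 6]⟩] [⟨[23, 24, 23], 293, true, [1, 3, 5, 6, 10, 5, 6, 5, 3, 5]⟩, ⟨[23, 24], 139, false, [4, 5, 6, 2, 5, 6, 4, 6, 10]⟩]),
  (⟨false, 2, 2, [58, 49, 44, 31, 34, 2, 23, 17, 25, 6], [67, 44, 49, 30, 26, 35, 2, 23, 23, 19], [62, 50, 49, 31, 27, 2, 17, 17, 25, 20]⟩, .loop 28 2 [59, 48, 55, 30, 35, 29, 16, 21, 16, 21] 4 5 [⟨[23, 24], 259, false, [3, 4, 5, 6, 5, 6, 2, 10]⟩, ⟨[23, 24, 23], 295, false, [6, 2, 6, 4, 10, 5, 6, 2]⟩] [⟨[23], 397, true, [1, 2, 6, 4, 5, 3, 5, 6, 2, 6, 4]⟩]),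
  (⟨false, 2, 2, [67, 44, 51, 41, 28, 33, 16, 16, 19, 17], [61, 44, 42, 47, 31, 26, 34, 2, 23, 4, 19], [62, 52, 30, 32, 40, 2, 17, 23, 17, 8]⟩, .loop 47 2 [50, 55, 31, 26, 33, 16, 24, 17] 4 5 [⟨[], 138, false, [3, 6, 1, 5, 10, 5, 6, 4, 5, 3]⟩, ⟨[], 291, false, [10, 5, 6, 2, 6, 4, 5, 6, 10]⟩] []),
  (⟨false, 2, 2, [63, 44, 42, 45, 35, 28, 28, 16, 16, 16, 12], [61, 46, 53, 38, 28, 31, 2, 23, 17, 17, 6], [54, 56, 30, 38, 29, 2, 16, 6, 22, 6]⟩, .loop 17 2 [59, 49, 53, 41, 28, 2, 17, 17, 10, 17] 4 5 [⟨[23, 24, 23], 304, false, [0, 4, 10, 5, 3, 6, 4, 6, 4]⟩, ⟨[23], 205, true, [0, 5, 6, 2, 4, 10, 5, 6, 5, 3]⟩] [⟨[24], 275, false, [0, 10, 5, 3, 6, 2, 6, 5, 6]⟩]),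
  (⟨false, 2, 2, [61, 45, 42, 49, 28, 31, 34, 2, 17, 17, 6, 20], [62, 45, 49, 28, 34, 28, 16, 16, 4, 6], [46, 51, 55, 30, 37, 32, 16, 16, 4, 22]⟩, .loop 28 5 [58, 44, 57, 49, 38, 37, 16, 18, 16, 19] 2 3 [⟨[37], 266, true, [0, 6, 10, 5, 6, 4, 6, 10, 5, 6]⟩] [⟨[66, 66, 37, 66, 37], 353, true, [2, 6, 1, 5, 3, 6, 2, 6, 4, 5]⟩, ⟨[23, 24], 350, false, [0, 6, 10, 5, 6, 10]⟩]),
  (⟨false, 2, 2, [59, 44, 42, 57, 30, 41, 29, 2, 17, 23, 17], [58, 48, 42, 30, 40, 27, 16, 18, 16, 19], [58, 55, 34, 26, 32, 16, 11, 16, 11, 19]⟩, .loop 31 2 [66, 45, 56, 28, 34, 30, 16, 16, 11, 23, 23] 6 7 [⟨[23, 24, 23], 408, false, [0, 6, 4, 5, 3, 6, 2, 5, 6, 10]⟩, ⟨[23, 24, 23], 341, true, [1, 3, 5, 6, 4, 6, 5, 6, 10, 5]⟩, ⟨[24, 23], 155, false, [6, 2, 4, 5, 6, 2, 6]⟩] []),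
  (⟨false, 2, 2, [58, 52, 55, 34, 41, 41, 19, 6, 17, 19], [48, 53, 41, 27, 2, 17, 17, 25, 8], [58, 46, 42, 51, 34, 29, 41, 2, 17, 17, 17, 12]⟩, .loop 31 2 [45, 50, 45, 40, 28, 16, 16, 18, 24] 6 7 [⟨[], 366, false, [2, 6, 4, 5, 6, 10, 5, 10]⟩, ⟨[28], 404, false, [1, 6, 5, 6, 5, 10, 5, 6, 2]⟩, ⟨[24, 23], 228, false, [6, 5, 3, 5, 6, 5, 3, 6, 5]⟩] []),
  (⟨false, 2, 2, [60, 45, 42, 45, 28, 34, 33, 16, 11, 25, 16], [59, 49, 51, 33, 35, 29, 17, 22, 6], [66, 44, 56, 33, 27, 27, 16, 16, 24, 21]⟩, .loop 21 2 [58, 46, 49, 30, 35, 37, 2, 23, 4, 6] 2 3 [⟨[], 148, true, [2, 5, 3, 6, 1, 2, 4, 5, 6]⟩] [⟨[24, 23], 375, true, [0, 6, 10, 5, 6, 4, 6, 2]⟩, ⟨[23], 299, true, [0, 2, 5, 6, 4, 6, 5, 6, 2]⟩]),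
  (⟨false, 2, 2, [59, 51, 53, 30, 37, 35, 16, 18, 16], [59, 54, 46, 30, 40, 33, 2, 17, 18, 22, 6], [61, 44, 43, 38, 32, 35, 2, 23, 17, 24, 11]⟩, .loop 47 2 [58, 44, 49, 30, 40, 27, 16, 16, 11, 25] 4 5 [⟨[23], 359, false, [0, 2, 3, 6, 2, 4, 5]⟩, ⟨[66, 66, 38, 66, 38], 265, true, [4, 6, 1, 5, 3, 6, 2, 6, 4, 5]⟩] []),
  (⟨false, 2, 2, [52, 49, 28, 36, 34, 18], [60, 51, 35, 31, 29, 16, 16, 4, 11], [44, 47, 52, 34, 38, 28, 16, 16, 2, 11]⟩, .loop 17 2 [61, 50, 55, 33, 41, 2, 23, 17, 17, 19] 4 5 [⟨[23, 24, 23], 317, false, [2, 5, 6, 5, 3, 6]⟩, ⟨[], 376, true, [5, 6, 2, 6, 5, 3]⟩] [⟨[23, 24, 23], 264, false, [0, 4, 6, 4, 6, 5, 3, 5]⟩]),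
  (⟨false, 2, 2, [51, 57, 35, 28, 32, 2, 23, 6, 23, 16], [67, 44, 57, 55, 30, 37, 31, 2, 16, 6, 17, 19], [63, 46, 57, 30, 35, 35, 16, 4, 16, 10]⟩, .loop 48 2 [61, 47, 56, 33, 30, 2, 23, 17, 19] 4 5 [⟨[24], 231, false, [1, 4, 6, 4, 5, 6, 2]⟩, ⟨[23], 317, false, [2, 6, 1, 5, 3, 6, 5, 6, 2, 6]⟩] []),
  (⟨false, 2, 2, [66, 50, 55, 31, 27, 34, 16, 25, 17], [67, 51, 49, 28, 38, 30, 2, 17, 23, 4], [62, 44, 57, 28, 31, 16, 2, 10, 23]⟩, .loop 72 2 [67, 51, 33, 28, 37, 2, 17, 22, 16, 24] 6 7 [⟨[], 252, true, [6, 10, 5, 6, 10, 5, 3, 6, 5, 6, 10]⟩, ⟨[24, 23], 141, false, [3, 4, 6, 2, 4, 5, 6, 5, 10, 5]⟩, ⟨[37, 37], 219, false, [2, 3, 4, 5, 6, 1, 5, 10, 5, 6]⟩] []),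
  (⟨false, 2, 4, [66, 50, 46, 36, 30, 40, 17, 23, 16, 22], [67, 48, 48, 41, 28, 33, 2, 17, 22], [67, 45, 50, 42, 33, 36, 41, 16, 10, 17, 17]⟩, .loop 69 3 [58, 52, 49, 31, 32, 38, 2, 23, 6, 23, 8] 2 3 [⟨[245, 245], 127, false, [2, 3, 5, 6, 1, 4, 6, 2]⟩] [⟨[245, 50, 21, 50, 21], 197, false, [2, 6, 2, 4, 5, 3, 6, 2, 6, 4]⟩, ⟨[], 374, true, [1, 4, 5, 6, 2, 6, 5, 10, 5, 6]⟩]),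
  (⟨false, 2, 2, [61, 47, 44, 51, 35, 35, 26, 2, 17, 23], [61, 45, 50, 45, 28, 26, 31, 33, 16, 19, 22, 25], [52, 36, 28, 38, 16, 16, 19]⟩, .loop 69 4 [59, 50, 42, 28, 40, 16, 18, 18] 2 3 [⟨[61, 30, 27], 146, true, [0, 2, 3, 4, 6, 4]⟩] [⟨[63, 63, 61, 61], 385, false, [6, 5, 3, 6, 2, 4, 5]⟩, ⟨[23, 24], 336, false, [3, 5, 3, 6, 1, 4, 5, 10, 5]⟩]),
  (⟨false, 5, 5, [62, 49, 57, 31, 32, 38, 2, 23, 23, 16], [60, 44, 53, 56, 28, 26, 36, 16, 4, 16, 8], [63, 52, 55, 38, 26, 33, 2, 17, 23, 11]⟩, .loop 71 5 [45, 56, 55, 28, 30, 27, 16, 8, 17] 6 7 [⟨[66], 78, true, [2, 4, 6, 4, 5, 10, 5, 6, 5, 3]⟩, ⟨[50, 21, 50, 245], 78, false, [0, 4, 6, 4, 5, 3, 5, 6, 2, 6]⟩, ⟨[38, 66, 66], 347, false, [3, 6, 5, 3, 6, 4, 6]⟩] []),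
  (⟨false, 2, 2, [59, 45, 56, 31, 28, 37, 2, 23, 8, 17, 6], [46, 44, 28, 30, 36, 2, 17, 22, 6, 16], [59, 46, 49, 36, 32, 30, 16, 16, 2, 0]⟩, .loop 47 2 [58, 54, 44, 33, 40, 38, 16, 10, 8] 2 3 [⟨[23, 24, 23], 207, true, [4, 6, 2, 6, 4, 5, 10, 5, 6, 2]⟩] [⟨[24], 252, true, [1, 3, 4, 5, 6, 4, 6, 10]⟩]),
  (⟨false, 5, 2, [62, 51, 47, 34, 38, 28, 16, 4, 16, 21], [63, 46, 46, 35, 37, 38, 16, 18, 16], [61, 54, 52, 30, 38, 40, 17, 23, 23, 0]⟩, .loop 47 2 [58, 49, 30, 41, 29, 2, 17, 17, 0, 6] 2 3 [⟨[23], 298, true, [2, 6, 10, 5, 6, 4, 10, 5, 6]⟩] [⟨[24, 23], 430, false, [2, 6, 5, 3, 6, 4, 5, 6, 10]⟩]),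
  (⟨false, 2, 2, [61, 44, 46, 57, 33, 34, 38, 16, 18], [66, 48, 42, 41, 31, 2, 17, 19, 22, 20], [59, 46, 49, 33, 29, 16, 2, 21, 17]⟩, .loop 30 2 [61, 52, 49, 38, 33, 16, 4, 16, 19] 2 3 [⟨[], 131, false, [2, 6, 2, 6, 4, 10, 5, 3, 6, 2, 6]⟩] [⟨[], 203, true, [2, 6, 1, 4, 6, 2, 5, 3]⟩, ⟨[24, 23], 142, false, [0, 4, 6, 2, 5, 3, 6, 2, 5, 10]⟩]),
  (⟨false, 2, 2, [59, 48, 43, 28, 26, 30, 16, 11, 18], [67, 50, 49, 34, 26, 35, 16, 16, 4, 22], [67, 48, 53, 28, 41, 34, 16, 16, 4, 20]⟩, .loop 21 2 [61, 44, 47, 33, 34, 38, 16, 19, 11] 6 7 [⟨[23], 137, true, [0, 2, 3, 5, 6, 2, 10]⟩, ⟨[23, 24], 236, true, [2, 5, 3, 6, 2, 6]⟩, ⟨[24, 23], 293, true, [2, 6, 5, 3, 6, 2, 4, 5, 10]⟩] []),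
  (⟨false, 2, 2, [58, 49, 49, 36, 27, 36, 2, 17, 23, 4], [66, 48, 53, 33, 35, 41, 18, 23, 17, 6], [60, 50, 49, 28, 30, 16, 16, 16, 24]⟩, .loop 29 2 [61, 54, 44, 33, 35, 29, 16, 18, 16, 8] 4 5 [⟨[24], 281, false, [6, 5, 3, 6, 5, 6, 4, 6, 2, 10]⟩, ⟨[24], 171, false, [1, 4, 6, 2, 4, 10, 5, 6, 2]⟩] [⟨[], 398, false, [3, 4, 5, 6, 5, 6, 2, 6, 4, 10]⟩]),
  (⟨false, 2, 2, [59, 44, 30, 41, 29, 2, 17, 17, 17, 13], [67, 46, 44, 54, 31, 29, 35, 16, 4, 16, 20], [61, 45, 56, 55, 33, 28, 2, 17, 17, 17, 10]⟩, .loop 23 2 [58, 44, 42, 51, 30, 29, 34, 17, 23, 16, 22] 2 3 [⟨[24], 297, true, [5, 6, 1, 4, 6, 2, 10, 5, 6, 5]⟩] [⟨[], 251, true, [6, 1, 5, 6, 4, 6, 2, 5, 10]⟩, ⟨[24, 23], 220, true, [1, 2, 6, 2, 5, 6, 2, 10]⟩])]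

/-- facts 448 and on -/
def facts14 : List (Fact × Why) := [
  (⟨false, 2, 2, [63, 45, 52, 33, 38, 37, 2, 16, 6, 22, 6], [59, 44, 42, 51, 33, 2, 23, 23, 18, 18], [58, 44, 56, 28, 41, 33, 2, 17, 22, 22]⟩, .loop 31 2 [67, 44, 43, 53, 30, 32, 26, 2, 17, 17, 17, 10] 4 5 [⟨[], 156, false, [1, 2, 5, 6, 4, 10, 5, 3, 6, 2]⟩, ⟨[38, 66, 66, 38], 387, true, [0, 2, 4, 5, 6, 5, 3, 5, 6, 4]⟩] [⟨[], 234, false, [0, 2, 3, 4, 5, 6, 2, 6, 4, 10, 5]⟩]),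
  (⟨false, 2, 5, [59, 44, 42, 46, 35, 35, 35, 16, 22], [45, 42, 47, 40, 40, 2, 17, 23, 8], [63, 50, 48, 33, 30, 36, 16, 22, 22]⟩, .loop 67 4 [61, 49, 51, 31, 32, 38, 16, 25, 17] 2 3 [⟨[], 92, false, [0, 6, 2, 4, 5, 6, 4, 10, 5, 3]⟩] [⟨[61, 28], 335, false, [2, 4, 6, 1, 4, 5, 6, 2, 4]⟩, ⟨[66, 37], 347, false, [5, 3, 6, 4, 6, 2, 5, 6, 2]⟩]),
  (⟨false, 2, 2, [62, 46, 42, 34, 41, 41, 2, 23, 17, 19, 22], [66, 45, 42, 51, 30, 29, 41, 16, 16, 22, 11], [60, 54, 44, 38, 40, 2, 17, 17, 17, 8]⟩, .loop 29 2 [63, 49, 57, 28, 30, 34, 17, 17, 17, 19] 6 7 [⟨[], 114, false, [0, 3, 6, 5, 10, 5, 6, 4, 5, 6, 4]⟩, ⟨[37, 37, 66], 406, false, [5, 6, 1, 4, 6, 2, 4, 5, 3, 6]⟩, ⟨[23], 433, true, [1, 6, 5, 3, 6, 5, 6, 5, 10]⟩] []),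
  (⟨false, 2, 5, [63, 51, 42, 31, 37, 35, 16, 10, 23], [62, 46, 51, 55, 40, 35, 2, 17, 23, 20, 24], [60, 52, 50, 35, 36, 38, 16, 8, 22, 19]⟩, .loop 73 2 [62, 44, 43, 30, 40, 33, 2, 17, 17, 6, 23] 4 5 [⟨[23], 288, false, [1, 2, 6, 4, 5, 6, 5, 10, 5]⟩, ⟨[23, 24], 248, false, [0, 4, 5, 3, 5, 6, 5, 10]⟩] [⟨[], 278, false, [1, 5, 3, 6, 4, 5, 3, 6, 5, 10, 5]⟩]),
  (⟨false, 2, 5, [66, 48, 55, 30, 26, 40, 2, 17, 22, 22, 16], [59, 45, 53, 33, 34, 30, 16, 16, 22], [63, 47, 47, 52, 28, 40, 30, 2, 23, 23, 23, 0]⟩, .loop 33 5 [58, 44, 57, 31, 41, 16, 16, 20, 25] 6 7 [⟨[66], 217, true, [0, 6, 2, 4, 10, 5, 6, 2, 5, 6]⟩, ⟨[23, 24, 23], 226, false, [4, 6, 2, 5, 6, 5, 6, 10, 5, 3]⟩, ⟨[], 296, true, [0, 6, 10, 5, 6, 2, 6, 4]⟩] []),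
  (⟨false, 2, 5, [61, 44, 48, 38, 31, 16, 16, 21, 24], [61, 48, 47, 28, 35, 26, 16, 16, 4, 13, 17], [45, 42, 38, 34, 2, 23, 23, 25, 21]⟩, .loop 49 5 [61, 50, 45, 30, 29, 34, 16, 16, 8, 6] 4 5 [⟨[66], 371, false, [4, 5, 10, 5, 6, 1, 4, 6]⟩, ⟨[23, 24, 23], 419, true, [5, 6, 4, 6, 10, 5, 6, 5, 10]⟩] []),
  (⟨false, 4, 2, [62, 44, 43, 34, 31, 38, 2, 23, 10, 23, 19], [60, 44, 57, 31, 29, 16, 2, 10, 23], [62, 51, 44, 30, 41, 34, 16, 4, 16, 21]⟩, .loop 49 2 [59, 51, 51, 28, 40, 30, 17, 23, 17, 22, 24] 2 3 [⟨[23, 24], 439, false, [4, 10, 5, 6, 1, 2, 5]⟩] [⟨[23, 24], 167, false, [0, 6, 10, 5, 6, 2, 4, 6, 5, 3]⟩]),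
  (⟨false, 2, 4, [67, 45, 52, 33, 35, 29, 2, 17, 17, 23, 16], [63, 44, 47, 44, 30, 26, 38, 16, 16, 21], [61, 46, 44, 54, 28, 38, 31, 2, 23, 6, 23, 4]⟩, .loop 30 2 [60, 55, 42, 36, 32, 2, 17, 19, 25] 4 5 [⟨[23], 440, true, [6, 1, 4]⟩, ⟨[23], 344, true, [6, 5, 3, 6, 4, 6, 2, 5, 6]⟩] [⟨[], 232, false, [1, 6, 5, 6, 2, 6, 4]⟩]),
  (⟨false, 2, 2, [62, 49, 56, 40, 40, 32, 2, 17, 19], [61, 49, 34, 31, 2, 23, 23, 18, 23], [63, 44, 46, 48, 28, 34, 28, 2, 17, 23, 20, 25]⟩, .loop 72 2 [59, 54, 56, 31, 26, 36, 16, 11, 16, 21, 22] 6 7 [⟨[23, 24, 23], 218, true, [2, 6, 1, 5, 6, 4, 6, 10]⟩, ⟨[66, 38, 66], 329, true, [1, 6, 5, 6, 5, 3, 5]⟩, ⟨[24], 401, true, [2, 4, 10, 5, 6, 1, 4, 6, 5]⟩] []),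
  (⟨false, 2, 2, [61, 49, 53, 28, 30, 32, 16, 11, 16, 18], [59, 48, 44, 35, 29, 35, 2, 17, 22, 22, 16], [59, 44, 46, 28, 35, 32, 18, 23]⟩, .loop 23 3 [63, 48, 48, 31, 29, 27, 2, 23, 17, 12] 2 3 [⟨[50], 239, false, [2, 5, 6, 4, 6, 10, 5, 6, 2]⟩] [⟨[245, 22, 245, 21, 245], 81, false, [2, 6, 4, 6, 2, 6, 5, 3, 6, 5]⟩, ⟨[], 415, true, [5, 3, 6, 1, 2, 6, 4, 5, 10]⟩]),
  (⟨false, 2, 2, [59, 47, 30, 26, 30, 2, 17, 17, 23, 13], [63, 51, 53, 41, 27, 16, 21, 17, 17], [67, 44, 55, 52, 36, 35, 16, 16, 8]⟩, .loop 71 2 [67, 44, 46, 44, 28, 34, 2, 16, 6, 17, 19] 6 7 [⟨[], 181, false, [2, 5, 3, 6, 1, 2, 4, 5, 10]⟩, ⟨[], 275, false, [6, 1, 5, 3, 5, 6, 2, 5]⟩, ⟨[23], 273, true, [5, 6, 5, 3, 5]⟩] []),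
  (⟨false, 2, 2, [66, 52, 48, 28, 26, 37, 16, 21, 16, 22], [51, 46, 34, 31, 35, 16, 18, 24, 6], [62, 46, 57, 33, 31, 34, 16, 10, 23, 17]⟩, .loop 49 2 [62, 47, 53, 30, 26, 16, 22] 2 3 [⟨[], 235, false, [2, 6, 1, 4, 5, 6, 2, 4, 10]⟩] [⟨[24], 234, false, [0, 5, 6, 10, 5, 3, 6, 2, 6, 4, 6]⟩]),
  (⟨false, 5, 4, [61, 44, 46, 48, 28, 36, 28, 2, 23, 8, 23, 23], [60, 49, 49, 34, 29, 41, 16, 24, 16, 21], [62, 44, 48, 52, 34, 38, 2, 17, 22, 8]⟩, .loop 48 2 [62, 51, 52, 30, 28, 41, 16, 19, 22, 25] 2 3 [⟨[24], 100, false, [1, 3, 6, 2, 6, 5, 6, 4]⟩] [⟨[24], 404, true, [0, 4, 6, 2, 10, 5, 6, 5]⟩]),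
  (⟨false, 5, 2, [61, 49, 53, 31, 36, 41, 16, 18, 18, 22], [63, 45, 45, 28, 31, 35, 2, 17, 17, 2], [63, 47, 49, 28, 34, 36, 2, 17, 0, 23, 25]⟩, .loop 18 2 [62, 44, 56, 46, 28, 30, 36, 16, 16, 19, 23] 6 7 [⟨[], 135, false, [1, 3, 6, 4, 6, 2, 5, 10]⟩, ⟨[24], 322, false, [1, 3, 6, 2, 6, 4, 6, 5, 6, 4, 10]⟩, ⟨[23, 24, 23], 349, false, [3, 6, 2, 6, 2, 4, 5, 6, 2, 6]⟩] []),
  (⟨false, 2, 2, [66, 49, 53, 31, 29, 16, 4, 16, 18, 11], [66, 51, 43, 41, 28, 33, 2, 17, 23, 10, 19], [60, 49, 56, 36, 27, 35, 2, 16, 16, 6, 16]⟩, .loop 19 2 [58, 46, 42, 35, 30, 36, 19, 6, 23, 20] 6 7 [⟨[23], 260, true, [6, 2, 6, 5, 3, 5, 6, 2, 6]⟩, ⟨[24, 23], 375, false, [1, 4, 6, 10, 5, 6, 2, 6]⟩, ⟨[23, 24, 23], 233, false, [1, 4, 6, 2, 4, 5, 6, 4, 10]⟩] []),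
  (⟨false, 2, 2, [60, 47, 47, 52, 30, 41, 27, 16, 11, 16, 21, 22], [60, 44, 42, 45, 33, 29, 2, 17, 23, 10, 16], [59, 45, 53, 48, 35, 29, 2, 23, 17, 25, 10]⟩, .loop 49 2 [56, 53, 33, 34, 40, 17, 23, 23, 18] 4 5 [⟨[23], 428, false, [4, 6, 5, 6, 4, 5, 3, 6, 2, 5]⟩, ⟨[24], 332, true, [3, 6, 4, 6, 5, 6, 2, 10, 5]⟩] []),
  (⟨false, 2, 2, [62, 48, 28, 41, 27, 32, 2, 23, 17, 6, 24], [58, 46, 30, 32, 16, 4, 16, 10, 21], [67, 54, 52, 34, 29, 41, 16, 16, 24, 18]⟩, .loop 31 2 [58, 44, 43, 57, 30, 32, 32, 17, 17, 23, 16] 2 3 [⟨[24], 416, false, [0, 4, 6, 4, 6, 5, 10, 5, 6, 5]⟩] [⟨[23, 24], 235, false, [3, 6, 1, 5, 6, 10, 5, 6, 2]⟩, ⟨[23], 417, false, [10, 5, 6, 2, 5, 6, 10, 5, 6]⟩]),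
  (⟨false, 2, 2, [62, 44, 48, 43, 36, 27, 27, 16, 4, 16, 13], [67, 44, 48, 52, 33, 35, 32, 19, 6, 17], [67, 48, 55, 31, 33, 38, 2, 23, 18]⟩, .loop 33 2 [46, 56, 34, 26, 29, 2, 17, 22, 16, 21] 4 5 [⟨[23], 321, true, [0, 2, 6, 4, 5, 3, 6, 5, 3]⟩, ⟨[23, 24], 358, false, [5, 6, 4, 5, 6, 5, 10, 5, 6]⟩] [⟨[], 376, true, [2, 6, 2, 5, 6, 4, 6, 5, 3]⟩]),
  (⟨false, 2, 5, [59, 44, 56, 46, 28, 30, 26, 2, 23, 6, 23], [59, 45, 50, 45, 34, 28, 37, 2, 16, 16, 16], [63, 44, 42, 45, 30, 32, 16, 16, 2, 4, 24]⟩, .loop 45 5 [59, 49, 51, 30, 37, 32, 2, 23, 13, 23, 6] 4 5 [⟨[], 460, false, [2, 4, 5, 6, 4, 5, 6, 5, 3]⟩, ⟨[27, 61, 30], 402, true, [2, 6, 1, 4, 6, 4, 5, 3, 6]⟩] []),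
  (⟨false, 2, 2, [60, 55, 47, 33, 38, 36, 17, 23, 23], [66, 48, 50, 30, 28, 34, 2, 17, 17, 17, 13], [59, 44, 42, 46, 28, 40, 30, 17, 22, 6, 22]⟩, .loop 69 2 [50, 46, 30, 38, 37, 16, 16, 10, 20] 2 3 [⟨[24], 379, false, [0, 3, 4, 5, 6, 10, 5, 6, 4, 10]⟩] [⟨[], 357, true, [6, 1, 4, 5, 6, 4, 6, 2, 10]⟩, ⟨[66, 66, 37, 37], 282, true, [1, 2, 6, 5, 6, 10, 5, 3]⟩]),
  (⟨false, 3, 2, [62, 51, 53, 38, 29, 2, 17, 23, 11, 11], [62, 50, 55, 28, 38, 29, 2, 17, 17, 17, 8], [62, 46, 46, 35, 31, 27, 16, 24, 17]⟩, .loop 17 5 [60, 44, 53, 56, 31, 32, 29, 2, 17, 23, 20, 24] 4 5 [⟨[38], 280, true, [6, 10, 5, 6, 4]⟩, ⟨[], 159, true, [0, 2, 3, 6, 2, 4, 5, 6, 5]⟩] [⟨[38, 66, 38], 452, true, [0, 4, 5, 3, 6, 4, 6, 4, 5, 3]⟩]),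
  (⟨false, 2, 2, [63, 55, 46, 30, 41, 27, 16, 16, 18], [66, 47, 44, 31, 35, 16, 18, 23, 6], [58, 56, 50, 28, 40, 31, 2, 23, 13]⟩, .loop 44 2 [66, 45, 52, 30, 35, 40, 28, 2, 23, 18, 6] 4 5 [⟨[24], 184, true, [0, 4, 10, 5, 6, 5]⟩, ⟨[30, 27], 319, false, [5, 3, 6, 2, 4, 5, 6, 2, 6]⟩] []),
  (⟨false, 2, 5, [59, 55, 47, 30, 27, 27, 2, 17, 17, 23], [61, 44, 47, 31, 28, 16, 16, 24, 21], [66, 48, 50, 30, 29, 40, 16, 16, 10, 21, 17]⟩, .loop 47 2 [60, 44, 42, 54, 34, 27, 28, 16, 11, 16, 8] 2 3 [⟨[23, 24, 23], 445, false, [6, 4, 6, 4, 5, 6]⟩] [⟨[23, 24, 23], 452, false, [2, 6, 5, 6, 2, 4, 5, 10]⟩]),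
  (⟨false, 2, 2, [62, 55, 47, 30, 28, 2, 17, 23, 18], [60, 44, 56, 46, 31, 33, 16, 24, 6], [62, 51, 47, 31, 27, 35, 2, 23, 23, 18, 6]⟩, .loop 47 2 [58, 47, 55, 41, 28, 16, 11] 4 5 [⟨[24], 395, false, [0, 4, 10, 5, 3, 6, 5, 6, 5, 3]⟩, ⟨[], 435, false, [0, 5, 3, 6, 2, 5, 6, 4, 5, 3]⟩] []),
  (⟨false, 2, 2, [61, 52, 44, 38, 30, 35, 2, 17, 23, 12, 24], [60, 44, 42, 48, 34, 27, 31, 16, 4, 16, 18], [63, 55, 47, 35, 36, 38, 16, 10, 18]⟩, .loop 46 2 [66, 52, 30, 41, 27, 2, 23, 23, 25] 2 3 [⟨[], 356, false, [4, 5, 6, 1, 10, 5, 6, 2, 10]⟩] [⟨[23, 24, 23], 442, true, [5, 6, 2, 4, 10, 5, 6, 2]⟩]),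
  (⟨false, 2, 2, [45, 42, 47, 31, 26, 30, 2, 23, 23, 23, 24], [66, 50, 30, 26, 36, 16, 11, 18, 17], [67, 50, 48, 33, 33, 16, 16, 16, 24]⟩, .loop 69 4 [66, 46, 48, 28, 26, 40, 16, 21, 17, 17] 4 5 [⟨[30, 29, 28], 326, true, [1, 2, 10, 5, 6, 4, 5, 3, 5]⟩, ⟨[63, 61, 63, 28, 61], 232, true, [5, 3, 6, 1, 4, 5, 6, 2, 10]⟩] [⟨[30, 63, 63, 61], 455, true, [5, 3, 6, 4, 6, 5, 3, 6, 5]⟩]),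
  (⟨false, 2, 5, [61, 51, 53, 28, 26, 31, 33, 2, 17, 17, 24], [66, 52, 33, 41, 16, 11, 16, 18], [44, 48, 52, 30, 27, 16, 10, 18]⟩, .loop 35 5 [59, 55, 49, 28, 34, 37, 16, 11, 16, 24] 6 7 [⟨[66, 38], 257, false, [1, 6, 2, 4, 6, 10, 5, 6, 4]⟩, ⟨[], 391, true, [2, 3, 5, 6, 5, 3, 5, 6, 5, 6]⟩, ⟨[66, 37], 361, false, [0, 4, 10, 5, 6, 10, 5]⟩] []),
  (⟨false, 2, 2, [62, 45, 34, 29, 41, 16, 24, 17, 6], [60, 44, 42, 46, 30, 40, 16, 4, 16, 25], [63, 49, 42, 31, 28, 30, 16, 4, 16, 11]⟩, .loop 66 2 [62, 51, 47, 28, 30, 28, 2, 23, 23, 10, 17] 6 7 [⟨[], 153, true, [2, 4, 6, 1, 5, 10, 5]⟩, ⟨[], 373, true, [1, 2, 3, 4, 6, 4, 5, 6, 2, 4]⟩, ⟨[23, 24], 246, true, [2, 3, 5, 6, 4]⟩] []),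
  (⟨false, 2, 2, [59, 55, 28, 41, 29, 16, 10, 16, 21], [59, 51, 52, 36, 26, 2, 23, 23, 18, 16], [62, 55, 28, 35, 41, 16, 16, 20, 8]⟩, .loop 45 2 [60, 48, 48, 30, 30, 37, 2, 17, 17, 13, 22] 4 5 [⟨[23], 221, false, [4, 6, 5, 3, 6, 4, 5, 6]⟩, ⟨[23], 382, false, [0, 10, 5, 6, 2, 4, 10, 5, 6, 2]⟩] []),
  (⟨false, 2, 2, [58, 51, 44, 28, 26, 37, 16, 16, 4, 24], [62, 44, 48, 43, 34, 26, 34, 2, 17, 23, 4], [66, 51, 31, 26, 40, 17, 17, 17, 24]⟩, .loop 69 2 [61, 46, 30, 40, 28, 16, 16, 18, 24] 2 3 [⟨[24], 234, false, [4, 5, 3, 6, 2, 6, 2, 4, 5, 10]⟩] [⟨[], 119, true, [1, 10, 5, 6, 5, 6]⟩, ⟨[22, 245, 21, 50], 164, false, [1, 5, 6, 4, 10, 5, 6, 2, 10, 5]⟩]),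
  (⟨false, 5, 2, [59, 48, 50, 28, 34, 31, 32, 16, 25], [58, 44, 42, 28, 26, 31, 33, 16, 16, 8, 21], [48, 53, 31, 33, 33, 16, 19, 22, 25]⟩, .loop 34 2 [58, 49, 49, 34, 37, 16, 4, 17] 2 3 [⟨[], 33, true, [6, 4, 6, 5, 3, 6, 2, 5]⟩] [⟨[23, 24, 23], 278, false, [2, 6, 1, 5, 10, 5]⟩, ⟨[37, 66, 37], 289, false, [1, 6, 2, 6, 2, 4, 10, 5, 6, 4]⟩]),
  (⟨false, 2, 2, [59, 45, 45, 28, 30, 26, 34, 16, 11, 16, 24], [63, 52, 50, 41, 29, 16, 21, 16, 20], [58, 55, 43, 40, 32, 16, 16, 20, 22]⟩, .loop 18 2 [59, 54, 46, 28, 26, 40, 2, 17, 23, 17, 8] 2 3 [⟨[23, 24], 462, false, [0, 6, 10, 5, 6, 10]⟩] [⟨[24], 399, true, [5, 3, 6, 1, 5, 3, 6, 2, 4]⟩, ⟨[23], 344, false, [0, 2, 6, 4, 6, 5, 6, 10, 5, 3, 6]⟩])]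

/-- facts 480 and on -/
def facts15 : List (Fact × Why) := [
  (⟨false, 2, 2, [58, 44, 49, 38, 35, 36, 2, 17, 23, 20, 13], [59, 48, 55, 34, 27, 38, 2, 17, 17, 10], [67, 45, 41, 29, 16, 4, 11]⟩, .loop 16 2 [62, 46, 49, 30, 28, 41, 16, 16, 2, 11, 12] 2 3 [⟨[24], 458, false, [6, 4, 10, 5, 6, 2, 5, 6, 4, 10]⟩] [⟨[24], 451, false, [2, 6, 4, 10, 5, 3, 6, 5]⟩, ⟨[66, 66], 255, false, [5, 6, 2, 6, 5, 6, 4, 10]⟩]),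
  (⟨false, 2, 2, [59, 47, 44, 30, 40, 28, 16, 16, 10, 10], [59, 50, 46, 28, 30, 34, 2, 17, 17, 0], [63, 44, 53, 56, 30, 30, 40, 17, 22, 6, 16]⟩, .loop 69 4 [63, 55, 49, 36, 29, 2, 23, 17, 0] 4 5 [⟨[30, 63], 103, true, [5, 3, 5, 6, 4, 6, 5, 10]⟩, ⟨[23], 428, false, [0, 4, 5, 3, 5, 6, 4, 6]⟩] [⟨[28, 61, 63], 160, false, [2, 3, 6, 1, 2, 4]⟩]),
  (⟨false, 4, 2, [60, 45, 56, 55, 28, 41, 38, 17, 23, 16, 11], [62, 44, 47, 47, 30, 32, 16, 16, 10, 16, 24], [63, 50, 45, 31, 34, 27, 2, 23, 6, 23]⟩, .loop 22 2 [59, 45, 43, 33, 36, 16, 18, 16, 22] 6 7 [⟨[23], 356, true, [6, 4, 6, 2, 6, 10, 5, 6, 5, 3]⟩, ⟨[], 252, true, [2, 3, 6, 5, 10, 5, 6, 5, 6]⟩, ⟨[24, 23], 113, false, [0, 2, 5, 3, 6, 4, 5, 6, 10, 5, 3]⟩] []),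
  (⟨false, 2, 2, [63, 45, 57, 35, 28, 32, 2, 16, 6, 17, 19], [48, 42, 31, 28, 41, 16, 18, 18, 22], [67, 47, 49, 56, 28, 30, 26, 16, 16, 2, 4, 24]⟩, .loop 30 2 [60, 49, 53, 38, 26, 16, 16, 10, 22] 6 7 [⟨[24], 358, false, [1, 2, 6, 4, 6, 2, 5, 6, 10]⟩, ⟨[24, 23], 331, true, [3, 5, 6, 10, 5, 6, 2, 4, 5, 10]⟩, ⟨[23], 316, true, [1, 2, 6, 5, 6, 2, 6, 2, 10]⟩] []),
  (⟨false, 2, 2, [59, 55, 47, 34, 26, 29, 16, 11, 23], [60, 50, 42, 28, 31, 27, 19, 6, 17, 17], [44, 46, 33, 30, 16, 2, 11]⟩, .loop 69 4 [66, 44, 48, 43, 36, 26, 16, 16, 2, 4, 23] 2 3 [⟨[28], 110, true, [6, 10, 5, 3, 6, 2, 4, 5, 6]⟩] [⟨[63, 30, 27], 232, true, [6, 4, 5, 6, 4, 5]⟩, ⟨[], 360, true, [5, 6, 4, 5, 3, 6, 5, 3]⟩]),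
  (⟨false, 2, 2, [61, 48, 50, 30, 38, 29, 16, 22, 22, 22], [63, 44, 47, 52, 36, 32, 31, 2, 17, 0, 17], [61, 44, 53]⟩, .loop 30 5 [62, 51, 57, 30, 29, 2, 17, 23, 18, 18] 4 5 [⟨[37], 140, true, [5, 3, 6, 1, 5, 10, 5, 6, 4, 6, 5]⟩, ⟨[23], 475, true, [3, 6, 4, 6, 4, 6, 2]⟩] [⟨[66, 66], 250, true, [3, 6, 1, 2, 6, 5, 3, 6, 4]⟩]),
  (⟨false, 2, 2, [46, 43, 33, 34, 30, 2, 23, 8, 17, 6], [63, 46, 48, 38, 30, 16, 24, 23, 23], [59, 55, 33, 28, 16, 16, 8]⟩, .loop 72 5 [45, 53, 30, 34, 16, 8, 22, 19] 4 5 [⟨[66], 124, false, [2, 3, 6, 4, 5, 6, 2, 5, 6]⟩, ⟨[23, 24], 483, true, [4, 6, 4, 6, 10, 5, 6, 5, 10]⟩] [⟨[66, 66, 38, 66, 38], 241, false, [2, 3, 4, 6, 1, 4, 5, 6, 4, 5]⟩]),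
  (⟨false, 2, 2, [60, 45, 52, 33, 29, 30, 2, 17, 17, 17, 20], [62, 48, 53, 35, 37, 2, 17, 23, 6], [66, 45, 42, 51, 28, 38, 31, 2, 17, 17, 25, 10]⟩, .loop 33 2 [60, 57, 55, 36, 32, 37, 17, 17, 23] 4 5 [⟨[24], 239, true, [1, 6, 4, 10, 5, 6, 2, 4]⟩, ⟨[21, 22, 22, 21], 305, false, [1, 4, 5, 6, 2, 6, 10, 5, 6]⟩] [⟨[], 249, true, [4, 5, 6, 2, 4, 5, 6, 2, 5]⟩]),
  (⟨false, 2, 2, [60, 46, 42, 51, 36, 32, 30, 16, 16, 4, 13], [66, 47, 44, 33, 31, 38, 2, 23, 18, 6, 22], [67, 44, 47, 30, 38, 31, 16, 16, 2, 4, 23]⟩, .loop 18 2 [59, 48, 45, 28, 31, 33, 2, 17, 17, 11, 22] 2 3 [⟨[], 382, false, [6, 5, 3, 6, 4, 6, 4]⟩] [⟨[23, 24, 23], 351, true, [4, 5, 6, 1, 4, 5, 3, 6, 4, 5]⟩, ⟨[], 390, false, [1, 2, 5, 6, 2, 10, 5, 6, 5, 6, 10]⟩]),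
  (⟨false, 2, 2, [58, 51, 52, 28, 35, 2, 23, 23, 10], [61, 45, 54, 28, 26, 38, 2, 17, 22, 6, 23], [67, 44, 46, 48, 30, 38, 17, 22, 6]⟩, .loop 48 2 [52, 49, 33, 40, 2, 23, 4, 19] 2 3 [⟨[24], 167, true, [2, 6, 1, 4, 10, 5, 6, 2, 6]⟩] [⟨[23, 24, 23], 369, true, [0, 2, 3, 4, 5, 6, 4, 5]⟩]),
  (⟨false, 2, 2, [66, 44, 42, 57, 28, 34, 36, 2, 23, 10, 17], [61, 46, 43, 41, 31, 2, 17, 17, 24, 17], [59, 51, 33, 35, 28, 2, 17, 18, 22, 11]⟩, .loop 73 2 [62, 48, 45, 30, 35, 29, 16, 16, 2] 4 5 [⟨[], 416, false, [2, 10, 5, 3, 6, 1, 5, 3]⟩, ⟨[23, 24], 378, true, [4, 6, 1, 2, 5, 6, 4, 6, 5]⟩] [⟨[24], 317, false, [4, 6, 2, 4, 10, 5, 6, 2, 6]⟩]),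
  (⟨false, 2, 2, [67, 52, 55, 28, 41, 34, 19, 6, 17, 22], [62, 44, 42, 57, 35, 30, 2, 23, 23, 16, 8], [60, 51, 55, 40, 32, 16, 8, 22]⟩, .loop 47 2 [62, 45, 53, 48, 38, 27, 2, 17, 23, 4, 6] 2 3 [⟨[], 408, false, [0, 10, 5, 6, 2, 5, 6, 10]⟩] [⟨[24, 23], 432, true, [2, 5, 3, 6, 2, 6, 5, 6]⟩]),
  (⟨false, 2, 2, [66, 46, 42, 51, 31, 33, 30, 16, 21, 16, 24], [61, 33, 34, 33, 16, 16, 11, 25], [61, 44, 46, 30, 28, 28, 2, 16, 6, 17]⟩, .loop 47 4 [60, 55, 46, 33, 28, 37, 18, 23, 23] 2 3 [⟨[], 455, true, [6, 4, 10, 5, 6, 2, 5, 6, 4]⟩] [⟨[63, 63, 29, 27], 402, true, [1, 6, 4, 6, 4, 5, 6, 2, 5, 10]⟩]),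
  (⟨false, 4, 2, [60, 48, 48, 28, 26, 40, 38, 16, 19, 22, 25], [47, 44, 28, 38, 29, 2, 17, 23], [61, 51, 49, 38, 26, 33, 2, 17, 23]⟩, .loop 69 2 [66, 45, 56, 31, 37, 35, 16, 4, 16, 19, 23] 2 3 [⟨[23], 103, false, [2, 3, 5, 6, 1, 4, 6, 2, 10, 5]⟩] [⟨[23], 260, true, [4, 10, 5, 3, 6, 2, 6, 2, 4, 5]⟩, ⟨[24, 23], 432, true, [1, 6, 2, 10, 5, 6, 5, 3]⟩]),
  (⟨false, 3, 2, [67, 44, 46, 44, 35, 28, 31, 16, 16, 2, 23], [67, 55, 49, 28, 34, 30, 29, 2, 23, 17, 2], [62, 44, 47, 52, 31, 35, 26, 16, 16, 10, 10]⟩, .loop 18 2 [63, 49, 57, 28, 35, 38, 2, 17, 17, 19, 10] 2 3 [⟨[23], 306, true, [6, 2, 6, 10, 5, 6, 2, 4]⟩] [⟨[23, 24], 465, true, [1, 10, 5, 6, 4, 6, 2, 5, 6]⟩, ⟨[24, 23], 398, false, [1, 3, 6, 4, 5, 6, 4, 5]⟩]),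
  (⟨false, 2, 2, [61, 44, 42, 46, 40, 38, 17, 17, 17, 10], [66, 44, 48, 28, 30, 26, 16, 2, 24, 6, 17], [62, 46, 44, 54, 33, 34, 40, 16, 10, 8]⟩, .loop 69 4 [66, 45, 57, 36, 27, 36, 2, 17, 23, 12, 18] 2 3 [⟨[], 366, true, [2, 5, 6, 10, 5, 6, 2, 6, 4]⟩] [⟨[29, 63, 28], 319, false, [1, 10, 5, 6, 2, 5, 6, 10, 5]⟩, ⟨[23], 365, true, [1, 10, 5, 6, 4, 5, 3, 6, 2, 5]⟩]),
  (⟨false, 2, 2, [57, 53, 34, 29, 36, 2, 17, 17, 17, 12], [67, 48, 43, 35, 35, 31, 16, 16, 18, 0], [62, 44, 48, 31, 29, 35, 2, 23, 17, 25, 21]⟩, .loop 23 2 [61, 47, 48, 33, 35, 41, 2, 17, 23, 23] 6 7 [⟨[23], 477, false, [6, 1, 2, 6, 5, 6, 4, 10, 5, 6]⟩, ⟨[24], 384, false, [2, 4, 6, 1, 10, 5, 3, 6, 5]⟩, ⟨[66, 66, 38, 37], 151, false, [1, 2, 6, 5, 3, 5, 6, 4, 5]⟩] []),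
  (⟨false, 2, 2, [67, 46, 46, 36, 27, 16, 16, 22, 11], [66, 44, 43, 57, 41, 30, 2, 23, 17, 6, 24], [67, 46, 42, 28, 34, 41, 2, 23, 6]⟩, .loop 67 2 [58, 28, 26, 38, 16, 16, 20, 13] 4 5 [⟨[23, 24, 23], 293, false, [0, 5, 10, 5, 6, 5, 10]⟩, ⟨[23], 309, false, [2, 4, 6, 1, 5, 6, 2, 6, 4]⟩] [⟨[23, 24], 414, true, [3, 4, 5, 6, 5, 3, 6, 2]⟩]),
  (⟨false, 2, 2, [63, 48, 44, 28, 26, 36, 16, 16, 24], [62, 44, 46, 44, 31, 41, 36, 16, 16, 2, 16], [63, 55, 35, 38, 16, 18, 16, 16]⟩, .loop 30 2 [67, 44, 47, 44, 30, 27, 28, 2, 17, 19, 22] 6 7 [⟨[], 355, false, [5, 6, 4, 5, 3, 6, 4, 6, 5, 6]⟩, ⟨[66, 38, 66, 66, 38], 242, true, [0, 6, 4, 10, 5, 3, 6, 2, 6]⟩, ⟨[23], 165, false, [4, 10, 5, 3, 6, 1, 4, 6, 5]⟩] []),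
  (⟨false, 2, 2, [66, 57, 53, 31, 36, 33, 16, 16, 2, 0], [46, 49, 28, 38, 26, 2, 17, 17, 18, 10], [66, 44, 47, 52, 28, 35, 32, 16, 2]⟩, .loop 30 2 [66, 45, 42, 47, 31, 28, 41, 16, 22] 4 5 [⟨[24, 23], 336, true, [0, 3, 5, 6, 5, 3, 5, 6, 2]⟩, ⟨[24, 23], 246, false, [1, 2, 4, 6, 4, 6, 10, 5, 3]⟩] [⟨[23, 24], 91, false, [5, 6, 1, 2, 6, 5, 6]⟩]),
  (⟨false, 5, 2, [63, 47, 47, 34, 27, 38, 2, 23, 17, 12], [47, 50, 38, 33, 40, 16, 25], [67, 44, 46, 57, 28, 26, 40, 16, 10, 17, 6]⟩, .loop 73 2 [58, 55, 43, 35, 35, 26, 16, 4, 17] 6 7 [⟨[24], 121, false, [1, 6, 4, 5, 6, 10, 5, 3]⟩, ⟨[23, 24], 384, false, [0, 4, 6, 10, 5, 3, 6]⟩, ⟨[66, 37, 37], 347, true, [2, 6, 5, 3, 6, 5, 3, 6, 2, 6]⟩] []),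
  (⟨false, 2, 2, [62, 44, 47, 52, 30, 28, 41, 2, 23, 13, 23, 6], [59, 57, 33, 34, 41, 16, 16, 24], [58, 45, 54, 31, 35, 29, 16, 18, 16]⟩, .loop 31 2 [50, 47, 35, 40, 31, 16, 18] 2 3 [⟨[], 373, false, [2, 3, 4, 5, 6, 2, 6, 5]⟩] [⟨[], 303, true, [0, 3, 4, 5, 6, 2, 10, 5, 6]⟩, ⟨[38], 451, true, [0, 4, 6, 2, 6, 4, 5, 3, 6, 5]⟩]),
  (⟨false, 2, 2, [58, 45, 50, 30, 38, 26, 17, 17, 23, 23], [58, 49, 57, 33, 35, 29, 16, 11, 16, 25], [63, 44, 42, 30, 38, 37, 16, 16, 19, 20]⟩, .loop 17 5 [63, 45, 45, 31, 32, 17, 22, 21] 4 5 [⟨[38], 80, true, [0, 2, 3, 6, 4, 5, 6, 2, 6, 2]⟩, ⟨[50, 50, 22, 245], 127, false, [6, 2, 6, 4, 5, 3]⟩] [⟨[66, 37, 37], 311, false, [5, 3, 5, 6, 4, 5, 6, 2, 6, 5]⟩]),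
  (⟨false, 2, 2, [67, 44, 43, 33, 31, 33, 16, 16, 21, 18], [66, 44, 42, 54, 36, 27, 27, 2, 17, 17, 22, 25], [50, 45, 41, 31, 16, 16, 20, 23]⟩, .loop 66 4 [51, 55, 38, 29, 19, 6, 17, 17] 2 3 [⟨[29], 455, true, [1, 2, 4, 10, 5, 3, 6, 2, 5]⟩] [⟨[63, 30, 28], 402, true, [2, 6, 1, 5, 6]⟩, ⟨[], 281, false, [2, 3, 4, 5, 6, 4, 5, 6, 4]⟩]),
  (⟨false, 2, 2, [60, 49, 31, 28, 2, 23, 18, 6], [61, 52, 48, 28, 41, 34, 2, 16, 6], [47, 33, 27, 34, 16, 16, 4, 18]⟩, .loop 46 2 [67, 50, 42, 34, 28, 37, 2, 17, 18] 4 5 [⟨[24], 255, true, [1, 2, 4, 6, 5, 10, 5, 6, 5, 10]⟩, ⟨[66, 37, 66, 37], 362, false, [5, 6, 5, 3, 6, 5, 6, 2]⟩] []),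
  (⟨false, 2, 2, [66, 48, 53, 28, 31, 35, 17, 23, 16, 10], [66, 50, 50, 34, 2, 17, 0], [66, 54, 46, 33, 35, 28, 16, 16, 8, 16, 20]⟩, .loop 29 2 [62, 48, 48, 30, 37, 27, 17] 6 7 [⟨[23], 115, false, [6, 5, 6, 4, 6, 5, 10, 5]⟩, ⟨[23, 24, 23], 478, true, [1, 2, 4, 10, 5, 3, 6, 4, 6]⟩, ⟨[66, 66, 38, 66], 280, true, [3, 4, 5, 6, 4, 5, 6, 5, 6]⟩] []),
  (⟨false, 2, 5, [59, 44, 46, 33, 27, 27, 16, 16, 19, 20], [58, 49, 57, 33, 31, 34, 2, 17, 19], [58, 44, 46, 57, 30, 28, 30, 16, 24, 16, 19]⟩, .loop 33 4 [62, 44, 42, 51, 30, 32, 30, 16, 4, 17] 4 5 [⟨[], 69, true, [1, 4, 6, 2, 6, 4, 10, 5, 6]⟩, ⟨[61, 61, 29], 482, false, [0, 5, 6, 5, 10, 5, 6, 2, 4]⟩] [⟨[61, 63, 63, 30], 75, false, [2, 3, 5, 6, 4, 5, 6, 5, 6]⟩]),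
  (⟨false, 2, 2, [44, 42, 48, 36, 32, 26, 2, 17, 17, 6, 23], [67, 44, 33, 38, 36, 16, 16, 4, 16], [59, 51, 44, 30, 32, 36, 2, 17, 23, 23]⟩, .loop 69 2 [60, 57, 31, 26, 2, 17, 17, 2] 2 3 [⟨[], 473, true, [2, 3, 6, 5, 6, 4, 6, 2, 4]⟩] [⟨[23], 118, true, [6, 4, 6, 10, 5, 6, 2, 5, 10]⟩, ⟨[23], 473, true, [1, 3, 6, 2, 4, 5, 6, 10]⟩]),
  (⟨false, 2, 5, [61, 46, 53, 30, 32, 16, 4, 16, 25], [66, 54, 46, 34, 37, 37, 16, 16, 2, 4], [62, 56, 50, 30, 35, 40, 16, 16, 2, 23]⟩, .loop 35 4 [50, 46, 28, 41, 35, 16, 2, 16, 2] 4 5 [⟨[61, 61], 59, true, [2, 3, 4, 5, 6, 5, 3, 6, 5]⟩, ⟨[44, 42, 42, 44, 52, 52, 52, 44], 97, false, [2, 4, 6, 1, 4, 10, 5, 6, 2, 4]⟩] [⟨[63, 27, 61, 61, 27], 460, true, [2, 3, 4, 5, 6, 5, 3, 6, 4]⟩]),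
  (⟨false, 2, 2, [61, 47, 47, 28, 40, 16, 11, 16, 22, 22], [60, 51, 52, 38, 35, 19, 6, 23, 18], [61, 48, 43, 30, 29, 2, 23, 8, 17, 6]⟩, .loop 18 4 [60, 44, 46, 30, 26, 34, 2, 23, 8, 23, 25] 2 3 [⟨[], 285, true, [1, 3, 5, 6, 2, 6, 2, 4, 10]⟩] [⟨[27, 61], 454, false, [4, 6, 1, 4, 5, 6, 2, 10, 5]⟩, ⟨[24], 392, false, [0, 2, 3, 4, 6, 4, 6, 4, 5, 6]⟩]),
  (⟨false, 2, 2, [59, 46, 48, 54, 31, 33, 30, 16, 16, 11, 25], [62, 46, 57, 34, 38, 16, 21, 16, 4], [63, 54, 44, 33, 30, 36, 16, 16, 16, 4]⟩, .loop 44 2 [62, 46, 57, 34, 38, 16, 16, 24, 21] 4 5 [⟨[], 376, true, [6, 1, 4, 10, 5, 6, 4, 5]⟩, ⟨[], 477, true, [2, 5, 3, 6, 4, 6, 2, 6, 4]⟩] []),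
  (⟨false, 2, 2, [59, 47, 49, 35, 31, 34, 2, 17, 17, 13, 17], [60, 51, 53, 38, 31, 2, 17, 17, 6, 24], [45, 52, 30, 35, 19, 6, 17, 19]⟩, .loop 20 2 [67, 44, 53, 56, 31, 28, 36, 2, 23, 17, 22, 11] 2 3 [⟨[], 145, false, [1, 3, 5, 6, 5, 3, 5, 6, 4]⟩] [⟨[23, 24], 365, true, [2, 3, 6, 5, 6]⟩, ⟨[24], 375, false, [1, 2, 5, 6, 5, 6, 10, 5, 6, 5]⟩])]

/-- facts 512 and on -/
def facts16 : List (Fact × Why) := [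
  (⟨false, 2, 2, [66, 44, 42, 38, 32, 35, 16, 11, 16, 2], [47, 55, 36, 27, 35, 2, 23, 17, 8, 21], [61, 55, 49, 31, 32, 30, 2, 23, 23, 10]⟩, .loop 66 2 [63, 44, 51, 48, 40, 28, 40, 16, 4, 16, 19, 23] 4 5 [⟨[23], 146, false, [1, 3, 6, 5, 6, 10, 5, 3, 6, 5, 3]⟩, ⟨[61, 63, 30, 61, 28], 180, false, [0, 3, 6, 5, 6, 2, 4, 6, 10]⟩] [⟨[23], 211, true, [1, 10, 5, 6, 4, 6, 5, 3, 6, 2]⟩]),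
  (⟨false, 2, 2, [63, 50, 55, 31, 34, 33, 2, 17, 23, 11, 11], [67, 48, 44, 33, 41, 16, 16, 8, 22], [63, 48, 46, 34, 31, 35, 16, 10, 16, 24]⟩, .loop 66 2 [58, 48, 46, 31, 37, 2, 23, 23, 8, 18] 6 7 [⟨[], 450, true, [4, 6, 2, 6, 4, 10, 5, 6]⟩, ⟨[23], 427, true, [0, 4, 10, 5, 3, 6, 5, 6, 2, 6]⟩, ⟨[24], 376, false, [3, 6, 4, 5, 3, 6, 5, 3, 6]⟩] []),
  (⟨false, 2, 2, [47, 50, 28, 35, 40, 16, 2, 19, 22], [66, 46, 51, 55, 36, 27, 36, 16, 4, 16, 25], [67, 50, 33, 18]⟩, .loop 69 2 [62, 48, 53, 28, 30, 41, 41, 2, 16, 16, 22] 2 3 [⟨[], 290, true, [1, 4, 5, 6, 2, 4, 5, 3, 6]⟩] [⟨[24], 222, false, [0, 10, 5, 6, 4, 10, 5, 6]⟩, ⟨[], 471, false, [4, 6, 2, 6, 5, 6, 5, 10, 5, 6]⟩]),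
  (⟨false, 2, 5, [44, 42, 45, 31, 35, 38, 16, 11, 11, 16], [58, 51, 53, 31, 33, 34, 16], [61, 44, 42, 54, 36, 30, 2, 17, 17, 18]⟩, .loop 19 5 [62, 54, 56, 38, 34, 16, 4, 16, 18] 2 3 [⟨[66], 270, false, [1, 2, 3, 5, 6, 4, 5, 3, 6, 2, 6]⟩] [⟨[66, 66, 38, 66, 37], 348, false, [1, 2, 3, 5, 6, 2, 6, 4, 10, 5, 3]⟩, ⟨[23], 453, false, [0, 3, 5, 6, 4, 6, 5, 3, 5, 6]⟩]),
  (⟨false, 2, 2, [60, 54, 31, 29, 27, 16, 11, 16], [59, 49, 53, 33, 34, 38, 2, 17, 23, 23, 4], [61, 47, 53, 41, 38, 16, 16, 2, 4, 24]⟩, .loop 23 2 [63, 45, 49, 36, 2, 23, 6, 19] 2 3 [⟨[], 351, true, [1, 4, 6, 2, 6, 4, 5, 6, 10]⟩] [⟨[24], 177, true, [4, 6, 2, 6, 10, 5, 6, 5]⟩, ⟨[], 234, true, [1, 3, 5, 6, 2, 5]⟩]),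
  (⟨false, 2, 2, [49, 46, 28, 36, 40, 16, 16, 10, 20], [61, 48, 56, 36, 34, 2, 16, 16, 6, 23], [63, 55, 33, 38, 36, 2, 17, 17, 0, 8]⟩, .loop 45 2 [58, 47, 47, 30, 30, 34, 2, 23, 23, 8, 17] 2 3 [⟨[23, 24, 23], 440, true, [0, 2, 5, 6, 4, 6, 10, 5, 3, 6, 2]⟩] [⟨[], 221, false, [4, 6, 5, 6, 4, 5, 3]⟩]),
  (⟨false, 2, 5, [54, 50, 28, 30, 38, 16, 18, 24, 6], [66, 44, 46, 48, 30, 41, 16, 16, 2, 11], [67, 47, 51, 31, 35, 38, 2, 16, 6, 17, 19]⟩, .loop 49 5 [66, 44, 46, 48, 30, 41, 16, 16, 2] 4 5 [⟨[66, 37, 38], 241, false, [2, 5, 6, 4, 6, 2, 6, 10, 5]⟩, ⟨[23, 24, 23], 440, true, [3, 4, 5, 3, 6, 5, 3, 6, 2]⟩] []),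
  (⟨false, 2, 2, [60, 55, 49, 30, 37, 32, 2, 23, 8, 23, 21], [58, 50, 31, 34, 41, 2, 17, 17, 17, 12], [63, 44, 49, 31, 36, 2, 17, 23, 23, 8]⟩, .loop 44 2 [63, 48, 55, 33, 35, 2, 17, 17, 10, 17] 4 5 [⟨[23, 24], 486, false, [3, 6, 1, 4, 5, 10, 5, 6, 4]⟩, ⟨[24, 23], 513, true, [4, 6, 4, 5, 3, 6, 5, 6]⟩] []),
  (⟨false, 2, 2, [61, 48, 57, 31, 26, 2, 16, 6, 17, 19], [59, 44, 49, 28, 40, 18], [62, 45, 50, 36, 33, 16, 16, 2, 24]⟩, .loop 31 2 [62, 51, 49, 36, 40, 16, 18, 18] 2 3 [⟨[23], 161, true, [0, 6, 4, 5, 3, 5, 6, 5, 3, 5]⟩] [⟨[23], 109, false, [0, 10, 5, 6, 4, 6, 2, 6, 5]⟩, ⟨[23, 24], 216, true, [0, 4, 5, 3, 6, 5, 6, 2, 10, 5]⟩]),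
  (⟨false, 5, 2, [66, 44, 51, 46, 38, 28, 31, 2, 17, 0, 23, 20], [60, 50, 46, 28, 30, 2, 23, 23, 18, 6], [62, 54, 47, 41, 28, 32, 2, 17, 25, 6]⟩, .loop 49 2 [63, 44, 47, 52, 30, 26, 35, 16, 2] 2 3 [⟨[], 278, false, [2, 3, 6, 1, 5, 3, 6]⟩] [⟨[23, 24], 392, false, [0, 6, 5, 3, 6, 2, 6, 5, 10]⟩]),
  (⟨false, 2, 2, [58, 46, 56, 28, 30, 35, 2, 17, 23], [59, 48, 55, 40, 30, 27, 16, 11, 16, 25], [59, 45, 50, 42, 41, 27, 16, 10, 16, 25]⟩, .loop 21 2 [59, 44, 47, 52, 28, 40, 33, 2, 17, 22, 22] 2 3 [⟨[23], 512, false, [6, 5, 3, 5, 6, 2, 4, 5]⟩] [⟨[23, 24, 23], 242, false, [5, 3, 6, 2, 6, 2, 4, 5, 6]⟩, ⟨[66, 66, 38, 66, 38], 303, false, [0, 3, 6, 5, 3, 6, 5, 6, 4, 6]⟩]),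
  (⟨false, 2, 2, [44, 43, 53, 34, 28, 2, 23], [60, 44, 43, 41, 26, 2, 23, 4, 6, 17], [61, 45, 57, 30, 26, 31, 16, 2, 19, 6]⟩, .loop 31 3 [62, 45, 54, 45, 28, 31, 27, 31, 16, 16, 18, 20] 2 3 [⟨[], 213, false, [1, 2, 4, 6, 2, 5, 6]⟩] [⟨[245, 50, 22, 50, 22], 305, false, [1, 3, 5, 6, 4, 5, 10, 5, 6, 2, 6]⟩, ⟨[23, 24], 480, false, [6, 2, 4, 5, 6, 10, 5, 6, 2]⟩]),
  (⟨false, 4, 2, [58, 45, 56, 50, 30, 35, 40, 16, 16, 24, 17], [62, 47, 55, 28, 41, 31, 2, 17, 22, 16], [44, 57, 35, 30, 36, 17, 23, 17, 17]⟩, .loop 29 2 [61, 48, 55, 28, 30, 28, 16, 16, 11, 18, 23] 4 5 [⟨[23], 203, true, [2, 6, 2, 5, 6, 10, 5, 6, 4]⟩, ⟨[24, 23], 232, false, [3, 4, 5, 6, 2, 5, 6, 4, 10]⟩] [⟨[23], 209, false, [6, 5, 6, 4, 6, 5, 6]⟩]),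
  (⟨false, 5, 2, [44, 48, 28, 30, 27, 31, 2, 23, 17, 17, 19], [58, 51, 46, 28, 35, 31, 2, 23, 11], [44, 42, 48, 31, 36, 35, 16, 16, 10, 13]⟩, .loop 46 2 [59, 45, 42, 51, 28, 36, 2, 16, 16, 6, 25] 2 3 [⟨[23], 287, false, [0, 2, 6, 5, 6, 10, 5, 3, 6, 5, 10]⟩] [⟨[23, 24], 393, true, [1, 10, 5, 3, 6, 4, 5, 6, 5, 10]⟩]),
  (⟨false, 2, 5, [66, 44, 53, 36, 31, 31, 16, 16, 2, 20], [66, 44, 42, 46, 28, 30, 32, 17, 22, 21], [63, 50, 55, 30, 26, 30, 19, 6, 17, 19]⟩, .loop 70 5 [59, 44, 53, 28, 38, 29, 16, 4, 16, 16, 12] 6 7 [⟨[], 215, false, [0, 4, 5, 3, 6, 5, 6, 2, 5, 3, 6]⟩, ⟨[], 418, true, [1, 3, 5, 6, 2, 6, 2, 4, 5]⟩, ⟨[23, 24, 23], 224, true, [0, 2, 3, 6, 5, 6, 4, 6, 5]⟩] []),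
  (⟨false, 2, 2, [67, 44, 42, 47, 41, 30, 37, 17, 17, 22, 21], [62, 46, 51, 28, 30, 37, 16, 16, 20, 19], [58, 46, 48, 30, 30, 40, 16, 16, 8, 22]⟩, .loop 31 2 [63, 48, 55, 36, 28, 38, 2, 17, 22, 18, 23] 4 5 [⟨[], 346, false, [6, 1, 4, 5, 3, 6, 2, 4]⟩, ⟨[24], 479, false, [2, 5, 6, 2, 6, 4, 10, 5, 3, 6]⟩] [⟨[24], 389, true, [6, 5, 3, 6, 4, 5, 6, 10, 5, 6, 4]⟩]),
  (⟨false, 2, 2, [59, 46, 43, 33, 34, 30, 16, 16, 8, 18], [63, 49, 53, 31, 37, 37, 2, 23, 23, 23, 24], [62, 48, 42, 28, 31, 28, 16, 8, 17, 6]⟩, .loop 49 2 [45, 53, 48, 36, 26, 26, 2, 23, 8, 23, 17] 4 5 [⟨[], 343, true, [5, 6, 4, 6, 4, 5, 6, 2, 6]⟩, ⟨[66, 38, 37, 66], 353, true, [4, 5, 6, 2, 4, 5, 6, 2, 10]⟩] []),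
  (⟨false, 5, 2, [59, 47, 52, 2, 23, 23, 4, 23], [60, 52, 55, 30, 27, 30, 2, 17, 0, 17, 25], [66, 44, 47, 44, 41, 30, 28, 16, 4, 11]⟩, .loop 29 2 [61, 51, 46, 28, 30, 41, 41, 2, 17, 22, 18] 2 3 [⟨[24], 381, false, [0, 4, 5, 3, 6, 5, 6, 5, 3]⟩] [⟨[23, 24], 440, false, [6, 1, 10, 5, 6, 2, 4, 10, 5]⟩, ⟨[23, 24, 23], 346, true, [0, 5, 6, 2, 5, 3, 6, 4, 5, 6]⟩]),
  (⟨false, 2, 2, [61, 44, 57, 34, 27, 41, 2, 16, 6], [62, 45, 54, 35, 35, 26, 16, 24, 18], [60, 45, 49, 34, 16, 19, 22]⟩, .loop 47 5 [45, 53, 48, 31, 35, 27, 2, 17, 23, 4, 6] 2 3 [⟨[38], 443, false, [1, 2, 6, 2, 10, 5, 6, 2, 4]⟩] [⟨[66, 66, 37, 37, 66], 250, true, [2, 6, 2, 4, 5, 6, 4, 10]⟩]),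
  (⟨false, 2, 2, [59, 46, 42, 51, 36, 27, 40, 16, 16, 2, 0], [61, 44, 48, 28, 30, 30, 2, 17, 22, 16, 21], [58, 48, 56, 40, 35, 26, 16, 16, 20, 18]⟩, .loop 68 2 [61, 44, 48, 30, 28, 33, 2, 17, 0, 17] 2 3 [⟨[], 262, true, [6, 5, 3, 5, 6, 2, 6, 4, 5]⟩] [⟨[], 332, true, [0, 6, 4, 5, 3, 6, 5, 6, 2, 4, 10]⟩, ⟨[24, 23], 378, true, [4, 5, 6, 5, 6, 4, 6, 10]⟩]),
  (⟨false, 2, 2, [63, 48, 47, 36, 31, 16, 16, 22, 25], [61, 44, 57, 55, 30, 29, 27, 2, 23, 23, 17], [60, 46, 53, 30, 27, 27, 2, 16, 6, 17]⟩, .loop 22 2 [66, 44, 46, 44, 31, 33, 30, 16, 2, 19] 2 3 [⟨[23, 24, 23], 473, false, [0, 3, 5, 3, 6, 2, 6, 4, 5]⟩] [⟨[24], 435, true, [1, 2, 6, 2, 5, 6, 4]⟩, ⟨[], 513, true, [6, 1, 5, 3, 5, 6]⟩]),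
  (⟨false, 2, 2, [61, 47, 55, 38, 35, 36, 2, 17, 17, 25, 10], [66, 55, 28, 34, 36, 2, 23, 17, 6, 24], [58, 48, 48, 41, 33, 16, 8, 17, 23, 8]⟩, .loop 45 2 [66, 44, 42, 51, 34, 27, 29, 16, 16, 4, 23] 4 5 [⟨[23, 24, 23], 446, false, [1, 4, 5, 6, 10, 5, 3, 6, 5, 10]⟩, ⟨[24], 520, true, [10, 5, 6, 1, 4, 6]⟩] []),
  (⟨false, 5, 2, [62, 44, 51, 28, 40, 31, 2, 17, 22], [46, 49, 28, 40, 28, 16, 11, 16, 4], [47, 51, 35, 29, 36, 16, 16, 11, 24]⟩, .loop 20 2 [61, 50, 47, 28, 31, 34, 17, 23, 23, 19] 2 3 [⟨[23], 348, true, [0, 6, 2, 5, 3, 6, 4, 6, 5, 3]⟩] [⟨[], 453, false, [1, 3, 6, 4, 5, 3, 6, 2, 5, 6]⟩, ⟨[37, 66], 93, true, [2, 4, 6, 1, 4, 5, 6, 10]⟩]),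
  (⟨false, 2, 2, [63, 45, 49, 33, 27, 34, 2, 17, 22, 18], [45, 52, 36, 35, 35, 16, 22, 19, 22], [58, 44, 42, 57, 28, 30, 27, 31, 2, 17, 17, 13, 23]⟩, .loop 71 2 [67, 44, 42, 54, 36, 30, 16, 11, 16, 11] 4 5 [⟨[], 318, true, [0, 4, 6, 5, 6, 2, 6, 4, 10]⟩, ⟨[24, 23], 463, false, [5, 3, 6, 4, 6, 5, 10, 5, 6]⟩] [⟨[23], 189, true, [0, 6, 4, 10, 5, 6, 4, 6, 2, 10]⟩]),
  (⟨false, 2, 2, [61, 52, 49, 30, 38, 32, 2, 23, 23, 21], [62, 45, 48, 33, 41, 29, 2, 23, 23, 11, 16], [60, 44, 55, 52, 38, 34, 16, 4]⟩, .loop 71 5 [60, 44, 46, 57, 30, 34, 34, 16, 16, 8] 2 3 [⟨[37, 66, 38], 301, false, [0, 6, 2, 6, 10, 5, 6, 2, 4]⟩] [⟨[66, 37, 66, 37], 357, false, [0, 3, 4, 6, 2, 6, 5, 6, 10]⟩, ⟨[23, 24], 419, true, [0, 4, 6, 2, 6, 2, 4, 5, 3, 6]⟩]),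
  (⟨false, 5, 2, [58, 51, 44, 33, 34, 26, 16, 16, 4, 6], [60, 45, 48, 28, 40, 26, 2, 23, 10, 23, 18], [67, 48, 43, 38, 33, 16, 24, 23, 23]⟩, .loop 31 2 [60, 45, 48, 33, 27, 31, 2, 17, 17, 22, 16] 6 7 [⟨[23], 514, true, [0, 2, 6, 5, 3, 6, 2, 6, 4, 6, 5]⟩, ⟨[23, 24], 351, true, [3, 5, 6, 1, 5, 3]⟩, ⟨[24], 391, true, [1, 2, 3, 5, 6, 2, 6, 4]⟩] []),
  (⟨false, 2, 2, [55, 49, 34, 41, 41, 2, 17, 23, 12, 18], [63, 47, 55, 30, 41, 29, 2, 17, 17, 8], [60, 44, 31, 29, 35, 16, 4, 16, 16, 13]⟩, .loop 32 2 [67, 47, 48, 28, 34, 31, 32, 2, 23, 17, 25, 12] 4 5 [⟨[], 454, true, [3, 4, 5, 6, 2, 6, 10, 5, 3]⟩, ⟨[61, 29, 63, 61], 385, false, [0, 4, 10, 5, 6, 4, 5, 6, 5, 10]⟩] [⟨[24, 23], 437, false, [3, 6, 1, 2, 6, 5, 6, 2, 6, 10]⟩]),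
  (⟨false, 2, 2, [44, 56, 36, 32, 37, 2, 23, 23, 19], [63, 49, 45, 34, 29, 2, 17, 17, 6, 13], [62, 44, 48, 43, 31, 26, 26, 16, 22]⟩, .loop 22 2 [58, 44, 43, 30, 28, 41, 2, 17, 17, 13] 6 7 [⟨[23, 24], 226, false, [3, 6, 2, 5, 6, 4, 6, 5, 6]⟩, ⟨[66, 66, 37, 37, 66], 271, true, [2, 6, 2, 6, 4, 5, 6, 5, 3]⟩, ⟨[24, 23], 396, false, [0, 4, 6, 2, 6, 10, 5, 3, 6]⟩] []),
  (⟨false, 2, 2, [58, 46, 51, 55, 40, 35, 26, 16, 16, 24, 17], [59, 45, 43, 45, 31, 41, 16, 16, 4, 11], [63, 55, 42, 38, 36, 16, 10]⟩, .loop 47 2 [60, 46, 53, 34, 31, 31, 2, 16, 6, 17, 19] 2 3 [⟨[23], 350, false, [2, 6, 4, 6, 4]⟩] [⟨[], 514, true, [1, 4, 5, 6, 4, 10, 5, 6, 2, 5]⟩]),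
  (⟨false, 2, 2, [67, 47, 49, 33, 35, 32, 16, 16, 20, 17], [59, 48, 57, 30, 28, 30, 17, 23, 16, 22], [59, 44, 51, 48, 30, 38, 29, 16, 16, 4, 8]⟩, .loop 48 5 [58, 47, 49, 56, 36, 30, 40, 16, 16, 8, 22, 22] 2 3 [⟨[], 266, true, [3, 6, 1, 2, 5, 6, 10, 5, 10]⟩] [⟨[38, 37], 215, false, [1, 4, 5, 3, 6, 4, 6, 4, 5, 3]⟩]),
  (⟨false, 5, 2, [61, 45, 54, 56, 28, 34, 34, 2, 17, 22, 16, 2], [62, 44, 55, 34, 37, 16, 16, 11, 19], [49, 34, 27, 41, 16, 4, 16, 10, 21]⟩, .loop 33 2 [60, 44, 43, 36, 40, 37, 2, 17, 23, 23, 19] 2 3 [⟨[24], 329, false, [1, 4, 6, 4, 5, 6, 2, 4, 10, 5]⟩] [⟨[24], 338, false, [2, 10, 5, 6, 1, 2, 5, 10]⟩, ⟨[], 278, true, [0, 2, 4, 6, 5, 3, 5, 6, 5, 3]⟩]),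
  (⟨false, 2, 2, [62, 49, 45, 28, 26, 31, 33, 2, 16, 6, 17], [62, 49, 44, 34, 36, 35, 2, 23, 17, 22, 4], [60, 47, 48, 28, 36, 33, 17, 22, 6]⟩, .loop 70 2 [59, 45, 56, 50, 38, 37, 2, 23, 17, 24] 4 5 [⟨[23], 396, true, [0, 4, 10, 5, 6, 4, 5, 10]⟩, ⟨[24], 426, false, [2, 6, 5, 10, 5, 6, 2, 5]⟩] [⟨[23, 24, 23], 373, true, [1, 6, 4, 6, 5, 6, 10, 5, 10]⟩])]

/-- facts 544 and on -/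
def facts17 : List (Fact × Why) := [
  (⟨false, 2, 2, [61, 44, 57, 49, 33, 30, 36, 16, 11, 16, 2], [47, 50, 34, 36, 31, 16, 16, 19, 17], [59, 55, 42, 28, 30, 36, 16, 19, 6, 23]⟩, .loop 18 2 [67, 51, 42, 35, 35, 41, 16, 16, 25, 16] 6 7 [⟨[], 180, true, [6, 5, 3, 6, 4, 6, 5, 10]⟩, ⟨[30, 27, 63], 176, true, [4, 6, 2, 5, 6, 2, 6, 10]⟩, ⟨[23], 540, false, [1, 4, 5, 3, 5, 6, 4, 5, 6, 5]⟩] []),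
  (⟨false, 2, 2, [62, 45, 43, 45, 30, 28, 16, 16, 20, 11], [47, 50, 41, 38, 16, 8], [63, 55, 47, 30, 26, 30, 2, 23, 23, 0]⟩, .loop 18 2 [44, 55, 50, 30, 34, 34, 16, 4, 17] 6 7 [⟨[24], 92, true, [0, 2, 4, 6, 4, 6, 4, 6, 10]⟩, ⟨[63, 61, 28, 63], 524, false, [0, 3, 6, 5, 6, 2, 6, 4, 10, 5]⟩, ⟨[24, 23], 447, true, [5, 6, 1, 4, 6, 5, 6, 2]⟩] []),
  (⟨false, 2, 2, [61, 44, 43, 53, 28, 31, 35, 16, 24, 16, 25], [58, 49, 56, 31, 28, 16, 16, 21, 18], [59, 54, 44, 34, 17, 23, 16, 22]⟩, .loop 68 2 [63, 44, 56, 30, 32, 34, 16, 16, 21, 22] 4 5 [⟨[23, 24, 23], 188, false, [3, 5, 6, 10, 5, 6, 2, 4, 5]⟩, ⟨[27, 61], 92, false, [4, 10, 5, 6, 5, 3, 5, 6, 4]⟩] [⟨[23, 24], 412, true, [10, 5, 6, 5, 10, 5, 6, 2]⟩]),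
  (⟨false, 2, 2, [66, 46, 42, 51, 28, 40, 36, 2, 17, 22, 16, 2], [58, 50, 45, 31, 33, 31, 2, 17, 23, 11, 25], [59, 48, 55, 40, 30, 27, 16, 16, 2, 21]⟩, .loop 70 2 [66, 46, 48, 54, 31, 37, 35, 16, 16, 19, 20] 4 5 [⟨[24], 489, false, [6, 10, 5, 6, 2, 4, 10]⟩, ⟨[24], 473, false, [3, 4, 6, 1, 2, 5, 6, 4]⟩] [⟨[23, 24, 23], 486, false, [0, 3, 4, 6, 2, 5, 6, 2, 5, 10]⟩]),
  (⟨false, 2, 2, [66, 46, 48, 31, 34, 30, 2, 17, 23, 20, 6], [62, 57, 55, 41, 31, 17, 23, 17, 22], [67, 47, 47, 52, 31, 29, 27, 2, 23, 23, 0]⟩, .loop 22 2 [47, 54, 33, 31, 33, 16, 10, 16, 10] 4 5 [⟨[24, 23], 446, false, [1, 3, 4, 5, 6, 4, 6, 4, 5, 10]⟩, ⟨[], 398, true, [5, 10, 5, 6, 1, 4, 6, 5, 3, 6]⟩] [⟨[23], 225, false, [0, 2, 3, 5, 6, 2, 4, 10, 5]⟩]),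
  (⟨false, 2, 2, [66, 47, 47, 52, 36, 26, 16, 24, 23, 16], [60, 50, 48, 31, 36, 2, 16, 16, 22], [59, 45, 42, 49, 30, 37, 33, 2, 17, 17, 19, 10]⟩, .loop 47 2 [58, 47, 47, 28, 34, 28, 16, 4, 16, 2, 11] 2 3 [⟨[24], 350, true, [6, 5, 10, 5, 6, 5, 3, 6, 2, 4]⟩] [⟨[23, 24, 23], 535, false, [10, 5, 3, 6, 4, 6, 5]⟩]),
  (⟨false, 2, 2, [66, 57, 53, 41, 26, 2, 17, 25, 17], [61, 50, 50, 30, 30, 35, 2, 17, 17, 17, 8], [63, 51, 53, 31, 28, 16, 16, 20, 25]⟩, .loop 22 2 [67, 44, 48, 41, 28, 16, 2, 10] 4 5 [⟨[23], 511, false, [4, 5, 3, 6, 2, 6, 2, 4]⟩, ⟨[24], 382, false, [2, 6, 10, 5, 6, 2, 10]⟩] [⟨[23], 375, true, [4, 10, 5, 6, 4, 5, 6, 4, 5]⟩]),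
  (⟨false, 4, 5, [58, 49, 46, 36, 28, 34, 16, 16, 2, 25], [67, 49, 46, 33, 31, 16, 16, 25, 18], [58, 44, 42, 57, 30, 16, 16, 2, 4, 11]⟩, .loop 31 2 [62, 44, 42, 51, 36, 40, 37, 16, 16, 8, 21] 4 5 [⟨[], 205, true, [0, 2, 10, 5, 6, 5, 10]⟩, ⟨[], 90, true, [3, 6, 5, 3, 6, 5, 6, 4]⟩] [⟨[23], 98, true, [6, 1, 4, 5, 10, 5, 6, 5]⟩]),
  (⟨false, 2, 2, [63, 47, 53, 30, 28, 34, 16, 19, 6, 16], [66, 47, 49, 30, 29, 35, 2, 17, 23, 12, 24], [61, 52, 48, 38, 30, 35, 2, 23, 8, 23, 17]⟩, .loop 22 2 [59, 44, 43, 31, 29, 32, 18, 23, 17, 23] 4 5 [⟨[24], 350, false, [0, 10, 5, 6, 2, 6, 5, 3, 6]⟩, ⟨[], 462, false, [6, 1, 2, 4, 6]⟩] [⟨[24], 209, true, [3, 6, 4, 6, 4, 6]⟩]),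
  (⟨false, 2, 2, [62, 46, 42, 51, 31, 29, 35, 2, 23, 17, 8, 21], [63, 45, 49, 28, 31, 34, 16, 4, 16, 8], [61, 44, 57, 30, 41, 34, 16, 11, 23, 23]⟩, .loop 33 6 [58, 50, 42, 28, 36, 2, 17, 17, 25, 12] 2 3 [⟨[42, 44], 97, false, [0, 2, 4, 5, 6, 5, 6, 2, 6, 4]⟩] [⟨[52, 44, 42, 42, 52, 42, 42, 42], 97, false, [2, 5, 3, 6, 1, 4, 6, 4]⟩, ⟨[], 212, false, [4, 6, 2, 5, 6, 4, 10]⟩]),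
  (⟨false, 2, 2, [66, 54, 44, 34, 31, 37, 16, 16, 16, 19], [61, 48, 36, 35, 35, 2, 17, 23, 18, 18], [58, 47, 44, 51, 30, 27, 36, 2, 17, 17, 22]⟩, .loop 44 5 [59, 47, 49, 56, 35, 31, 32, 2, 17, 23, 4, 21] 2 3 [⟨[38], 226, true, [2, 3, 6, 4, 5, 10, 5, 6, 4]⟩] [⟨[66, 38], 362, false, [0, 2, 3, 6, 4, 5, 6, 2, 4, 10]⟩]),
  (⟨false, 3, 2, [59, 45, 42, 49, 34, 26, 34, 17, 23, 16, 10], [60, 48, 43, 36, 31, 31, 16, 16, 25], [66, 48, 57, 28, 34, 38, 16, 16, 4, 18]⟩, .loop 23 2 [58, 45, 45, 28, 35, 31, 41, 2, 17, 17, 24, 23] 2 3 [⟨[23], 119, true, [0, 10, 5, 6, 4, 10, 5, 6, 2, 6, 2]⟩] [⟨[23], 410, true, [0, 1, 5]⟩, ⟨[66, 66, 38, 37], 303, false, [0, 3, 5, 6, 2, 4, 6, 10, 5]⟩]),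
  (⟨false, 2, 2, [67, 48, 50, 30, 27, 27, 17, 17, 23, 23], [67, 45, 54, 28, 35, 31, 41, 16, 21, 16, 11], [67, 48, 48, 31, 35, 38, 2, 17, 17, 17, 2]⟩, .loop 29 5 [44, 46, 44, 30, 40, 33, 2, 16, 16, 6] 2 3 [⟨[37, 38], 289, false, [6, 2, 10, 5, 6, 2, 4, 5, 3]⟩] [⟨[38, 66], 98, false, [1, 4, 6, 5, 3, 6, 2]⟩, ⟨[23], 286, true, [0, 2, 4, 5, 3, 6, 5, 3, 6]⟩]),
  (⟨false, 2, 2, [66, 55, 38, 32, 35, 2, 23, 13], [59, 48, 50, 35, 28, 40, 16, 16, 21, 24], [61, 50, 46, 33, 38, 16, 11, 16, 11, 19]⟩, .loop 30 2 [61, 50, 55, 35, 35, 35, 2, 17, 22, 16, 16] 6 7 [⟨[23, 24], 210, false, [4, 10, 5, 6, 10, 5, 6, 2, 6]⟩, ⟨[38, 37, 66], 238, true, [0, 6, 2, 6, 4, 5, 6, 10, 5, 3]⟩, ⟨[23, 24], 472, false, [2, 4, 6, 4, 6, 4, 5, 6, 10, 5]⟩] []),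
  (⟨false, 2, 2, [60, 55, 49, 31, 27, 2, 16, 16, 16], [60, 51, 55, 30, 30, 30, 16, 19, 22, 25], [66, 44, 47, 36, 35, 16, 10, 16, 2]⟩, .loop 33 4 [66, 51, 47, 31, 32, 38, 17] 4 5 [⟨[], 26, false, [4, 5, 6, 4, 5, 6, 5, 6]⟩, ⟨[30, 29, 28], 482, false, [4, 5, 6, 4, 6, 4, 5, 3, 6]⟩] [⟨[28, 61, 61], 92, false, [10, 5, 3, 6, 1, 2, 5]⟩]),
  (⟨false, 2, 2, [59, 50, 50, 30, 26, 31, 2, 23, 23, 17, 12], [58, 44, 47, 52, 30, 29, 32, 16, 18], [63, 48, 47, 35, 40, 16, 25, 22]⟩, .loop 72 2 [63, 49, 49, 28, 41, 35, 2, 17, 23, 8] 6 7 [⟨[24, 23], 554, true, [3, 5, 6, 2, 4, 6, 10, 5, 3]⟩, ⟨[23, 24], 239, true, [6, 5, 6, 2, 10, 5, 6, 5, 10]⟩, ⟨[50, 245, 50, 22, 22], 197, false, [10, 5, 3, 6, 2, 5, 6, 2]⟩] []),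
  (⟨false, 5, 2, [63, 44, 51, 46, 30, 38, 26, 17, 17, 22, 19], [28, 38, 16, 19, 11], [67, 44, 42, 45, 35, 29, 2, 23, 6, 23, 4]⟩, .loop 19 2 [59, 51, 30, 37, 33, 2, 17, 19, 25] 6 7 [⟨[23, 24], 283, false, [1, 5, 3, 6, 2, 4, 6, 5, 6, 4]⟩, ⟨[23, 24], 417, true, [4, 5, 3, 6, 2, 5, 6, 2, 10]⟩, ⟨[23, 24, 23], 204, false, [4, 6, 4, 5, 6, 4, 5, 3, 6, 2]⟩] []),
  (⟨false, 2, 2, [51, 43, 31, 29, 16, 11, 16, 11, 19], [61, 48, 43, 33, 34, 38, 18, 23, 23, 23], [44, 43, 34, 29, 41, 16, 16, 4, 13, 17]⟩, .loop 46 5 [63, 44, 42, 51, 28, 26, 30, 2, 23, 6, 11] 2 3 [⟨[], 271, true, [1, 4, 6, 10, 5, 3, 6, 5]⟩] [⟨[37, 66, 66, 38], 247, true, [1, 3, 6, 5, 6, 4, 6, 2]⟩]),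
  (⟨false, 2, 2, [66, 45, 54, 56, 36, 27, 16, 16, 24, 12], [63, 51, 44, 40, 28, 40, 2, 23, 17, 25, 21], [66, 45, 43, 41, 32, 17, 22]⟩, .loop 32 2 [66, 44, 48, 52, 28, 34, 30, 2, 23, 10, 23, 19] 2 3 [⟨[], 375, true, [6, 4, 6, 2, 6, 4, 10, 5, 10]⟩] [⟨[24], 166, true, [1, 5, 6, 5, 6, 10, 5, 3, 6, 5, 6]⟩, ⟨[37, 66, 66], 470, true, [0, 4, 6, 4, 5, 6, 4, 10, 5]⟩]),
  (⟨false, 2, 5, [63, 44, 42, 46, 28, 34, 34, 16, 11, 16, 8], [62, 45, 42, 47, 31, 41, 26, 16, 22, 22, 10], [62, 47, 44, 51, 30, 28, 2, 23, 23, 18, 16]⟩, .loop 21 5 [66, 52, 48, 31, 26, 2, 23, 23, 0] 6 7 [⟨[37], 453, true, [1, 4, 6, 2, 6, 5, 6, 2, 4, 10]⟩, ⟨[23, 24, 23], 334, true, [1, 2, 5, 6, 5, 6, 10, 5, 6, 5, 3]⟩, ⟨[], 342, true, [5, 6, 5, 3, 5, 6, 4, 5, 6, 4]⟩] []),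
  (⟨false, 2, 2, [62, 51, 52, 30, 35, 40, 2, 16, 6, 17, 17], [58, 45, 56, 38, 31, 35, 2, 17, 17, 0, 13], [47, 48, 33, 27, 31, 2, 17, 17, 10, 21]⟩, .loop 69 5 [66, 55, 40, 38, 2] 4 5 [⟨[], 384, true, [1, 4, 5, 6, 5, 10, 5, 6, 2]⟩, ⟨[23, 24, 23], 427, false, [1, 4, 6, 2, 10]⟩] [⟨[38], 111, false, [3, 5, 6, 4, 5, 6, 5, 3]⟩]),
  (⟨false, 5, 2, [61, 47, 55, 28, 38, 19, 6, 23], [67, 45, 49, 28, 35, 35, 16, 11, 16, 25, 22], [60, 48, 46, 33, 33, 31, 17, 23, 23, 18]⟩, .loop 45 2 [67, 56, 33, 34, 33, 16, 16, 24] 4 5 [⟨[], 444, false, [0, 2, 3, 4, 5, 6, 2, 6, 10]⟩, ⟨[], 410, true, [1, 2, 6, 5, 6, 4, 10, 5, 10]⟩] []),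
  (⟨false, 2, 2, [44, 55, 50, 30, 30, 37, 16, 4, 16, 18], [62, 44, 42, 51, 33, 31, 31, 2, 17, 17, 18, 18], [67, 44, 42, 28, 31, 28, 38, 2, 17, 17, 0, 25]⟩, .loop 48 2 [58, 48, 50, 31, 28, 40, 16, 16, 22] 2 3 [⟨[], 339, true, [3, 6, 2, 6, 5, 3, 6, 5, 10, 5]⟩] [⟨[23], 314, true, [0, 4, 6, 5, 10, 5, 6, 4, 5, 10]⟩]),
  (⟨false, 2, 2, [50, 44, 28, 30, 26, 34, 2, 17, 23, 25], [59, 48, 46, 28, 40, 33, 16, 16, 16, 12], [61, 54, 52, 34, 40, 27, 2, 23, 23, 8, 18]⟩, .loop 16 4 [58, 54, 50, 41, 34, 30, 16, 16, 22, 19] 4 5 [⟨[], 374, false, [6, 2, 5, 6, 5, 6, 4, 6, 5]⟩, ⟨[23, 24], 393, true, [5, 6, 4, 10, 5, 6, 10, 5, 10]⟩] [⟨[63, 61, 63, 30], 455, true, [6, 5, 6, 4, 5, 3, 6, 2, 4]⟩]),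
  (⟨false, 2, 2, [58, 45, 57, 28, 26, 31, 33, 16, 22, 19, 17], [66, 45, 28, 41, 27, 32, 2, 17, 17, 22, 16], [58, 55, 42, 38, 26, 16, 16, 25, 23]⟩, .loop 70 2 [61, 45, 42, 49, 33, 41, 29, 2, 23, 8, 17, 6] 2 3 [⟨[24, 23], 307, false, [2, 5, 6, 5, 10, 5, 6, 5, 3]⟩] [⟨[24], 472, true, [3, 5, 3, 6, 5, 6]⟩, ⟨[24, 23], 538, true, [1, 2, 6, 4, 6, 4, 10, 5, 6]⟩]),
  (⟨false, 2, 2, [58, 45, 53, 38, 31, 16, 21, 23, 23], [63, 46, 42, 51, 35, 35, 35, 2, 17, 17, 17, 2], [44, 51, 46, 33, 29, 31, 16, 21, 16, 24]⟩, .loop 72 2 [54, 56, 31, 36, 33, 16, 10, 23, 17] 2 3 [⟨[], 483, false, [1, 2, 5, 3, 6, 4, 5, 10, 5]⟩] [⟨[23, 24], 450, true, [2, 4, 5, 6, 4, 6, 4, 5, 3, 6]⟩, ⟨[23, 24, 23], 532, true, [2, 6, 4, 6, 10, 5, 3, 6, 2, 4]⟩]),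
  (⟨false, 2, 2, [57, 55, 40, 40, 16, 16, 25], [59, 49, 45, 38, 30, 26, 2, 17, 23, 4, 10], [61, 54, 43, 28, 41, 16, 18, 18]⟩, .loop 73 2 [67, 45, 48, 28, 34, 37, 16, 4, 17] 2 3 [⟨[24], 121, true, [2, 4, 6, 1, 4, 10]⟩] [⟨[24, 23], 237, false, [0, 3, 4, 5, 6, 4, 5, 6, 4, 5, 6, 10]⟩, ⟨[24, 23], 145, false, [5, 3, 6, 5, 3, 6, 2, 4, 6]⟩]),
  (⟨false, 2, 2, [58, 46, 56, 35, 35, 35, 17, 22, 6], [47, 56, 33, 38, 2, 16, 6, 17], [61, 51, 52, 28, 34, 30, 29, 2, 23, 18, 6, 22]⟩, .loop 72 2 [66, 50, 55, 34, 38, 2, 17, 22, 12] 4 5 [⟨[], 516, true, [0, 6, 2, 5, 6, 4, 10, 5, 6, 5]⟩, ⟨[23], 182, true, [1, 6, 5, 6, 4, 10]⟩] [⟨[23, 24, 23], 530, true, [10, 5, 3, 6, 5, 6, 10, 5, 10]⟩]),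
  (⟨false, 5, 2, [59, 55, 47, 38, 33, 16, 16, 4, 8], [58, 45, 48, 30, 41, 27, 2, 23, 17, 23], [61, 49, 49, 30, 27, 28, 16, 24, 18]⟩, .loop 48 2 [59, 51, 51, 41, 34, 30, 16, 16, 11] 4 5 [⟨[], 547, false, [2, 5, 6, 4, 5, 6, 4, 10]⟩, ⟨[23, 24], 100, false, [3, 4, 6, 1, 5, 3, 6, 5]⟩] []),
  (⟨false, 2, 2, [67, 47, 42, 35, 28, 28, 17, 23, 4, 6], [63, 45, 46, 28, 34, 30, 16, 16, 20, 23], [66, 55, 47, 28, 34, 30, 29, 16, 21, 16]⟩, .loop 66 2 [63, 55, 38, 28, 16, 2, 10, 23] 4 5 [⟨[], 408, false, [3, 6, 1, 2, 4, 6, 5, 6, 4]⟩, ⟨[24], 358, false, [1, 4, 6, 5, 10, 5, 6, 2, 4]⟩] [⟨[24], 290, false, [2, 3, 5, 6, 5, 6, 10, 5]⟩]),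
  (⟨false, 2, 2, [67, 49, 42, 36, 28, 37, 2, 17, 17, 0, 6], [62, 49, 47, 30, 41, 29, 16, 4, 16, 16, 13], [60, 44, 49, 34, 26, 31, 16, 4, 23]⟩, .loop 31 2 [60, 50, 49, 35, 36, 29, 16, 19, 6, 10] 2 3 [⟨[], 408, true, [10, 5, 6, 1, 4, 5, 6, 10]⟩] [⟨[], 332, true, [1, 4, 6, 2, 6, 4]⟩, ⟨[23, 24, 23], 428, false, [4, 5, 10, 5, 6, 4, 5, 6, 5]⟩]),
  (⟨false, 2, 2, [58, 52, 48, 35, 31, 29, 17, 23, 23, 18], [67, 45, 49, 30, 37, 31, 16, 16, 20, 25, 23], [62, 48, 48, 30, 41, 36, 16, 16, 2, 10, 21]⟩, .loop 48 2 [63, 47, 54, 38, 35, 36, 2, 23, 10, 23, 18] 4 5 [⟨[23], 427, true, [0, 6, 4, 6, 5, 6, 2, 6]⟩, ⟨[24, 23], 477, true, [10, 5, 6, 1, 2, 5, 3, 6, 4, 6]⟩] [])]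

end CfsgLib.Sporadic.ThPres
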