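import Cfsg.Agent.Lib.Sporadic.ThPres.Check

set_option autoImplicit false
set_option maxRecDepth 20000

/-! Facts among double cosets (generated; owner: helper9). -/

namespace CfsgLib.Sporadic.ThPres
open CfsgLib.Recog.SporBound (Q)

/-- facts 576 and on -/
def facts18 : List (Fact × Why) := [
  (⟨false, 5, 2, [58, 44, 46, 48, 30, 26, 33, 2, 17, 23, 20], [59, 45, 54, 30, 37, 32, 16, 16, 4, 6], [51, 31, 35, 29, 16, 22, 19, 17]⟩, .loop 70 2 [66, 49, 46, 28, 31, 29, 18, 23] 4 5 [⟨[23], 389, false, [4, 5, 6, 2, 6, 4, 10, 5, 10]⟩, ⟨[23, 24, 23], 98, true, [10, 5, 6, 2, 6, 4, 6, 5]⟩] [⟨[24], 262, true, [1, 2, 3, 5, 10]⟩]),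
  (⟨false, 2, 2, [62, 44, 43, 36, 35, 40, 2, 17, 18], [59, 46, 51, 33, 34, 16, 16, 24, 18], [59, 44, 43, 57, 31, 29, 35, 2, 17, 23, 17, 24]⟩, .loop 54 2 [49, 42, 34, 26, 31, 2, 23, 23, 23, 24] 8 9 [⟨[], 514, false, [2, 4, 5, 6, 10, 5, 6, 2, 6]⟩, ⟨[23], 549, false, [4, 5, 3, 6, 5, 3, 6, 2, 6]⟩, ⟨[23, 24, 23], 350, true, [6, 2, 6, 5, 6, 2, 6, 10]⟩, ⟨[24, 23], 550, false, [1, 4, 6, 2, 5, 3, 6, 4, 6, 5]⟩] [⟨[24], 339, true, [2, 6, 4, 6, 5, 6, 2, 5]⟩, ⟨[], 314, false, [1, 2, 5, 3, 6, 4, 6, 4, 5, 6]⟩, ⟨[24, 23], 553, true, [3, 6, 1, 5, 6, 2, 6, 5, 3]⟩]),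
  (⟨false, 2, 2, [62, 48, 44, 30, 40, 29, 16, 10, 18, 16], [50, 30, 34, 16, 16, 25], [67, 47, 51, 30, 29, 40, 2, 17, 17, 6, 4]⟩, .loop 17 4 [66, 47, 51, 28, 41, 33, 16, 16, 19, 17] 4 5 [⟨[27], 404, false, [1, 4, 6, 5, 6, 2, 4, 6]⟩, ⟨[], 294, true, [0, 2, 3, 4, 6, 4, 6, 4, 5, 6, 2, 5]⟩] [⟨[63, 61, 61, 28], 89, true, [3, 6, 4, 5, 3, 6, 2, 5, 6]⟩]),
  (⟨false, 2, 2, [66, 48, 47, 30, 37, 33, 2, 23, 23, 18, 23], [58, 44, 48, 31, 35, 30, 2, 23, 8, 17, 6], [59, 48, 57, 30, 35, 35, 16, 11, 16, 16]⟩, .loop 35 2 [54, 46, 28, 41, 35, 2, 23, 17, 8, 21] 4 5 [⟨[], 450, false, [6, 10, 5, 3, 6, 2, 5, 6, 5]⟩, ⟨[23], 492, true, [2, 3, 5, 6, 2, 4, 5, 6, 5]⟩] [⟨[23, 24, 23], 476, true, [0, 5, 6, 4, 10, 5, 6, 4, 10, 5]⟩]),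
  (⟨false, 2, 2, [62, 47, 47, 52, 28, 34, 30, 2, 17, 19, 22, 11], [62, 46, 44, 31, 33, 30, 16, 8], [67, 56, 38, 32, 34, 16, 8, 17, 23, 8]⟩, .loop 69 2 [63, 47, 47, 28, 30, 34, 16, 4, 17] 6 7 [⟨[24], 131, true, [1, 3, 4, 5, 6, 10, 5, 10]⟩, ⟨[], 372, true, [5, 3, 6, 5, 10, 5, 6, 2, 4]⟩, ⟨[24, 23], 222, false, [1, 3, 6, 4, 6, 5, 6, 2, 4, 10]⟩] []),
  (⟨false, 2, 2, [59, 44, 47, 44, 28, 34, 30, 29, 16, 16, 22, 17], [58, 45, 42, 31, 35, 26, 2, 17, 23, 24], [67, 57, 31, 36, 2, 23, 10, 17]⟩, .loop 48 2 [59, 47, 56, 34, 31, 38, 2, 17, 17, 11, 19] 2 3 [⟨[23], 465, false, [0, 2, 4, 6, 10, 5, 6, 5, 10, 5]⟩] [⟨[24], 457, false, [3, 4, 5, 6, 4, 10, 5, 6]⟩]),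
  (⟨false, 5, 2, [60, 44, 42, 57, 30, 28, 35, 2, 23, 17, 25, 12], [63, 45, 54, 36, 30, 16, 21, 16], [60, 51, 46, 31, 33, 34, 16, 4, 16, 11]⟩, .loop 33 5 [66, 44, 56, 30, 30, 38, 17, 17] 4 5 [⟨[38, 66], 71, true, [3, 5, 3, 6, 1, 2, 6, 4, 5, 10]⟩, ⟨[63, 30, 28], 71, false, [1, 6, 2, 4, 5, 6, 2, 10, 5]⟩] [⟨[37, 37, 66], 287, true, [1, 6, 2, 4, 6, 5, 6]⟩]),
  (⟨false, 2, 2, [66, 51, 46, 31, 27, 16, 22, 22, 8], [61, 55, 47, 33, 30, 32, 16, 16, 25], [63, 52, 44, 38, 28, 16, 16, 19, 11]⟩, .loop 18 2 [62, 44, 42, 28, 26, 31, 33, 2, 17, 23, 21, 16] 2 3 [⟨[], 134, true, [3, 5, 6, 1, 2, 5, 6, 4]⟩] [⟨[24], 499, true, [1, 3, 4, 6, 5, 10, 5, 6, 4]⟩, ⟨[], 246, true, [1, 3, 6, 5, 6, 2, 5, 6, 4, 10]⟩]),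
  (⟨false, 5, 2, [59, 48, 56, 28, 34, 31, 16, 25], [66, 48, 42, 30, 38, 26, 16, 16, 18, 25], [62, 45, 43, 45, 28, 40, 36, 16, 19, 16]⟩, .loop 32 2 [62, 45, 50, 42, 30, 34, 27, 2, 17, 23, 24] 6 7 [⟨[], 333, true, [3, 6, 5, 6, 4, 6, 2]⟩, ⟨[24], 159, true, [0, 5, 6, 4, 10, 5, 6, 4, 5, 6, 5]⟩, ⟨[245, 50, 50, 21], 32, true, [4, 10, 5, 6, 2, 6, 4, 6]⟩] []),
  (⟨false, 2, 2, [60, 49, 46, 28, 40, 16, 21, 16, 20], [62, 48, 34, 40, 27, 2, 17, 23, 20, 19], [59, 45, 56, 31, 33, 17, 17, 17, 19]⟩, .loop 29 4 [61, 44, 48, 36, 35, 27, 16, 25, 17] 4 5 [⟨[63, 61], 46, false, [1, 2, 4, 6, 5, 3, 6]⟩, ⟨[27, 63, 53], 402, true, [1, 2, 6, 4, 10, 5, 10]⟩] [⟨[63, 61, 61, 53], 319, false, [1, 2, 6, 5, 10, 5, 6, 2, 4]⟩]),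
  (⟨false, 2, 2, [59, 45, 49, 30, 40, 29, 2, 17, 19, 22, 11], [67, 44, 42, 57, 31, 34, 30, 2, 17, 22, 6, 23], [59, 48, 42, 28, 26, 37, 2, 23, 23, 8, 18]⟩, .loop 69 2 [52, 49, 30, 38, 2, 17, 19, 22, 11] 4 5 [⟨[], 351, false, [2, 3, 6, 4, 6, 2]⟩, ⟨[24], 495, false, [3, 5, 6, 5, 3, 6, 4, 6, 2, 4]⟩] [⟨[23, 24, 23], 430, false, [1, 6, 2, 4, 6, 5]⟩]),
  (⟨false, 2, 2, [67, 44, 53, 56, 41, 29, 16, 2], [67, 45, 56, 50, 34, 40, 2, 23, 10], [63, 48, 57, 31, 34, 27, 2, 17, 17, 19, 6]⟩, .loop 62 2 [61, 57, 30, 37, 35, 2, 17, 17, 13, 25] 6 7 [⟨[24], 409, false, [4, 6, 5, 10, 5, 6, 4, 5, 3, 6]⟩, ⟨[], 339, true, [2, 4, 6, 2, 5, 6, 5]⟩, ⟨[], 550, true, [1, 4, 5, 10, 5, 6, 2, 5, 10]⟩] [⟨[23, 24, 23], 514, false, [5, 3, 6, 5, 6, 2, 5, 6]⟩, ⟨[23], 350, false,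 [0, 2, 3, 4, 6, 4, 5, 10]⟩, ⟨[23, 24], 535, false, [2, 6, 4, 10, 5, 3, 6, 5, 6]⟩, ⟨[24, 23], 577, true, [6, 1, 4, 5, 10, 5, 6, 5, 10]⟩]),
  (⟨false, 2, 2, [63, 55, 43, 28, 30, 36, 16, 16, 2, 11], [58, 44, 43, 57, 35, 36, 2, 23, 17, 17, 10], [63, 44, 42, 57, 31, 36, 35, 2, 23, 17, 24, 23]⟩, .loop 47 2 [62, 47, 49, 28, 34, 31, 2, 17, 23, 6, 20] 4 5 [⟨[23], 340, true, [0, 6, 2, 4, 6, 5, 6, 2, 10]⟩, ⟨[24, 23], 488, true, [6, 5, 6, 10, 5, 6, 2, 4, 5, 3]⟩] []),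
  (⟨false, 2, 2, [63, 48, 43, 30, 38, 29, 16, 22, 22, 22], [67, 49, 51, 38, 26, 33, 16, 16, 19, 16], [59, 44, 46, 48, 35, 28, 37, 2, 16, 16, 6, 23]⟩, .loop 28 2 [60, 46, 44, 54, 30, 29, 34, 2, 23, 17, 17, 19] 4 5 [⟨[], 294, true, [4, 6, 4, 5, 6, 4, 5]⟩, ⟨[], 390, true, [5, 6, 1, 10, 5, 3, 6, 2, 6, 5]⟩] [⟨[24], 315, true, [0, 2, 3, 6, 4, 5, 10, 5, 6]⟩]),
  (⟨false, 2, 2, [66, 45, 30, 40, 34, 16, 16, 24, 23], [61, 48, 46, 30, 26, 30, 2, 17, 23, 12, 18], [66, 57, 53, 30, 37, 27, 17, 23, 23, 19]⟩, .loop 65 2 [61, 48, 48, 30, 27, 2, 17, 23, 10, 16] 4 5 [⟨[23, 24], 314, true, [0, 5, 6, 2, 4, 5, 6, 2, 6, 4]⟩, ⟨[], 550, true, [5, 6, 5, 6, 4, 6, 2, 4, 5]⟩] [⟨[24, 23], 540, true, [4, 6, 5, 6, 4, 5, 3]⟩, ⟨[23, 24], 535, false, [2, 5, 6, 5, 10, 5, 6,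 5, 6, 2]⟩, ⟨[23, 24, 23], 540, false, [1, 5, 6, 2, 6, 5, 6, 2, 6, 10]⟩, ⟨[24, 23], 314, true, [6, 5, 10, 5, 6, 2, 5, 6, 5, 3]⟩, ⟨[], 550, true, [3, 4, 6, 5, 6, 2, 5, 6, 4, 10]⟩]),
  (⟨false, 2, 2, [44, 48, 31, 29, 40, 2, 23, 17, 25], [59, 44, 42, 34, 37, 37, 16, 16, 20, 11], [66, 51, 51, 34, 26, 32, 2, 17, 22, 10]⟩, .loop 21 2 [51, 46, 38, 28, 17, 23, 4, 6] 4 5 [⟨[23, 24, 23], 174, true, [4, 6, 10, 5, 3, 6, 5, 10]⟩, ⟨[66, 37, 37, 66], 274, true, [2, 6, 5, 3, 6, 5]⟩] [⟨[], 177, true, [0, 6, 2, 6, 4, 6, 5, 6, 5, 3]⟩]),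
  (⟨false, 2, 2, [62, 45, 42, 47, 28, 31, 34, 17, 23, 18, 23], [61, 45, 56, 35, 35, 41, 16, 11, 18], [67, 44, 49, 35, 28, 16, 22, 22, 22]⟩, .loop 18 4 [59, 45, 53, 30, 34, 31, 16, 4, 16, 19, 11] 4 5 [⟨[], 524, false, [4, 6, 5, 3, 6, 2, 6, 4, 5, 10]⟩, ⟨[24, 23], 447, true, [1, 4, 6, 4, 10, 5, 6, 5, 3, 5, 6]⟩] [⟨[61, 61, 28, 63], 524, false, [4, 5, 3, 5, 6, 5, 6, 2]⟩]),
  (⟨false, 2, 2, [58, 44, 49, 31, 28, 30, 16, 16, 21, 18], [62, 44, 56, 34, 31, 2, 17, 17, 13, 22], [58, 45, 45, 30, 29, 32, 2, 17, 23, 4, 20]⟩, .loop 22 2 [62, 51, 49, 31, 28, 36, 2, 23, 13, 23, 18] 4 5 [⟨[24], 227, false, [4, 6, 5, 6, 4]⟩, ⟨[24], 408, true, [6, 4, 5, 6, 5, 6, 10, 5]⟩] [⟨[], 190, false, [3, 6, 5, 3, 6, 2, 5, 10]⟩]),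
  (⟨false, 2, 2, [63, 49, 57, 28, 35, 31, 16, 11, 16], [46, 53, 28, 34, 33, 2, 23, 23, 18, 23], [61, 45, 45, 30, 35, 35, 2, 23, 17, 25, 6]⟩, .loop 32 2 [51, 52, 36, 40, 30, 16, 16, 19, 20] 6 7 [⟨[], 581, false, [0, 2, 3, 4, 5, 6, 2, 5, 3, 6, 4]⟩, ⟨[23, 24, 23], 189, true, [2, 5, 6, 1, 5, 10, 5, 6, 2, 4]⟩, ⟨[24], 225, false, [0, 4, 6, 2, 5, 6, 10, 5, 10]⟩] []),
  (⟨false, 2, 2, [59, 44, 42, 57, 30, 38, 31, 16, 8, 17, 23, 8], [63, 52, 55, 28, 35, 27, 2, 17, 18], [63, 47, 44, 33, 35, 32, 16, 11, 18, 23, 23]⟩, .loop 32 2 [60, 56, 50, 28, 36, 40, 2, 17, 17, 2] 4 5 [⟨[], 408, false, [2, 5, 6, 4, 5, 6, 4, 5, 6]⟩, ⟨[], 223, true, [1, 2, 4, 6, 10, 5, 6, 4, 6, 2, 10]⟩] [⟨[23, 24], 308, true, [2, 5, 6, 5, 3, 6, 2, 6]⟩]),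
  (⟨false, 2, 2, [58, 52, 50, 31, 34, 28, 16, 16, 21], [63, 46, 48, 54, 30, 29, 16, 25, 22, 6], [63, 46, 48, 54, 34, 26, 2, 23, 18, 6]⟩, .loop 22 4 [59, 52, 48, 31, 32, 29, 16, 4, 16, 16, 24] 2 3 [⟨[53, 29, 28], 407, false, [1, 2, 4, 6, 4, 5, 6, 5, 10, 5]⟩] [⟨[29, 61, 63], 103, true, [6, 1, 4, 5, 3, 5, 6]⟩, ⟨[23], 463, false, [0, 2, 3, 4, 5, 6, 2, 6]⟩]),
  (⟨false, 2, 2, [63, 44, 46, 48, 30, 29, 41, 16, 16, 16, 13], [61, 48, 47, 30, 29, 30, 19, 6, 17, 17], [58, 49, 46, 30, 32, 40, 16, 16, 18, 25]⟩, .loop 33 2 [61, 46, 48, 54, 28, 31, 40, 16, 4, 16, 22, 22] 6 7 [⟨[], 161, false, [4, 5, 6, 4, 5, 6, 4, 5, 10, 5]⟩, ⟨[23, 24, 23], 489, true, [5, 6, 4, 5, 3, 6, 4, 5, 10, 5]⟩, ⟨[23, 24, 23], 183, true, [3, 4, 6, 5, 6, 10, 5, 10]⟩] []),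
  (⟨false, 2, 2, [61, 56, 50, 34, 26, 31, 2, 17, 18, 22, 18], [67, 50, 45, 30, 35, 40, 16, 18, 24, 6], [62, 44, 55, 50, 30, 19, 6]⟩, .loop 46 4 [63, 44, 43, 36, 31, 16, 16, 24, 22] 2 3 [⟨[], 482, false, [3, 6, 1, 4, 5, 6, 2, 6, 4, 10]⟩] [⟨[63, 27, 61], 178, true, [0, 2, 5, 6, 5, 10, 5, 6, 4]⟩]),
  (⟨false, 2, 2, [60, 47, 44, 30, 27, 27, 2, 17, 23, 23], [62, 44, 55, 50, 33, 41, 2, 17, 18, 22, 24], [58, 45, 53, 48, 30, 40, 27, 16, 16, 19, 20]⟩, .loop 68 2 [46, 48, 30, 40, 28, 18, 23, 17, 23] 6 7 [⟨[], 547, true, [0, 4, 6, 2, 4, 5, 3, 6, 2]⟩, ⟨[23, 24], 241, true, [2, 10, 5, 6, 2, 5]⟩, ⟨[66, 66, 38, 66, 37], 166, false, [2, 6, 5, 10, 5, 6, 5, 10, 5]⟩] []),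
  (⟨false, 2, 2, [58, 47, 56, 30, 40, 33, 16, 2, 19], [61, 47, 47, 52, 35, 36, 29, 2, 17, 23, 12, 18], [61, 48, 57, 31, 34, 41, 2, 17, 17, 22, 6]⟩, .loop 48 2 [62, 44, 42, 51, 34, 37, 34, 16, 16, 25, 17] 4 5 [⟨[24], 210, false, [0, 4, 5, 3, 5, 6, 5, 6, 2, 6]⟩, ⟨[66, 66, 38, 66, 37], 301, false, [1, 3, 5, 3, 6, 2, 4, 6, 5]⟩] []),
  (⟨false, 2, 2, [59, 44, 42, 54, 28, 40, 33, 16, 16, 18, 11], [66, 44, 57, 49, 30, 32, 36, 2, 23, 17, 2, 22], [60, 46, 43, 35, 28, 37, 2, 17, 17, 22, 16]⟩, .loop 33 2 [66, 45, 46, 31, 34, 16, 16, 24, 6] 6 7 [⟨[], 531, false, [0, 3, 6, 2, 6, 4, 6, 5, 6, 5]⟩, ⟨[23, 24, 23], 499, false, [4, 6, 4, 6, 2, 10, 5]⟩, ⟨[23, 24], 331, false, [6, 10, 5, 6, 2, 4, 6, 5]⟩] []),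
  (⟨false, 5, 2, [60, 45, 50, 42, 31, 36, 2, 17, 17, 8, 20], [67, 46, 56, 28, 34, 34, 17, 22, 6, 23], [66, 48, 28, 35, 36, 17, 23, 23, 16]⟩, .loop 31 2 [48, 43, 41, 29, 40, 2, 23, 13, 23, 6] 4 5 [⟨[], 91, true, [0, 2, 6, 5, 10, 5, 6, 2, 5, 10]⟩, ⟨[], 140, false, [0, 6, 4, 5, 6, 5, 3, 6, 4]⟩] [⟨[], 564, true, [0, 10, 5, 6, 5, 10]⟩]),
  (⟨false, 2, 2, [60, 44, 56, 28, 34, 27, 2, 17, 22, 16, 21], [62, 44, 48, 43, 36, 28, 2, 23, 17, 23, 11], [63, 47, 56, 38, 36, 16, 16, 18, 21]⟩, .loop 47 2 [67, 46, 42, 38, 28, 41, 2, 17, 17, 22, 6] 2 3 [⟨[24], 388, true, [2, 5, 6, 10, 5, 6, 2, 6, 10]⟩] [⟨[], 331, true, [0, 4, 5, 6, 5, 10, 5, 6, 2, 5]⟩]),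
  (⟨false, 2, 2, [66, 49, 47, 34, 37, 37, 2, 17, 17, 10, 21], [67, 49, 47, 30, 29, 16, 16, 2, 4, 24], [61, 44, 57, 55, 28, 30, 30, 2, 17, 0, 17, 25]⟩, .loop 20 5 [58, 47, 56, 28, 40, 30, 16, 16, 24, 12] 4 5 [⟨[37, 66], 470, true, [0, 3, 6, 2, 4, 5, 6, 2, 10]⟩, ⟨[24], 517, false, [2, 4, 6, 4, 6, 4, 5, 3, 5]⟩] [⟨[37, 37], 387, true, [3, 4, 5, 3, 6, 5, 10, 5, 6]⟩]),
  (⟨false, 2, 2, [67, 50, 49, 31, 28, 30, 2, 17, 23, 6, 20], [63, 46, 42, 30, 26, 16, 11, 16, 16], [67, 48, 46, 28, 36, 40, 16, 11, 16, 10]⟩, .loop 66 2 [62, 45, 42, 49, 38, 26, 33, 2, 16, 6, 22, 6] 2 3 [⟨[], 604, true, [3, 5, 6, 4, 10, 5, 3]⟩] [⟨[23, 24, 23], 356, true, [6, 4, 6, 4, 5, 6, 2, 4]⟩, ⟨[], 292, true, [6, 4, 6, 5, 6, 2, 5, 3]⟩]),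
  (⟨false, 2, 2, [59, 45, 54, 56, 41, 36, 2, 17, 22, 8], [67, 45, 50, 42, 31, 36, 35, 16, 16, 24, 13], [46, 53, 35, 29, 36, 2, 23, 6, 17]⟩, .loop 34 2 [66, 47, 52, 28, 41, 33, 2, 17, 23, 11, 24] 6 7 [⟨[23], 574, false, [1, 5, 6, 4, 6, 10]⟩, ⟨[24, 23], 250, false, [0, 6, 2, 6, 4, 5, 6, 10, 5]⟩, ⟨[38, 66, 38, 37], 584, false, [1, 2, 3, 6, 5, 6, 2, 6]⟩] []),
  (⟨false, 2, 2, [51, 57, 28, 40, 2, 23, 17, 23, 11], [54, 52, 28, 31, 29, 17, 23, 23], [46, 42, 51, 28, 41, 29, 2, 17, 23, 18, 22]⟩, .loop 16 2 [62, 44, 56, 46, 41, 34, 30, 16, 16, 11, 12] 2 3 [⟨[23, 24], 269, true, [1, 3, 6, 5, 6, 5, 10, 5, 6]⟩] [⟨[23], 357, true, [0, 4, 5, 6, 10, 5, 3, 6, 5, 6]⟩, ⟨[66, 66, 38, 37, 66], 461, false, [1, 3, 4, 6, 4, 6, 4, 5, 10, 5]⟩])]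

/-- facts 608 and on -/
def facts19 : List (Fact × Why) := [
  (⟨false, 2, 2, [62, 46, 53, 31, 28, 30, 16, 18, 18, 6], [63, 45, 48, 35, 36, 30, 16, 18, 16, 11], [63, 56, 53, 30, 32, 26, 2, 17, 23, 17]⟩, .loop 16 3 [59, 44, 57, 49, 34, 38, 16, 21, 17] 2 3 [⟨[21], 81, false, [5, 3, 5, 6, 1, 4, 5, 10]⟩] [⟨[50, 50, 245, 21, 21], 164, false, [4, 5, 6, 4, 5, 10]⟩, ⟨[], 376, false, [2, 6, 5, 6, 4, 6, 5, 6, 10]⟩]),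
  (⟨false, 2, 2, [63, 50, 46, 33, 34, 31, 16, 11, 16, 24, 16], [52, 30, 30, 17, 22], [58, 46, 49, 31, 29, 29, 16, 19, 6, 18]⟩, .loop 44 2 [63, 48, 53, 28, 31, 34, 2, 17, 17, 20, 22] 2 3 [⟨[], 440, true, [3, 6, 5, 3, 6, 4, 6, 2]⟩] [⟨[23, 24], 476, true, [0, 2, 4, 5, 6, 2, 5, 6, 10]⟩]),
  (⟨false, 2, 2, [63, 50, 55, 33, 29, 2, 17, 17, 23, 16], [58, 47, 49, 35, 30, 2, 17, 6], [67, 47, 28, 41, 17, 17, 17, 8]⟩, .loop 32 5 [58, 44, 46, 57, 30, 29, 27, 2, 17, 22, 16, 10] 4 5 [⟨[], 362, false, [1, 6, 5, 3, 6, 5, 6, 5, 10]⟩, ⟨[23], 379, false, [2, 5, 6, 5, 6, 4, 6, 5, 10]⟩] [⟨[37, 66, 37], 100, true, [2, 6, 5, 6, 2, 6, 4, 10, 5]⟩]),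
  (⟨false, 2, 2, [66, 50, 46, 36, 34, 2, 23, 17, 22, 4], [61, 45, 56, 50, 31, 28, 41, 16, 22, 22, 4], [58, 44, 56, 46, 34, 29, 41, 2, 17, 17, 6, 20]⟩, .loop 31 2 [59, 45, 28, 26, 2, 23, 6, 23, 4] 2 3 [⟨[23], 552, false, [4, 5, 6, 5, 10, 5, 6, 4, 5]⟩] [⟨[24, 23], 372, false, [0, 6, 4, 5, 6, 2, 5, 6]⟩, ⟨[23, 24], 568, true, [1, 2, 3, 6, 4, 5, 3, 6, 5, 10]⟩]),
  (⟨false, 2, 2, [44, 56, 31, 32, 38, 17, 23, 23, 19], [60, 44, 57, 31, 29, 40, 16, 16, 25, 22], [48, 56, 33, 35, 28, 17, 23, 23, 18]⟩, .loop 23 2 [66, 45, 42, 51, 33, 36, 30, 16, 16, 2, 10, 21] 4 5 [⟨[], 369, false, [1, 6, 5, 6, 2, 5, 3]⟩, ⟨[], 206, true, [6, 1, 4, 5, 10, 5, 6, 4, 6]⟩] [⟨[23, 24], 399, true, [2, 3, 4, 6, 5, 6, 5, 3, 5, 6]⟩]),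
  (⟨false, 2, 2, [62, 47, 48, 36, 27, 16, 11, 16, 4], [67, 48, 42, 35, 29, 16, 16, 18, 16], [62, 44, 42, 47, 36, 29, 31, 17, 22, 6, 18]⟩, .loop 17 2 [58, 44, 42, 54, 31, 28, 36, 2, 23, 17, 0, 23] 6 7 [⟨[24], 457, true, [0, 6, 4, 5, 10, 5, 6, 2, 5, 6, 5]⟩, ⟨[24, 23], 263, false, [5, 6, 5, 3, 6, 4, 6, 2, 5]⟩, ⟨[], 207, false, [0, 2, 6, 5, 6, 4, 6, 2, 6, 10]⟩] []),
  (⟨false, 2, 2, [58, 44, 42, 54, 41, 32, 2, 17, 22, 16, 21], [62, 44, 46, 31, 41, 36, 2, 17, 17, 17, 20], [58, 44, 42, 48, 33, 41, 19, 6, 23, 20]⟩, .loop 69 3 [66, 45, 42, 45, 30, 40, 27, 16, 18, 16, 11] 2 3 [⟨[50, 50], 239, false, [3, 5, 6, 1, 4, 6, 2, 10, 5, 6]⟩] [⟨[245, 22, 245, 21, 245], 164, false, [0, 4, 5, 6, 10, 5, 6, 2, 5, 3]⟩, ⟨[23, 24], 367, false, [0, 3, 6, 2, 4, 6, 5,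 6, 5, 10, 5]⟩]),
  (⟨false, 4, 2, [59, 55, 28, 26, 36, 16, 2, 10, 23], [60, 55, 47, 30, 28, 28, 2, 17, 18, 22, 22], [60, 48, 50, 28, 35, 41, 2, 17, 17, 23, 16]⟩, .loop 68 2 [59, 48, 52, 30, 26, 35, 2, 17, 22, 16, 10] 4 5 [⟨[23, 24], 517, true, [0, 5, 6, 4, 10, 5, 6, 4, 5, 6, 2]⟩, ⟨[24], 366, false, [2, 6, 4]⟩] [⟨[23], 510, false, [0, 2, 5, 3, 6, 5, 6, 4, 6]⟩]),
  (⟨false, 2, 2, [66, 50, 45, 30, 41, 2, 17, 23, 11], [44, 53, 28, 31, 40, 2, 23, 23, 18, 18], [66, 44, 43, 28, 26, 31, 2, 23, 8, 23, 10]⟩, .loop 16 2 [58, 55, 49, 33, 27, 16, 11, 16, 2, 10] 6 7 [⟨[23], 211, false, [1, 3, 5, 6, 4, 6, 10, 5, 3]⟩, ⟨[23, 24, 23], 559, false, [2, 4, 6, 4, 5, 6, 2, 6, 10]⟩, ⟨[24, 23], 519, false, [2, 6, 4, 5, 6, 5, 6, 4, 6, 10]⟩] []),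
  (⟨false, 2, 2, [59, 45, 42, 47, 36, 35, 27, 2, 17, 17, 10, 21], [60, 46, 46, 36, 40, 16, 11, 16, 21], [60, 45, 43, 40, 32, 16, 2, 16]⟩, .loop 35 2 [60, 49, 46, 31, 29, 40, 16, 16, 8, 17] 6 7 [⟨[24], 545, true, [2, 10, 5, 3, 6, 2, 6, 4, 5, 10]⟩, ⟨[23, 24, 23], 474, false, [10, 5, 6, 5, 3, 6, 2]⟩, ⟨[66, 66, 37, 37], 560, false, [0, 4, 6, 4, 5, 6, 5, 10]⟩] []),
  (⟨false, 5, 2, [62, 49, 46, 36, 32, 30, 2, 23, 23, 23, 0], [60, 51, 43, 30, 35, 40, 2, 17, 17, 6], [59, 48, 55, 28, 26, 30, 2, 23, 6, 17, 6]⟩, .loop 49 5 [60, 54, 44, 30, 34, 34, 16, 2, 24, 6] 2 3 [⟨[], 347, true, [4, 6, 2, 6, 4, 6, 10, 5, 10]⟩] [⟨[66, 38], 310, false, [3, 6, 5, 10, 5, 6, 5, 3, 6, 4]⟩]),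
  (⟨false, 2, 2, [63, 51, 46, 38, 33, 16, 24, 16, 21], [66, 48, 56, 41, 28, 16, 16, 25], [60, 44, 46, 44, 34, 28, 37, 16, 10, 16, 2]⟩, .loop 67 2 [62, 44, 42, 48, 30, 41, 36, 16, 11, 17] 6 7 [⟨[24], 461, true, [2, 4, 6, 1, 5, 3, 5, 6]⟩, ⟨[66, 37, 66, 66], 226, true, [0, 4, 6, 2, 5, 6, 10, 5, 6]⟩, ⟨[24], 382, true, [6, 2, 4, 10, 5, 6, 4, 6]⟩] []),
  (⟨false, 2, 2, [66, 48, 46, 34, 36, 16, 16, 24, 12], [60, 44, 57, 49, 34, 40, 27, 2, 23, 23, 17, 6], [61, 48, 44, 41, 36, 16, 4, 16, 19, 6]⟩, .loop 45 2 [47, 48, 33, 27, 2, 17, 17, 25, 10] 4 5 [⟨[24], 379, true, [1, 4, 5, 6, 4, 5, 6, 4, 5, 3, 6]⟩, ⟨[24], 558, true, [1, 3, 5, 6, 5, 3, 5, 6, 5]⟩] []),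
  (⟨false, 2, 5, [58, 50, 47, 30, 38, 2, 17, 23, 23, 4], [48, 45, 30, 34, 27, 17, 17, 17, 19], [63, 54, 46, 30, 26, 32, 2, 23, 11]⟩, .loop 73 5 [60, 48, 53, 36, 16, 21, 17, 17] 6 7 [⟨[38, 37], 112, true, [4, 5, 10, 5, 6, 4, 6, 2]⟩, ⟨[23], 346, false, [3, 4, 6, 4, 5, 6, 4, 6, 5]⟩, ⟨[23], 540, false, [2, 5, 3, 6, 2, 5, 6, 2, 4, 10]⟩] []),
  (⟨false, 2, 5, [67, 49, 34, 28, 37, 16, 16, 20, 18], [46, 48, 30, 27, 31, 16, 19, 11], [54, 47, 30, 26, 28, 16, 16, 4, 20]⟩, .loop 19 2 [60, 44, 51, 46, 28, 30, 41, 2, 23, 8, 23] 2 3 [⟨[23], 586, true, [2, 3, 5, 6, 5, 10, 5, 6]⟩] [⟨[24, 23], 475, false, [2, 6, 1, 2, 5, 6, 4, 6]⟩, ⟨[23], 330, false, [0, 3, 5, 6, 10, 5, 3, 6, 2, 6]⟩]),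
  (⟨false, 2, 2, [61, 48, 46, 28, 2, 17, 17, 23, 12], [63, 54, 56, 34, 28, 16, 16, 2, 24, 19], [59, 47, 44, 28, 38, 29, 2, 23, 13]⟩, .loop 35 2 [58, 45, 54, 45, 34, 31, 37, 2, 23, 17, 17] 4 5 [⟨[23, 24], 470, false, [6, 5, 6, 5, 10, 5, 6, 2, 4]⟩, ⟨[66, 37, 66, 37], 296, true, [0, 4, 5, 6, 10, 5, 6, 2, 4]⟩] [⟨[], 209, true, [3, 4, 6, 4, 6, 5, 10, 5]⟩]),
  (⟨false, 2, 2, [58, 48, 48, 31, 37, 29, 2, 23, 13, 23, 23], [60, 55, 43, 31, 28, 16, 16, 8, 22], [66, 51, 43, 33, 36, 2, 23, 23, 18, 0]⟩, .loop 18 2 [58, 44, 57, 55, 31, 32, 29, 2, 17, 17, 8, 21] 6 7 [⟨[23], 334, true, [2, 6, 2, 6, 5, 6, 4, 10, 5, 6]⟩, ⟨[24], 251, true, [2, 6, 5, 6, 4, 5, 10, 5, 6]⟩, ⟨[], 233, false, [2, 3, 4, 5, 6, 1, 5, 3]⟩] []),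
  (⟨false, 2, 2, [67, 51, 43, 38, 28, 41, 2, 17, 23, 24, 17], [58, 55, 42, 31, 28, 40, 16, 2], [61, 55, 46, 28, 34, 30, 29, 2, 17, 17, 25, 13]⟩, .loop 46 2 [59, 45, 42, 49, 30, 28, 16, 16, 16, 18] 2 3 [⟨[24, 23], 607, false, [3, 6, 2, 5, 6, 4, 6, 5, 3]⟩] [⟨[24], 538, false, [4, 6, 1, 10, 5, 10]⟩]),
  (⟨false, 2, 2, [66, 55, 42, 28, 30, 27, 17, 17, 23, 23], [58, 48, 38, 30, 35, 16, 10, 18, 23], [60, 45, 31, 28, 38, 2, 17, 23, 11, 24]⟩, .loop 71 2 [62, 55, 47, 28, 26, 40, 16, 18, 16, 8] 2 3 [⟨[], 625, true, [10, 5, 3, 6, 2, 5]⟩] [⟨[], 257, true, [0, 2, 3, 4, 5, 6, 5, 6, 2, 6]⟩, ⟨[37, 37], 542, false, [1, 3, 6, 4, 5, 6, 5, 3, 5]⟩]),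
  (⟨false, 2, 2, [67, 47, 51, 30, 38, 31, 2, 23, 23, 25, 21], [58, 46, 43, 38, 34, 16, 24, 17, 6], [58, 44, 57, 49, 30, 41, 18, 23, 18]⟩, .loop 47 2 [46, 46, 28, 35, 26, 19, 6, 23, 16] 2 3 [⟨[23, 24, 23], 553, true, [0, 2, 4, 6, 4, 6, 5, 10, 5, 6]⟩] [⟨[23], 314, true, [0, 3, 6, 5, 3, 6, 5, 6]⟩]),
  (⟨false, 2, 2, [61, 44, 57, 55, 34, 40, 27, 16, 10, 17, 23], [59, 44, 31, 37, 17, 17, 22, 19], [59, 54, 47, 30, 35, 16, 16, 11, 24]⟩, .loop 48 2 [60, 55, 42, 33, 34, 33, 2, 17, 17, 13, 24] 4 5 [⟨[23], 513, true, [4, 10, 5, 6, 5, 6, 2, 4]⟩, ⟨[24, 23], 569, true, [5, 6, 1, 4, 5, 3, 6, 2]⟩] []),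
  (⟨false, 2, 2, [59, 46, 53, 30, 32, 30, 17, 17, 17, 25], [58, 47, 47, 28, 34, 37, 2, 23, 17, 23, 11], [59, 46, 43, 36, 27, 40, 16, 16, 2, 11]⟩, .loop 23 2 [66, 55, 43, 31, 33, 38, 2, 23, 23, 13] 6 7 [⟨[], 382, true, [1, 4, 6, 4, 5, 6, 5, 10, 5]⟩, ⟨[24, 23], 308, true, [6, 1, 4, 5, 6, 10, 5]⟩, ⟨[24], 344, false, [3, 5, 6, 1, 10, 5, 10]⟩] []),
  (⟨false, 2, 2, [59, 48, 47, 30, 29, 32, 2, 23, 17, 0, 6], [66, 50, 47, 34, 41, 41, 16, 16, 2, 11], [57, 34, 36, 30, 16, 16, 22, 19]⟩, .loop 33 2 [67, 47, 44, 36, 35, 40, 2, 17, 17, 23, 16] 6 7 [⟨[24], 458, true, [2, 5, 3, 6, 4, 5, 10, 5, 6]⟩, ⟨[23, 24, 23], 188, false, [10, 5, 3, 6, 5, 6, 4, 6, 5]⟩, ⟨[61, 63, 61, 28], 256, false, [0, 3, 4, 6, 5, 6, 2, 4, 10, 5]⟩] []),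
  (⟨false, 2, 5, [63, 54, 46, 35, 30, 32, 2, 17, 17, 6, 20], [62, 52, 55, 34, 28, 37, 16, 16, 16, 11], [60, 50, 46, 31, 26, 33, 16, 24, 16, 11]⟩, .loop 46 5 [66, 49, 44, 30, 34, 2, 17, 17, 13, 25] 4 5 [⟨[37, 38], 217, true, [0, 10, 5, 3, 6, 2, 4, 5, 6, 4, 6]⟩, ⟨[23], 286, true, [1, 2, 5, 6, 5, 3, 6, 4, 6, 2]⟩] []),
  (⟨false, 2, 2, [61, 55, 46, 30, 37, 40, 16, 18, 18], [63, 57, 55, 38, 37, 18, 23, 17, 23], [67, 44, 47, 28, 30, 38, 2, 17, 23, 20, 13]⟩, .loop 33 2 [58, 48, 50, 28, 36, 17, 22, 6, 16] 6 7 [⟨[], 131, false, [0, 2, 5, 6, 4, 5, 6, 4, 5, 6, 10]⟩, ⟨[24], 416, true, [2, 3, 6, 5, 6, 4, 6]⟩, ⟨[23, 24, 23], 236, false, [1, 3, 6, 4, 6, 5, 6, 10]⟩] []),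
  (⟨false, 2, 2, [52, 55, 33, 36, 41, 16, 19, 22, 25], [59, 45, 42, 47, 33, 27, 27, 16, 16, 20, 18], [62, 44, 47, 44, 28, 26, 38, 2, 17, 22, 10]⟩, .loop 23 2 [61, 47, 33, 34, 30, 16, 11, 17] 2 3 [⟨[], 139, true, [2, 4, 5, 3, 6, 4, 5, 6, 5, 6]⟩] [⟨[23, 24], 411, true, [1, 5, 10, 5, 6, 5, 10, 5, 6]⟩, ⟨[23, 24], 350, true, [1, 6, 5, 6, 2, 5, 6, 4, 6]⟩]),
  (⟨false, 2, 2, [63, 47, 54, 30, 28, 33, 2, 17, 23, 6], [45, 50, 33, 31, 38, 16, 22], [61, 44, 31, 28, 30, 16, 10, 16, 16, 11]⟩, .loop 44 2 [66, 48, 41, 34, 16, 22] 4 5 [⟨[23, 24, 23], 539, false, [2, 5, 3, 6, 4, 6, 2, 6, 5]⟩, ⟨[23], 483, true, [3, 6, 2, 6, 5, 6, 4, 5]⟩] []),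
  (⟨false, 2, 2, [66, 44, 55, 30, 27, 27, 2, 16, 16, 6, 18], [67, 45, 42, 49, 30, 28, 34, 2, 17, 17, 24, 17], [47, 55, 33, 34, 41, 16, 4, 16]⟩, .loop 45 2 [63, 46, 44, 54, 33, 34, 2, 17, 17, 17] 2 3 [⟨[], 365, true, [3, 4, 5, 6, 2, 6, 2, 5, 3]⟩] [⟨[23], 486, false, [0, 6, 2, 5, 6, 10, 5, 6, 4, 6]⟩]),
  (⟨false, 2, 2, [44, 46, 30, 27, 32, 16, 16, 24, 22], [60, 46, 44, 31, 41, 28, 2, 17, 17, 8], [61, 46, 57, 30, 28, 28, 2, 17, 17, 10, 22]⟩, .loop 48 2 [60, 46, 44, 31, 41, 28, 2, 17, 0, 17, 25] 4 5 [⟨[24], 555, true, [2, 3, 6, 1, 2, 5, 6, 10]⟩, ⟨[245, 21, 245, 245], 239, false, [3, 4, 6, 5, 3, 6, 2, 6]⟩] []),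
  (⟨false, 2, 2, [63, 47, 53, 30, 27, 38, 2, 23, 17, 19, 6], [62, 55, 35, 31, 16, 22, 22, 8], [66, 52, 50, 28, 26, 41, 16, 16, 19, 17]⟩, .loop 20 2 [66, 51, 44, 34, 41, 41, 16, 16, 8, 17] 2 3 [⟨[24], 473, true, [1, 5, 6, 5, 6, 10, 5]⟩] [⟨[23], 564, false, [3, 6, 5, 3, 6]⟩, ⟨[23, 24, 23], 337, true, [2, 3, 6, 2, 6, 5, 10]⟩]),
  (⟨false, 2, 2, [59, 48, 46, 28, 30, 2, 17, 23, 20, 24], [66, 45, 54, 45, 41, 30, 28, 16, 18, 16, 22], [44, 42, 33, 34, 40, 16, 24, 17, 22]⟩, .loop 34 2 [66, 55, 49, 31, 37, 29, 16, 21, 16, 10] 6 7 [⟨[], 141, false, [1, 6, 5, 6, 10, 5, 6, 2, 5, 3]⟩, ⟨[38, 66, 37], 383, true, [5, 6, 10, 5, 6, 5, 10]⟩, ⟨[24], 477, true, [0, 4, 6, 5, 10, 5, 6, 2, 4, 5]⟩] []),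
  (⟨false, 2, 2, [66, 49, 56, 36, 40, 16, 22, 22, 24], [60, 48, 48, 31, 34, 30, 16, 16, 4, 22], [63, 55, 47, 30, 30, 28, 2, 23, 10, 17]⟩, .loop 50 2 [63, 44, 46, 44, 33, 29, 31, 2, 23, 17, 2] 12 13 [⟨[23, 24], 577, false, [3, 5, 3, 6, 4, 6, 5, 6, 10]⟩, ⟨[], 627, false, [5, 6, 2, 10, 5, 6, 4, 6, 2]⟩, ⟨[], 550, true, [0, 2, 4, 5, 6, 2, 6, 10, 5]⟩, ⟨[23, 24], 549, false, [1, 3, 6, 5, 6, 2, 5]⟩, ⟨[23, 24, 23], 540, false, [5, 6, 4, 10, 5, 6, 4, 10, 5, 10]⟩, ⟨[], 514, false, [4, 5, 3, 5, 6, 2, 5, 6, 2, 4]⟩] [⟨[23, 24], 314, false, [2, 10, 5, 6, 5, 3, 6, 4, 6, 4]⟩])]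

/-- facts 640 and on -/
def facts20 : List (Fact × Why) := [
  (⟨false, 2, 2, [44, 57, 49, 30, 34, 16, 16, 24, 12], [66, 52, 44, 28, 26, 16, 16, 20, 13], [61, 51, 46, 30, 26, 36, 16, 16, 20, 24]⟩, .loop 20 2 [66, 55, 49, 30, 38, 40, 16, 11, 23, 23] 4 5 [⟨[], 488, false, [4, 6, 4, 5, 3, 5, 6, 4, 5, 3]⟩, ⟨[23, 24], 259, false, [1, 2, 4, 5, 6, 10, 5, 6, 2, 4]⟩] [⟨[23], 445, false, [5, 6, 5, 6, 2, 6, 5, 10]⟩]),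
  (⟨false, 2, 2, [66, 44, 46, 48, 35, 29, 34, 16, 16, 13, 19], [67, 56, 53, 41, 27, 34, 2, 23, 17, 25, 10], [67, 49, 49, 41, 34, 30, 2, 17, 6]⟩, .loop 47 2 [61, 44, 47, 52, 34, 26, 30, 16, 16, 10, 16] 2 3 [⟨[], 480, false, [2, 5, 6, 4, 6, 2, 6, 4, 5]⟩] [⟨[23], 302, true, [3, 5, 6, 1, 4, 10, 5, 3]⟩]),
  (⟨false, 2, 2, [60, 45, 57, 35, 37, 16, 4, 16, 2], [44, 43, 51, 33, 35, 29, 2, 17, 17, 0, 10], [67, 44, 56, 46, 38, 35, 36, 2, 23, 4, 19]⟩, .loop 69 2 [67, 51, 46, 41, 37, 2, 23, 10] 2 3 [⟨[], 548, false, [0, 4, 6, 5, 3, 6, 2, 4, 5, 6]⟩] [⟨[], 536, true, [0, 5, 3, 5, 6, 2, 4, 5, 3, 6]⟩, ⟨[], 578, false, [2, 3, 6, 4, 6, 5]⟩]),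
  (⟨false, 2, 2, [60, 44, 42, 51, 33, 40, 38, 16, 16, 10, 13], [59, 50, 44, 31, 27, 35, 2, 16, 16, 6, 23], [60, 55, 47, 40, 32, 2, 17, 17, 17, 20]⟩, .loop 66 2 [62, 51, 52, 28, 26, 40, 38, 2, 17, 17, 0, 23] 6 7 [⟨[24], 139, true, [2, 4, 10, 5, 3, 6, 5, 6, 2, 4, 10]⟩, ⟨[23, 24, 23], 272, true, [2, 4, 6, 10, 5, 6, 2, 5, 3]⟩, ⟨[], 553, true, [1, 5, 6, 4, 6, 2, 5]⟩] []),
  (⟨false, 2, 2, [58, 44, 42, 48, 30, 32, 31, 16, 16, 16, 4, 13], [60, 48, 52, 30, 28, 41, 16, 18, 18, 6], [59, 49, 35, 36, 30, 2, 23, 6, 23, 4]⟩, .loop 45 2 [60, 48, 52, 30, 28, 41, 16, 16, 8, 21] 4 5 [⟨[], 643, false, [0, 4, 6, 5, 6, 2, 4, 6, 5, 3, 6]⟩, ⟨[23, 24, 23], 509, true, [6, 2, 6, 2, 4, 5, 3, 6]⟩] []),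
  (⟨false, 2, 4, [58, 50, 55, 31, 26, 34, 2, 23, 11], [47, 49, 30, 17, 23, 16, 11], [58, 46, 44, 31, 36, 41, 2, 23, 4, 6, 17]⟩, .loop 69 4 [66, 48, 43, 30, 34, 27, 2, 23, 17, 2, 6] 6 7 [⟨[30, 27], 56, true, [3, 4, 6, 2, 6, 5, 6, 4, 5]⟩, ⟨[50, 22, 22, 21], 213, false, [0, 2, 4, 10, 5, 6, 5, 6, 2, 6, 4]⟩, ⟨[23], 486, false, [2, 4, 6, 2, 6, 5, 3]⟩] []),
  (⟨false, 2, 5, [62, 45, 30, 35, 37, 16, 2, 10, 23], [61, 46, 57, 28, 31, 26, 16, 16, 24, 6], [58, 45, 42, 51, 33, 36, 2, 17, 17, 19]⟩, .loop 29 2 [67, 44, 43, 36, 27, 40, 17, 23, 17] 2 3 [⟨[24, 23], 206, true, [4, 5, 6, 5, 3, 6, 2]⟩] [⟨[24, 23], 262, true, [0, 4, 5, 3, 6, 5, 6, 2, 5, 10]⟩, ⟨[24], 229, true, [5, 3, 6, 5, 6, 2, 4, 5]⟩]),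
  (⟨false, 2, 2, [61, 48, 43, 30, 30, 41, 2, 23, 23, 17, 2], [61, 45, 53, 33, 41, 28, 2, 17, 17, 20, 8], [63, 54, 50, 28, 41, 27, 2, 23, 17, 17, 10]⟩, .loop 67 2 [66, 47, 54, 28, 41, 38, 2, 17, 22, 16, 16] 6 7 [⟨[24], 616, false, [0, 5, 6, 4, 6, 5, 3, 6, 2]⟩, ⟨[24], 389, true, [4, 10, 5, 6, 2, 4, 5, 3, 6]⟩, ⟨[], 430, false, [0, 6, 5, 3, 6, 4, 6, 4]⟩] []),
  (⟨false, 2, 2, [45, 49, 34, 38, 16, 16, 20, 13], [59, 46, 44, 54, 30, 34, 34, 2, 23, 23, 18, 17], [66, 51, 51, 36, 35, 27, 16, 16, 8, 17, 12]⟩, .loop 16 2 [63, 51, 43, 35, 35, 41, 16, 8, 17, 23] 6 7 [⟨[24], 492, false, [1, 4, 10, 5, 3]⟩, ⟨[], 575, true, [5, 6, 5, 3, 5, 6, 2, 4, 5]⟩, ⟨[24, 23], 599, false, [5, 3, 6, 1, 2, 6, 5]⟩] []),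
  (⟨false, 2, 2, [55, 46, 41, 27, 34, 2, 17, 17, 0, 11], [61, 55, 43, 36, 33, 2, 23, 25, 19, 17], [46, 51, 55, 41, 38, 16, 2, 0]⟩, .loop 49 2 [67, 51, 55, 30, 30, 36, 2, 23, 23, 18, 11] 2 3 [⟨[], 628, true, [3, 5, 6, 5, 6, 2, 6, 5, 10]⟩] [⟨[23, 24], 365, true, [6, 4, 5, 3, 6, 2, 5, 6]⟩]),
  (⟨false, 2, 5, [62, 49, 45, 35, 28, 40, 16, 16, 2, 4, 24], [59, 46, 51, 30, 27, 35, 2, 23, 8, 17, 17], [61, 46, 46, 40, 32, 16, 16, 16, 24]⟩, .loop 35 4 [62, 50, 42, 30, 28, 30, 2, 23, 17, 17, 6] 4 5 [⟨[29, 63, 29], 615, false, [2, 4, 5, 3, 6, 1, 5, 3, 6]⟩, ⟨[24, 23], 597, true, [0, 4, 6, 10, 5, 3, 6, 4, 5, 6, 10]⟩] [⟨[61, 61, 30], 71, false, [1, 2, 6, 2, 4, 5, 6, 4]⟩]),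
  (⟨false, 2, 2, [61, 44, 42, 48, 28, 26, 38, 16, 24, 18], [59, 46, 42, 31, 26, 16, 19, 22, 11], [63, 47, 50, 30, 26, 31, 16, 16, 25, 22]⟩, .loop 33 5 [61, 49, 46, 34, 41, 16, 16, 19, 20] 4 5 [⟨[], 313, false, [3, 4, 5, 6, 1, 2, 5, 6, 10]⟩, ⟨[], 175, false, [2, 10, 5, 6, 5, 6, 4, 10]⟩] [⟨[66, 38, 66], 265, true, [0, 6, 4, 10, 5, 6, 5, 6, 2]⟩]),
  (⟨false, 2, 2, [61, 44, 47, 52, 40, 32, 2, 17, 17, 13, 22], [47, 44, 51, 31, 27, 2, 17, 17, 0, 23], [66, 47, 52, 28, 30, 17, 17, 22, 16]⟩, .loop 44 2 [58, 46, 51, 31, 26, 16, 16, 16, 4] 4 5 [⟨[24], 503, false, [2, 5, 6, 4, 10, 5, 6, 5, 6]⟩, ⟨[23, 24, 23], 237, true, [2, 6, 4, 10, 5, 6, 10, 5, 6]⟩] []),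
  (⟨false, 2, 2, [66, 44, 43, 30, 41, 26, 2, 17, 23, 13], [58, 52, 44, 30, 32, 31, 19, 6, 17, 22], [58, 48, 46, 31, 34, 2, 17, 18, 22, 24]⟩, .loop 46 3 [66, 45, 50, 42, 28, 35, 28, 16, 18, 16, 22] 2 3 [⟨[50], 213, false, [5, 6, 1, 4, 6, 2, 10, 5]⟩] [⟨[245, 21, 245], 239, false, [1, 2, 6, 4, 6, 5, 6, 2, 4]⟩]),
  (⟨false, 2, 2, [62, 46, 44, 54, 31, 41, 28, 2, 17, 25, 25], [67, 44, 42, 45, 34, 37, 34, 2, 17, 23, 12, 10], [66, 44, 46, 30, 32, 35, 16, 18, 16, 8]⟩, .loop 30 2 [63, 57, 28, 26, 41, 2, 17, 23, 24, 17] 6 7 [⟨[24], 395, true, [3, 5, 3, 6, 1, 4, 6, 5, 3, 6]⟩, ⟨[23], 548, true, [1, 2, 3, 6, 4, 5, 6, 10, 5]⟩, ⟨[23, 24, 23], 328, true, [3, 5, 6, 1, 5, 3, 5, 6, 2, 5]⟩] []),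
  (⟨false, 2, 2, [58, 47, 49, 28, 35, 36, 16, 2, 24], [61, 50, 46, 38, 31, 35, 16, 16, 8, 17, 12], [66, 44, 53, 56, 38, 27, 16, 24, 6]⟩, .loop 17 2 [58, 45, 54, 56, 30, 38, 31, 16, 10, 16, 25] 4 5 [⟨[23, 24], 288, true, [5, 6, 1, 4, 10, 5, 6, 2]⟩, ⟨[23, 24], 639, false, [3, 6, 2, 5, 6, 5, 6]⟩] [⟨[23], 117, false, [0, 2, 4, 5, 3, 6, 2, 5, 6, 4]⟩]),
  (⟨false, 2, 2, [67, 44, 46, 57, 33, 36, 38, 16, 16, 16, 2], [51, 57, 34, 2, 17, 17, 8, 21], [62, 44, 43, 53, 36, 28, 34, 2, 17, 0, 23, 23]⟩, .loop 21 2 [60, 51, 44, 41, 29, 2, 23, 8, 17] 2 3 [⟨[], 321, false, [0, 5, 6, 4, 5, 3, 6, 4, 6, 5, 6]⟩] [⟨[24, 23], 522, false, [0, 6, 2, 6, 5, 6, 4, 10, 5]⟩, ⟨[23, 24], 246, false, [0, 4, 6, 10, 5, 6, 10, 5, 6, 2]⟩]),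
  (⟨false, 2, 5, [60, 44, 55, 50, 30, 38, 26, 2, 17, 23, 24, 17], [60, 44, 51, 30, 38, 2, 17, 17, 11, 22], [61, 51, 52, 30, 27, 38, 2, 17, 25]⟩, .loop 20 2 [57, 30, 40, 16, 16, 20, 18] 2 3 [⟨[23, 24], 212, true, [2, 5, 3, 6, 2, 6, 4, 5, 6, 4]⟩] [⟨[23], 232, false, [2, 10, 5, 6, 4, 5, 10, 5, 6, 2]⟩, ⟨[28, 63, 63], 460, true, [2, 4, 6, 5, 6, 2, 10, 5, 6, 5]⟩]),
  (⟨false, 2, 2, [63, 50, 45, 31, 33, 34, 2, 17, 23, 4, 10], [60, 51, 52, 28, 35, 40, 2, 23, 8, 23], [58, 52, 48, 40, 35, 16, 11, 18, 23, 23]⟩, .loop 35 2 [60, 46, 48, 54, 34, 29, 36, 2, 17, 19] 4 5 [⟨[], 517, false, [5, 6, 1, 5, 10, 5]⟩, ⟨[24, 23], 488, true, [2, 6, 4, 5, 6, 5, 6, 4, 6, 10]⟩] [⟨[23], 106, true, [0, 5, 3, 6, 2, 6, 4, 5, 6, 4]⟩]),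
  (⟨false, 2, 2, [56, 28, 38, 36, 16, 16, 18, 18], [59, 46, 44, 28, 26, 31, 2, 23, 17, 2], [58, 45, 54, 33, 40, 38, 16, 11, 16, 24]⟩, .loop 17 2 [66, 48, 44, 31, 28, 36, 16, 2, 16, 2] 4 5 [⟨[23], 163, false, [1, 2, 4, 6, 4, 5, 6, 5, 10]⟩, ⟨[23], 397, true, [0, 2, 6, 2, 4, 5, 3, 6]⟩] [⟨[24], 316, true, [1, 2, 3, 6, 5, 3, 6, 2, 6, 4]⟩]),
  (⟨false, 2, 2, [58, 44, 43, 30, 28, 16, 16, 4, 16], [66, 51, 31, 16, 16, 2, 4], [62, 50, 55, 38, 31, 2, 23, 23, 25, 21]⟩, .loop 72 2 [67, 44, 51, 48, 33, 31, 33, 16, 18, 16, 19] 2 3 [⟨[24], 625, true, [2, 6, 4, 5, 6, 4, 10, 5, 3]⟩] [⟨[24, 23], 232, false, [3, 4, 6, 5, 3, 6, 2, 6]⟩, ⟨[61, 63, 63], 615, false, [0, 3, 4, 6, 4, 6, 5]⟩]),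
  (⟨false, 2, 2, [60, 51, 51, 28, 30, 35, 2, 23, 23, 25], [58, 50, 44, 30, 27, 27, 19, 6, 23, 20], [66, 47, 44, 34, 26, 30, 2, 17, 17, 6, 23]⟩, .loop 46 2 [66, 44, 51, 46, 34, 29, 36, 16, 11, 16, 21] 4 5 [⟨[23, 24, 23], 137, false, [1, 5, 3, 6, 4, 6, 2, 6, 4, 5]⟩, ⟨[], 640, true, [3, 5, 6, 10, 5, 3, 6, 5, 6, 5]⟩] []),
  (⟨false, 2, 2, [60, 51, 33, 36, 41, 19, 6, 17], [63, 46, 44, 54, 28, 31, 33, 16, 16, 18, 16], [63, 49, 57, 33, 34, 40, 2, 23, 11]⟩, .loop 47 2 [45, 48, 30, 30, 38, 16, 16, 8, 17, 12] 4 5 [⟨[23], 426, false, [4, 6, 2, 6, 10, 5, 3, 6, 5, 3]⟩, ⟨[24, 23], 571, false, [4, 10, 5, 6, 10, 5, 6, 10]⟩] []),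
  (⟨false, 5, 2, [59, 44, 56, 46, 34, 28, 40, 16, 10, 16, 25], [58, 44, 28, 38, 30, 2, 23, 17, 6, 24], [59, 50, 49, 40, 28, 2, 23, 17, 18]⟩, .loop 18 2 [63, 45, 53, 48, 34, 33, 40, 16, 16, 4, 18] 6 7 [⟨[23], 437, true, [2, 6, 4, 10, 5, 6, 4, 5, 3, 6, 5]⟩, ⟨[23, 24], 447, false, [5, 6, 2, 6, 4, 10]⟩, ⟨[23, 24], 219, true, [0, 5, 3, 6, 2, 5, 6, 2, 4, 10]⟩] []),
  (⟨false, 2, 2, [63, 45, 54, 31, 26, 36, 18, 23, 17, 22], [60, 31, 41, 28, 19, 6, 17, 22], [59, 51, 46, 28, 41, 29, 2, 23, 23, 23]⟩, .loop 30 2 [58, 45, 48, 31, 33, 31, 16, 4, 16, 11] 4 5 [⟨[23], 252, false, [3, 5, 6, 1, 4, 10, 5, 6, 2, 10]⟩, ⟨[24], 379, false, [4, 10, 5, 3, 6, 2, 6, 5, 3]⟩] [⟨[24], 603, false, [0, 5, 3, 6, 5, 6, 2, 6, 4]⟩]),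
  (⟨false, 2, 2, [61, 48, 48, 33, 28, 35, 2, 17, 22, 16, 2], [59, 51, 49, 28, 36, 34, 2, 17, 17, 13, 17], [60, 51, 53, 33, 35, 26, 2, 17, 25, 25]⟩, .loop 72 4 [61, 48, 56, 33, 34, 40, 2, 17, 23, 18, 21] 4 5 [⟨[], 455, true, [4, 5, 3, 6, 1, 5, 6, 2]⟩, ⟨[23, 24], 635, true, [2, 4, 5, 6, 4, 6, 5, 6, 10]⟩] [⟨[61, 28], 180, false, [2, 4, 6, 4, 10, 5, 6, 4, 5, 3, 6]⟩]),
  (⟨false, 2, 2, [66, 50, 46, 41, 30, 16, 4, 16, 22, 22], [58, 45, 54, 45, 28, 31, 34, 17, 17, 22, 21], [60, 47, 56, 30, 30, 37, 16, 22, 19]⟩, .loop 45 2 [59, 46, 36, 32, 31, 2, 23, 23, 13, 17] 2 3 [⟨[], 486, false, [4, 6, 10, 5, 3, 6, 5, 10, 5, 6]⟩] [⟨[23, 24, 23], 628, true, [6, 1, 4, 5, 3, 5, 6, 2, 5]⟩]),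
  (⟨false, 2, 2, [60, 44, 47, 47, 30, 37, 31, 17, 17, 17, 19], [61, 51, 49, 28, 35, 32, 16, 18, 16, 8], [59, 46, 46, 34, 40, 29, 2, 17, 17, 18, 16]⟩, .loop 23 2 [66, 50, 45, 33, 38, 36, 16, 16, 2, 20] 4 5 [⟨[24], 197, true, [2, 6, 5, 3, 5, 6, 5, 6, 2, 10]⟩, ⟨[21, 245, 21], 555, false, [2, 4, 6, 1, 4, 5]⟩] [⟨[24], 294, true, [3, 4, 6, 2, 5, 6, 4, 6, 5, 3, 6]⟩]),
  (⟨false, 2, 2, [45, 43, 45, 35, 31, 32, 17, 22, 6, 23], [63, 47, 50, 35, 28, 37, 19, 6, 23, 16], [67, 46, 49, 30, 26, 38, 2, 17, 23, 10, 21]⟩, .loop 46 2 [66, 49, 47, 33, 36, 30, 16, 16, 25, 25] 2 3 [⟨[], 284, false, [1, 3, 4, 5, 6, 4, 5, 6, 2, 10]⟩] [⟨[], 633, false, [3, 4, 6, 4, 5, 6, 4, 5, 3, 6, 5]⟩]),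
  (⟨false, 2, 2, [58, 56, 53, 28, 36, 32, 2, 17, 23, 4, 21], [59, 49, 56, 33, 27, 30, 17, 23, 23, 18], [47, 56, 36, 32, 30, 17, 17, 17, 8]⟩, .loop 16 2 [63, 44, 47, 52, 31, 36, 34, 16, 4, 16, 22, 22] 6 7 [⟨[], 431, false, [0, 2, 6, 10, 5, 6, 4, 10]⟩, ⟨[23], 322, true, [0, 6, 5, 3, 6, 4, 5, 6, 4]⟩, ⟨[24], 324, true, [1, 6, 4, 5, 6, 4, 10, 5, 3]⟩] []),
  (⟨false, 2, 2, [66, 54, 56, 28, 31, 41, 2, 23, 23, 25, 10], [58, 46, 48, 38, 2, 23, 23, 16], [61, 46, 44, 54, 36, 32, 30, 16, 24, 23]⟩, .loop 48 2 [62, 45, 43, 36, 40, 30, 2, 23, 6, 23, 16] 4 5 [⟨[], 399, false, [3, 6, 2, 5, 6, 5, 3, 6, 5, 6]⟩, ⟨[23, 24], 538, true, [2, 5, 6, 5, 6, 4, 10, 5, 3, 6]⟩] []),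
  (⟨false, 2, 2, [62, 51, 53, 33, 27, 31, 2, 23, 17, 12], [59, 46, 48, 35, 31, 27, 2, 23, 17, 19], [67, 54, 46, 28, 38, 33, 16, 4, 16, 2, 20]⟩, .loop 35 2 [62, 56, 50, 30, 32, 35, 16, 2, 10] 4 5 [⟨[], 587, true, [0, 5, 3, 6, 5, 10, 5, 6, 2, 4]⟩, ⟨[23, 24], 586, true, [0, 3, 4, 5, 6, 5, 3, 6, 2]⟩] [⟨[23], 378, false, [1, 5, 6, 4, 6, 2, 4, 5, 3]⟩])]

/-- facts 672 and on -/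
def facts21 : List (Fact × Why) := [
  (⟨false, 2, 4, [62, 44, 47, 41, 41, 2, 17, 18, 22, 22], [58, 46, 57, 34, 27, 38, 2, 23, 8, 17, 17], [59, 44, 55, 31, 36, 33, 16, 11]⟩, .loop 19 2 [51, 47, 30, 40, 33, 2, 17, 19, 22, 11] 4 5 [⟨[], 172, true, [0, 2, 4, 10, 5, 6, 5, 3, 6, 2, 4]⟩, ⟨[23], 599, false, [1, 5, 10, 5, 6, 5, 3, 6, 4, 6]⟩] [⟨[], 493, true, [1, 5, 6, 10, 5, 3, 6, 5, 6, 10]⟩]),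
  (⟨false, 2, 2, [63, 47, 47, 34, 29, 16, 16, 8, 18], [66, 51, 55, 36, 31, 31, 18, 23, 23, 23], [58, 54, 31, 2, 17, 23, 18, 20]⟩, .loop 71 2 [47, 47, 28, 35, 31, 2, 17, 22, 6, 23] 4 5 [⟨[24], 609, false, [2, 10, 5, 6, 4, 5, 6, 2, 6]⟩, ⟨[23, 24], 350, false, [4, 10, 5, 6, 5, 6, 4, 6]⟩] [⟨[23], 513, true, [0, 5, 6, 4, 6, 5]⟩]),
  (⟨false, 2, 3, [63, 55, 46, 35, 37, 16, 16, 22, 17], [46, 51, 55, 30, 27, 28, 2, 23, 23, 18, 18], [66, 45, 43, 33, 40, 38, 16, 16, 4, 16]⟩, .loop 29 2 [44, 48, 52, 38, 37, 16, 10, 17] 4 5 [⟨[23, 24], 246, true, [3, 6, 4, 6, 5, 6, 5, 3]⟩, ⟨[23], 212, true, [0, 2, 3, 6, 2, 4, 5, 6, 2, 10, 5]⟩] [⟨[24, 23], 164, true, [6, 1, 4, 10, 5, 3, 6, 4, 5]⟩]),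
  (⟨false, 2, 2, [60, 44, 42, 57, 34, 37, 16, 16, 10, 8, 22], [60, 44, 42, 57, 28, 31, 28, 38, 16, 16], [61, 44, 43, 57, 28, 34, 41, 16, 2, 19, 6]⟩, .loop 45 2 [59, 45, 43, 45, 38, 27, 2, 23, 23, 17, 22] 4 5 [⟨[23], 484, true, [4, 5, 6, 1, 2, 5, 6, 4]⟩, ⟨[24, 23], 480, false, [2, 6, 2, 6, 5, 3, 6, 4, 6]⟩] []),
  (⟨false, 2, 2, [66, 46, 42, 33, 31, 34, 16, 18, 24, 6], [61, 46, 43, 31, 32, 36, 17, 17, 23, 20], [66, 44, 53, 41, 28, 33, 16, 24, 16, 11]⟩, .loop 29 2 [66, 47, 48, 33, 31, 32, 18, 23, 17, 23] 6 7 [⟨[24], 457, true, [1, 2, 6, 5, 10, 5, 6, 5]⟩, ⟨[23, 24], 580, false, [0, 2, 10, 5, 3, 6, 2, 4]⟩, ⟨[23, 24, 23], 418, false, [0, 10, 5, 3, 6, 2, 6, 5, 10]⟩] []),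
  (⟨false, 2, 2, [61, 48, 55, 30, 35, 40, 2, 16], [61, 44, 51, 46, 35, 31, 26, 18, 23, 17, 17], [59, 48, 48, 36, 28, 38, 16, 4, 16, 19, 11]⟩, .loop 47 2 [58, 52, 49, 41, 29, 40, 16, 19, 6, 23] 2 3 [⟨[], 585, true, [5, 3, 6, 5, 6, 4, 6]⟩] [⟨[], 552, false, [4, 6, 4, 6, 4, 5]⟩]),
  (⟨false, 2, 2, [47, 48, 38, 27, 16, 16, 4, 8], [60, 46, 42, 36, 16, 16, 20, 13], [59, 55, 34, 36, 31, 2, 17, 17, 22, 11]⟩, .loop 18 2 [48, 48, 34, 27, 31, 16, 16, 2, 16] 6 7 [⟨[24, 23], 439, false, [0, 5, 6, 2, 6, 4, 5, 3, 6, 2]⟩, ⟨[29, 63, 61], 615, false, [5, 6, 2, 4, 6, 5, 6, 5, 10]⟩, ⟨[23], 429, false, [1, 3, 5, 3, 6, 4, 6, 5, 10, 5]⟩] []),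
  (⟨false, 2, 2, [67, 46, 42, 51, 31, 29, 41, 16, 4, 16, 10], [61, 56, 50, 41, 26, 37, 2, 23, 23, 17, 22], [61, 52, 30, 41, 34, 16, 11, 19]⟩, .loop 30 2 [62, 44, 42, 57, 30, 34, 16, 18] 2 3 [⟨[], 522, false, [6, 2, 5, 6, 4, 5, 3, 6, 5, 3]⟩] [⟨[23], 560, true, [3, 6, 5, 6, 4, 6, 5, 6]⟩, ⟨[66, 66, 38, 37, 66], 327, false, [0, 2, 6, 4, 5, 6, 2, 6, 10, 5, 3]⟩]),
  (⟨false, 5, 2, [62, 47, 54, 36, 30, 33, 17, 17, 17, 10], [66, 55, 46, 33, 34, 31, 17, 17], [55, 47, 33, 34, 31, 2, 23, 13, 17]⟩, .loop 46 5 [63, 47, 47, 41, 26, 37, 2, 17, 23, 17, 25] 2 3 [⟨[66, 38, 66], 441, false, [5, 6, 1, 2, 5, 3, 6, 4]⟩] [⟨[37, 38], 303, false, [0, 6, 4, 10, 5, 6, 4, 6, 2, 10]⟩]),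
  (⟨false, 2, 2, [61, 46, 44, 36, 31, 16, 16, 22, 2], [59, 50, 33, 34, 38, 2, 17, 18], [59, 44, 53, 40, 35, 16, 25]⟩, .loop 17 2 [60, 50, 48, 35, 28, 2, 16] 6 7 [⟨[24], 570, true, [1, 5, 3, 6, 5]⟩, ⟨[23, 24], 500, true, [3, 6, 1, 5, 10, 5, 6, 2, 5, 6]⟩, ⟨[37, 38], 525, false, [1, 4, 5, 3, 6, 5, 10, 5, 6, 4]⟩] []),
  (⟨false, 5, 2, [48, 45, 31, 37, 29, 16, 8, 17, 6], [60, 44, 53, 56, 34, 26, 30, 2, 17, 17, 23], [62, 45, 54, 35, 40, 16, 11, 11, 16]⟩, .loop 33 2 [66, 51, 44, 30, 28, 34, 16, 24, 16, 21] 6 7 [⟨[23], 587, false, [1, 6, 5, 3, 6, 5, 6, 2, 4, 5]⟩, ⟨[], 187, false, [1, 5, 3, 6, 4, 5, 6, 10, 5, 3]⟩, ⟨[23, 24, 23], 310, true, [1, 10, 5, 6, 2, 5]⟩] []),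
  (⟨false, 5, 2, [44, 42, 48, 36, 28, 2, 17, 17, 10, 21], [47, 44, 28, 35, 28, 16, 16, 2, 21], [59, 44, 30, 37, 31, 17, 22, 6, 25]⟩, .loop 23 2 [67, 54, 47, 28, 31, 27, 31, 2, 17, 19, 22, 11] 6 7 [⟨[24, 23], 90, true, [1, 4, 6, 2, 6, 5, 10, 5, 6, 2, 4]⟩, ⟨[], 256, false, [3, 4, 6, 5, 6, 2, 4, 10]⟩, ⟨[], 141, false, [6, 2, 6, 4, 5, 3, 6, 2]⟩] []),
  (⟨false, 2, 2, [58, 44, 42, 57, 33, 30, 36, 18, 23, 17, 6], [61, 44, 42, 33, 34, 40, 16, 21, 16, 10], [66, 44, 42, 45, 35, 38, 16, 16, 2, 23]⟩, .loop 48 2 [61, 46, 48, 28, 26, 40, 16, 16, 20, 8] 4 5 [⟨[], 678, false, [1, 2, 5, 3, 6, 4, 6, 5, 3, 6, 4]⟩, ⟨[24], 273, false, [6, 1, 4, 6, 5, 3, 6, 2]⟩] []),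
  (⟨false, 2, 2, [67, 50, 44, 33, 36, 2, 17, 19, 25], [63, 55, 43, 41, 28, 16, 16, 4, 11], [61, 44, 42, 47, 33, 36, 38, 2, 17, 17, 24, 22]⟩, .loop 30 2 [67, 55, 47, 33, 31, 33, 2, 23, 23, 16, 8] 2 3 [⟨[], 540, true, [3, 6, 4, 6, 5, 3, 6]⟩] [⟨[23, 24, 23], 273, true, [0, 3, 4, 6, 2, 6, 4, 5, 6, 10]⟩, ⟨[], 571, true, [2, 3, 6, 1, 4, 5, 6, 2, 10]⟩]),
  (⟨false, 2, 2, [58, 45, 42, 49, 31, 34, 30, 16, 16, 25, 18], [66, 47, 42, 28, 36, 40, 36, 16, 16, 18, 18], [66, 47, 54, 28, 31, 29, 16, 4, 16, 10, 21]⟩, .loop 35 2 [59, 46, 49, 31, 27, 35, 2, 17, 23, 20] 6 7 [⟨[23, 24, 23], 647, true, [6, 1, 4, 6, 5, 3, 6]⟩, ⟨[24], 578, false, [2, 6, 4, 6, 2, 5, 3, 6, 5, 10]⟩, ⟨[24], 471, true, [1, 2, 4, 6, 4, 5, 3, 6, 4, 5]⟩] []),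
  (⟨false, 4, 2, [67, 44, 42, 45, 33, 33, 31, 16, 11, 18, 23], [63, 52, 31, 16, 16, 24, 2], [62, 48, 43, 31, 34, 27, 16, 21, 16, 22]⟩, .loop 48 2 [63, 52, 31, 28, 16, 16, 11, 18] 4 5 [⟨[23, 24, 23], 398, false, [0, 3, 5, 3, 6, 4, 5, 6, 5, 6]⟩, ⟨[24, 23], 672, false, [2, 3, 4, 6, 4, 6, 4, 5, 6]⟩] []),
  (⟨false, 5, 2, [66, 47, 49, 56, 36, 35, 2, 17, 17, 22, 11], [60, 48, 46, 28, 41, 2, 17, 23, 12, 16], [60, 44, 47, 47, 34, 40, 29, 16, 2, 19, 6, 17]⟩, .loop 71 2 [62, 49, 42, 30, 35, 16, 10, 13] 4 5 [⟨[24], 208, false, [3, 4, 6, 4, 6, 2, 4, 5, 6]⟩, ⟨[23, 24, 23], 384, false, [1, 2, 5, 3, 6, 5, 10]⟩] [⟨[23, 24, 23], 610, true, [1, 4, 6, 4, 10, 5, 3, 6, 5]⟩]),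
  (⟨false, 2, 2, [61, 44, 55, 36, 29, 31, 16, 24, 16], [67, 44, 42, 45, 31, 27, 31, 2, 17, 23, 10, 21], [66, 44, 42, 46, 30, 27, 38, 16, 21, 16, 21]⟩, .loop 45 5 [67, 45, 48, 30, 41, 16, 24, 16] 2 3 [⟨[66], 357, false, [0, 3, 5, 3, 6, 5, 3, 6, 4, 6]⟩] [⟨[37, 66, 66], 515, true, [2, 5, 3, 6, 4, 6, 2, 5]⟩]),
  (⟨false, 2, 2, [60, 54, 56, 34, 33, 40, 2, 17, 17, 23, 12], [66, 46, 51, 41, 16, 16, 24, 19], [60, 49, 51, 35, 29, 31, 2, 23, 23, 17]⟩, .loop 48 2 [63, 47, 55, 28, 36, 28, 16, 4, 23] 2 3 [⟨[], 392, false, [3, 4, 6, 5, 10, 5, 6, 5, 3, 6]⟩] [⟨[24, 23], 395, false, [2, 4, 5, 6, 4, 5, 6, 4, 10]⟩]),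
  (⟨false, 2, 2, [63, 55, 49, 34, 37, 37, 2, 23, 23, 23, 0], [48, 45, 28, 35, 31, 16, 10, 8], [67, 57, 55, 31, 34, 27, 16, 16, 24, 22]⟩, .loop 66 2 [59, 48, 55, 36, 40, 37, 2, 17, 23, 17, 22] 4 5 [⟨[23], 475, false, [1, 6, 4, 6, 2, 10, 5, 6]⟩, ⟨[24, 23], 659, false, [2, 5, 6, 4, 10, 5, 6, 2]⟩] [⟨[], 369, false, [4, 5, 6, 2, 5, 6, 5]⟩]),
  (⟨false, 2, 2, [58, 47, 49, 28, 30, 26, 34, 2, 23, 23, 23, 21], [67, 50, 49, 34, 26, 29, 2, 23, 4, 6, 23], [66, 48, 48, 36, 35, 35, 16, 16, 2, 4]⟩, .loop 21 2 [61, 44, 43, 53, 40, 16, 11, 25] 2 3 [⟨[23, 24, 23], 401, false, [0, 4, 6, 4, 5, 3, 5, 6, 4, 5, 3]⟩] [⟨[24], 689, false, [4, 10, 5, 6, 4, 6, 4, 5, 3, 5]⟩, ⟨[24], 598, false, [3, 4, 6, 5, 3, 6, 4]⟩]),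
  (⟨false, 2, 2, [66, 45, 53, 30, 28, 2, 23, 23, 23, 21], [66, 44, 55, 36, 26, 26, 2, 17, 17, 17, 0], [62, 48, 45, 33, 36, 38, 16, 11, 23]⟩, .loop 44 2 [60, 45, 57, 28, 26, 37, 2, 23, 8, 17, 25] 4 5 [⟨[24], 656, false, [1, 2, 3, 4, 5, 6, 4, 5]⟩, ⟨[24, 23], 643, true, [4, 5, 3, 6, 4, 5, 6, 5, 3]⟩] []),
  (⟨false, 2, 2, [60, 47, 54, 41, 27, 16, 11, 16, 2], [62, 47, 47, 52, 28, 30, 36, 16, 19, 22, 25], [61, 50, 45, 38, 33, 40, 16, 16, 18]⟩, .loop 72 2 [61, 44, 57, 55, 41, 2, 17, 25, 19] 2 3 [⟨[24], 412, false, [6, 5, 6, 2, 4, 10, 5, 6]⟩] [⟨[24, 23], 398, false, [0, 5, 6, 4, 5, 6, 2, 10, 5, 6, 4]⟩, ⟨[24], 121, true, [1, 6, 4, 6, 10, 5, 3, 6, 5]⟩]),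
  (⟨false, 2, 5, [62, 46, 48, 54, 38, 16, 2, 11], [61, 47, 47, 52, 30, 30, 41, 16, 16, 4], [62, 51, 44, 38, 30, 35, 2, 23, 10, 23]⟩, .loop 21 5 [58, 55, 46, 38, 34, 16, 4, 16] 6 7 [⟨[66, 38], 403, false, [1, 6, 5, 3, 5, 6, 5, 3, 6, 2]⟩, ⟨[24, 23], 280, false, [4, 6, 1, 4, 5, 6, 4, 10, 5]⟩, ⟨[66, 37, 66], 355, true, [0, 4, 10, 5, 6, 4, 5, 10, 5, 6, 4]⟩] []),
  (⟨false, 2, 2, [59, 45, 53, 30, 28, 33, 16, 16, 19, 4], [45, 49, 38, 28, 41, 16, 21, 16, 4], [66, 49, 51, 33, 36, 41, 2, 17, 17, 17, 13]⟩, .loop 22 2 [66, 57, 53, 28, 38, 16, 24, 16, 21] 4 5 [⟨[], 587, false, [4, 5, 3, 6, 5, 3, 6, 4, 6]⟩, ⟨[23], 605, false, [2, 6, 4, 5, 3, 6, 2, 5, 6]⟩] [⟨[24], 673, true, [5, 6, 4, 5, 3, 6, 2]⟩]),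
  (⟨false, 2, 2, [60, 47, 48, 30, 26, 41, 17, 23, 16], [59, 46, 48, 54, 34, 31, 38, 16, 8, 17], [66, 48, 47, 41, 27, 17, 17, 22, 21]⟩, .loop 23 2 [58, 45, 56, 50, 41, 33, 16, 24, 16, 25] 6 7 [⟨[], 456, false, [4, 6, 5, 10, 5, 6, 4]⟩, ⟨[24], 269, false, [0, 2, 5, 3, 6, 4, 5, 6, 4, 5, 10]⟩, ⟨[], 691, false, [5, 6, 4, 5, 3, 5, 6, 4]⟩] []),
  (⟨false, 2, 2, [58, 48, 53, 28, 30, 41, 41, 2, 17, 17, 18, 16], [66, 44, 49, 30, 32, 31, 16, 11, 18, 23], [61, 44, 46, 57, 30, 28, 34, 19, 6, 23, 18]⟩, .loop 68 2 [60, 49, 49, 30, 29, 34, 2, 23, 10, 23, 4] 2 3 [⟨[], 339, false, [0, 3, 5, 6, 2, 6, 10, 5, 10]⟩] [⟨[24], 644, false, [1, 2, 6, 2, 6, 5, 3, 6, 5, 10]⟩, ⟨[24], 350, true, [1, 5, 3, 6, 5, 6, 4, 6, 5, 10]⟩]),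
  (⟨false, 5, 2, [61, 44, 43, 51, 28, 35, 28, 16, 11, 16, 11, 19], [67, 49, 51, 28, 34, 16, 25, 22], [67, 51, 46, 28, 41, 28, 2, 17, 23, 11, 17]⟩, .loop 30 2 [48, 43, 33, 29, 31, 16, 4, 16, 2] 6 7 [⟨[], 588, true, [1, 6, 4, 6, 4, 10, 5, 6, 5]⟩, ⟨[23, 24], 276, true, [1, 2, 6, 10, 5, 6, 4, 5, 10]⟩, ⟨[24], 384, false, [1, 2, 5, 6, 4, 6, 2, 5, 6, 2]⟩] []),
  (⟨false, 2, 2, [62, 45, 50, 31, 35, 26, 16, 24, 6], [47, 44, 31, 33, 16, 11, 16, 25], [61, 57, 30, 32, 32, 16, 16, 4, 8]⟩, .loop 23 2 [67, 45, 42, 45, 40, 35, 26, 2, 23, 17, 24, 23] 6 7 [⟨[], 102, false, [1, 3, 4, 6, 4, 6, 5, 10, 5, 6, 5]⟩, ⟨[23, 24, 23], 412, true, [4, 5, 3, 6, 4, 6, 5, 6, 5]⟩, ⟨[24, 23], 246, true, [2, 6, 5, 3, 6, 5, 3, 6, 2, 6]⟩] []),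
  (⟨false, 2, 2, [44, 51, 40, 32, 16, 16, 10, 16], [66, 52, 49, 34, 33, 40, 16, 4, 16, 16, 10], [59, 44, 48, 38, 32, 36, 18, 23, 18]⟩, .loop 21 2 [58, 49, 49, 34, 41, 2, 17, 17, 20] 2 3 [⟨[24, 23], 498, true, [2, 6, 1, 4, 5, 10, 5, 6, 4]⟩] [⟨[24, 23], 647, true, [1, 5, 3, 5, 6, 4, 5, 6, 10, 5]⟩, ⟨[23, 24, 23], 654, true, [1, 2, 6, 5, 6, 10, 5, 6, 2, 4]⟩]),
  (⟨false, 2, 2, [58, 55, 49, 35, 30, 32, 2, 17, 25, 25], [61, 44, 51, 28, 36, 33, 2, 23, 17, 24, 6], [49, 53, 34, 38, 16, 16, 8]⟩, .loop 18 2 [66, 52, 34, 33, 34, 16, 11, 16, 22] 6 7 [⟨[24], 432, false, [2, 6, 4, 6, 2, 6, 4, 5, 3]⟩, ⟨[], 375, false, [1, 3, 6, 5, 6, 4, 6, 10, 5, 10]⟩, ⟨[24], 491, false, [0, 2, 4, 6, 10, 5, 6, 2]⟩] []),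
  (⟨false, 2, 2, [60, 45, 45, 30, 38, 40, 2, 17, 23, 11, 25], [61, 48, 45, 33, 36, 16, 10, 16, 10], [59, 47, 48, 33, 27, 40, 16, 16, 22, 2]⟩, .loop 44 2 [44, 57, 55, 31, 37, 35, 16, 16, 19, 20] 2 3 [⟨[], 652, false, [3, 5, 6, 2, 6, 5, 3, 6, 4]⟩] [⟨[24], 398, true, [3, 4, 6, 2, 6, 5, 6, 5]⟩])]

/-- facts 704 and on -/
def facts22 : List (Fact × Why) := [
  (⟨false, 2, 2, [67, 49, 57, 30, 32, 26, 2, 17, 23, 4, 21], [59, 48, 56, 30, 30, 40, 16, 11, 16, 24, 16], [61, 49, 51, 28, 35, 31, 16, 16, 11, 18]⟩, .loop 70 2 [62, 49, 42, 41, 36, 16, 10, 17, 23] 4 5 [⟨[], 563, false, [1, 2, 5, 3, 6, 4, 5, 10, 5, 6]⟩, ⟨[66, 38], 584, false, [4, 6, 2, 5, 6, 4, 6, 2, 5]⟩] [⟨[], 393, true, [4, 5, 6, 10, 5, 3, 6, 4, 6, 2]⟩]),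
  (⟨false, 2, 2, [63, 44, 47, 44, 33, 30, 16, 16, 2, 10, 21], [62, 44, 46, 28, 30, 36, 16, 10, 17, 17], [67, 55, 34, 31, 41, 2, 17, 17, 18, 21]⟩, .loop 23 2 [66, 48, 42, 40, 37, 2, 17, 0, 23, 17] 6 7 [⟨[], 196, false, [0, 4, 5, 10, 5, 6, 2]⟩, ⟨[23, 24, 23], 617, true, [2, 6, 1, 5, 6, 2, 10, 5, 6]⟩, ⟨[], 309, true, [2, 3, 5, 6, 2, 5, 6, 10]⟩] []),
  (⟨false, 2, 2, [59, 44, 48, 43, 35, 29, 34, 16, 16, 19], [67, 45, 42, 51, 28, 41, 33, 2, 17, 17, 17, 0], [63, 55, 47, 41, 36, 16, 18, 16]⟩, .loop 72 4 [60, 45, 56, 50, 33, 36, 30, 2, 17, 0, 23, 23] 2 3 [⟨[53, 28], 176, true, [2, 3, 6, 1, 4, 5, 6, 2]⟩] [⟨[63, 53], 89, true, [4, 5, 6, 10, 5, 6, 2, 10, 5]⟩, ⟨[23], 447, true, [5, 3, 6, 5, 6, 10, 5, 6]⟩]),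
  (⟨false, 2, 2, [67, 45, 54, 30, 38, 29, 2, 17, 22, 16, 10], [67, 49, 31, 36, 33, 16, 8, 17, 17, 22], [66, 45, 50, 28, 30, 35, 2, 17, 17, 10, 17]⟩, .loop 69 2 [62, 44, 47, 47, 28, 30, 41, 41, 2, 23, 23, 4, 19] 6 7 [⟨[], 351, true, [1, 6, 5, 6, 4, 5, 10, 5, 6, 2]⟩, ⟨[24], 274, false, [0, 6, 5, 3, 6, 2, 5, 6, 5]⟩, ⟨[38], 296, true, [0, 3, 4, 5, 6, 4, 5, 3, 6]⟩] []),
  (⟨false, 2, 2, [49, 45, 41, 28, 2, 23, 17, 22, 11], [62, 44, 57, 36, 30, 16, 16, 18, 25], [59, 44, 42, 48, 34, 27, 2, 17, 17, 18]⟩, .loop 46 2 [59, 45, 54, 36, 30, 33, 16, 16, 11, 23] 4 5 [⟨[24], 665, false, [2, 5, 3, 6, 4, 5, 6, 2, 10, 5]⟩, ⟨[24], 251, true, [3, 4, 6, 2, 5, 6, 4, 5, 6]⟩] []),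
  (⟨false, 2, 2, [62, 44, 55, 50, 28, 31, 16, 16, 20, 18], [63, 51, 47, 28, 30, 2, 17, 22, 12], [60, 46, 48, 54, 38, 35, 2, 23, 23, 17, 12]⟩, .loop 49 2 [60, 45, 42, 30, 30, 30, 2, 17, 22, 8] 4 5 [⟨[24, 23], 274, false, [2, 3, 4, 5, 6, 2, 5, 10]⟩, ⟨[66, 37, 66, 37], 478, false, [5, 3, 5, 6, 2, 4, 5, 6, 2]⟩] []),
  (⟨false, 2, 2, [61, 54, 47, 28, 35, 40, 2, 23, 23, 4, 23], [66, 48, 53, 34, 31, 37, 16, 16, 24, 12], [59, 51, 28, 40, 31, 2, 23, 8, 23, 23]⟩, .loop 16 2 [60, 45, 42, 49, 33, 33, 2, 17, 17, 25, 12] 4 5 [⟨[23, 24, 23], 517, true, [6, 4, 6, 5, 3, 6, 2, 4, 5, 6]⟩, ⟨[23, 24], 373, false, [2, 6, 5, 6, 4, 5, 10, 5, 6]⟩] [⟨[24], 488, true, [2, 3, 6, 1, 5, 3, 6, 2, 5]⟩]),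
  (⟨false, 2, 5, [63, 45, 53, 30, 34, 29, 2, 23, 6, 23], [60, 47, 51, 28, 40, 16, 16, 24], [59, 44, 46, 44, 36, 30, 2, 23, 17, 22, 11]⟩, .loop 48 2 [67, 51, 55, 35, 31, 27, 2, 23, 23, 0] 2 3 [⟨[23], 341, true, [2, 4, 6, 5, 3, 6, 4, 5, 10]⟩] [⟨[23, 24, 23], 534, true, [0, 3, 4, 5, 6, 2, 5, 6, 2, 4]⟩]),
  (⟨false, 2, 2, [66, 44, 48, 33, 40, 2, 17, 17, 17, 8], [63, 49, 42, 34, 27, 41, 2, 17, 17, 18], [62, 52, 55, 31, 27, 41, 16, 10, 13]⟩, .loop 29 2 [67, 50, 45, 34, 36, 30, 2, 17, 22, 6] 6 7 [⟨[24, 23], 706, false, [1, 10, 5, 6, 2, 5, 3, 6, 2, 5]⟩, ⟨[23], 142, true, [0, 3, 6, 2, 4, 5, 6, 4, 5, 10]⟩, ⟨[24], 442, false, [6, 1, 4, 10, 5, 6, 4, 5, 6, 5]⟩] []),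
  (⟨false, 2, 2, [67, 45, 42, 49, 35, 29, 31, 2, 23, 4], [62, 44, 42, 57, 31, 28, 30, 16, 10, 17, 17], [62, 44, 48, 52, 30, 41, 27, 16, 16, 16, 24]⟩, .loop 29 2 [63, 46, 48, 28, 34, 31, 2, 23, 23, 24] 6 7 [⟨[], 161, true, [1, 3, 5, 6, 4, 5, 3, 6, 4]⟩, ⟨[], 344, false, [5, 6, 1, 2, 4, 5, 6, 2]⟩, ⟨[23, 24, 23], 702, false, [0, 3, 6, 4, 6, 5, 6]⟩] []),
  (⟨false, 2, 2, [67, 48, 48, 31, 27, 41, 2, 17, 17, 18, 16], [60, 54, 44, 38, 29, 30, 17, 23, 17, 8], [61, 50, 42, 38, 35, 16, 16, 4]⟩, .loop 30 4 [67, 51, 43, 34, 26, 34, 2, 17, 23, 4, 21] 4 5 [⟨[53, 29], 407, false, [0, 4, 5, 6, 4, 10, 5, 6, 2, 4]⟩, ⟨[24], 316, false, [2, 6, 1, 4, 6, 5, 3, 6, 5, 10]⟩] [⟨[63, 63, 61, 61, 27], 404, false, [0, 2, 4, 6, 4, 6, 10, 5, 6]⟩]),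
  (⟨false, 2, 2, [59, 56, 53, 41, 28, 33, 2, 17, 23, 24, 23], [59, 44, 53, 56, 31, 35, 27, 2, 17, 22, 22, 6], [49, 33, 31, 31, 16, 19, 22]⟩, .loop 32 2 [60, 45, 46, 41, 27, 16, 16, 25, 17] 2 3 [⟨[23], 568, false, [0, 4, 6, 2, 4, 5, 3, 6, 5, 10, 5]⟩] [⟨[23, 24, 23], 586, false, [3, 6, 5, 6, 4, 6, 5, 3, 6, 4]⟩, ⟨[23, 24, 23], 322, false, [2, 3, 6, 1, 2]⟩]),
  (⟨false, 2, 2, [45, 42, 51, 35, 28, 40, 2, 17, 23, 20, 13], [59, 45, 46, 33, 35, 2, 23, 17, 24, 6], [67, 44, 53, 56, 38, 26, 2, 17, 17, 17, 8]⟩, .loop 34 5 [57, 53, 33, 27, 40, 16, 22, 19] 2 3 [⟨[], 515, true, [1, 2, 3, 4, 5, 6, 4, 6, 5]⟩] [⟨[66, 37, 66, 37], 100, true, [1, 2, 3, 6, 5, 6, 5, 10, 5, 6]⟩, ⟨[24], 417, false, [10, 5, 6, 2]⟩]),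
  (⟨false, 2, 2, [62, 44, 43, 53, 28, 35, 35, 2, 23, 24], [47, 49, 28, 26, 41, 2, 23, 17, 17, 19], [60, 45, 54, 56, 36, 27, 2, 23, 23, 17, 6]⟩, .loop 70 2 [66, 48, 53, 30, 26, 30, 16, 4, 16, 16, 22] 6 7 [⟨[24, 23], 568, false, [0, 4, 5, 6, 10, 5, 3, 6, 4]⟩, ⟨[23], 667, true, [6, 2, 5, 6, 4, 6, 10, 5, 6]⟩, ⟨[24], 472, true, [0, 2, 10, 5, 3, 6, 5, 10]⟩] []),
  (⟨false, 2, 5, [67, 46, 44, 28, 41, 29, 2, 17, 17, 22, 16], [60, 46, 49, 30, 40, 28, 16, 18, 16, 4], [62, 48, 53, 28, 41, 38, 2, 23, 4, 19]⟩, .loop 66 2 [61, 50, 45, 34, 33, 2, 17, 23, 10, 19] 2 3 [⟨[23], 258, false, [3, 4, 6, 4, 5, 6, 2, 5, 3]⟩] [⟨[], 597, false, [1, 10, 5, 6, 2, 6, 4, 5, 6, 2]⟩, ⟨[], 387, false, [10, 5, 6, 4, 10, 5, 10]⟩]),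
  (⟨false, 2, 2, [58, 52, 50, 28, 30, 34, 2, 17, 0, 23, 25], [63, 48, 47, 33, 30, 32, 2, 23, 8, 17, 17], [62, 46, 51, 31, 34, 27, 17, 22, 21]⟩, .loop 16 4 [59, 47, 44, 30, 40, 29, 2, 16, 6, 23, 20] 4 5 [⟨[30], 326, false, [5, 6, 4, 5, 6, 5, 3, 5]⟩, ⟨[63, 53], 178, true, [2, 4, 5, 3, 6, 4, 6, 5, 6, 10]⟩] [⟨[63, 61, 63, 61, 28], 184, false, [0, 6, 4, 6, 5, 6, 5, 3]⟩]),
  (⟨false, 2, 2, [61, 52, 49, 33, 27, 30, 16, 18, 16, 20], [67, 46, 51, 55, 28, 36, 16, 16, 24, 11], [63, 44, 51, 48, 28, 31, 2, 17, 17, 11, 22]⟩, .loop 21 2 [61, 48, 48, 38, 30, 2, 17, 18, 22, 24] 4 5 [⟨[24], 455, false, [4, 6, 5, 3, 5, 6, 5, 10]⟩, ⟨[29, 61, 30], 482, false, [3, 5, 6, 2, 4, 10, 5, 6, 4]⟩] [⟨[23], 483, false, [0, 2, 4, 6, 4, 5, 6, 2, 6]⟩]),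
  (⟨false, 2, 5, [62, 44, 42, 46, 30, 29, 32, 2, 23, 17, 6, 24], [67, 51, 57, 41, 27, 16, 21, 16, 8], [61, 44, 55, 34, 29, 41, 16, 16, 10, 22]⟩, .loop 29 2 [60, 48, 45, 35, 28, 31, 16, 11, 16, 22] 2 3 [⟨[23], 418, true, [6, 2, 6, 4, 10, 5, 6, 5, 3]⟩] [⟨[], 86, false, [1, 3, 5, 6, 5, 3, 6, 4]⟩, ⟨[], 156, false, [0, 1, 3, 5, 3]⟩]),
  (⟨false, 2, 2, [67, 54, 50, 33, 31, 31, 16, 19, 16, 6], [44, 48, 35, 29, 36, 2, 17, 17, 25, 21], [61, 45, 30, 38, 32, 2, 17, 19, 22, 11]⟩, .loop 46 2 [67, 51, 47, 31, 34, 30, 2, 16, 16, 22] 2 3 [⟨[23], 492, false, [2, 4, 6, 10, 5, 6, 2, 6]⟩] [⟨[23], 547, false, [2, 4, 6, 1, 4, 5, 6, 4]⟩]),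
  (⟨false, 2, 2, [63, 54, 44, 28, 36, 29, 27, 2, 17, 17, 24, 22], [61, 47, 50, 40, 38, 16, 21, 16, 20], [44, 48, 31, 41, 36, 16, 16, 2, 21]⟩, .loop 17 2 [59, 48, 52, 34, 31, 31, 16, 11, 16, 10] 4 5 [⟨[], 505, true, [5, 6, 10, 5, 6, 2, 6, 5, 6, 10]⟩, ⟨[23, 24, 23], 315, false, [4, 6, 4, 5, 3, 6, 4, 5, 10]⟩] [⟨[], 220, true, [2, 3, 4, 5, 6, 2, 6, 4, 10, 5, 3]⟩]),
  (⟨false, 4, 5, [62, 45, 53, 48, 30, 27, 2, 23, 23, 0], [66, 45, 50, 45, 34, 36, 35, 16, 16, 4, 25], [58, 46, 48, 54, 38, 29, 16, 18, 16, 8]⟩, .loop 48 5 [66, 45, 50, 45, 34, 36, 35, 16, 11, 16, 8] 4 5 [⟨[38, 37, 66], 410, false, [1, 2, 5, 3, 6, 2, 5, 6, 4, 6]⟩, ⟨[24], 178, false, [1, 5, 3, 6, 4, 5, 3, 6]⟩] []),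
  (⟨false, 4, 2, [62, 54, 50, 28, 40, 31, 2, 17, 22, 18], [59, 51, 55, 41, 28, 32, 16, 16, 22, 19], [62, 44, 46, 48, 35, 31, 29, 17, 23, 23, 8]⟩, .loop 32 2 [66, 44, 55, 50, 28, 36, 40, 19, 6, 17, 0] 6 7 [⟨[23, 24, 23], 667, false, [5, 3, 5, 6, 2, 5, 6, 5, 10]⟩, ⟨[], 406, true, [1, 3, 5, 6, 2, 5, 6]⟩, ⟨[66, 66, 38], 551, true, [1, 6, 2, 4, 6]⟩] []),
  (⟨false, 2, 2, [67, 48, 57, 30, 28, 37, 16, 16, 22, 25], [63, 45, 42, 49, 30, 26, 33, 2, 17, 22, 22], [67, 49, 36, 26, 26, 16, 16, 8, 22]⟩, .loop 16 2 [62, 44, 48, 52, 33, 30, 2, 23, 23, 11, 16] 6 7 [⟨[24, 23], 550, true, [0, 3, 6, 4, 6, 5, 6, 10, 5, 10]⟩, ⟨[23, 24], 698, true, [2, 10, 5, 6, 5, 6, 2, 10]⟩, ⟨[23], 639, true, [3, 4, 5, 6, 1, 4, 5, 10]⟩] []),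
  (⟨false, 2, 2, [59, 50, 55, 33, 38, 16, 16, 11, 23, 23], [45, 48, 28, 31, 37, 16, 4, 16, 8], [67, 48, 56, 33, 35, 28, 16, 2, 0]⟩, .loop 29 5 [62, 49, 45, 35, 30, 32, 2, 17, 18, 22, 6] 2 3 [⟨[38, 66], 563, true, [1, 2, 4, 6, 5, 6, 4, 10, 5, 6]⟩] [⟨[38, 66, 38], 136, false, [1, 6, 10, 5, 6, 2, 10, 5, 6]⟩, ⟨[], 91, true, [4, 6, 10, 5, 3, 6, 4, 6, 2, 5]⟩]),
  (⟨false, 2, 2, [59, 44, 47, 44, 35, 35, 41, 2, 17, 17, 22, 22], [61, 46, 43, 31, 33, 33, 2, 23, 17, 25, 21], [63, 49, 45, 33, 35, 2, 17, 23, 20]⟩, .loop 28 2 [45, 35, 31, 29, 2, 23, 23, 23, 21] 6 7 [⟨[], 515, false, [6, 4, 6, 2, 10, 5, 6, 2, 5]⟩, ⟨[38, 66, 66, 38], 381, true, [6, 5, 6, 2, 4, 6]⟩, ⟨[24, 23], 477, false, [5, 3, 6, 5, 10, 5, 6, 2, 6, 4]⟩] []),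
  (⟨false, 2, 2, [58, 57, 28, 31, 29, 2, 17, 23, 17, 25], [66, 44, 55, 50, 31, 27, 32, 19, 6, 17, 22], [54, 47, 38, 35, 2, 17, 23, 17]⟩, .loop 28 2 [60, 55, 41, 26, 16, 18, 16] 2 3 [⟨[24, 23], 411, true, [2, 6, 1, 4, 6, 2, 5, 6, 2, 10]⟩] [⟨[23, 24], 538, true, [0, 3, 4, 6, 5, 6, 2, 5, 6, 4, 10]⟩, ⟨[23, 24], 467, true, [4, 5, 3, 6, 4, 6, 2, 4, 5]⟩]),
  (⟨false, 2, 2, [66, 44, 57, 49, 38, 35, 2, 17, 17, 24, 17], [58, 47, 44, 28, 26, 38, 2, 16, 16], [63, 46, 46, 28, 31, 35, 16, 2, 21, 17]⟩, .loop 34 2 [59, 44, 42, 54, 41, 29, 2] 2 3 [⟨[23, 24], 483, false, [0, 4, 10, 5, 6, 5, 6, 10, 5]⟩] [⟨[23, 24], 543, false, [10, 5, 6, 5, 3, 5, 6, 2, 4, 5]⟩, ⟨[23, 24, 23], 446, false, [2, 5, 6, 2, 5, 6, 4, 6, 2]⟩]),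
  (⟨false, 2, 2, [62, 44, 55, 31, 26, 33, 16, 24, 16], [59, 55, 42, 31, 29, 40, 2, 17, 23, 4], [61, 50, 55, 28, 41, 29, 2, 23, 23, 4]⟩, .loop 73 2 [63, 46, 42, 51, 36, 29, 33, 2, 17, 17, 6, 23] 4 5 [⟨[24, 23], 574, false, [5, 3, 6, 4, 5, 6, 2, 10, 5]⟩, ⟨[24], 503, true, [3, 5, 6, 5, 6, 2, 6, 4]⟩] [⟨[23], 295, false, [2, 6, 1, 4, 5, 3, 5, 6]⟩]),
  (⟨false, 2, 2, [60, 47, 44, 51, 33, 35, 16, 16, 20, 18], [58, 50, 50, 38, 35, 2, 23, 23, 4, 6], [59, 47, 49, 56, 28, 35, 28, 16, 19, 6, 23]⟩, .loop 47 2 [63, 46, 43, 36, 32, 30, 2, 23, 8, 23] 2 3 [⟨[23, 24], 574, false, [6, 5, 6, 2, 6, 10, 5, 3, 6]⟩] [⟨[24], 434, false, [10, 5, 6, 2, 4, 6, 5, 3]⟩]),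
  (⟨false, 2, 2, [63, 45, 50, 42, 33, 36, 16, 16, 18], [61, 47, 48, 30, 35, 35, 16, 18, 16], [58, 44, 46, 57, 35, 36, 30, 2, 17, 17, 22, 22]⟩, .loop 30 2 [66, 46, 34, 38, 16, 16, 4, 25] 4 5 [⟨[23, 24, 23], 552, true, [4, 5, 6, 1, 2, 4, 5]⟩, ⟨[23], 352, false, [0, 2, 4, 6, 4, 6, 4, 10, 5]⟩] [⟨[24], 594, false, [2, 5, 6, 1, 4, 6, 5, 3, 5]⟩]),
  (⟨false, 5, 2, [62, 54, 43, 30, 30, 37, 16, 24, 16, 19], [44, 51, 46, 40, 19, 6, 23, 23], [67, 46, 49, 28, 36, 40, 36, 16, 24, 16, 10]⟩, .loop 21 2 [59, 45, 42, 47, 30, 40, 27, 2, 17, 17, 22] 6 7 [⟨[24], 562, false, [1, 6, 10, 5, 6, 4, 5, 3, 6, 2]⟩, ⟨[], 486, false, [3, 5, 6, 5, 6, 4, 6, 5, 6]⟩, ⟨[23, 24], 100, false, [3, 6, 2, 4, 6, 5, 10]⟩] []),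
  (⟨false, 5, 2, [58, 44, 51, 48, 38, 30, 2, 17, 17, 18, 10], [62, 52, 49, 30, 26, 36, 17, 22, 21], [66, 51, 46, 30, 32, 40, 2, 17, 19, 22, 11]⟩, .loop 46 2 [58, 47, 51, 41, 29, 16, 16, 16, 8] 2 3 [⟨[], 217, false, [0, 2, 3, 6, 4, 6, 5, 10, 5, 6, 5]⟩] [⟨[24, 23], 488, false, [0, 2, 3, 4, 6, 4, 6, 4]⟩])]

/-- facts 736 and on -/
def facts23 : List (Fact × Why) := [
  (⟨false, 2, 2, [63, 47, 44, 51, 28, 30, 35, 16, 16, 13, 16], [58, 51, 53, 34, 33, 34, 16, 25, 17], [61, 47, 53, 31, 27, 34, 2, 23, 23, 18, 6]⟩, .loop 20 2 [59, 45, 43, 45, 28, 34, 28, 2, 17, 23, 23, 19] 4 5 [⟨[], 685, false, [6, 2, 4, 5, 6, 4, 10, 5, 3]⟩, ⟨[23, 24], 654, false, [1, 2, 6, 2, 5, 6, 10, 5, 6]⟩] [⟨[], 673, false, [0, 2, 6, 10, 5, 3, 6, 2, 5]⟩]),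
  (⟨false, 2, 2, [67, 51, 49, 28, 30, 26, 16, 10, 8, 16], [63, 49, 45, 31, 36, 41, 16, 16, 22, 25], [49, 51, 33, 35, 32, 2, 17, 17, 19, 6]⟩, .loop 59 4 [67, 45, 42, 47, 34, 40, 27, 16, 16, 10, 19] 2 3 [⟨[], 493, false, [0, 6, 4, 10, 5, 6, 5, 6, 2, 6]⟩] [⟨[29, 61, 30], 615, false, [0, 2, 4, 6, 5, 3, 5, 6, 4, 5, 10]⟩, ⟨[23, 24, 23], 281, false, [2, 3, 5, 6, 10, 5, 3, 6, 5]⟩, ⟨[], 400, false, [0, 2, 6, 4, 6, 4, 5, 10]⟩, ⟨[23, 24], 411, false, [2, 5, 6, 10, 5, 6, 2, 4, 10]⟩, ⟨[], 369, false, [0, 2, 10, 5, 3, 6, 4, 5, 6, 4]⟩, ⟨[23], 431, false, [4, 6, 1, 4, 5, 3, 6, 2, 5]⟩]),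
  (⟨false, 2, 2, [60, 45, 56, 41, 31, 2, 17, 0, 17, 22], [59, 47, 44, 51, 30, 27, 35, 18, 23, 17], [59, 28, 30, 27, 16, 16, 21, 16]⟩, .loop 19 2 [55, 46, 34, 31, 41, 16, 11, 16, 16] 2 3 [⟨[24], 323, false, [0, 2, 6, 5, 3, 6, 2, 5, 6]⟩] [⟨[], 297, true, [0, 3, 6, 4, 5, 10, 5, 6]⟩, ⟨[23, 24], 598, true, [5, 3, 6, 1, 4, 6, 5, 3]⟩]),
  (⟨false, 2, 5, [63, 46, 42, 33, 16, 2, 24, 6, 17], [61, 51, 49, 28, 41, 27, 2, 16, 16, 16, 4], [59, 47, 50, 31, 35, 29, 2, 23, 17, 22, 4]⟩, .loop 21 5 [63, 51, 34, 31, 41, 16, 16, 25, 25] 6 7 [⟨[38, 66], 257, false, [2, 10, 5, 6, 1, 5, 3, 5, 6]⟩, ⟨[], 693, true, [3, 4, 5, 6, 10, 5, 3]⟩, ⟨[], 659, false, [1, 4, 6, 2, 6, 10, 5, 3, 6]⟩] []),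
  (⟨false, 2, 2, [63, 49, 42, 28, 30, 28, 16, 16, 2, 24], [63, 49, 53, 36, 33, 16, 4, 16, 13, 10], [59, 51, 53, 34, 33, 40, 2, 17, 17, 18]⟩, .loop 23 2 [62, 54, 50, 34, 37, 34, 16, 16, 24, 21] 6 7 [⟨[23], 540, true, [0, 5, 6, 5, 3, 5, 6, 2, 4]⟩, ⟨[23, 24], 259, true, [2, 3, 5, 6, 1, 4, 5, 6, 10]⟩, ⟨[23, 24], 220, true, [0, 2, 4, 6, 4, 5, 10, 5, 6, 5]⟩] []),
  (⟨false, 2, 2, [62, 51, 42, 33, 34, 33, 16, 16, 19, 20], [61, 49, 42, 31, 41, 26, 16, 2, 19], [58, 44, 28, 31, 27, 31, 16, 16, 10, 8, 22]⟩, .loop 32 2 [61, 49, 42, 31, 41, 26, 16, 2, 19, 6] 6 7 [⟨[], 174, true, [3, 5, 6, 4, 6, 2, 6, 5, 3]⟩, ⟨[66, 37, 38], 141, true, [6, 1, 4, 6, 2, 4, 10]⟩, ⟨[23, 24], 364, true, [6, 1, 5, 6, 2, 6, 4, 10]⟩] []),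
  (⟨false, 2, 2, [48, 44, 38, 33, 40, 16, 16, 11, 12], [61, 50, 50, 38, 30, 26, 16, 16, 25], [59, 44, 47, 44, 30, 38, 28, 16, 24, 18]⟩, .loop 45 2 [61, 45, 56, 28, 40, 26, 16, 16, 16, 12] 2 3 [⟨[23], 644, false, [0, 4, 5, 6, 4, 6, 2, 4, 10, 5]⟩] [⟨[24], 532, false, [0, 2, 4, 5, 6, 2, 6, 5, 3]⟩]),
  (⟨false, 2, 2, [59, 49, 44, 30, 30, 30, 16, 16, 16, 12], [44, 53, 33, 28, 2, 17, 17, 8, 20], [61, 49, 51, 41, 37, 17, 23, 17, 17]⟩, .loop 21 2 [58, 46, 57, 38, 30, 16, 16, 18, 21] 2 3 [⟨[], 284, false, [1, 5, 6, 2, 10, 5, 6, 4]⟩] [⟨[23, 24], 216, true, [0, 4, 5, 3, 5, 6, 4, 5, 10]⟩, ⟨[24], 703, false, [0, 4, 6, 2, 5, 10]⟩]),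
  (⟨false, 2, 2, [62, 44, 47, 44, 28, 26, 30, 2, 17, 23, 4, 20], [59, 46, 46, 28, 31, 28, 38, 16, 18, 16, 11], [63, 46, 53, 30, 37, 32, 2, 17, 17, 20, 22]⟩, .loop 73 2 [58, 49, 46, 30, 40, 30, 16, 16, 16, 19] 6 7 [⟨[23], 733, false, [2, 4, 6, 10, 5, 3, 6, 5, 6]⟩, ⟨[], 262, true, [5, 6, 1, 4, 5, 3, 6, 4]⟩, ⟨[], 740, false, [2, 3, 4, 5, 6, 4, 6, 2, 10, 5]⟩] []),
  (⟨false, 2, 2, [60, 46, 48, 54, 28, 30, 26, 16, 16, 21, 16], [62, 47, 49, 30, 35, 40, 2, 17, 17, 8, 21], [46, 56, 28, 38, 31, 16, 16, 2, 23]⟩, .loop 29 2 [66, 52, 41, 33, 16, 19, 6, 16] 6 7 [⟨[], 709, false, [6, 4, 10, 5, 6, 5, 6, 2, 4]⟩, ⟨[24], 218, true, [3, 5, 6, 4, 5, 6, 10, 5, 6, 5]⟩, ⟨[66, 37, 37, 66], 362, false, [6, 10, 5, 6, 2, 4, 5, 3, 6]⟩] []),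
  (⟨false, 5, 2, [59, 49, 53, 34, 27, 38, 2, 23, 8, 23, 6], [45, 42, 51, 33, 35, 41, 16, 21], [60, 48, 45, 28, 34, 37, 2, 23, 19]⟩, .loop 19 2 [49, 56, 38, 28, 41, 16, 24, 6] 6 7 [⟨[], 196, true, [1, 6, 4, 10, 5, 6, 2, 6, 4, 6]⟩, ⟨[24], 292, false, [3, 5, 3, 6, 5, 3, 6, 2, 5]⟩, ⟨[], 537, true, [2, 6, 5, 6, 10, 5, 3]⟩] []),
  (⟨false, 2, 2, [67, 44, 46, 57, 30, 30, 16, 21, 16, 24], [59, 44, 42, 57, 36, 28, 38, 16, 16, 11], [67, 46, 42, 51, 28, 35, 36, 2, 17, 17, 22, 16]⟩, .loop 68 2 [58, 44, 42, 57, 28, 30, 35, 2, 23, 17, 23, 11] 6 7 [⟨[23], 278, false, [1, 2, 5, 3, 6, 2, 5, 6, 5, 3]⟩, ⟨[], 226, true, [0, 3, 4, 5, 6, 4, 6, 2, 4, 5, 10]⟩, ⟨[], 564, true, [1, 6, 5, 3, 6, 2, 5, 10]⟩] []),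
  (⟨false, 2, 2, [58, 48, 43, 30, 41, 29, 2, 17, 22, 12], [66, 45, 48, 33, 31, 38, 2, 16, 16, 6, 18], [59, 48, 46, 36, 40, 30, 16, 8, 17, 23]⟩, .loop 71 2 [58, 54, 56, 31, 27, 35, 2, 23, 23, 23, 24] 4 5 [⟨[], 152, false, [3, 4, 6, 5, 10, 5, 6, 4]⟩, ⟨[22, 50, 245, 50], 239, false, [3, 6, 4, 5, 6, 4, 5, 3, 6, 5]⟩] [⟨[24], 727, false, [4, 5, 3, 6, 5, 6, 5, 3]⟩]),
  (⟨false, 5, 2, [67, 44, 46, 30, 37, 32, 2, 16, 16, 22, 24], [67, 44, 48, 52, 38, 27, 16, 16, 8, 16], [66, 51, 51, 31, 26, 33, 2, 17, 17, 18, 18]⟩, .loop 70 2 [63, 44, 42, 54, 36, 35, 16, 16, 24, 18] 4 5 [⟨[23], 675, false, [5, 6, 10, 5, 3, 6, 4, 5, 6, 2]⟩, ⟨[23, 24], 718, false, [4, 5, 10, 5, 6, 2, 6, 4]⟩] [⟨[], 423, false, [1, 4, 6, 5, 3, 5, 6]⟩]),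
  (⟨false, 2, 2, [59, 55, 49, 34, 31, 38, 16, 11, 19], [63, 45, 42, 51, 30, 35, 37, 2, 23, 19], [60, 48, 50, 30, 40, 30, 16, 2, 19, 6, 17]⟩, .loop 53 2 [58, 57, 53, 28, 38, 31, 2, 23, 6, 11] 14 15 [⟨[23, 24, 23], 281, false, [1, 2, 6, 5, 6, 2, 6, 5, 6, 10]⟩, ⟨[], 167, false, [10, 5, 6, 1, 5]⟩, ⟨[23], 578, true, [3, 4, 6, 1, 2, 4, 5, 6, 4, 6, 10]⟩, ⟨[23, 24, 23], 737, false, [1, 6, 2, 6, 10, 5, 3]⟩, ⟨[24, 23], 188, false, [6, 2, 4, 5, 6, 2, 6, 4, 5, 3, 6]⟩, ⟨[63, 53, 27], 407, false, [4, 5, 6, 10, 5, 6, 2, 5]⟩, ⟨[], 411, false, [3, 6, 4, 5, 6, 4, 5, 6, 10, 5]⟩] []),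
  (⟨false, 2, 2, [54, 52, 35, 40, 31, 2, 17, 22, 16, 16], [67, 47, 51, 38, 31, 35, 16, 21, 16, 20], [61, 48, 43, 31, 33, 36, 16, 10, 16]⟩, .loop 67 2 [63, 57, 36, 28, 34, 2, 23, 23, 4, 23] 2 3 [⟨[23], 224, false, [1, 2, 6, 5, 6, 5, 10, 5, 6, 2, 6]⟩] [⟨[23, 24, 23], 404, true, [1, 6, 5, 3, 6, 5, 6, 4, 6, 5]⟩, ⟨[27, 61, 61, 27], 404, false, [1, 2, 3, 6, 4, 5, 6, 5, 10]⟩]),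
  (⟨false, 2, 2, [63, 49, 42, 30, 32, 31, 16, 18, 24, 6], [58, 51, 33, 27, 30, 2, 16, 16, 16, 24], [58, 51, 46, 28, 30, 29, 16, 10]⟩, .loop 67 2 [45, 49, 31, 29, 35, 16, 10, 17] 4 5 [⟨[24], 107, true, [1, 4, 5, 6, 2, 10, 5, 6, 5, 10]⟩, ⟨[66, 38, 66], 602, false, [1, 2, 10, 5, 6, 2, 6, 5, 10]⟩] [⟨[], 712, true, [3, 6, 5, 6, 2, 5, 6, 4, 6]⟩]),
  (⟨false, 2, 2, [62, 50, 46, 28, 40, 28, 16, 4, 16, 8], [67, 45, 56, 50, 33, 36, 2, 23, 23, 17, 22], [63, 45, 53, 33, 38, 16, 19, 22]⟩, .loop 65 2 [66, 45, 49, 33, 40, 38, 16, 10, 16, 2] 4 5 [⟨[24], 567, false, [6, 1, 4, 6, 5, 10, 5, 6, 5, 10]⟩, ⟨[], 569, true, [4, 5, 6, 4, 5, 6, 4, 10, 5]⟩] [⟨[24], 365, false, [1, 4, 6, 5, 6, 2, 4, 6, 5]⟩, ⟨[23, 24, 23], 635, true, [1, 5, 3, 6, 4, 5, 3, 6, 2, 4]⟩, ⟨[],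 649, true, [2, 4, 5, 6, 10, 5, 3, 6, 2]⟩, ⟨[], 628, false, [0, 2, 3, 4, 5, 6, 4, 6, 5, 10]⟩, ⟨[23], 513, true, [3, 5, 6, 5, 3, 6, 5, 6, 2, 4]⟩]),
  (⟨false, 2, 5, [61, 50, 50, 28, 30, 30, 16, 16, 16, 20], [58, 47, 52, 35, 35, 29, 2, 17, 23, 20, 24], [67, 51, 47, 31, 32, 38, 16, 8, 17]⟩, .loop 19 2 [54, 47, 30, 41, 27, 2, 17, 23, 17] 2 3 [⟨[], 234, true, [2, 3, 6, 4, 6, 5]⟩] [⟨[24, 23], 514, true, [1, 6, 5, 3, 6, 5, 6, 4, 6, 5]⟩, ⟨[23, 24], 735, true, [2, 3, 6, 2, 5, 6, 2, 10]⟩]),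
  (⟨false, 2, 2, [62, 44, 42, 45, 28, 36, 33, 16, 11, 16, 2], [66, 46, 49, 31, 33, 31, 2, 17, 23, 4, 10], [59, 56, 50, 28, 34, 38, 16, 16, 10, 8, 22]⟩, .loop 28 2 [60, 45, 48, 35, 29, 31, 2, 17, 23, 11, 11] 6 7 [⟨[23, 24], 425, true, [6, 1, 5, 6, 10, 5, 3, 6, 2]⟩, ⟨[23, 24], 538, false, [2, 4, 6, 2, 5, 6, 5, 6, 10]⟩, ⟨[23], 697, true, [6, 4, 5, 6, 2, 10, 5, 6, 4]⟩] []),
  (⟨false, 2, 2, [66, 49, 38, 35, 36, 16, 8], [60, 52, 49, 31, 34, 2, 23, 10, 23, 23], [60, 44, 47, 44, 38, 27, 2, 23, 17, 25, 21]⟩, .loop 49 2 [63, 45, 43, 45, 36, 27, 40, 2, 23, 23, 13, 17] 4 5 [⟨[], 542, true, [6, 1, 5, 3, 5, 6, 4, 6, 2]⟩, ⟨[66, 66, 38, 66, 38], 384, true, [6, 5, 3, 6, 2, 4, 5, 10]⟩] []),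
  (⟨false, 2, 2, [62, 44, 53, 41, 29, 17, 23, 17, 22, 24], [47, 49, 56, 35, 31, 34, 2, 17, 17, 17, 21], [67, 44, 46, 48, 28, 40, 33, 2, 17, 17, 6, 23]⟩, .loop 71 2 [58, 50, 30, 37, 33, 2, 17, 23, 18, 18] 6 7 [⟨[], 147, false, [0, 6, 5, 6, 4, 6, 5, 3, 5]⟩, ⟨[24], 294, false, [2, 6, 4, 10, 5, 6, 2, 4, 5, 10]⟩, ⟨[23, 24], 671, true, [0, 2, 4, 6, 5, 6, 2, 5, 6, 10]⟩] []),
  (⟨false, 2, 2, [62, 48, 42, 30, 40, 34, 16, 16, 22, 11], [67, 52, 48, 31, 35, 29, 17, 23, 17, 19], [58, 54, 33, 27, 31, 2, 23, 23, 18, 17]⟩, .loop 17 5 [60, 57, 34, 26, 30, 16, 24, 16, 21] 4 5 [⟨[66, 37], 347, false, [0, 2, 4, 5, 6, 5, 6, 2, 4, 6]⟩, ⟨[37, 66, 38, 37], 100, true, [2, 6, 5, 3, 5, 6, 2]⟩] [⟨[38, 66, 38], 542, false, [1, 2, 4, 6, 10, 5, 6, 2, 6]⟩]),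
  (⟨false, 2, 2, [61, 50, 46, 28, 31, 16, 24, 16, 8], [61, 44, 43, 36, 40, 16, 16, 16, 11], [63, 44, 42, 47, 28, 36, 34, 2, 23, 23, 18, 11]⟩, .loop 72 2 [46, 46, 33, 38, 36, 16, 16, 24, 23] 4 5 [⟨[23], 383, false, [1, 6, 2, 5, 6, 4, 10, 5, 6]⟩, ⟨[37, 66, 38], 371, false, [1, 2, 3, 6, 5, 6, 4, 5, 10, 5]⟩] [⟨[], 413, false, [1, 5, 6, 5, 6, 4, 10, 5, 6, 2]⟩]),
  (⟨false, 2, 5, [63, 44, 42, 54, 35, 29, 35, 16, 24, 16, 16], [58, 51, 51, 31, 29, 16, 2, 19, 6], [60, 50, 46, 28, 40, 26, 2, 23, 19, 16]⟩, .loop 17 2 [61, 45, 48, 41, 38, 16, 16, 25, 23] 4 5 [⟨[], 256, true, [0, 4, 10, 5, 6, 5, 10, 5, 6, 2]⟩, ⟨[63, 63, 53], 285, true, [1, 2, 4, 10, 5, 6, 5, 3, 5, 6]⟩] [⟨[], 265, false, [1, 6, 2, 10, 5, 6, 2, 4]⟩]),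
  (⟨false, 2, 2, [62, 47, 53, 36, 34, 16, 16, 4, 23], [62, 45, 56, 50, 33, 34, 38, 16, 19, 16], [61, 49, 51, 31, 28, 41, 16, 11, 19, 6]⟩, .loop 73 2 [62, 45, 56, 38, 31, 35, 2, 16, 16, 16, 24] 2 3 [⟨[24], 660, true, [0, 2, 6, 4, 6, 10, 5, 10]⟩] [⟨[23, 24], 178, false, [3, 6, 1, 4, 5, 6, 2, 6, 4, 10]⟩, ⟨[53, 63, 61, 28], 188, true, [2, 6, 5, 3, 6, 4, 6, 2, 5, 10]⟩]),
  (⟨false, 2, 2, [61, 45, 54, 56, 33, 27, 27, 16, 4, 16, 16, 10], [66, 46, 42, 30, 38, 31, 2, 23, 23, 16, 8], [67, 46, 56, 28, 34, 31, 32, 2, 23, 6, 23, 16]⟩, .loop 30 2 [59, 46, 57, 41, 36, 16, 10, 23] 4 5 [⟨[23], 630, true, [4, 6, 5, 3, 6, 4, 6, 5]⟩, ⟨[23, 24, 23], 712, false, [2, 5, 6, 4, 5, 3, 6, 4, 6, 5]⟩] [⟨[], 260, true, [0, 4, 6, 5, 3, 6, 2, 6, 2, 5]⟩]),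
  (⟨false, 5, 2, [59, 48, 43, 30, 32, 35, 16, 16, 2, 11, 12], [56, 35, 38, 35, 16, 8, 17, 17, 22], [67, 44, 42, 47, 28, 35, 41, 16, 21, 16, 20]⟩, .loop 30 2 [58, 45, 42, 47, 35, 30, 26, 2, 23, 23, 24] 6 7 [⟨[], 186, true, [2, 4, 5, 6, 4, 6, 2, 5, 6]⟩, ⟨[66], 320, true, [6, 1, 4, 6, 4, 5, 6]⟩, ⟨[23, 24], 443, true, [4, 10, 5, 6, 5, 3, 5, 6, 4, 6]⟩] []),
  (⟨false, 2, 2, [44, 56, 46, 33, 30, 16, 2, 10], [60, 55, 35, 31, 2, 17, 22, 6, 23], [61, 45, 49, 41, 26, 37, 16]⟩, .loop 51 2 [61, 44, 42, 51, 30, 28, 35, 2, 23, 23, 17, 12] 8 9 [⟨[24], 612, true, [3, 4, 6, 4, 6, 4, 5, 6, 2]⟩, ⟨[23, 24], 645, false, [2, 3, 4, 6, 2, 6, 5, 6, 4, 5, 10]⟩, ⟨[63, 28, 61, 61], 256, false, [2, 6, 4, 6, 2, 10, 5, 6, 5]⟩, ⟨[], 322, false, [10, 5, 3, 6, 1, 2, 4]⟩]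 [⟨[24, 23], 637, true, [2, 6, 5, 10, 5, 6, 4, 5, 6]⟩, ⟨[24], 354, true, [4, 6, 2, 4, 5, 6, 2, 6, 10]⟩, ⟨[], 398, true, [1, 3, 5, 6, 2, 4, 10, 5, 6]⟩]),
  (⟨false, 2, 2, [58, 51, 44, 31, 33, 38, 17, 22, 6, 18], [60, 51, 43, 28, 35, 27, 16, 16, 4, 16], [47, 51, 36, 35, 2, 17, 23, 20, 6]⟩, .loop 47 2 [61, 33, 30, 36, 2, 17, 17, 0, 23] 4 5 [⟨[], 331, true, [2, 4, 6, 4, 6, 5, 3]⟩, ⟨[23], 698, false, [1, 6, 2, 4, 5, 6, 4, 6, 10, 5]⟩] []),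
  (⟨false, 2, 2, [60, 50, 46, 38, 37, 2, 23, 23, 8, 24], [59, 46, 46, 40, 37, 17, 17, 17, 24], [59, 44, 48, 31, 27, 34, 2, 23, 10, 23, 6]⟩, .loop 16 2 [58, 50, 48, 31, 34, 30, 2, 23, 19, 16] 2 3 [⟨[23, 24, 23], 614, true, [1, 3, 5, 6, 2, 4, 6, 10, 5, 6]⟩] [⟨[], 158, true, [4, 10, 5, 3, 6, 2, 5, 10]⟩, ⟨[50, 50, 21, 50], 164, false, [4, 6, 4, 5, 6, 2, 4, 5, 6]⟩]),
  (⟨false, 2, 4, [66, 44, 46, 44, 30, 27, 28, 16, 2, 21, 23], [61, 44, 53, 56, 31, 33, 30, 2, 23, 23, 17, 2], [63, 54, 56, 38, 31, 2, 17, 23, 4, 21]⟩, .loop 49 4 [66, 49, 44, 38, 26, 16, 16, 20, 25, 23] 4 5 [⟨[53], 687, false, [2, 3, 4, 5, 6, 5, 3]⟩, ⟨[], 624, true, [4, 6, 2, 6, 4, 6, 10, 5, 10]⟩] [])]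

/-- facts 768 and on -/
def facts24 : List (Fact × Why) := [
  (⟨false, 2, 2, [66, 44, 57, 49, 30, 26, 33, 16, 24, 23], [60, 44, 55, 52, 31, 27, 32, 16, 19, 22], [59, 44, 47, 30, 28, 30, 16, 11, 19, 22]⟩, .loop 69 5 [63, 51, 53, 31, 33, 38, 2, 23, 10, 17, 19] 4 5 [⟨[66, 37], 461, false, [1, 5, 6, 2, 6, 4, 5, 10]⟩, ⟨[23, 24], 249, true, [0, 2, 6, 10, 5, 6, 4, 6, 10, 5, 10]⟩] [⟨[38, 66, 38, 37], 267, true, [3, 4, 5, 6, 2, 5, 6, 5, 10]⟩]),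
  (⟨false, 5, 2, [47, 28, 30, 30, 16, 16, 4, 24], [66, 45, 30, 38, 26, 2, 23, 23, 17, 2], [59, 44, 43, 51, 28, 36, 2, 17, 17, 23, 16]⟩, .loop 28 2 [58, 54, 50, 28, 41, 33, 16, 16, 24, 22] 4 5 [⟨[23], 283, false, [0, 4, 6, 4, 6, 4, 5, 6, 10]⟩, ⟨[23, 24], 526, false, [1, 10, 5, 6, 10, 5, 6, 2, 6]⟩] [⟨[23], 490, false, [3, 5, 3, 6, 1, 4, 5, 6, 2]⟩]),
  (⟨false, 2, 2, [59, 44, 47, 35, 35, 31, 16, 2, 16], [67, 52, 55, 30, 29, 27, 2, 23, 17, 19, 22], [63, 44, 43, 57, 30, 34, 31, 16, 4, 16, 22, 22]⟩, .loop 18 2 [66, 48, 43, 33, 28, 35, 16, 21, 23, 23] 2 3 [⟨[24, 23], 670, true, [4, 6, 1, 4, 10, 5, 6, 10, 5, 6]⟩] [⟨[23, 24], 266, false, [6, 2, 6, 4, 5, 6, 4, 6]⟩, ⟨[66, 38, 37], 255, false, [3, 5, 6, 1, 10, 5]⟩]),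
  (⟨false, 2, 5, [59, 44, 43, 28, 34, 37, 2, 17, 25, 17], [60, 45, 50, 45, 36, 35, 27, 16, 16, 16], [67, 49, 45, 30, 29, 34, 16, 4, 16, 16, 13]⟩, .loop 67 2 [63, 50, 45, 33, 36, 38, 2, 23, 6, 11] 2 3 [⟨[], 227, false, [1, 6, 10, 5, 3, 6, 2, 5, 10]⟩] [⟨[23, 24], 588, false, [6, 1, 2, 6, 5, 10, 5, 6, 2]⟩, ⟨[23, 24], 699, true, [1, 6, 5, 10, 5, 6, 4, 6]⟩]),
  (⟨false, 2, 2, [60, 45, 56, 33, 27, 30, 17, 23, 17, 22], [59, 46, 51, 55, 41, 27, 34, 16, 2, 21, 23], [63, 45, 31, 28, 27, 16, 16, 20, 8]⟩, .loop 17 4 [46, 48, 30, 29, 26, 2, 17, 25, 6] 4 5 [⟨[], 724, false, [2, 10, 5]⟩, ⟨[38, 37, 66], 542, false, [0, 3, 4, 6, 5, 6, 5, 10, 5]⟩] [⟨[63, 61, 63, 61, 28], 160, false, [0, 2, 4, 5, 3, 6, 2, 5, 6, 4, 6]⟩]),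
  (⟨false, 2, 2, [59, 46, 48, 41, 26, 37, 2, 17, 17, 6, 10], [66, 44, 46, 31, 32, 30, 16, 16, 21, 24], [67, 54, 50, 35, 31, 34, 2, 23, 17, 2, 6]⟩, .loop 32 2 [62, 46, 46, 31, 41, 26, 16, 16, 11, 24] 6 7 [⟨[24], 228, false, [3, 6, 2, 4, 6, 5, 6, 4, 10, 5]⟩, ⟨[24, 23], 622, false, [2, 4, 5, 6, 4, 6, 4]⟩, ⟨[38, 66, 66], 355, true, [2, 3, 5, 6, 5, 3, 5, 6, 5]⟩] []),
  (⟨false, 2, 2, [66, 52, 48, 36, 27, 2, 17, 23, 10], [62, 47, 56, 30, 28, 30, 2, 23, 17, 22, 6], [60, 48, 30, 32, 32, 16, 4, 23]⟩, .loop 67 2 [60, 45, 56, 55, 33, 35, 29, 2, 17, 23, 20, 19] 4 5 [⟨[23], 543, false, [0, 2, 6, 5, 6, 10, 5, 3, 6, 5, 6]⟩, ⟨[23, 24], 546, true, [4, 10, 5, 6, 1, 4]⟩] [⟨[23, 24], 641, true, [1, 3, 4, 5, 6, 2, 5, 6]⟩]),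
  (⟨false, 2, 2, [62, 45, 50, 42, 34, 41, 41, 2, 23, 10], [62, 45, 54, 56, 34, 37, 2, 17, 17, 19], [58, 44, 46, 44, 28, 38, 36, 16, 24, 16, 10]⟩, .loop 18 2 [63, 44, 55, 52, 36, 32, 26, 2, 23, 23, 17, 12] 6 7 [⟨[], 602, true, [2, 6, 5, 6, 4, 5, 3, 5, 6, 4]⟩, ⟨[66, 37, 66, 66], 201, true, [2, 4, 5, 6, 2, 10, 5, 6, 4, 5]⟩, ⟨[23, 24, 23], 380, true, [2, 4, 5, 6, 4, 10, 5, 10]⟩] []),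
  (⟨false, 2, 2, [63, 44, 57, 30, 27, 2, 17, 17, 25, 13], [61, 44, 43, 57, 41, 27, 34, 16, 16, 16, 24], [63, 46, 44, 33, 27, 40, 2, 23, 23, 25, 19]⟩, .loop 67 2 [66, 44, 42, 54, 30, 27, 35, 2, 16, 6, 17, 19] 6 7 [⟨[23], 567, false, [1, 5, 10, 5, 6, 5, 10, 5, 6, 5]⟩, ⟨[24, 23], 427, true, [0, 3, 6, 5, 3, 6, 4, 6, 5, 10, 5]⟩, ⟨[24], 131, true, [3, 6, 5, 6, 4, 5, 6, 5, 6]⟩] []),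
  (⟨false, 2, 2, [67, 50, 44, 36, 31, 31, 16, 4, 16, 18], [67, 45, 45, 30, 35, 16, 22, 22, 10], [61, 46, 56, 36, 28, 37, 2, 17, 23, 20]⟩, .loop 30 2 [67, 47, 55, 30, 32, 34, 16, 18, 16, 19] 6 7 [⟨[24], 758, false, [0, 4, 6, 5, 6, 4, 5, 3, 6, 2, 5]⟩, ⟨[24, 23], 531, false, [2, 3, 4, 5, 6, 4, 6, 4, 5, 10]⟩, ⟨[23, 24, 23], 481, false, [2, 6, 2, 4, 5, 6, 2, 5]⟩] []),
  (⟨false, 2, 2, [62, 44, 42, 45, 28, 40, 31, 16, 21, 16, 21], [62, 54, 47, 30, 34, 27, 2, 17, 25, 6], [61, 51, 46, 36, 27, 27, 2, 17]⟩, .loop 32 4 [44, 47, 47, 28, 41, 29, 2, 17, 23, 24, 23] 2 3 [⟨[], 687, false, [1, 3, 5, 6, 5, 3, 5]⟩] [⟨[61, 61], 672, true, [1, 5, 6, 2, 6, 5, 6, 10, 5]⟩, ⟨[24], 654, false, [2, 6, 4, 10, 5, 6, 4, 5, 10, 5]⟩]),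
  (⟨false, 2, 2, [60, 44, 42, 45, 38, 32, 2, 23, 17, 19, 22], [44, 42, 48, 33, 41, 30, 16, 16, 18, 25], [63, 46, 57, 30, 27, 27, 2, 17, 17, 25, 12]⟩, .loop 31 2 [58, 45, 42, 33, 35, 41, 2, 17, 22, 10] 6 7 [⟨[], 478, true, [4, 6, 10, 5, 6, 4, 5, 10]⟩, ⟨[37, 37, 66], 461, false, [2, 3, 6, 5, 6, 5, 3, 5, 6, 2, 4]⟩, ⟨[24, 23], 308, false, [2, 10, 5, 3, 6, 4, 5, 10]⟩] []),
  (⟨false, 2, 2, [67, 57, 28, 30, 30, 16, 4, 16, 16, 22], [66, 48, 45, 30, 35, 41, 2, 17, 25], [63, 47, 47, 52, 34, 26, 34, 2, 16, 16, 6, 25]⟩, .loop 20 5 [66, 44, 46, 57, 30, 27, 32, 16, 4, 16, 19, 11] 4 5 [⟨[], 602, false, [1, 3, 5, 6, 2, 4, 6, 10, 5]⟩, ⟨[], 775, true, [1, 4, 10, 5, 6, 2, 6, 4, 5, 6]⟩] [⟨[38, 66, 66, 38], 422, false, [4, 6, 5, 3, 5, 6, 4, 5]⟩]),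
  (⟨false, 2, 2, [60, 49, 42, 30, 37, 31, 16, 16, 22, 11], [59, 44, 46, 44, 30, 37, 19, 6, 17, 19], [60, 44, 42, 48, 30, 38, 2, 17, 17]⟩, .loop 58 2 [54, 47, 28, 26, 30, 2, 23, 17, 19] 2 3 [⟨[24], 569, true, [1, 2, 6, 5, 6, 2, 5, 3, 6, 4]⟩] [⟨[23, 24, 23], 513, false, [0, 2, 6, 4, 5, 3, 6, 2, 6, 2, 4]⟩, ⟨[23, 24], 666, false, [1, 3, 4, 5, 6, 4, 6, 5, 10]⟩, ⟨[], 628, false, [0, 3, 6, 2, 4, 6, 5, 6, 4, 5, 3]⟩, ⟨[24], 635, true, [1, 6, 5, 3, 6, 2, 6, 4, 6]⟩, ⟨[], 473, false, [1, 3, 4, 5, 3, 6, 2, 6, 4, 5]⟩, ⟨[], 567, true, [5, 6, 5, 3, 6, 5, 6, 2, 10]⟩]),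
  (⟨false, 2, 2, [62, 51, 46, 30, 30, 28, 2, 23, 8, 23], [45, 53, 48, 30, 26, 40, 2, 17, 17, 18, 16], [67, 47, 53, 30, 27, 38, 16, 24, 16, 16]⟩, .loop 21 5 [62, 50, 42, 35, 36, 38, 17, 23, 18] 4 5 [⟨[37], 210, true, [0, 1, 2, 3, 4, 5, 10]⟩, ⟨[24], 167, true, [2, 3, 5, 6, 4, 6, 2, 6]⟩] [⟨[38, 66], 688, false, [4, 6, 1, 2, 5, 6, 4, 6, 5]⟩]),
  (⟨false, 2, 2, [63, 45, 43, 38, 30, 35, 2, 17, 23, 20, 19], [63, 44, 48, 43, 30, 41, 29, 2, 17, 17, 6, 20], [51, 55, 34, 31, 2, 17, 23, 11, 17]⟩, .loop 70 2 [61, 47, 42, 35, 29, 34, 16, 10, 23] 6 7 [⟨[24, 23], 221, true, [1, 5, 6, 2, 6, 2, 4, 5, 10]⟩, ⟨[24, 23], 572, true, [0, 6, 4, 10, 5, 6, 4]⟩, ⟨[37, 66, 38], 560, false, [4, 10, 5, 6, 5, 3, 5, 6, 2, 4]⟩] []),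
  (⟨false, 2, 2, [52, 55, 28, 34, 41, 2, 23, 18], [58, 50, 48, 30, 38, 26, 16, 2, 24, 6], [60, 44, 42, 48, 34, 26, 32, 16, 11, 16, 11, 19]⟩, .loop 47 2 [61, 47, 47, 52, 28, 36, 33, 16, 19, 22, 11] 4 5 [⟨[], 359, false, [10, 5, 3, 6, 1, 2, 6, 4, 5, 6]⟩, ⟨[37, 37], 521, false, [1, 4, 6, 2, 6, 5, 10, 5, 6, 2]⟩] []),
  (⟨false, 2, 2, [63, 44, 49, 30, 34, 29, 16, 22, 19, 17], [61, 56, 31, 35, 29, 2, 23, 4, 6], [61, 49, 47, 33, 31, 33, 2, 23, 17, 18]⟩, .loop 34 2 [61, 46, 31, 26, 36, 2, 17, 17, 25, 12] 4 5 [⟨[23], 254, true, [3, 4, 6, 5, 3, 6, 2, 6, 5]⟩, ⟨[66, 66, 38], 526, true, [3, 5, 3, 6, 1, 2, 5, 6, 10]⟩] [⟨[], 758, false, [6, 2, 6, 5, 10, 5, 6, 2]⟩]),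
  (⟨false, 2, 5, [60, 44, 43, 30, 38, 37, 16, 16, 8, 21], [67, 44, 31, 29, 40, 16, 16, 21], [63, 46, 41, 38, 2, 23, 23, 18, 11]⟩, .loop 19 2 [61, 44, 46, 57, 33, 40, 38, 16, 16, 16, 24] 2 3 [⟨[24], 471, true, [0, 6, 2, 5, 3, 6, 2, 4]⟩] [⟨[23], 288, false, [1, 5, 6, 4, 5, 3, 5, 6, 2]⟩, ⟨[23], 229, true, [2, 6, 5, 6, 10, 5, 6, 2, 5, 3]⟩]),
  (⟨false, 2, 2, [59, 55, 47, 35, 35, 26, 2, 16, 6, 23], [61, 51, 52, 30, 26, 28, 2, 17, 22, 10], [59, 51, 55, 30, 30, 16, 18, 16, 25]⟩, .loop 55 2 [63, 47, 50, 30, 38, 29, 16, 2] 14 15 [⟨[24], 750, true, [1, 5, 6, 5, 6, 2, 6, 10]⟩, ⟨[], 369, false, [3, 4, 6, 2, 5, 6, 2, 5, 3]⟩, ⟨[24, 23], 167, true, [3, 4, 6, 1, 5, 3, 6, 2, 4, 5]⟩, ⟨[], 400, false, [2, 6, 5, 6, 2, 4]⟩, ⟨[23, 24], 413, true, [0, 2, 6, 5,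 3, 6, 5, 6, 4]⟩, ⟨[], 188, false, [2, 6, 1, 5, 6, 10, 5, 3, 6, 5, 3]⟩, ⟨[63, 30, 63, 28], 493, false, [0, 4, 5, 6, 4, 10, 5, 6, 2]⟩] []),
  (⟨false, 2, 2, [67, 47, 54, 28, 26, 37, 2, 17, 18, 22, 6], [66, 57, 53, 31, 32, 30, 2, 16, 16, 16, 6], [60, 46, 43, 28, 26, 40, 2, 23, 23, 10]⟩, .loop 46 2 [59, 49, 57, 31, 27, 31, 2, 23, 17, 0, 23] 2 3 [⟨[23], 503, true, [1, 4, 6, 4, 6, 10, 5, 3]⟩] [⟨[23, 24, 23], 612, false, [6, 2, 6, 5, 3, 5, 6]⟩]),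
  (⟨false, 2, 5, [58, 45, 50, 31, 41, 28, 16, 19, 6, 16], [61, 46, 56, 34, 37, 37, 16, 24, 16, 11], [58, 47, 42, 35, 40, 31, 2, 17, 0, 23, 23]⟩, .loop 28 5 [63, 44, 47, 47, 35, 36, 38, 18, 23, 23, 23] 6 7 [⟨[], 282, true, [6, 10, 5, 6, 4, 6, 2, 6, 10]⟩, ⟨[], 136, true, [0, 1, 4, 5, 10]⟩, ⟨[37, 66, 38, 37], 371, false, [3, 6, 4, 6, 4, 5, 10, 5]⟩] []),
  (⟨false, 4, 2, [59, 46, 51, 30, 38, 17, 23, 18, 22], [61, 46, 51, 30, 32, 30, 2, 23, 10, 17], [66, 49, 44, 31, 29, 37, 16, 16, 8, 17, 12]⟩, .loop 30 2 [66, 51, 53, 28, 30, 37, 19, 6, 23, 23] 4 5 [⟨[23], 442, false, [0, 6, 4, 5, 3, 6, 2, 5, 6]⟩, ⟨[23], 524, true, [6, 2, 4, 5, 6, 2, 10]⟩] [⟨[24], 216, true, [2, 4, 6, 4, 6, 10, 5, 6]⟩]),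
  (⟨false, 2, 2, [66, 52, 49, 38, 31, 35, 2, 23, 23, 18, 16], [63, 54, 30, 28, 35, 17, 17, 23, 18], [63, 44, 53, 30, 37, 33, 2, 23, 17, 17, 10]⟩, .loop 70 2 [59, 44, 42, 47, 28, 35, 26, 16, 16, 16, 18, 24] 4 5 [⟨[], 222, true, [2, 5, 3, 6, 2, 5, 6, 5, 6]⟩, ⟨[23], 444, false, [2, 6, 4, 5, 6, 4, 5, 3, 6, 5, 3]⟩] [⟨[], 382, false, [6, 10, 5, 6]⟩]),
  (⟨false, 2, 2, [61, 44, 53, 41, 30, 37, 2, 23, 10, 17], [66, 45, 56, 55, 36, 28, 34, 17, 17, 22], [67, 45, 56, 41, 34, 2, 17, 17, 23, 11]⟩, .loop 73 2 [62, 44, 51, 48, 33, 29, 31, 2, 17, 0, 23, 16] 2 3 [⟨[24], 601, true, [6, 2, 5, 6, 10, 5, 6, 2]⟩] [⟨[], 159, true, [10, 5, 3, 6, 5, 6, 2]⟩, ⟨[21, 245, 22, 50], 494, false, [1, 6, 2, 6, 2, 10, 5, 6]⟩]),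
  (⟨false, 2, 2, [59, 46, 53, 28, 40, 36, 2, 17, 22], [67, 48, 31, 34, 2, 16, 16, 16, 6], [67, 47, 48, 33, 27, 34, 16, 16, 20, 24]⟩, .loop 69 2 [59, 45, 45, 33, 28, 37, 2, 17, 23, 18, 18] 2 3 [⟨[24, 23], 261, true, [0, 4, 6, 4, 6, 2, 4, 5, 6, 5]⟩] [⟨[23], 640, false, [0, 6, 4, 6, 4, 5, 3, 5, 6, 2]⟩, ⟨[24], 292, false, [2, 5, 6, 5, 6, 2, 4, 6]⟩]),
  (⟨false, 5, 5, [46, 56, 35, 30, 26, 16, 4, 16, 24], [60, 46, 51, 40, 38, 2, 16, 6, 23], [63, 45, 56, 50, 28, 36, 40, 2, 17, 23, 20, 13]⟩, .loop 19 4 [59, 44, 55, 50, 28, 34, 17, 23, 17, 8] 4 5 [⟨[27], 149, false, [2, 5, 3, 6, 1, 4, 6, 2, 5]⟩, ⟨[24], 529, true, [0, 4, 10, 5, 3, 6, 4, 6, 4, 5]⟩] [⟨[61, 61, 27], 460, true, [1, 10, 5, 6, 4, 5, 3, 5, 6, 5]⟩]),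
  (⟨false, 2, 2, [60, 44, 49, 28, 30, 28, 16, 19, 6, 18], [67, 44, 42, 48, 28, 31, 27, 31, 16, 16, 10, 21, 17], [60, 45, 50, 30, 35, 37, 16, 16, 19, 21]⟩, .loop 34 2 [63, 44, 51, 46, 35, 29, 31, 17, 17, 17, 25] 2 3 [⟨[23], 437, true, [10, 5, 3, 6, 4, 5, 3]⟩] [⟨[23, 24, 23], 273, false, [1, 2, 3, 6, 2, 5, 6, 2, 4, 10]⟩, ⟨[23], 503, false, [3, 6, 4, 5, 10, 5, 6, 2, 6, 4]⟩]),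
  (⟨false, 2, 2, [61, 45, 56, 28, 41, 27, 17, 17, 23], [52, 48, 38, 33, 40, 16, 16, 19, 16], [59, 44, 47, 28, 30, 36, 2, 17, 17, 6, 23]⟩, .loop 60 2 [58, 45, 52, 38, 28, 31, 2, 23, 6, 23, 4] 6 7 [⟨[], 687, true, [0, 10, 5, 6, 4, 6, 2, 6]⟩, ⟨[63, 29, 63, 28], 256, false, [2, 10, 5, 3, 6, 4, 6, 2, 6, 4]⟩, ⟨[24], 652, true, [1, 4, 6, 4, 6, 5, 10]⟩] [⟨[23, 24, 23], 764, true, [6, 1, 4, 10, 5, 6, 4, 5, 6, 10]⟩, ⟨[23, 24], 496, true, [1, 3, 6, 4, 5, 3, 6, 5, 10]⟩, ⟨[], 364, false, [1, 2, 3, 6, 4, 5, 3, 6]⟩, ⟨[24], 637, false, [3, 5, 3, 6, 4, 5, 6, 2, 10, 5]⟩]),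
  (⟨false, 2, 2, [66, 45, 50, 42, 30, 34, 29, 2, 23, 10, 23], [58, 44, 43, 51, 35, 31, 27, 16, 22], [62, 50, 42, 30, 35, 40, 2, 17, 23, 11, 25]⟩, .loop 67 2 [66, 44, 55, 30, 38, 28, 16, 16, 19] 4 5 [⟨[23], 717, true, [6, 4, 5, 10, 5, 6, 4, 5, 6, 4]⟩, ⟨[23], 632, false, [0, 2, 4, 5, 3, 6, 5, 6, 4, 10]⟩] [⟨[23], 427, true, [3, 5, 6, 4, 5, 3, 5]⟩]),
  (⟨false, 2, 2, [62, 46, 44, 38, 26, 16, 10, 19, 6], [62, 44, 53, 56, 36, 40, 37, 2, 17, 22, 10], [61, 46, 46, 30, 29, 34, 2, 16, 16, 22]⟩, .loop 73 2 [61, 46, 56, 31, 38, 2, 17, 25, 25] 6 7 [⟨[23, 24, 23], 564, true, [0, 6, 2, 5, 6, 4, 6]⟩, ⟨[23, 24, 23], 222, true, [0, 5, 6, 2, 4, 5, 6, 4, 5]⟩, ⟨[23], 465, true, [2, 4, 6, 1, 10, 5, 6, 2, 4, 6]⟩] []),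
  (⟨false, 2, 2, [59, 57, 53, 31, 29, 37, 16, 16, 2, 24], [59, 44, 57, 49, 31, 28, 2, 23, 17, 25, 6], [66, 44, 47, 34, 31, 31, 16, 25, 22]⟩, .loop 19 2 [59, 48, 57, 33, 29, 37, 2, 23, 17, 17, 6] 4 5 [⟨[24], 506, false, [2, 5, 6, 1, 10, 5, 6, 4]⟩, ⟨[38, 66, 38, 37], 478, false, [0, 3, 6, 2, 5, 6, 2, 4]⟩] [⟨[24, 23], 556, false, [3, 5, 6, 5, 3, 6, 4, 6]⟩])]

/-- facts 800 and on -/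
def facts25 : List (Fact × Why) := [
  (⟨false, 2, 5, [61, 44, 47, 33, 31, 33, 16, 16, 24, 19], [60, 51, 47, 34, 38, 16, 24, 16, 11], [59, 45, 52, 30, 40, 29, 16, 8, 17, 17, 22]⟩, .loop 33 2 [44, 57, 49, 31, 34, 16, 16, 2, 4, 23] 2 3 [⟨[23], 187, false, [5, 6, 4, 6, 5, 10]⟩] [⟨[24, 23], 385, true, [1, 2, 4, 5, 3, 6, 4, 6, 4]⟩, ⟨[30, 29, 27], 724, false, [1, 6, 2, 5, 6, 2, 4, 10]⟩]),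
  (⟨false, 2, 2, [67, 46, 49, 38, 31, 2, 17, 23], [63, 47, 44, 28, 30, 41, 41, 2, 17, 17, 17, 13], [50, 55, 36, 31, 26, 2, 23, 23, 25]⟩, .loop 32 2 [63, 45, 50, 45, 28, 40, 36, 16, 11, 18, 23] 2 3 [⟨[23], 627, false, [2, 3, 5, 6, 4, 10, 5, 6, 5]⟩] [⟨[24], 693, true, [1, 5, 6, 5, 6, 10, 5, 6, 5, 3]⟩, ⟨[], 489, false, [1, 5, 10, 5, 6, 5, 3, 6, 2, 4]⟩]),
  (⟨false, 2, 2, [63, 50, 45, 30, 41, 27, 16, 2, 19, 16], [63, 49, 45, 41, 28, 16, 11, 18, 17], [58, 45, 49, 34, 31, 31, 16, 4, 16]⟩, .loop 71 2 [66, 52, 33, 29, 16, 16, 22, 8] 2 3 [⟨[24], 620, true, [5, 6, 5, 3, 6, 5, 6, 2, 4, 10]⟩] [⟨[24], 349, false, [0, 3, 6, 5, 3, 6, 2, 4]⟩, ⟨[66, 66, 38, 66], 688, false, [1, 6, 10, 5, 6, 2, 5, 10]⟩]),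
  (⟨false, 2, 2, [67, 45, 42, 38, 30, 35, 2, 17, 23, 24, 17], [58, 47, 44, 28, 35, 32, 2, 23, 23, 18], [62, 44, 46, 57, 28, 31, 28, 38, 16, 16, 20, 25]⟩, .loop 33 3 [62, 46, 51, 55, 30, 40, 33, 18, 23, 17, 6] 2 3 [⟨[22], 199, true, [1, 4, 5, 6, 4, 5, 10]⟩] [⟨[50, 22, 50, 21], 213, false, [0, 5, 6, 4, 5, 6, 10, 5, 6, 5]⟩, ⟨[23, 24, 23], 547, true, [5, 6, 2, 6, 5, 3, 6, 2, 5]⟩]),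
  (⟨false, 3, 2, [59, 47, 47, 52, 33, 31, 2, 17, 23, 21, 16], [61, 56, 30, 27, 36, 16, 16, 11, 12], [67, 50, 44, 34, 37, 34, 16, 21, 23]⟩, .loop 31 2 [55, 43, 41, 27, 2, 17, 17, 13, 19] 2 3 [⟨[], 305, true, [5, 3, 6, 4, 6, 5, 6, 5, 10, 5]⟩] [⟨[24], 389, true, [5, 3, 6, 1, 4, 5, 10, 5, 6, 2]⟩, ⟨[24], 612, false, [2, 4, 5, 6, 10, 5, 3, 6, 5, 3]⟩]),
  (⟨false, 2, 2, [59, 54, 46, 30, 34, 29, 16, 21, 16], [61, 44, 53, 41, 41, 2, 16, 6, 23, 17], [66, 50, 42, 33, 35, 2, 17, 23, 18, 22]⟩, .loop 45 2 [55, 28, 36, 34, 2, 23, 17, 18] 2 3 [⟨[24], 599, true, [0, 4, 5, 6, 2]⟩] [⟨[23, 24, 23], 196, false, [3, 6, 4, 6, 2, 6, 5, 3, 6, 2]⟩]),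
  (⟨false, 2, 5, [62, 52, 44, 30, 28, 30, 2, 23, 24], [60, 51, 53, 34, 27, 31, 16, 16, 10, 16], [63, 44, 43, 35, 30, 26, 16, 11, 16, 11, 19]⟩, .loop 48 2 [63, 51, 47, 35, 38, 35, 2, 17, 17, 23, 12] 2 3 [⟨[23], 345, false, [1, 4, 6, 5, 6, 2, 10]⟩] [⟨[23, 24], 650, false, [2, 6, 4, 6, 2, 5, 6, 5, 10]⟩]),
  (⟨false, 2, 2, [59, 44, 53, 56, 33, 34, 30, 16, 16, 24, 23], [61, 57, 55, 34, 26, 30, 2, 17, 23, 4, 21], [59, 47, 49, 56, 40, 35, 26, 2, 23, 19, 16]⟩, .loop 68 2 [62, 55, 46, 30, 37, 30, 16, 2, 21, 17, 24] 6 7 [⟨[24, 23], 339, false, [1, 3, 5, 6, 5, 6, 2, 6, 5, 10]⟩, ⟨[24, 23], 177, true, [1, 2, 4, 10, 5, 3, 6, 5, 10]⟩, ⟨[], 477, false, [2, 4, 5, 3, 6, 4, 6, 4, 6]⟩] []),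
  (⟨false, 2, 2, [66, 54, 56, 33, 30, 2, 23, 18, 6, 22], [66, 44, 43, 33, 29, 35, 16, 4, 16, 16, 10], [62, 57, 30, 37, 40, 2, 17, 22, 10]⟩, .loop 30 2 [63, 49, 53, 28, 40, 2, 17, 23, 24] 6 7 [⟨[], 178, false, [3, 6, 4, 6, 2, 6, 4, 5, 6]⟩, ⟨[28, 61, 61], 615, false, [0, 6, 4, 6, 2, 6, 5, 6, 2]⟩, ⟨[23, 24, 23], 434, true, [4, 6, 4, 6, 2, 4, 5, 3]⟩] []),
  (⟨false, 5, 2, [62, 47, 47, 52, 28, 34, 37, 17, 22, 6, 18], [48, 48, 33, 36, 38, 2, 17, 23, 20], [51, 57, 30, 35, 40, 2, 23, 8, 17]⟩, .loop 35 5 [61, 48, 52, 36, 28, 38, 16, 16, 22, 10] 2 3 [⟨[], 794, true, [4, 6, 2, 6, 5, 3, 5]⟩] [⟨[37, 37], 98, false, [3, 6, 2, 5, 6, 4, 10, 5, 3]⟩, ⟨[23, 24, 23], 720, false, [6, 4, 6, 10, 5, 6, 2, 10, 5]⟩]),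
  (⟨false, 2, 2, [63, 50, 46, 30, 37, 2, 17, 23, 8], [63, 44, 43, 38, 32, 36, 2, 17, 23, 18, 22], [63, 44, 42, 57, 28, 31, 35, 18, 23, 17, 17]⟩, .loop 23 2 [67, 45, 50, 40, 27, 2, 17, 22, 22] 6 7 [⟨[24], 756, true, [2, 3, 6, 5, 6, 4, 6, 10]⟩, ⟨[23, 24], 532, true, [2, 3, 6, 4, 5, 6, 5, 10]⟩, ⟨[23], 392, false, [0, 2, 3, 6, 2, 4, 5, 6, 4, 10]⟩] []),
  (⟨false, 5, 2, [62, 48, 55, 31, 26, 26, 16, 16, 4, 25], [44, 42, 45, 30, 37, 31, 17, 22, 6, 16], [66, 49, 46, 30, 32, 26, 16, 24, 17]⟩, .loop 72 2 [58, 46, 49, 33, 30, 16, 11, 19, 6] 4 5 [⟨[23, 24, 23], 319, true, [3, 4, 5, 6, 5, 6, 2, 6]⟩, ⟨[63, 63, 61], 75, false, [1, 2, 6, 4, 5]⟩] [⟨[23, 24, 23], 552, false, [1, 3, 5, 6, 5, 3, 5, 6, 4, 5]⟩]),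
  (⟨false, 2, 2, [62, 45, 42, 45, 31, 38, 16, 18, 18], [60, 54, 50, 33, 34, 30, 17, 23, 18, 17], [67, 48, 52, 28, 38, 30, 16, 16, 21, 16]⟩, .loop 73 2 [60, 48, 44, 41, 37, 2, 23, 8, 23, 17] 4 5 [⟨[], 432, false, [0, 3, 5, 6, 2, 6, 5, 6]⟩, ⟨[], 344, false, [6, 4, 5, 6, 2, 6, 5, 3, 6]⟩] [⟨[24, 23], 780, false, [0, 4, 5, 6, 4, 5, 6, 2, 6, 2, 10]⟩]),
  (⟨false, 2, 2, [63, 47, 47, 52, 30, 40, 16, 2, 21, 23], [66, 51, 44, 33, 27, 34, 2, 23, 8, 23, 10], [67, 46, 42, 51, 31, 26, 30, 16, 24, 16, 10]⟩, .loop 44 2 [66, 51, 44, 33, 27, 34, 2, 23, 8, 23] 4 5 [⟨[], 718, false, [2, 3, 6, 5, 3, 6, 2, 5]⟩, ⟨[66, 37, 38], 243, true, [0, 4, 6, 2, 4, 5, 3, 6, 5, 10, 5]⟩] []),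
  (⟨false, 5, 2, [59, 44, 57, 55, 33, 31, 32, 16, 19, 22], [61, 44, 48, 43, 36, 31, 2, 23, 8, 23, 17], [63, 44, 46, 44, 36, 16, 16, 18, 23]⟩, .loop 34 2 [66, 54, 44, 40, 28, 40, 2, 23, 23, 17, 22] 6 7 [⟨[], 382, true, [5, 6, 10, 5, 3, 6, 2, 6, 4]⟩, ⟨[23, 24], 694, true, [0, 4, 5, 3, 6, 4, 5, 6, 10, 5]⟩, ⟨[23, 24, 23], 353, false, [6, 1, 4, 5, 6, 5]⟩] []),
  (⟨false, 2, 2, [48, 42, 30, 26, 30, 16, 4, 16, 16, 12], [59, 55, 46, 41, 27, 34, 16, 10, 16], [66, 44, 42, 35, 37, 2, 23, 6, 23, 4]⟩, .loop 46 2 [62, 51, 42, 28, 34, 40, 18, 23, 23] 2 3 [⟨[24], 428, false, [1, 2, 4, 6, 4, 5, 3, 6, 4, 5, 6]⟩] [⟨[23, 24, 23], 619, true, [0, 6, 5, 6, 2, 6, 5, 6]⟩]),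
  (⟨false, 2, 2, [44, 46, 44, 30, 35, 40, 28, 16, 16, 21, 24], [67, 44, 51, 48, 41, 38, 2, 16, 16, 22], [51, 43, 28, 41, 27, 32, 2, 23, 11]⟩, .loop 73 2 [58, 50, 48, 31, 28, 30, 18, 23, 17] 6 7 [⟨[23], 172, true, [1, 2, 3, 4, 5, 6, 2, 5, 3]⟩, ⟨[23, 24], 726, false, [2, 4, 6, 4, 5, 6, 2, 6, 2]⟩, ⟨[24], 432, true, [3, 6, 4, 5, 10]⟩] []),
  (⟨false, 5, 2, [63, 44, 42, 45, 33, 35, 29, 2, 17, 19, 22], [63, 50, 40, 35, 2, 17, 17, 22, 25], [67, 44, 55, 50, 34, 2, 23, 6, 17, 6]⟩, .loop 72 2 [66, 48, 55, 30, 29, 41, 16, 16, 22] 6 7 [⟨[], 248, false, [1, 5, 6, 2, 4, 10]⟩, ⟨[23, 24], 503, false, [1, 6, 5, 6, 4, 5, 6, 2, 5]⟩, ⟨[23, 24, 23], 746, true, [6, 5, 6, 2, 4, 5, 6, 5, 6]⟩] []),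
  (⟨false, 2, 2, [62, 50, 50, 34, 28, 37, 2, 17, 0, 23, 13], [62, 50, 44, 35, 36, 16, 21, 16, 20], [67, 45, 28, 35, 38, 16, 10, 23]⟩, .loop 33 5 [66, 48, 50, 28, 34, 33, 16, 21, 16, 21] 2 3 [⟨[], 410, false, [1, 6, 10, 5, 3, 6, 4, 5]⟩] [⟨[38, 66, 66, 38], 466, true, [2, 3, 4, 6, 2, 5, 6, 5, 3, 6]⟩, ⟨[24], 492, false, [0, 3, 4, 6, 2, 5, 6, 5, 3, 6]⟩]),
  (⟨false, 2, 2, [47, 56, 30, 27, 30, 17, 23, 4], [63, 45, 48, 28, 30, 27, 2, 17, 17, 10], [63, 46, 44, 28, 35, 31, 41, 2, 23, 17, 8, 21]⟩, .loop 58 2 [61, 51, 42, 33, 31, 32, 2, 23, 17, 17] 12 13 [⟨[23, 24], 649, false, [10, 5, 6, 1, 5]⟩, ⟨[], 781, true, [1, 10, 5, 3, 6, 5, 6, 2, 5, 3, 6]⟩, ⟨[], 628, false, [3, 5, 6, 10, 5, 6, 2, 5, 10]⟩, ⟨[23, 24, 23], 486, false, [5, 6, 1, 5, 10, 5, 6, 2,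 6]⟩, ⟨[], 635, true, [1, 3, 6, 4, 5, 10]⟩, ⟨[], 567, false, [4, 10, 5, 6, 2, 6, 2, 4]⟩] [⟨[23, 24], 569, false, [4, 5, 6, 1, 4, 5, 3]⟩]),
  (⟨false, 2, 2, [45, 54, 45, 31, 28, 32, 2, 17, 22, 22, 11], [63, 45, 57, 28, 26, 40, 2, 23, 23, 8, 18], [57, 55, 36, 27, 2, 17, 22, 16, 21]⟩, .loop 46 2 [59, 45, 42, 51, 30, 41, 34, 16, 21, 16, 20] 2 3 [⟨[24, 23], 783, true, [4, 5, 6, 5, 3, 6, 2, 6]⟩] [⟨[23, 24, 23], 554, false, [6, 2, 6, 5, 3]⟩]),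
  (⟨false, 2, 2, [61, 47, 44, 51, 36, 32, 30, 2, 17, 18, 22, 24], [63, 47, 51, 36, 27, 35, 2, 17, 19, 22, 11], [58, 44, 55, 33, 27, 40, 2, 23, 17, 19]⟩, .loop 46 2 [66, 45, 57, 30, 30, 34, 16, 2, 21, 17] 2 3 [⟨[], 636, false, [1, 6, 4, 6, 4, 10, 5, 6, 10]⟩] [⟨[24, 23], 564, true, [3, 4, 5, 6, 5, 6, 2, 6, 10, 5]⟩]),
  (⟨false, 2, 2, [47, 49, 35, 29, 2, 17, 23, 10, 16], [62, 56, 53, 28, 30, 16, 16, 4, 8], [63, 51, 51, 28, 38, 26, 2, 17, 17, 8, 23]⟩, .loop 69 4 [51, 43, 28, 30, 26, 34, 16, 24, 16, 25] 4 5 [⟨[27, 63], 180, false, [5, 6, 2, 6, 4, 5, 3, 6, 2]⟩, ⟨[23, 24], 671, true, [0, 3, 6, 4, 6, 4, 6]⟩] [⟨[61, 63, 61, 63, 28], 89, true, [3, 6, 2, 4, 5, 6, 2, 6]⟩]),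
  (⟨false, 2, 2, [59, 44, 43, 57, 28, 36, 33, 16, 11, 16, 4], [58, 47, 54, 34, 29, 16, 11, 16, 2, 10], [66, 44, 43, 53, 31, 36, 41, 16, 22, 22, 4]⟩, .loop 65 2 [59, 52, 50, 28, 35, 36, 2, 23, 23, 10, 17] 4 5 [⟨[], 369, true, [2, 4, 5, 6, 2, 5, 6, 4, 6, 2]⟩, ⟨[24], 233, true, [3, 6, 2, 6, 5, 6, 5]⟩] [⟨[23, 24], 307, true, [4, 6, 1, 4, 10, 5, 6, 5, 3, 5]⟩, ⟨[23, 24], 407, true, [4, 6, 4, 6, 2, 10]⟩, ⟨[29, 27, 63], 493, false, [0, 2, 6, 10, 5, 6, 10, 5]⟩, ⟨[23, 24], 562, false, [1, 2, 6, 2, 4, 10, 5]⟩, ⟨[24, 23], 281, true, [4, 10, 5, 3, 6, 1, 4, 5]⟩]),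
  (⟨false, 2, 2, [63, 45, 56, 50, 36, 40, 35, 2, 16, 16, 16, 4], [61, 44, 55, 50, 30, 40, 26, 19, 6, 23, 20], [45, 54, 56, 30, 40, 28, 16, 4, 16]⟩, .loop 46 2 [66, 48, 53, 30, 29, 35, 2, 16, 6, 17, 19] 2 3 [⟨[24], 202, false, [1, 2, 3, 4, 5, 6, 4, 6, 4, 5]⟩] [⟨[23, 24, 23], 416, false, [4, 6, 5, 6, 10, 5, 6]⟩]),
  (⟨false, 2, 5, [59, 44, 42, 51, 36, 29, 31, 2, 23, 10, 23, 19], [63, 46, 46, 41, 28, 32, 16, 22, 22, 22], [44, 56, 46, 41, 28, 2, 16, 6, 22]⟩, .loop 33 5 [59, 44, 51, 46, 36, 40, 35, 2, 17, 0, 23] 6 7 [⟨[38], 329, true, [6, 2, 4, 6, 5, 3, 6, 2, 6]⟩, ⟨[24, 23], 555, true, [1, 3, 5, 6, 4, 6, 5, 6, 2, 10]⟩, ⟨[245, 245, 50, 22, 21], 804, false, [3, 6, 4, 5, 3]⟩] []),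
  (⟨false, 2, 2, [58, 44, 43, 57, 36, 40, 26, 16, 16, 20, 19], [62, 47, 55, 30, 26, 31, 2, 17, 23, 18], [66, 44, 53, 30, 40, 30, 16, 18]⟩, .loop 29 2 [60, 45, 42, 49, 30, 37, 27, 16, 18, 16, 24] 6 7 [⟨[], 331, true, [3, 4, 6, 2, 6, 4, 6]⟩, ⟨[], 813, false, [2, 4, 6, 1, 2, 5, 6, 10, 5]⟩, ⟨[24], 704, false, [4, 10, 5, 6, 1, 5, 3, 5, 6, 4]⟩] []),
  (⟨false, 2, 2, [67, 50, 48, 31, 26, 26, 16, 2, 16], [61, 44, 51, 28, 30, 19, 6], [58, 48, 50, 28, 36, 40, 16, 16, 2, 25]⟩, .loop 29 2 [62, 44, 43, 31, 28, 41, 16, 22, 19] 6 7 [⟨[], 207, true, [4, 5, 6, 2, 5, 6, 5, 10]⟩, ⟨[], 189, false, [5, 6, 1, 2, 4, 5, 6, 4, 5]⟩, ⟨[23, 24, 23], 752, true, [3, 4, 6, 2, 6, 4, 5, 3]⟩] []),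
  (⟨false, 2, 2, [61, 45, 50, 45, 36, 29, 19, 6], [60, 47, 56, 35, 29, 35, 16, 16, 20, 22], [61, 55, 46, 34, 38, 16, 24, 23]⟩, .loop 29 2 [67, 44, 51, 46, 30, 35, 40, 28, 16, 16, 24, 22] 6 7 [⟨[], 390, false, [4, 5, 3, 6, 5, 6, 2, 4, 6]⟩, ⟨[24, 23], 820, true, [6, 10, 5, 3, 6, 2, 6, 5, 6]⟩, ⟨[23, 24, 23], 428, true, [4, 5, 6, 1, 2, 6, 10, 5, 10]⟩] []),
  (⟨false, 2, 2, [58, 55, 49, 38, 16, 16, 8, 16], [60, 48, 45, 38, 34, 16, 11, 17, 6], [59, 47, 52, 33, 35, 41, 2, 23, 4, 6, 23]⟩, .loop 20 2 [50, 31, 26, 36, 2, 23, 13, 23, 18] 4 5 [⟨[23, 24, 23], 390, false, [0, 6, 4, 6, 4, 5, 10]⟩, ⟨[24], 543, false, [1, 5, 6, 5, 3, 6, 2, 6]⟩] [⟨[24], 691, false, [3, 5, 6, 4, 6, 2, 10, 5]⟩]),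
  (⟨false, 2, 2, [58, 45, 42, 51, 36, 29, 33, 16, 4, 16, 2, 11], [61, 44, 49, 28, 26, 36, 16, 16, 11, 23], [66, 45, 54, 36, 28, 34, 2, 17, 23, 17, 22]⟩, .loop 30 2 [63, 49, 51, 28, 31, 37, 2, 23, 17, 17, 10] 2 3 [⟨[], 598, true, [0, 6, 2, 6, 4, 5, 6, 2, 6, 10]⟩] [⟨[24, 23], 606, false, [3, 4, 5, 6, 1, 2, 6, 10, 5]⟩, ⟨[24], 653, true, [3, 6, 5, 6, 4, 5, 6, 5, 3, 6]⟩]),
  (⟨false, 2, 2, [61, 49, 42, 36, 27, 36, 16, 16, 20, 19], [62, 44, 55, 30, 29, 34, 16, 18], [67, 48, 47, 31, 35, 38, 2, 17, 18, 22, 24]⟩, .loop 17 2 [60, 45, 54, 56, 36, 28, 38, 17, 22, 6] 6 7 [⟨[23], 351, false, [3, 5, 6, 2, 6, 5, 6, 10]⟩, ⟨[], 735, true, [0, 5, 6, 2, 6, 5, 3, 5]⟩, ⟨[], 754, true, [4, 6, 1, 4, 10, 5, 6, 4]⟩] [])]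

/-- facts 832 and on -/
def facts26 : List (Fact × Why) := [
  (⟨false, 2, 2, [50, 44, 28, 35, 41, 2, 17, 22, 18, 23], [60, 54, 46, 30, 32, 31, 17, 17, 23, 23], [61, 47, 48, 28, 2, 17, 22, 22, 24]⟩, .loop 29 2 [62, 48, 42, 28, 34, 27, 2, 17, 23, 10, 21] 6 7 [⟨[24], 589, false, [0, 6, 5, 3, 6, 4]⟩, ⟨[24, 23], 667, false, [2, 6, 1, 2, 5, 6, 4, 10, 5, 6]⟩, ⟨[24], 820, false, [2, 5, 6, 5, 10, 5, 6, 5]⟩] []),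
  (⟨false, 2, 2, [63, 52, 48, 33, 31, 32, 16, 16, 8, 21], [61, 47, 42, 41, 28, 33, 16, 2, 19, 6], [67, 49, 56, 41, 32, 16, 2, 10, 23]⟩, .loop 47 2 [62, 44, 53, 33, 28, 37, 16, 10, 16, 10] 4 5 [⟨[23, 24], 489, true, [6, 2, 4, 6, 5, 3, 6, 4, 5]⟩, ⟨[23, 24], 562, true, [0, 2, 4, 6, 4, 5, 6, 4, 5]⟩] []),
  (⟨false, 2, 2, [60, 47, 48, 38, 31, 17, 17, 22, 16], [62, 48, 47, 30, 37, 27, 2, 17, 6], [58, 51, 57, 35, 29, 36, 2, 23, 17, 6, 22]⟩, .loop 69 2 [46, 43, 38, 40, 2, 23, 10, 23, 19] 4 5 [⟨[24], 523, true, [5, 6, 10, 5, 3, 6, 5, 6, 10]⟩, ⟨[23, 24], 778, false, [2, 3, 6, 4, 5, 6, 4, 5]⟩] [⟨[24, 23], 177, true, [3, 6, 5, 3, 6, 4, 5, 10]⟩]),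
  (⟨false, 2, 2, [51, 42, 30, 30, 34, 2, 23, 17, 0, 25], [61, 55, 31, 33, 33, 16, 16, 25, 16], [60, 46, 43, 33, 31, 31, 16, 10, 16, 16, 11]⟩, .loop 32 2 [62, 44, 42, 47, 28, 26, 30, 2, 17, 17, 17, 13] 6 7 [⟨[23], 327, true, [6, 1, 10, 5, 3, 6, 4, 6]⟩, ⟨[66, 66, 38, 66], 663, false, [6, 1, 2, 5, 6, 2, 4]⟩, ⟨[24, 23], 707, true, [1, 4, 6, 2, 6, 4, 10, 5, 6, 5]⟩] []),
  (⟨false, 2, 2, [58, 44, 48, 28, 36, 16, 18, 16, 8], [66, 51, 53, 28, 30, 27, 31, 2, 17, 23, 11], [66, 49, 47, 36, 29, 16, 16, 10, 13]⟩, .loop 33 2 [58, 44, 46, 48, 31, 27, 31, 2, 17, 22, 6, 16] 6 7 [⟨[], 339, false, [0, 6, 4, 5, 6, 4, 10, 5]⟩, ⟨[], 545, true, [2, 4, 6, 5, 10, 5, 6, 2]⟩, ⟨[24, 23], 764, false, [2, 4, 6, 2, 5, 3, 6, 2]⟩] []),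
  (⟨false, 2, 2, [60, 44, 42, 47, 35, 37, 16, 16, 10, 21, 17], [66, 52, 50, 30, 32, 30, 2, 17, 23, 20, 19], [59, 47, 44, 31, 32, 36, 16, 16, 22, 2]⟩, .loop 30 2 [63, 51, 55, 28, 30, 27, 16, 16, 11, 24] 4 5 [⟨[24], 690, false, [0, 4, 6, 4, 10, 5, 6, 2, 5]⟩, ⟨[24], 365, true, [4, 6, 5, 6, 2, 5, 6, 10, 5]⟩] [⟨[23, 24], 392, false, [1, 2, 5, 6, 2, 6, 4, 10]⟩]),
  (⟨false, 2, 2, [58, 50, 55, 28, 30, 35, 2, 23, 23, 18, 23], [67, 44, 42, 46, 28, 36, 29, 27, 16, 16, 16, 22], [62, 45, 54, 31, 32, 29, 16, 25]⟩, .loop 29 2 [61, 46, 43, 31, 32, 16, 4, 16, 20, 22] 6 7 [⟨[], 456, false, [2, 6, 2, 6, 4, 5, 3]⟩, ⟨[], 559, true, [0, 3, 6, 2, 5, 6, 4, 6, 2]⟩, ⟨[23], 781, true, [3, 4, 5, 6, 4, 6, 2, 4, 5]⟩] []),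
  (⟨false, 2, 2, [62, 48, 56, 34, 31, 2, 17, 17, 0, 11], [63, 50, 45, 36, 28, 34, 2, 17], [60, 44, 56, 28, 30, 32, 2, 17, 23, 17, 25]⟩, .loop 19 2 [58, 47, 51, 35, 30, 36, 16, 16, 10, 20, 16] 4 5 [⟨[], 825, false, [1, 5, 6, 10, 5, 6, 2, 6, 5]⟩, ⟨[66, 66, 37, 66, 37], 806, true, [4, 6, 4, 6, 2, 4, 10, 5]⟩] [⟨[23, 24], 372, true, [4, 6, 1, 5, 3, 6, 4, 5, 6, 4]⟩]),
  (⟨false, 2, 2, [67, 47, 47, 52, 28, 31, 41, 16, 4, 16, 11], [60, 48, 43, 33, 31, 38, 16, 10, 16, 24], [59, 46, 42, 51, 30, 28, 35, 16, 16, 2, 0]⟩, .loop 44 2 [67, 49, 51, 33, 33, 31, 17, 23, 23, 0] 4 5 [⟨[], 699, true, [1, 2, 3, 4, 5, 6, 2, 10]⟩, ⟨[66, 38], 474, true, [6, 2, 6, 2, 4, 5, 6, 2, 5, 10]⟩] []),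
  (⟨false, 2, 2, [60, 44, 57, 49, 30, 41, 26, 16, 16, 21], [60, 47, 53, 30, 27, 2, 17, 25], [60, 48, 55, 35, 31, 29, 2, 17, 22, 6]⟩, .loop 44 2 [61, 45, 50, 38, 35, 36, 16, 19] 4 5 [⟨[], 159, true, [1, 4, 6, 4, 6, 2, 10]⟩, ⟨[245, 22, 22, 50, 22], 306, false, [1, 4, 6, 4, 6, 4, 10, 5, 10]⟩] []),
  (⟨false, 2, 2, [61, 49, 47, 35, 35, 29, 2, 17, 19, 22, 20], [66, 52, 55, 35, 30, 32, 16, 10, 17, 6], [62, 45, 46, 36, 27, 35, 16, 11, 16, 24, 16]⟩, .loop 68 2 [66, 44, 46, 57, 33, 41, 30, 2, 17, 0, 17, 19] 2 3 [⟨[], 639, true, [6, 4, 5, 6, 10, 5, 6, 10, 5]⟩] [⟨[], 259, false, [1, 3, 6, 5, 6, 5]⟩, ⟨[23, 24], 427, true, [0, 4, 5, 6, 4, 5, 6, 4, 10, 5]⟩]),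
  (⟨false, 4, 2, [62, 45, 54, 56, 30, 35, 41, 16, 16, 2, 11], [60, 48, 46, 30, 32, 36, 2, 23, 17, 23, 11], [62, 46, 49, 33, 34, 38, 2, 17, 17, 22, 6]⟩, .loop 16 2 [67, 44, 42, 46, 38, 29, 30, 16, 8, 22, 6] 2 3 [⟨[], 385, true, [1, 3, 6, 5, 6, 4, 6, 2]⟩] [⟨[23, 24], 624, true, [2, 6, 1, 10, 5, 6, 10]⟩, ⟨[23], 728, true, [0, 6, 4, 5, 6, 4, 5, 3]⟩]),
  (⟨false, 2, 2, [44, 46, 48, 33, 38, 36, 2, 23, 17, 22, 4], [59, 44, 31, 32, 29, 2, 17, 23, 18, 18], [67, 45, 42, 49, 33, 30, 32, 2, 17, 22, 22, 11]⟩, .loop 30 4 [63, 44, 47, 52, 40, 40, 32, 16, 10, 19, 6] 4 5 [⟨[63, 27], 326, false, [1, 2, 6, 10, 5, 6, 2, 5, 3]⟩, ⟨[61, 63, 29, 63], 160, false, [0, 5, 3, 6, 4, 5, 6, 2, 6, 10]⟩] [⟨[63, 63, 28, 61, 61], 493, false, [1, 6, 4, 6, 10, 5]⟩]),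
  (⟨false, 2, 2, [31, 33, 16, 24], [60, 45, 54, 56, 36, 28, 34, 17, 17, 23, 18], [59, 47, 53, 34, 31, 41, 2, 17, 17, 11, 19]⟩, .loop 21 2 [59, 46, 42, 51, 38, 32, 35, 2, 23, 6, 17, 6] 4 5 [⟨[], 520, false, [3, 6, 5, 10, 5, 6, 5, 6, 2, 10]⟩, ⟨[23], 736, false, [1, 2, 4, 5, 3, 6, 2, 5, 6, 10]⟩] [⟨[23, 24], 778, true, [6, 4, 10, 5, 6, 10, 5, 3, 6]⟩]),
  (⟨false, 2, 2, [66, 52, 44, 28, 30, 32, 2, 23, 23, 25], [61, 45, 46, 30, 30, 30, 2, 17, 17, 17, 2], [59, 48, 55, 41, 26, 16, 16, 22]⟩, .loop 21 2 [62, 45, 56, 50, 28, 40, 2, 17, 22, 8] 2 3 [⟨[], 233, false, [4, 5, 6, 10, 5, 6, 4, 6]⟩] [⟨[23, 24, 23], 481, false, [1, 5, 3, 5, 6, 5, 10]⟩, ⟨[], 844, false, [4, 5, 6, 2, 10, 5, 6, 4, 6]⟩]),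
  (⟨false, 2, 2, [66, 44, 42, 45, 41, 29, 16, 11, 18, 17], [59, 45, 42, 51, 35, 28, 32, 16, 8, 17, 17, 22], [67, 49, 49, 30, 34, 27, 16, 10, 16, 24, 24]⟩, .loop 46 2 [61, 47, 53, 28, 41, 2, 23, 17, 24, 6] 2 3 [⟨[24], 671, true, [1, 6, 2, 6, 4, 6, 10, 5, 3, 6]⟩] [⟨[23], 512, false, [2, 5, 6, 1, 5, 3, 5]⟩]),
  (⟨false, 2, 2, [60, 46, 46, 35, 40, 31, 16, 4, 16, 10], [58, 44, 57, 41, 28, 33, 2, 23, 13, 23], [60, 49, 45, 31, 33, 36, 17, 22, 6, 16]⟩, .loop 29 2 [45, 56, 50, 28, 40, 28, 16, 16, 22, 10] 2 3 [⟨[], 791, false, [1, 6, 5, 3, 6, 5, 6, 2, 6, 5]⟩] [⟨[23], 146, false, [0, 10, 5, 6, 10, 5, 6, 2]⟩, ⟨[63, 27, 61, 61], 366, true, [4, 5, 3, 5, 6, 4, 5, 3, 6, 2]⟩]),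
  (⟨false, 2, 2, [61, 44, 56, 46, 34, 37, 37, 16, 16, 10, 20, 16], [62, 45, 54, 35, 31, 32, 2, 17, 23, 4, 6], [67, 44, 55, 52, 30, 37, 35, 16, 16, 13, 10]⟩, .loop 66 5 [59, 50, 55, 28, 34, 41, 17, 22, 6, 18] 2 3 [⟨[], 699, false, [6, 2, 6, 10, 5, 3, 6, 5]⟩] [⟨[66, 38], 320, true, [0, 4, 5, 10, 5, 6, 4, 5, 10]⟩, ⟨[24, 23], 420, false, [1, 6, 2, 5, 6, 10, 5, 6, 4, 6]⟩]),
  (⟨false, 2, 2, [61, 44, 43, 57, 35, 30, 32, 16, 11, 16], [62, 50, 49, 33, 35, 26, 16, 10, 13], [59, 51, 43, 31, 36, 28, 16, 11, 23, 16, 16]⟩, .loop 19 2 [58, 44, 56, 31, 33, 34, 16, 10, 16, 16, 11] 4 5 [⟨[], 297, true, [5, 10, 5, 6, 4, 6, 5, 6]⟩, ⟨[23, 24], 598, true, [2, 5, 3, 6, 4, 5, 6, 2, 10]⟩] [⟨[], 196, false, [4, 5, 3, 6, 4, 5, 6, 4, 5, 6]⟩]),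
  (⟨false, 2, 2, [62, 45, 42, 33, 34, 26, 2, 23, 23], [67, 51, 52, 28, 41, 31, 2, 23, 10, 17, 0], [63, 47, 33, 27, 30, 2, 23, 10, 17, 19]⟩, .loop 21 2 [60, 46, 42, 31, 26, 36, 17, 17, 17, 10] 6 7 [⟨[24], 359, false, [4, 6, 1, 2, 10, 5, 6, 5]⟩, ⟨[37, 66, 37, 37], 721, true, [10, 5, 6, 4, 5, 3, 6, 2]⟩, ⟨[23, 24], 558, true, [1, 5, 3, 6, 2, 5, 6, 10, 5, 10]⟩] []),
  (⟨false, 2, 2, [67, 46, 53, 34, 26, 30, 16, 21, 16, 20], [66, 48, 52, 30, 32, 36, 2, 17, 17, 22, 11], [61, 50, 49, 41, 38, 2, 23, 17, 0]⟩, .loop 52 2 [67, 52, 55, 41, 33, 16, 16, 21, 18] 2 3 [⟨[23], 776, false, [1, 6, 2, 5, 6, 4, 6, 2, 5]⟩] [⟨[23, 24, 23], 220, true, [3, 6, 1, 5, 6, 2, 4, 6, 10]⟩, ⟨[], 822, true, [1, 6, 4, 5, 6, 5, 10, 5]⟩, ⟨[23, 24], 719, true, [5, 10, 5, 6, 4,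 5, 6, 2, 10]⟩, ⟨[24, 23], 447, false, [1, 3, 4, 5, 6, 10, 5, 3, 6, 5, 6]⟩, ⟨[23], 183, false, [5, 3, 6, 1, 2, 6, 4, 5, 6, 2]⟩, ⟨[24], 585, true, [1, 6, 10, 5, 3, 6, 2, 6, 4, 5]⟩]),
  (⟨false, 2, 2, [51, 55, 30, 40, 31, 16, 16, 19, 21], [63, 50, 47, 34, 26, 30, 16, 16, 2, 25], [67, 49, 56, 28, 35, 40, 2, 23, 8, 17]⟩, .loop 34 2 [66, 45, 56, 55, 33, 27, 16, 16, 4, 6] 2 3 [⟨[23, 24], 205, false, [2, 6, 5, 6, 2, 6, 5, 6, 10]⟩] [⟨[23], 567, true, [0, 5, 6, 2, 4, 6, 10, 5, 6, 2, 6]⟩, ⟨[24], 352, true, [0, 3, 5, 3, 6, 5, 3, 6, 2, 4]⟩]),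
  (⟨false, 2, 3, [59, 51, 46, 30, 16, 11, 23, 16, 16], [62, 51, 47, 30, 26, 33, 2, 23, 23, 25, 21], [58, 48, 57, 41, 29, 16, 24, 17, 22]⟩, .loop 68 3 [62, 51, 47, 30, 35, 29, 16, 16, 4, 24] 6 7 [⟨[22], 305, false, [2, 6, 2, 6, 5, 6, 10, 5, 3]⟩, ⟨[], 351, false, [1, 5, 6, 4, 5, 3, 6, 2, 5, 6]⟩, ⟨[24, 23], 633, true, [4, 6, 5, 6, 10, 5, 3, 6, 5, 6]⟩] []),
  (⟨false, 2, 2, [66, 44, 55, 31, 29, 27, 16, 16, 25, 23], [60, 44, 46, 57, 28, 36, 34, 2, 17, 22, 22, 21], [61, 46, 49, 28, 30, 34, 16, 19, 11]⟩, .loop 23 2 [66, 52, 50, 28, 36, 40, 36, 16, 16, 18, 20] 6 7 [⟨[23, 24, 23], 530, false, [0, 3, 4, 6, 4, 5, 6, 2, 5, 3]⟩, ⟨[24], 746, true, [0, 4, 6, 2, 4, 5, 6, 5, 10, 5]⟩, ⟨[38, 66, 66], 769, false, [2, 5, 3, 6, 5, 6, 4]⟩] []),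
  (⟨false, 2, 2, [67, 45, 57, 36, 32, 2, 17, 23, 11, 17], [67, 47, 44, 38, 29, 2, 17, 17, 13], [67, 44, 51, 46, 34, 41, 41, 2, 23, 8, 17]⟩, .loop 19 2 [59, 55, 42, 38, 40, 17, 23, 18] 4 5 [⟨[], 79, false, [1, 2, 5, 6, 10, 5, 3, 6, 2, 4]⟩, ⟨[66, 66, 37, 37], 811, false, [0, 6, 5, 6, 2, 6, 4]⟩] [⟨[24, 23], 805, true, [0, 4, 6, 2, 4, 10, 5]⟩]),
  (⟨false, 2, 2, [62, 45, 56, 28, 34, 41, 17, 22, 6, 16], [62, 51, 49, 34, 31, 35, 16, 10, 18], [67, 44, 48, 43, 41, 34, 16, 11, 23]⟩, .loop 60 2 [63, 46, 28, 35, 40, 16, 16, 10, 19] 10 11 [⟨[24], 502, false, [0, 3, 4, 6, 5, 6, 4, 5, 10, 5]⟩, ⟨[24, 23], 398, false, [0, 5, 3, 6, 2, 4, 6, 5, 6, 4]⟩, ⟨[24], 796, false, [1, 6, 5, 3, 6, 4, 5, 3, 6, 4]⟩, ⟨[23, 24, 23], 385, true, [4, 5, 6, 1, 10, 5]⟩, ⟨[61,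 28, 63, 63], 256, false, [0, 6, 2, 6, 4, 5, 6, 10, 5, 10]⟩] [⟨[23, 24, 23], 496, false, [5, 6, 5, 6, 10, 5, 6, 2, 5, 6]⟩, ⟨[23, 24, 23], 681, true, [1, 6, 10, 5, 6, 5, 3, 5, 6, 2]⟩]),
  (⟨false, 2, 2, [44, 48, 43, 30, 30, 30, 16, 19, 22, 11], [59, 45, 54, 45, 34, 31, 35, 16, 19, 6, 23], [66, 49, 46, 41, 26, 16, 16, 2, 23]⟩, .loop 73 2 [59, 45, 42, 45, 30, 41, 29, 2, 17, 17, 19, 6] 2 3 [⟨[], 637, true, [0, 3, 5, 6, 4, 5, 6, 4, 6]⟩] [⟨[23, 24, 23], 423, false, [4, 5, 6, 4, 5, 6, 5, 6, 10]⟩, ⟨[23], 489, false, [1, 4, 6, 2, 6, 5, 3, 5, 6, 4]⟩]),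
  (⟨false, 2, 2, [58, 48, 52, 34, 33, 28, 16, 16, 18, 11], [62, 44, 46, 48, 31, 28, 2, 23, 23, 23, 24], [62, 44, 48, 43, 31, 32, 16, 4, 16, 21]⟩, .loop 33 2 [63, 49, 51, 16, 22, 22, 10] 2 3 [⟨[], 709, false, [1, 6, 2, 4, 5, 3, 6]⟩] [⟨[], 306, true, [10, 5, 6, 4, 6, 5, 3, 6, 5]⟩, ⟨[245, 21, 21, 21, 245], 370, true, [1, 2, 5, 6, 4, 10, 5, 6, 5, 10]⟩]),
  (⟨false, 2, 2, [66, 45, 36, 40, 26, 2, 23, 25, 19, 17], [62, 44, 55, 31, 28, 36, 16, 16, 18, 24], [67, 47, 50, 33, 34, 30, 16, 11, 16, 2]⟩, .loop 30 5 [66, 54, 43, 40, 27, 2, 16, 6, 23, 17] 4 5 [⟨[66], 79, true, [2, 10, 5, 6, 1, 4, 6]⟩, ⟨[23], 392, false, [2, 6, 2, 5, 6, 4, 6, 5, 6]⟩] [⟨[37, 66, 38], 734, false, [1, 2, 6, 2, 10, 5, 6]⟩]),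
  (⟨false, 2, 2, [61, 45, 56, 50, 30, 37, 2, 23, 8, 23, 17], [58, 44, 47, 52, 38, 26, 33, 2, 16, 16, 6, 25], [59, 47, 53, 31, 27, 16, 10, 17, 17]⟩, .loop 67 2 [58, 54, 47, 35, 31, 34, 2, 17, 23, 24] 6 7 [⟨[], 320, false, [2, 3, 6, 5, 3, 6, 5, 3]⟩, ⟨[38], 682, false, [3, 6, 5, 6, 2, 6, 10, 5, 10]⟩, ⟨[23], 479, false, [3, 4, 5, 3, 6, 5, 6, 2, 6, 4]⟩] []),
  (⟨false, 2, 2, [63, 44, 46, 57, 28, 36, 34, 2, 17, 17, 19, 25], [61, 41, 30, 2, 23, 17, 22, 11], [44, 46, 44, 34, 29, 41, 2, 17, 0, 23, 17]⟩, .loop 20 2 [61, 44, 46, 48, 31, 29, 27, 2, 17, 19, 22, 20] 6 7 [⟨[24], 298, true, [6, 5, 10, 5, 6, 2, 5, 10]⟩, ⟨[37, 66, 37], 243, true, [1, 2, 4, 10, 5, 6]⟩, ⟨[23], 195, false, [3, 5, 3, 6, 1, 2, 5, 10]⟩] []),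
  (⟨false, 2, 5, [62, 46, 44, 54, 28, 26, 40, 38, 2, 17, 17, 20, 8], [67, 47, 56, 31, 26, 33, 17, 17, 23, 16], [58, 55, 47, 31, 34, 28, 16, 10, 25]⟩, .loop 48 5 [58, 45, 42, 47, 31, 32, 29, 2, 17, 23, 18, 20] 4 5 [⟨[37], 525, false, [3, 5, 6, 4, 6, 2, 6, 5]⟩, ⟨[23, 24], 720, false, [4, 5, 6, 2, 6, 10, 5]⟩] [])]

end CfsgLib.Sporadic.ThPres
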