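import Cfsg.Agent.Lib.Sporadic.ThPres.Check

set_option autoImplicit false
set_option maxRecDepth 20000

/-! Facts among double cosets (generated; owner: helper9). -/

namespace CfsgLib.Sporadic.ThPres
open CfsgLib.Recog.SporBound (Q)

/-- facts 864 and on -/
def facts27 : List (Fact × Why) := [
  (⟨false, 2, 2, [48, 43, 36, 28, 16, 11, 17, 6], [63, 47, 35, 35, 41, 2, 23, 17, 23], [63, 45, 56, 55, 36, 30, 2, 17, 23, 18, 22]⟩, .loop 17 2 [67, 49, 44, 34, 29, 2, 17, 23, 6] 4 5 [⟨[23], 692, false, [2, 4, 6, 2, 5, 6, 4, 5, 3, 5]⟩, ⟨[], 545, false, [0, 2, 3, 4, 6, 5, 10, 5, 6, 2]⟩] [⟨[23, 24, 23], 431, false, [5, 6, 1, 10, 5, 3, 6, 2, 5]⟩]),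
  (⟨false, 2, 2, [47, 55, 31, 29, 41, 17, 17, 17, 25], [44, 57, 49, 31, 26, 40, 16, 4, 16], [62, 44, 48, 30, 26, 36, 2, 17, 23, 17, 22]⟩, .loop 46 5 [66, 55, 49, 30, 35, 2, 17, 17, 23, 11] 2 3 [⟨[37], 218, false, [6, 1, 5, 6, 4, 10, 5, 6, 10]⟩] [⟨[37, 37], 243, true, [5, 6, 2, 5, 6, 4, 5]⟩]),
  (⟨false, 5, 2, [66, 46, 43, 36, 28, 16, 2, 21], [67, 47, 56, 33, 30, 36, 16, 19, 6, 16], [67, 48, 47, 34, 31, 31, 2, 23, 6, 23, 8]⟩, .loop 34 4 [62, 46, 44, 28, 26, 41, 16, 16, 10, 21, 17] 2 3 [⟨[], 724, false, [3, 5, 3, 6, 2, 4, 5, 10]⟩] [⟨[63, 30, 63, 27], 335, false, [10, 5, 3, 6, 1, 5, 10]⟩, ⟨[66, 66, 38, 66, 37], 786, true, [6, 4, 6, 2, 6, 10, 5, 6, 2]⟩]),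
  (⟨false, 2, 2, [58, 48, 56, 30, 27, 38, 2, 17, 17, 6, 16], [58, 46, 51, 30, 27, 36, 2, 17, 23], [62, 45, 50, 42, 30, 40, 2, 17, 25]⟩, .loop 32 2 [44, 42, 57, 31, 27, 31, 16, 24, 17, 22] 4 5 [⟨[24], 691, true, [0, 2, 3, 6, 4, 5, 6, 10, 5, 3]⟩, ⟨[], 269, true, [3, 6, 5, 6, 2, 4, 6, 5]⟩] [⟨[24], 678, true, [0, 2, 3, 6, 5, 6, 10, 5, 10]⟩]),
  (⟨false, 2, 2, [59, 47, 28, 36, 32, 16, 11, 16, 25, 22], [60, 49, 56, 33, 29, 31, 2, 17, 18, 22, 21], [61, 49, 45, 33, 30, 32, 17, 17, 23, 16]⟩, .loop 31 2 [67, 47, 49, 56, 33, 27, 40, 2, 17, 17, 24, 22] 6 7 [⟨[24], 708, true, [4, 10, 5, 3, 6, 2, 4, 5, 10]⟩, ⟨[23], 220, true, [3, 4, 6, 5, 6, 2, 4, 5]⟩, ⟨[], 592, false, [3, 6, 1, 2, 4, 6, 5, 6]⟩] []),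
  (⟨false, 2, 2, [58, 55, 49, 28, 36, 40, 16, 2, 10, 23], [66, 51, 49, 28, 35, 36, 2, 17, 19], [62, 55, 49, 30, 27, 16, 16, 2, 19]⟩, .loop 32 2 [63, 44, 42, 57, 34, 37, 34, 2, 17, 17, 13, 23] 4 5 [⟨[], 346, true, [1, 2, 4, 10, 5, 6, 4, 6, 4, 5]⟩, ⟨[24, 23], 595, true, [0, 3, 6, 2, 6, 4, 5, 6, 2, 6]⟩] [⟨[24, 23], 442, false, [2, 6, 1, 2, 4, 5, 6, 5, 3]⟩]),
  (⟨false, 2, 2, [61, 44, 42, 51, 33, 31, 34, 2, 23, 17, 6, 12], [59, 44, 53, 56, 2, 17, 23, 23, 13], [59, 50, 45, 33, 35, 28, 16, 2, 11, 23]⟩, .loop 48 5 [61, 45, 52, 28, 34, 40, 17, 22, 6, 18] 2 3 [⟨[38], 474, true, [6, 1, 10, 5, 10]⟩] [⟨[38, 37], 646, true, [2, 3, 6, 5, 3, 6, 2, 6]⟩]),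
  (⟨false, 2, 2, [66, 47, 49, 30, 32, 40, 2, 16, 6], [60, 49, 33, 38, 37, 2, 17, 22, 22, 10], [55, 33, 35, 18, 23]⟩, .loop 72 2 [59, 46, 57, 31, 41, 36, 16, 16, 11, 16] 4 5 [⟨[], 662, true, [1, 10, 5, 6, 2, 5, 6, 5]⟩, ⟨[23, 24, 23], 841, true, [1, 3, 6, 5, 6, 4, 6, 10, 5, 6]⟩] [⟨[24], 304, false, [4, 10, 5, 6, 10, 5]⟩]),
  (⟨false, 2, 2, [66, 46, 53, 30, 28, 30, 16, 10, 8], [61, 46, 53, 30, 28, 41, 2, 17, 17, 25, 13], [48, 45, 41, 26, 16, 16, 11, 23, 23]⟩, .loop 51 2 [61, 51, 53, 28, 36, 32, 17, 23, 23, 13] 10 11 [⟨[23], 780, true, [4, 5, 6, 1, 2, 6]⟩, ⟨[23, 24], 493, true, [4, 10, 5, 6, 1, 4, 10, 5, 3]⟩, ⟨[63, 61, 61, 63, 53], 439, true, [1, 3, 5, 6, 5, 10, 5, 6, 5, 6, 2]⟩, ⟨[], 489, false, [1, 3, 6, 2, 5, 6, 4, 10]⟩, ⟨[], 369, false, [2,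 5, 6, 2, 6, 4, 10, 5, 6]⟩] [⟨[23, 24], 413, true, [5, 6, 4, 5, 6, 5, 10, 5]⟩, ⟨[], 823, false, [2, 3, 5, 6, 1, 2, 4, 5, 3, 6]⟩]),
  (⟨false, 2, 2, [62, 48, 46, 30, 29, 41, 16, 16, 25, 16], [66, 46, 51, 38, 30, 26, 16, 24, 16], [61, 48, 44, 38, 35, 16, 21]⟩, .loop 29 2 [44, 49, 28, 35, 27, 2, 17, 17, 13, 22] 6 7 [⟨[23], 557, false, [1, 6, 2, 5, 6, 4, 6]⟩, ⟨[24, 23], 323, false, [3, 6, 4, 5, 3, 6, 2, 5]⟩, ⟨[23], 706, false, [2, 4, 6, 1, 2, 5, 6]⟩] []),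
  (⟨false, 2, 2, [58, 51, 53, 28, 34, 37, 17, 17, 23, 20], [66, 44, 47, 52, 28, 31, 41, 16, 4, 16, 19], [67, 45, 52, 41, 38, 2, 17, 23, 17, 8]⟩, .loop 67 2 [62, 49, 49, 30, 28, 34, 16, 10, 18, 16] 2 3 [⟨[23], 611, true, [4, 5, 6, 4, 5, 3, 6, 5, 3]⟩] [⟨[24], 561, false, [0, 3, 5, 3, 6, 5, 6, 4, 10, 5]⟩, ⟨[23, 24], 823, true, [6, 4, 10, 5, 3, 6, 2, 4, 5]⟩]),
  (⟨false, 2, 2, [58, 45, 42, 28, 26, 31, 2, 16, 16, 6], [61, 51, 51, 28, 30, 32, 2, 17, 22, 22], [67, 54, 47, 31, 41, 36, 16, 16, 4, 20]⟩, .loop 18 2 [51, 30, 26, 38, 16, 11, 16, 18] 2 3 [⟨[], 445, true, [5, 6, 2, 4, 5, 6, 2]⟩] [⟨[24], 765, true, [6, 2, 4, 5, 6, 4, 5, 3, 6, 5]⟩, ⟨[], 665, false, [0, 4, 6, 5]⟩]),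
  (⟨false, 2, 2, [60, 47, 42, 28, 30, 30, 2, 23, 25, 19, 17], [58, 47, 44, 30, 30, 41, 17, 22, 6], [59, 44, 57, 55, 30, 26, 2, 16, 16, 6]⟩, .loop 32 2 [58, 47, 44, 30, 30, 41, 17, 22] 6 7 [⟨[24], 872, true, [3, 6, 2, 6, 4, 5, 6]⟩, ⟨[24, 23], 792, false, [0, 2, 6, 4, 10, 5, 6, 4, 5, 10]⟩, ⟨[24, 23], 634, true, [6, 4, 5, 3, 5, 6, 5, 6, 4]⟩] []),
  (⟨false, 2, 2, [59, 44, 56, 46, 41, 30, 37, 2, 23, 19, 6], [62, 46, 56, 30, 41, 27, 2, 17, 18, 22, 24], [63, 45, 53, 30, 26, 16, 18, 16, 16]⟩, .loop 46 2 [61, 45, 48, 35, 31, 34, 2, 23, 6, 23, 4] 4 5 [⟨[], 573, false, [5, 6, 4, 5, 6, 2, 10, 5, 6, 5]⟩, ⟨[23, 24], 520, false, [1, 5, 3, 5, 6, 2, 5, 6]⟩] []),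
  (⟨false, 2, 2, [60, 46, 33, 40, 38, 16, 22, 22, 10], [59, 47, 54, 35, 28, 37, 17, 17, 22, 16], [62, 51, 42, 30, 29, 30, 16, 16, 18, 20]⟩, .loop 17 2 [61, 49, 46, 41, 33, 2, 17, 23, 4, 21] 2 3 [⟨[], 861, true, [1, 6, 2, 5, 6, 4, 10]⟩] [⟨[24, 23], 820, true, [0, 6, 10, 5, 6, 4, 10, 5]⟩, ⟨[23, 24, 23], 185, true, [4, 6, 2, 5, 3, 6, 4, 6, 5, 10]⟩]),
  (⟨false, 2, 2, [66, 45, 48, 34, 31, 38, 16, 4, 16, 2], [48, 53, 28, 35, 28, 16, 11, 19, 22], [58, 50, 36, 40, 30, 16, 16, 11, 12]⟩, .loop 33 2 [61, 47, 42, 30, 38, 37, 2, 23, 8, 23, 6] 2 3 [⟨[24], 566, false, [3, 6, 2, 6, 4, 5, 3, 6, 2]⟩] [⟨[24, 23], 593, true, [1, 6, 5, 6, 2, 5, 6, 10]⟩, ⟨[], 574, false, [2, 4, 6, 10, 5, 3, 6, 4, 6]⟩]),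
  (⟨false, 2, 4, [58, 45, 56, 28, 30, 36, 16, 11, 19], [67, 44, 57, 49, 28, 30, 41, 2, 23, 10, 23, 6], [63, 49, 46, 34, 26, 16, 19, 6, 10]⟩, .loop 18 2 [55, 43, 30, 32, 36, 17, 23, 16, 6] 4 5 [⟨[23], 760, false, [0, 3, 4, 6, 4, 6, 2, 4]⟩, ⟨[37, 66, 66, 38], 255, false, [1, 6, 4, 6, 2, 4, 5, 3]⟩] [⟨[23], 285, false, [0, 4, 6, 5, 3, 5, 6, 5, 6]⟩]),
  (⟨false, 2, 2, [63, 51, 44, 33, 31, 33, 2, 23, 23, 21], [66, 55, 49, 38, 30, 16, 10, 23, 23], [59, 54, 47, 33, 34, 33, 2, 17, 22, 10]⟩, .loop 45 5 [47, 50, 33, 34, 16, 16, 4] 2 3 [⟨[], 343, false, [0, 6, 2, 5, 3, 6, 5, 6, 4, 6]⟩] [⟨[38, 37], 241, false, [0, 5, 3, 5, 6, 2]⟩]),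
  (⟨false, 2, 5, [62, 44, 55, 52, 30, 32, 36, 16, 16, 21, 18], [61, 44, 43, 51, 41, 31, 2, 17, 17, 8, 21], [58, 47, 53, 30, 40, 34, 2, 17, 17, 18, 10]⟩, .loop 23 2 [63, 54, 46, 35, 29, 36, 2, 17, 17, 8] 2 3 [⟨[], 873, true, [1, 3, 6, 4, 5, 10, 5]⟩] [⟨[23, 24, 23], 773, true, [4, 6, 1, 2, 5, 6]⟩, ⟨[24, 23], 383, false, [10, 5, 3, 6, 4, 5, 6, 5, 10]⟩]),
  (⟨false, 2, 2, [59, 44, 53, 31, 28, 38, 16, 11, 16, 8], [67, 44, 48, 52, 30, 37, 35, 18], [66, 45, 45, 33, 34, 41, 2, 23, 23, 25, 21]⟩, .loop 34 2 [62, 44, 57, 49, 31, 41, 36, 2, 16, 6] 6 7 [⟨[23, 24, 23], 462, true, [1, 5, 3, 6, 2, 5, 6, 4, 5, 3]⟩, ⟨[23], 654, true, [1, 3, 6, 4, 5, 6, 10, 5, 6, 2]⟩, ⟨[23], 369, false, [0, 4, 10, 5, 6, 2, 5, 6, 4, 6, 2]⟩] []),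
  (⟨false, 2, 5, [61, 51, 43, 31, 37, 37, 2, 23, 23, 16], [63, 45, 52, 30, 40, 26, 2, 17, 17, 13, 24], [61, 48, 52, 30, 29, 40, 16, 10, 16, 24, 24]⟩, .loop 34 5 [58, 50, 47, 28, 34, 30, 2, 23, 17, 2, 6] 2 3 [⟨[66], 79, true, [10, 5, 6, 4, 6, 2, 4, 10, 5]⟩] [⟨[37, 66, 66, 38], 357, false, [0, 6, 2, 5, 6, 4, 6, 10, 5]⟩, ⟨[23], 534, true, [4, 10, 5, 6, 4, 10, 5, 6, 10]⟩]),
  (⟨false, 2, 2, [66, 44, 43, 28, 26, 41, 16, 8, 17, 6], [44, 42, 28, 34, 28, 2, 17, 17, 8, 23], [60, 47, 54, 30, 40, 26, 2, 17, 17, 6, 16]⟩, .loop 70 2 [58, 50, 42, 38, 33, 2, 17, 17, 13, 22] 6 7 [⟨[], 776, true, [0, 4, 10, 5, 3, 6, 4, 5]⟩, ⟨[24], 568, true, [2, 6, 2, 5, 6, 5, 6, 10, 5, 6]⟩, ⟨[23, 24], 427, true, [2, 5, 3, 6, 1, 4, 5, 6, 5]⟩] []),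
  (⟨false, 5, 2, [60, 44, 42, 48, 38, 34, 2, 17, 17, 10], [67, 54, 44, 30, 40, 28, 17, 23, 23, 25], [59, 48, 52, 38, 32, 2, 17, 22, 6, 22]⟩, .loop 49 2 [66, 47, 42, 35, 35, 2, 17, 17, 11, 19] 2 3 [⟨[24, 23], 882, false, [10, 5, 6, 1, 4, 5, 10, 5, 6, 5]⟩] [⟨[], 227, true, [0, 2, 6, 10, 5, 6, 4]⟩]),
  (⟨false, 5, 2, [58, 51, 52, 36, 26, 26, 16, 16, 4, 11], [62, 44, 51, 31, 38, 2, 17, 0, 23], [61, 44, 56, 28, 40, 30, 2, 17, 17, 17, 13]⟩, .loop 46 4 [54, 56, 30, 29, 30, 16, 16, 24, 2] 2 3 [⟨[63, 30], 551, false, [1, 2, 3, 6, 5, 3, 6, 4, 6, 2, 5]⟩] [⟨[63, 61, 29, 63, 61], 363, true, [0, 5, 6, 4, 6, 4, 5, 3, 5, 6]⟩]),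
  (⟨false, 2, 2, [63, 44, 53, 56, 30, 40, 27, 2, 17, 22, 22, 21], [62, 45, 45, 30, 40, 27, 16, 4, 16, 2, 11], [58, 54, 52, 28, 30, 27, 2, 17, 22, 22, 16]⟩, .loop 17 2 [58, 51, 49, 28, 34, 38, 16, 16, 10, 16] 6 7 [⟨[24], 448, false, [1, 2, 4, 6, 4, 10, 5, 3]⟩, ⟨[], 445, false, [0, 10, 5, 6, 4, 5, 10, 5, 6, 5]⟩, ⟨[24, 23], 661, false, [1, 5, 3, 6, 4, 5, 6, 4, 6]⟩] []),
  (⟨false, 2, 2, [59, 45, 42, 30, 26, 31, 16, 10, 23, 23], [59, 49, 28, 36, 28, 2, 17, 17, 10], [67, 45, 52, 30, 27, 27, 17, 23, 17, 2]⟩, .loop 22 2 [49, 51, 28, 38, 31, 16, 16, 2] 6 7 [⟨[23, 24, 23], 342, true, [6, 2, 6, 4, 5, 3, 5, 6, 2, 6]⟩, ⟨[23, 24, 23], 732, true, [1, 3, 5, 6, 5, 3, 6, 2, 6, 5]⟩, ⟨[24, 23], 536, false, [0, 2, 6, 4, 10, 5, 6, 4, 5]⟩] []),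
  (⟨false, 2, 2, [67, 51, 57, 30, 37, 2, 23, 10, 17, 19], [67, 48, 43, 33, 31, 33, 17, 23, 17, 22], [59, 45, 48, 35, 31, 26, 2, 23, 17, 18]⟩, .loop 67 2 [67, 52, 28, 26, 30, 17, 22, 6, 22] 4 5 [⟨[], 413, false, [1, 6, 2, 5, 6, 5, 6, 10, 5, 6]⟩, ⟨[24, 23], 655, true, [4, 5, 3, 6, 4, 5, 6, 2, 5]⟩] [⟨[23, 24, 23], 815, false, [4, 5, 10, 5, 6, 4, 5, 3, 6]⟩]),
  (⟨false, 2, 2, [59, 51, 55, 28, 31, 27, 31, 2, 23, 17, 24], [67, 45, 53, 48, 34, 26, 32, 16, 24, 16, 10], [46, 42, 38, 26, 16, 25]⟩, .loop 48 2 [67, 56, 53, 28, 35, 38, 16, 18, 16, 20] 4 5 [⟨[24], 817, true, [5, 6, 4, 5, 3, 6, 5, 6, 10]⟩, ⟨[66, 37, 66, 38], 243, true, [0, 3, 5, 6, 2, 4, 6, 5, 6, 2]⟩] []),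
  (⟨false, 2, 2, [45, 54, 45, 30, 28, 33, 16, 4, 16, 2, 20], [61, 44, 43, 31, 28, 40, 2, 17, 23, 11, 11], [58, 47, 54, 30, 38, 29, 16, 21, 16, 10]⟩, .loop 68 2 [44, 46, 57, 28, 30, 41, 17, 23, 18, 17] 4 5 [⟨[24, 23], 148, true, [0, 4, 6, 10, 5, 3, 6]⟩, ⟨[24, 23], 505, false, [6, 1, 4, 6, 10, 5, 3, 6, 2]⟩] [⟨[23, 24, 23], 732, true, [3, 6, 2, 6, 2, 4, 5, 6, 2, 6, 10]⟩]),
  (⟨false, 2, 2, [67, 48, 57, 33, 30, 19, 6, 17, 0], [62, 44, 47, 47, 28, 41, 31, 16, 16, 2, 16], [61, 48, 42, 41, 30, 37, 16, 16, 8, 17, 12]⟩, .loop 69 4 [58, 51, 34, 28, 37, 16, 16, 11, 19] 4 5 [⟨[28], 615, false, [4, 10, 5, 6, 1, 10, 5, 3, 6]⟩, ⟨[24], 442, false, [2, 6, 2, 6, 4, 5, 3, 6, 2]⟩] [⟨[61, 30, 27], 524, false, [0, 10, 5, 6, 4, 5, 3, 6, 2, 5]⟩]),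
  (⟨false, 2, 2, [45, 49, 33, 35, 29, 2, 23, 23], [44, 42, 47, 41, 31, 2, 23, 17, 25, 12], [48, 55, 30, 38, 32, 2, 17, 17, 23, 12]⟩, .loop 45 2 [51, 28, 35, 26, 2, 17, 17, 17, 10] 4 5 [⟨[], 148, false, [1, 2, 3, 6, 5, 10, 5, 6, 5]⟩, ⟨[24], 583, false, [2, 5, 6, 5, 10, 5, 6, 5, 3]⟩] []),
  (⟨false, 2, 5, [62, 50, 55, 34, 37, 2, 17, 23, 21, 16], [59, 44, 55, 30, 41, 27, 17, 23, 16, 10], [61, 46, 56, 41, 32, 2, 23, 4, 6]⟩, .loop 31 5 [62, 44, 51, 28, 38, 36, 16, 24] 6 7 [⟨[66], 78, true, [1, 4, 5, 3, 6, 2, 5, 6, 4, 5]⟩, ⟨[50, 50, 21, 21], 108, false, [1, 3, 6, 5, 3, 6, 5, 3]⟩, ⟨[66, 38, 66, 66], 699, false, [1, 3, 6, 2, 5, 6, 5, 6, 4]⟩] [])]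

/-- facts 896 and on -/
def facts28 : List (Fact × Why) := [
  (⟨false, 2, 2, [63, 46, 42, 28, 35, 41, 16, 16, 16, 4, 13], [50, 33, 35, 26, 16, 11, 16, 16], [67, 48, 50, 28, 34, 37, 16, 19, 6, 16]⟩, .loop 32 2 [59, 49, 56, 41, 30, 16, 16, 11] 2 3 [⟨[], 405, false, [6, 10, 5, 6, 4, 6, 2, 5, 10]⟩] [⟨[24, 23], 354, true, [4, 6, 4, 6, 5, 10, 5, 6]⟩, ⟨[23, 24, 23], 458, true, [6, 10, 5, 6, 4, 6, 2, 6, 4]⟩]),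
  (⟨false, 2, 5, [61, 47, 42, 28, 41, 31, 16, 16, 24, 6], [59, 48, 44, 34, 33, 16, 16, 11, 23], [67, 50, 46, 28, 35, 40, 2, 23, 13, 23, 18]⟩, .loop 21 2 [59, 44, 42, 47, 30, 37, 33, 2, 23, 23, 17, 22] 4 5 [⟨[23, 24], 855, true, [5, 3, 6, 1, 2, 6, 5, 6, 10]⟩, ⟨[24], 768, true, [3, 5, 6, 1, 10, 5, 3, 6, 2, 6]⟩] [⟨[], 699, true, [0, 3, 6, 2, 6, 4, 6, 5, 6, 10]⟩]),
  (⟨false, 2, 2, [60, 45, 30, 30, 38, 2, 17, 18, 22, 11], [60, 57, 55, 30, 28, 33, 16, 16, 8, 16], [62, 47, 44, 38, 36, 2, 17, 23, 8]⟩, .loop 31 2 [63, 49, 57, 33, 29, 35, 16, 16, 20, 24] 6 7 [⟨[], 412, false, [0, 6, 4, 5, 3, 6, 2, 5, 6, 10]⟩, ⟨[23, 24], 680, true, [2, 3, 6, 2, 4, 5, 6, 4, 5, 3]⟩, ⟨[66, 38, 66, 37], 240, true, [1, 5, 6, 4, 5, 3, 5, 6, 5, 10]⟩] []),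
  (⟨false, 2, 2, [66, 47, 47, 30, 34, 31, 16, 16, 21, 22], [66, 46, 57, 41, 29, 40, 2, 23, 17, 2, 22], [63, 54, 41, 37, 16, 25, 22, 6]⟩, .loop 17 2 [49, 45, 33, 34, 26, 16, 16, 10, 16, 2] 6 7 [⟨[23], 850, true, [2, 5, 6, 1, 10, 5, 6, 2, 4, 6]⟩, ⟨[24], 249, false, [5, 6, 2, 5, 6, 5, 3]⟩, ⟨[23, 24, 23], 740, false, [0, 10, 5, 6, 4, 6, 5, 6, 5]⟩] []),
  (⟨false, 2, 5, [66, 56, 50, 36, 40, 16, 11, 19, 6], [63, 47, 47, 52, 31, 16, 11, 16, 24, 16], [62, 47, 42, 33, 36, 41, 16, 16, 2, 11, 12]⟩, .loop 67 2 [63, 46, 44, 54, 36, 27, 27, 2, 16, 16] 4 5 [⟨[], 679, false, [5, 3, 6, 5, 6, 2, 4, 10]⟩, ⟨[24, 23], 573, true, [1, 4, 5, 6, 2, 6, 5, 6, 4]⟩] [⟨[24], 809, true, [6, 1, 10, 5, 6, 10, 5, 3, 6, 2]⟩]),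
  (⟨false, 2, 5, [66, 51, 53, 31, 36, 41, 2, 23, 8, 23, 17], [62, 45, 54, 35, 36, 2, 17, 23, 11, 25], [66, 56, 53, 38, 26, 16, 16, 24, 19]⟩, .loop 32 2 [60, 44, 53, 34, 28, 37, 2, 17, 17, 8, 20] 4 5 [⟨[], 711, false, [0, 2, 3, 6, 4, 5, 6, 5, 3, 6]⟩, ⟨[38, 37], 449, true, [3, 4, 5, 6, 4, 6, 2, 4, 10, 5]⟩] [⟨[23, 24], 242, false, [1, 4, 10, 5, 6, 4, 6, 10]⟩]),
  (⟨false, 2, 2, [62, 54, 50, 38, 28, 41, 2, 17, 23, 17, 24], [63, 51, 57, 30, 37, 32, 16, 16, 22], [62, 47, 47, 52, 30, 28, 33, 16, 22, 22, 8]⟩, .loop 34 2 [67, 44, 43, 57, 33, 27, 27, 2, 16, 6, 23] 6 7 [⟨[23], 730, true, [0, 4, 5, 6, 4, 5, 3, 6, 2]⟩, ⟨[23, 24, 23], 472, false, [0, 6, 2, 4, 5, 6, 4, 6, 5, 10]⟩, ⟨[23], 747, true, [6, 1, 2, 4, 6, 10, 5, 3]⟩] []),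
  (⟨false, 2, 2, [60, 49, 53, 30, 34, 27, 16, 4, 16], [67, 45, 56, 50, 34, 40, 16, 10, 16, 24, 24], [67, 52, 49, 30, 38, 37, 2, 17, 17, 25]⟩, .loop 16 2 [48, 57, 30, 35, 35, 18, 23, 18] 2 3 [⟨[23, 24, 23], 539, false, [0, 4, 5, 6, 4, 6]⟩] [⟨[23], 350, true, [2, 3, 6, 4, 6, 5, 3, 6, 4, 5]⟩, ⟨[23, 24, 23], 821, false, [6, 5, 6, 2, 4, 10, 5, 6, 4, 6]⟩]),
  (⟨false, 2, 2, [61, 52, 50, 34, 33, 28, 16, 18, 16, 4], [59, 45, 56, 50, 30, 27, 28, 16, 16, 11, 19], [61, 45, 42, 45, 31, 26, 40, 2, 16, 16]⟩, .loop 28 2 [62, 49, 47, 36, 2, 17, 0, 17, 22] 4 5 [⟨[], 117, false, [5, 6, 4, 5, 6, 5, 6, 2, 6]⟩, ⟨[23], 161, true, [1, 2, 4, 6, 4, 5, 6, 4]⟩] [⟨[23], 248, true, [4, 10, 5, 6, 4, 6, 2, 10, 5, 6]⟩]),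
  (⟨false, 2, 2, [58, 54, 44, 30, 28, 33, 2, 17, 23, 24, 23], [58, 46, 46, 31, 41, 28, 2, 17, 0, 23, 25], [63, 45, 56, 55, 38, 36, 2, 17, 17, 20]⟩, .loop 19 2 [60, 51, 43, 31, 36, 28, 17, 23, 17, 17] 4 5 [⟨[24], 635, false, [1, 10, 5, 3, 6, 2, 4, 6, 5, 6]⟩, ⟨[24], 722, false, [1, 4, 10, 5, 6, 5, 10, 5]⟩] [⟨[23, 24, 23], 720, false, [6, 5, 3, 6, 2, 5, 6, 5]⟩]),
  (⟨false, 2, 2, [60, 45, 45, 38, 30, 35, 2, 16, 6, 17, 22], [59, 54, 56, 30, 37, 16, 11, 16, 25, 22], [62, 49, 30, 29, 34, 16, 16, 19, 11]⟩, .loop 66 2 [67, 56, 50, 28, 34, 28, 17, 22] 4 5 [⟨[24, 23], 506, false, [5, 6, 1, 4, 5, 6, 2, 6]⟩, ⟨[66, 66, 37], 338, true, [1, 5, 6, 4, 5, 3, 6, 4]⟩] [⟨[23, 24], 299, true, [2, 5, 3, 6, 5, 6, 2, 4, 10, 5]⟩]),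
  (⟨false, 2, 2, [58, 45, 53, 35, 31, 32, 16, 10, 16, 16, 11], [66, 57, 55, 30, 26, 36, 16, 16, 11], [59, 55, 43, 30, 40, 34, 19, 6, 17]⟩, .loop 69 5 [52, 44, 30, 34, 2, 17, 17, 17, 10] 4 5 [⟨[38, 66], 320, true, [0, 6, 2, 6, 5, 3, 6, 5, 6, 2]⟩, ⟨[23], 545, true, [0, 6, 5, 3, 6, 4, 5, 6, 10]⟩] [⟨[66, 66, 38, 66], 391, false, [1, 3, 6, 4, 6, 4, 5]⟩]),
  (⟨false, 2, 2, [62, 44, 57, 55, 31, 2, 17, 23, 17, 22], [63, 54, 50, 28, 40, 28, 2, 17, 17, 17, 8], [58, 57, 35, 31, 29, 16, 19, 6, 16]⟩, .loop 70 2 [47, 47, 52, 34, 41, 41, 16, 16, 4, 23] 4 5 [⟨[], 462, true, [5, 6, 4, 6, 5]⟩, ⟨[], 531, false, [6, 4, 10, 5, 3, 6, 5]⟩] [⟨[24], 523, true, [10, 5, 3, 6, 5, 6, 4, 6, 4, 5]⟩]),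
  (⟨false, 5, 2, [67, 45, 42, 51, 33, 36, 41, 16, 8, 17, 23], [66, 44, 46, 57, 28, 31, 29, 2, 23, 23, 12], [67, 45, 49, 34, 37, 2, 23, 17, 6]⟩, .loop 73 2 [66, 45, 50, 31, 41, 36, 2, 23, 17, 25] 4 5 [⟨[], 751, true, [5, 6, 5, 3, 5, 6, 4, 5, 6]⟩, ⟨[23], 200, false, [0, 2, 3, 4, 6, 5, 6, 4]⟩] [⟨[23], 600, true, [0, 4, 5, 6, 2, 6, 2, 4]⟩]),
  (⟨false, 2, 2, [59, 47, 53, 28, 31, 34, 16, 19, 22, 11], [66, 56, 36, 28, 2, 17, 17, 19, 25], [61, 44, 47, 52, 28, 36, 29, 27, 17, 23, 16, 11]⟩, .loop 17 2 [52, 55, 31, 37, 37, 2, 17, 22, 6] 4 5 [⟨[24, 23], 781, true, [3, 6, 5, 6, 2, 6, 10, 5, 6, 10]⟩, ⟨[23, 24, 23], 667, false, [1, 4, 6, 2, 5, 3, 6, 4, 6]⟩] [⟨[24, 23], 681, false, [0, 4, 5, 3, 6, 2, 4, 5, 6, 4]⟩]),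
  (⟨false, 2, 2, [67, 44, 48, 31, 34, 41, 2, 23, 8, 17, 17], [61, 45, 50, 42, 33, 40, 16, 16, 22], [67, 44, 46, 40, 35, 26, 16, 16, 2, 11, 12]⟩, .loop 73 2 [67, 45, 46, 33, 30, 2, 17, 17, 6, 13] 4 5 [⟨[24], 399, false, [4, 5, 6, 1, 10, 5, 3, 6, 2]⟩, ⟨[24, 23], 411, true, [4, 5, 6, 2, 4, 5, 3, 6, 2, 6]⟩] [⟨[24, 23], 796, true, [3, 4, 6, 5, 6]⟩]),
  (⟨false, 2, 2, [66, 47, 42, 30, 40, 29, 16, 16, 21], [63, 44, 57, 49, 40, 35, 2, 23, 23, 12], [66, 49, 36, 32, 31, 2, 23, 17, 0, 25]⟩, .loop 31 2 [61, 48, 28, 35, 2, 23, 23, 18, 6] 6 7 [⟨[], 354, true, [0, 5, 6, 4, 6, 2, 5, 3, 6]⟩, ⟨[24], 877, false, [0, 3, 5, 6, 2, 6, 4, 6, 5, 6, 10]⟩, ⟨[23, 24, 23], 799, true, [2, 3, 4, 5, 6, 4, 6, 4, 5, 10]⟩] []),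
  (⟨false, 2, 2, [63, 46, 42, 51, 28, 31, 28, 38, 16, 22, 19], [63, 45, 50, 45, 30, 34, 16, 16, 25, 17], [66, 44, 42, 47, 28, 26, 30, 2, 17, 23, 12, 16]⟩, .loop 70 2 [59, 48, 57, 31, 33, 31, 16, 16, 20, 23] 6 7 [⟨[], 755, true, [10, 5, 6, 5, 3, 6, 5]⟩, ⟨[23, 24], 447, false, [1, 6, 5, 10, 5, 6, 2, 6]⟩, ⟨[], 578, true, [1, 5, 3, 6, 5, 6, 2, 5, 3, 6]⟩] []),
  (⟨false, 2, 2, [60, 45, 42, 30, 37, 30, 16, 24, 16, 16], [59, 44, 42, 48, 34, 28, 40, 2, 23, 19, 6], [58, 44, 43, 57, 34, 27, 31, 16, 16, 10, 22]⟩, .loop 22 2 [58, 49, 46, 31, 33, 38, 2, 17, 23, 11] 6 7 [⟨[], 710, true, [1, 2, 4, 6, 2, 10]⟩, ⟨[23, 24], 469, false, [2, 6, 1, 4]⟩, ⟨[], 638, true, [4, 6, 2, 6, 4, 5, 3, 5, 6]⟩] []),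
  (⟨false, 2, 2, [63, 46, 51, 30, 30, 35, 2, 23, 10, 23], [63, 44, 47, 30, 34, 28, 16, 4, 16, 13, 10], [63, 45, 56, 50, 36, 32, 31, 2, 17, 17, 24]⟩, .loop 71 2 [67, 44, 48, 52, 40, 40, 16, 16, 11, 18] 4 5 [⟨[23], 731, true, [1, 10, 5, 6, 5]⟩, ⟨[], 857, false, [0, 6, 10, 5, 6, 2, 4, 6, 5, 3, 6]⟩] [⟨[24, 23], 762, false, [4, 6, 5, 3, 6, 5, 6]⟩]),
  (⟨false, 2, 2, [60, 44, 51, 46, 30, 28, 35, 2, 17, 18, 22, 22], [66, 50, 47, 28, 41, 31, 2, 16, 6, 17, 6], [58, 50, 30, 27, 38, 2, 17, 17, 6, 13]⟩, .loop 28 2 [60, 49, 46, 28, 30, 2, 17, 17] 6 7 [⟨[23, 24, 23], 571, false, [1, 4, 6, 10, 5, 3, 6, 4, 6, 2]⟩, ⟨[23], 639, false, [6, 5, 10, 5, 6, 5, 3, 6, 4]⟩, ⟨[23, 24, 23], 616, true, [5, 6, 1, 4, 6, 10]⟩] []),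
  (⟨false, 2, 2, [66, 50, 45, 30, 26, 31, 16, 22, 22, 4], [60, 47, 44, 36, 32, 30, 2, 17, 17, 17, 18], [62, 45, 52, 33, 31, 33, 2, 23, 23, 23, 0]⟩, .loop 73 2 [60, 54, 56, 34, 36, 31, 2, 17, 22, 22, 10] 6 7 [⟨[23, 24, 23], 426, false, [2, 4, 5, 3, 6]⟩, ⟨[23, 24, 23], 208, true, [5, 3, 6, 5, 6, 4, 6, 4, 5, 10]⟩, ⟨[24], 437, true, [1, 5, 3, 6, 5, 6, 2, 4, 10]⟩] []),
  (⟨false, 2, 2, [67, 44, 47, 33, 40, 16, 24, 16, 19], [60, 50, 55, 31, 33, 31, 16, 21, 16, 19], [63, 56, 50, 28, 30, 26, 34, 16, 16, 20, 16]⟩, .loop 32 2 [62, 48, 48, 28, 35, 41, 2, 17, 17, 17, 13] 2 3 [⟨[23], 491, true, [5, 6, 4, 6, 5, 3]⟩] [⟨[], 658, true, [1, 5, 6, 10, 5, 3, 6, 2, 4]⟩, ⟨[24], 437, false, [0, 3, 6, 2, 4, 5, 10]⟩]),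
  (⟨false, 2, 2, [61, 45, 56, 30, 28, 37, 2, 17, 23], [61, 44, 48, 28, 34, 34, 2, 17, 17, 19, 10], [49, 47, 38, 30, 35, 2, 23, 23, 25, 21]⟩, .loop 33 2 [48, 43, 30, 37, 32, 16, 22, 19] 4 5 [⟨[23], 142, true, [2, 5, 6, 4, 6, 2, 6, 4, 10]⟩, ⟨[23, 24], 497, true, [0, 10, 5, 6, 10, 5, 6, 10, 5]⟩] [⟨[24], 709, false, [1, 5, 6, 2, 6, 2, 4, 10, 5]⟩]),
  (⟨false, 2, 2, [66, 50, 49, 33, 31, 32, 2, 17, 17, 18, 21], [59, 52, 34, 28, 16, 16, 4, 20], [45, 53, 41, 41, 16, 18, 23]⟩, .loop 45 5 [62, 46, 51, 55, 30, 37, 33, 16, 8, 22] 2 3 [⟨[66], 735, false, [1, 2, 6, 10, 5, 6, 2, 5, 6]⟩] [⟨[66, 37, 38], 631, true, [0, 5, 6, 4, 6, 2, 6, 10, 5]⟩]),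
  (⟨false, 5, 2, [66, 44, 55, 30, 28, 37, 17, 17, 22, 16], [62, 55, 49, 31, 27, 32, 16, 19, 22, 16], [63, 55, 47, 30, 34, 28, 16, 16, 10, 22]⟩, .loop 23 2 [60, 56, 36, 35, 27, 2, 17, 17, 18] 4 5 [⟨[], 480, false, [0, 3, 6, 2, 6, 5, 6, 2, 6, 10, 5]⟩, ⟨[23], 886, true, [2, 3, 4, 6, 2, 5, 6, 4, 6, 5]⟩] [⟨[23, 24, 23], 848, true, [0, 2, 4, 10, 5, 3, 6, 4, 5]⟩]),
  (⟨false, 2, 2, [47, 42, 30, 34, 31, 16, 16, 10, 19], [63, 44, 48, 43, 31, 38, 18, 23, 23, 23], [62, 46, 28, 30, 35, 2, 17, 17, 22]⟩, .loop 16 2 [66, 50, 46, 28, 35, 41, 2, 17, 17, 13, 23] 4 5 [⟨[], 840, true, [2, 5, 3, 6, 5, 6, 4, 10]⟩, ⟨[23, 24, 23], 860, false, [0, 2, 3, 6, 5, 3, 6, 5, 3]⟩] [⟨[23, 24, 23], 263, false, [1, 6, 5, 6, 4, 6, 10]⟩]),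
  (⟨false, 2, 3, [44, 55, 34, 26, 17, 17, 22, 19], [60, 47, 52, 40, 40, 32, 2, 23, 17, 18], [45, 56, 55, 31, 34, 28, 2, 17, 17, 19]⟩, .loop 72 3 [62, 45, 53, 28, 34, 30, 2, 17, 22, 8] 6 7 [⟨[50, 245], 81, false, [0, 4, 5, 3, 5, 6, 4, 5, 3, 5]⟩, ⟨[23, 24, 23], 713, false, [6, 5, 3, 6, 4, 5, 10, 5, 6]⟩, ⟨[24, 23], 590, false, [5, 3, 6, 5, 10, 5, 6, 5, 10]⟩] []),
  (⟨false, 2, 5, [63, 47, 48, 36, 40, 19, 6, 17, 17], [67, 47, 48, 35, 35, 41, 2, 17, 23, 20, 25], [58, 47, 52, 30, 26, 36, 16, 16, 18, 0]⟩, .loop 66 5 [60, 57, 53, 30, 32, 32, 16, 11, 18, 17] 6 7 [⟨[], 817, false, [0, 4, 5, 10, 5, 6, 5, 3, 6, 2]⟩, ⟨[23], 803, true, [1, 3, 6, 5, 6, 4, 6, 10, 5, 6]⟩, ⟨[24], 476, true, [0, 3, 5, 6, 2, 5, 6, 4]⟩] []),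
  (⟨false, 2, 2, [62, 44, 42, 46, 31, 33, 30, 17, 17], [60, 54, 47, 28, 26, 36, 16, 10, 18, 16], [63, 44, 46, 57, 36, 29, 2, 17, 23, 10, 21]⟩, .loop 31 2 [59, 45, 56, 30, 27, 28, 2, 17, 0, 17] 6 7 [⟨[23], 286, true, [2, 5, 6, 2, 6, 4, 5, 6, 2]⟩, ⟨[23], 285, false, [0, 2, 3, 6, 4, 5, 6, 10]⟩, ⟨[63, 61, 61, 27], 180, false, [6, 1, 4, 5, 6, 4, 5, 10]⟩] []),
  (⟨false, 2, 2, [58, 57, 55, 35, 28, 32, 16, 22, 22, 4], [66, 44, 42, 31, 35, 29, 16, 16, 19, 4], [61, 44, 42, 57, 28, 35, 36, 17, 23]⟩, .loop 22 2 [62, 46, 44, 54, 30, 30, 41, 2, 16, 6, 17, 6] 6 7 [⟨[], 627, true, [1, 10, 5, 6, 2, 4, 5, 3, 6, 2]⟩, ⟨[23], 505, false, [4, 6, 2, 10, 5, 6, 2, 4, 5, 10]⟩, ⟨[24], 431, true, [2, 5, 6, 4, 6, 10]⟩] []),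
  (⟨false, 2, 5, [63, 45, 43, 45, 28, 31, 27, 31, 2, 17, 17, 24, 23], [66, 54, 28, 35, 32, 16, 16, 13, 10], [59, 55, 47, 30, 40, 2, 23, 6, 17, 6]⟩, .loop 16 4 [66, 50, 47, 33, 41, 29, 2, 17, 23, 12, 18] 2 3 [⟨[], 285, true, [6, 5, 3, 6, 5, 10, 5]⟩] [⟨[53, 30], 232, true, [1, 2, 6, 4, 10, 5, 10]⟩, ⟨[24], 282, false, [2, 6, 5, 3, 6, 2, 4, 5, 6, 5]⟩])]

/-- facts 928 and on -/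
def facts29 : List (Fact × Why) := [
  (⟨false, 2, 2, [61, 48, 55, 31, 35, 30, 16, 16, 10, 16], [59, 50, 55, 30, 38, 28, 2, 17, 17, 17, 2], [63, 46, 49, 41, 37, 16, 11, 23, 16, 16]⟩, .loop 66 2 [60, 47, 42, 41, 26, 2, 17, 17, 10] 2 3 [⟨[23], 611, true, [1, 5, 6, 5, 3, 5]⟩] [⟨[24], 438, true, [5, 6, 2, 6, 2, 4]⟩, ⟨[24, 23], 283, false, [1, 5, 6, 2, 6, 5, 3, 6, 5]⟩]),
  (⟨false, 5, 2, [60, 44, 57, 31, 26, 33, 2, 17, 23, 18, 21], [58, 45, 54, 40, 16, 21, 17, 17], [63, 56, 53, 28, 40, 30, 16, 18, 16, 25]⟩, .loop 45 2 [62, 44, 42, 47, 28, 31, 41, 19, 6, 17, 17] 2 3 [⟨[24, 23], 699, true, [4, 6, 5, 6, 10, 5, 3, 6, 5, 10]⟩] [⟨[], 557, false, [6, 1, 4, 5, 10, 5]⟩]),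
  (⟨false, 2, 2, [59, 44, 42, 47, 33, 34, 33, 2, 23], [61, 47, 42, 30, 38, 40, 18, 23, 23], [50, 30, 27, 27, 16, 16, 2, 24, 19]⟩, .loop 20 2 [66, 44, 42, 51, 28, 41, 28, 2, 17, 22, 22, 16] 4 5 [⟨[24], 591, true, [3, 6, 4, 6, 5, 6, 4, 5, 6, 10]⟩, ⟨[24, 23], 514, false, [0, 6, 4, 5, 3, 6, 2, 6, 2, 5, 10]⟩] [⟨[24], 575, false, [6, 2, 4, 5, 6, 10, 5, 6, 2, 6]⟩]),
  (⟨false, 2, 2, [58, 46, 51, 55, 28, 41, 27, 32, 17, 22, 6, 25], [62, 47, 44, 51, 28, 34, 27, 2, 17, 23, 21], [66, 49, 44, 28, 31, 41, 2, 23, 8, 17]⟩, .loop 32 2 [58, 51, 49, 28, 41, 16, 16, 11, 18] 6 7 [⟨[], 847, false, [3, 5, 6, 2, 6, 4, 10]⟩, ⟨[], 541, false, [0, 6, 10, 5, 6, 10, 5, 6, 2, 6, 10]⟩, ⟨[24], 465, true, [2, 4, 6, 1, 5, 6, 2, 10]⟩] []),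
  (⟨false, 2, 2, [61, 49, 53, 36, 28, 37, 16, 11, 23, 16], [66, 45, 57, 31, 33, 36, 2, 17, 17, 13], [61, 50, 47, 38, 30, 35, 2, 23, 10, 17, 0]⟩, .loop 45 2 [61, 49, 45, 36, 30, 2, 17, 0, 23, 17] 4 5 [⟨[23, 24], 787, true, [0, 6, 4, 6, 5, 3, 6, 5, 6]⟩, ⟨[24, 23], 780, false, [4, 6, 1, 4, 10, 5, 6, 4, 10]⟩] []),
  (⟨false, 2, 2, [48, 44, 28, 41, 29, 16, 16, 8, 16, 20], [67, 55, 46, 41, 34, 30, 2, 17, 17, 20], [62, 44, 47, 31, 33, 33, 2, 17, 17, 25, 13]⟩, .loop 21 2 [61, 49, 56, 33, 17, 17] 4 5 [⟨[], 216, false, [1, 2, 6, 2, 6, 10, 5, 6, 4, 5, 10]⟩, ⟨[24, 23], 284, false, [1, 6, 2, 6, 2, 4, 5, 3, 6, 2]⟩] [⟨[], 731, false, [10, 5, 6, 1, 5, 10, 5, 6, 2, 5]⟩]),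
  (⟨false, 5, 2, [62, 51, 52, 30, 40, 28, 16, 4, 16, 10], [59, 52, 48, 33, 41, 28, 2, 23, 17, 25, 21], [59, 44, 47, 44, 41, 29, 40, 16, 16, 22, 11]⟩, .loop 73 2 [67, 49, 53, 28, 26, 31, 33, 16, 16, 22, 6] 4 5 [⟨[24], 715, true, [1, 2, 5, 6, 4, 6, 10, 5, 6, 4]⟩, ⟨[24], 811, true, [2, 6, 2, 6, 5, 3, 6, 5, 10]⟩] [⟨[24], 295, true, [6, 4, 10, 5, 3, 6, 2, 4, 5]⟩]),
  (⟨false, 2, 2, [44, 43, 57, 28, 31, 33, 2, 17, 23, 17], [63, 46, 53, 31, 35, 29, 16, 16, 13, 16], [60, 54, 52, 31, 29, 32, 18, 23, 17, 6]⟩, .loop 20 2 [67, 54, 56, 28, 34, 30, 2, 16, 6, 23, 20] 4 5 [⟨[24], 855, true, [3, 6, 1, 5, 6, 4, 6, 10, 5, 10]⟩, ⟨[23, 24], 676, false, [2, 5, 6, 4, 5, 6, 4, 10]⟩] [⟨[], 202, false, [6, 4, 6, 2, 4, 5, 3, 6, 5, 6, 10]⟩]),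
  (⟨false, 2, 5, [67, 55, 47, 36, 34, 16, 16, 19, 11], [66, 44, 48, 43, 28, 38, 29, 2, 23, 17, 19], [59, 46, 28, 26, 41, 16, 16, 18, 11]⟩, .loop 33 5 [63, 44, 28, 38, 26, 16, 16, 10, 20] 6 7 [⟨[66], 87, true, [0, 6, 4, 5, 6, 5, 3, 5, 6, 4]⟩, ⟨[66, 66, 38, 66, 37], 825, true, [5, 10, 5, 6, 5, 3, 6, 5, 6, 4]⟩, ⟨[23, 24], 519, true, [4, 10, 5, 6, 2, 5, 6, 2]⟩] []),
  (⟨false, 2, 2, [61, 44, 30, 27, 32, 16, 22, 22, 10], [66, 44, 42, 46, 33, 35, 29, 2, 17, 17, 10, 25], [62, 44, 42, 45, 30, 34, 29, 2, 23, 23, 10]⟩, .loop 67 2 [52, 50, 31, 36, 35, 2, 23, 4, 6, 23] 6 7 [⟨[24, 23], 200, false, [1, 2, 4, 5, 6, 2, 5]⟩, ⟨[66, 66, 37, 66, 38], 359, true, [2, 3, 5, 6, 2, 6, 4, 5, 3, 6]⟩, ⟨[23, 24, 23], 496, false, [1, 3, 4, 5, 6, 2, 4]⟩] []),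
  (⟨false, 2, 4, [66, 52, 50, 34, 36, 31, 16, 16, 8, 17, 12], [67, 44, 48, 52, 33, 35, 41, 16, 16, 4, 13], [50, 44, 35, 28, 35, 2, 17, 17, 18]⟩, .loop 48 2 [60, 47, 54, 40, 28, 16, 11, 19] 2 3 [⟨[24, 23], 597, false, [1, 2, 6, 5, 10, 5, 6, 5, 6, 2, 10]⟩] [⟨[23, 24, 23], 790, true, [1, 3, 5, 6, 2, 4, 5]⟩]),
  (⟨false, 2, 2, [63, 54, 43, 30, 40, 29, 16, 4, 16, 8], [60, 44, 51, 36, 27, 27, 16, 16, 11, 18, 23], [58, 51, 30, 35, 37, 2, 17, 22, 22, 24]⟩, .loop 17 4 [62, 55, 46, 33, 30, 36, 2, 17, 22, 6, 16] 2 3 [⟨[53, 27], 160, false, [4, 6, 5, 6, 2, 6, 5, 6, 10]⟩] [⟨[61, 63, 61, 63, 53], 335, false, [1, 2, 4, 5, 3, 6, 5, 6, 4, 10, 5]⟩, ⟨[66, 37], 618, false, [0, 4, 5, 6, 5, 10, 5, 6, 5]⟩]),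
  (⟨false, 2, 2, [46, 43, 30, 35, 29, 2, 23, 8, 23, 10], [60, 44, 47, 44, 28, 30, 35, 16, 4, 16, 13, 10], [63, 44, 47, 31, 28, 35, 16, 16, 25]⟩, .loop 17 5 [66, 44, 47, 52, 33, 30, 17, 23, 4] 2 3 [⟨[], 618, false, [0, 2, 3, 6, 2, 4, 5, 6]⟩] [⟨[66, 38, 66], 695, true, [1, 2, 6, 2, 6, 10, 5, 6]⟩, ⟨[23, 24], 450, true, [1, 5, 6, 2, 4, 5, 6, 4, 10]⟩]),
  (⟨false, 2, 2, [59, 46, 51, 55, 28, 31, 27, 16, 2, 19], [66, 45, 54, 56, 36, 30, 16, 16, 8, 22, 21], [59, 49, 46, 31, 33, 2, 17, 0]⟩, .loop 28 2 [66, 48, 56, 36, 40, 26, 16, 24, 16, 16] 4 5 [⟨[], 145, true, [4, 5, 3, 6, 4, 5, 6, 10, 5]⟩, ⟨[24], 475, true, [1, 6, 4, 6, 5]⟩] [⟨[], 552, false, [0, 3, 4, 5, 6, 5, 3, 6, 4, 5]⟩]),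
  (⟨false, 2, 2, [60, 49, 47, 30, 35, 40, 16, 4, 16, 2, 20], [44, 47, 52, 28, 30, 32, 17, 22, 6, 22], [58, 55, 42, 30, 38, 40, 2, 23, 4, 6, 23]⟩, .loop 46 2 [66, 44, 57, 55, 34, 29, 41, 2, 17, 17, 18, 18] 4 5 [⟨[24], 684, true, [2, 3, 6, 5, 6, 4, 10, 5, 10]⟩, ⟨[23, 24, 23], 902, true, [1, 6, 4, 5, 6, 4, 10, 5, 6, 2, 4]⟩] []),
  (⟨false, 2, 2, [67, 46, 51, 36, 27, 40, 2, 17, 17, 17, 21], [62, 51, 42, 34, 33, 40, 18, 23, 17, 22], [59, 47, 51, 34, 29, 16, 16, 24, 21]⟩, .loop 46 2 [58, 44, 46, 57, 30, 37, 32, 16, 2, 10, 23] 4 5 [⟨[24], 850, false, [1, 4, 10, 5, 6, 10, 5, 6]⟩, ⟨[24, 23], 822, true, [6, 1, 4, 5, 6, 4, 5, 3, 6]⟩] []),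
  (⟨false, 2, 5, [59, 49, 46, 30, 32, 35, 16, 16, 2, 4], [59, 33, 27, 31, 2, 17, 25, 6], [66, 45, 50, 45, 30, 32, 30, 2, 23, 6, 23]⟩, .loop 48 5 [61, 46, 31, 34, 33, 16, 19, 6] 4 5 [⟨[], 551, true, [0, 3, 4, 5, 6, 2, 5, 6, 5, 10]⟩, ⟨[63, 30, 27], 938, true, [3, 5, 6, 4, 5, 6, 2, 5, 3]⟩] []),
  (⟨false, 2, 5, [61, 44, 57, 55, 36, 26, 16, 16, 21, 16], [46, 42, 51, 34, 33, 34, 16, 24, 6], [61, 50, 45, 36, 27, 2, 17, 19, 22]⟩, .loop 47 2 [66, 44, 49, 41, 33, 2, 17, 17, 13] 2 3 [⟨[24], 336, true, [4, 6, 1, 4, 10, 5, 6]⟩] [⟨[24, 23], 310, true, [2, 4, 10, 5, 6, 1, 4]⟩]),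
  (⟨false, 2, 2, [63, 44, 55, 33, 27, 2, 17, 23, 24, 21], [44, 42, 54, 30, 40, 31, 2, 17, 17, 10, 22], [63, 49, 44, 28, 35, 40, 2, 23, 23, 4, 23]⟩, .loop 72 2 [67, 49, 42, 34, 41, 41, 2, 17, 23, 24, 17] 6 7 [⟨[], 689, false, [1, 2, 10, 5, 3, 6, 4, 5, 6, 2]⟩, ⟨[23, 24, 23], 527, false, [6, 1, 2, 6, 5, 3, 6, 5, 3]⟩, ⟨[24], 668, false, [6, 1, 5, 6, 2, 6, 5, 3, 6, 5]⟩] []),
  (⟨false, 2, 2, [61, 55, 46, 34, 27, 28, 16, 16, 16, 4], [52, 55, 28, 36, 29, 16, 19, 22], [44, 42, 57, 36, 40, 30, 2, 17, 22, 22, 24]⟩, .loop 22 2 [62, 44, 43, 30, 40, 31, 16, 16, 22, 8] 4 5 [⟨[], 639, true, [2, 6, 4, 5, 6, 5, 3, 5, 6]⟩, ⟨[], 726, false, [4, 5, 6, 4, 5, 6, 4, 5, 6, 10]⟩] [⟨[24, 23], 272, false, [6, 4, 10, 5, 6, 4, 10]⟩]),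
  (⟨false, 2, 2, [61, 46, 51, 55, 35, 35, 26, 16, 4, 16, 16, 10], [61, 46, 44, 30, 30, 2, 23, 23, 13, 10], [58, 45, 54, 33, 34, 33, 16, 8, 17]⟩, .loop 72 2 [45, 41, 32, 17, 22, 21] 4 5 [⟨[], 214, true, [2, 4, 5, 6, 5, 6, 4, 10]⟩, ⟨[38, 66, 66], 266, true, [2, 4, 6, 5, 6, 2, 6, 4, 5]⟩] [⟨[24, 23], 509, true, [1, 4, 6, 4, 6, 2, 5, 6]⟩]),
  (⟨false, 2, 2, [60, 47, 52, 31, 33, 36, 2, 23, 18], [44, 46, 57, 33, 30, 32, 16, 16, 25, 17], [58, 44, 49, 31, 32, 30, 2, 23, 23, 8, 18]⟩, .loop 66 2 [44, 53, 56, 36, 31, 26, 17, 23, 17, 22, 24] 2 3 [⟨[23], 496, false, [1, 5, 6, 10, 5, 3, 6, 5, 6, 4]⟩] [⟨[23], 892, false, [0, 6, 4, 6, 5, 3, 6, 5, 3]⟩, ⟨[24, 23], 768, false, [1, 2, 4, 5, 3, 6, 5, 3]⟩]),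
  (⟨false, 2, 2, [61, 44, 42, 51, 30, 26, 35, 16, 16, 22, 8], [60, 49, 45, 28, 34, 27, 16, 16, 22, 2], [67, 46, 48, 30, 30, 28, 17, 17, 17, 24]⟩, .loop 67 2 [66, 44, 46, 44, 34, 31, 16, 16, 18, 25] 6 7 [⟨[], 392, true, [1, 4, 5, 3, 6, 5, 10, 5, 6, 4, 5]⟩, ⟨[23, 24, 23], 691, true, [4, 6, 4, 6, 4, 5, 10, 5]⟩, ⟨[], 857, false, [1, 6, 2, 5, 6, 5, 6, 10, 5]⟩] []),
  (⟨false, 2, 2, [60, 46, 43, 35, 36, 38, 16, 18, 23], [66, 45, 43, 38, 33, 40, 16, 16, 4, 6], [62, 47, 54, 28, 31, 28, 2, 17, 18, 22, 24]⟩, .loop 73 2 [63, 44, 55, 50, 41, 28, 32, 17, 17, 17, 10] 2 3 [⟨[], 589, true, [4, 10, 5, 6, 5, 10, 5]⟩] [⟨[], 836, false, [1, 6, 2, 6, 4, 6, 10]⟩, ⟨[], 587, true, [2, 3, 6, 2, 6, 5, 6, 2, 6, 10]⟩]),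
  (⟨false, 2, 2, [67, 44, 56, 28, 40, 33, 16, 16, 24], [47, 53, 34, 40, 27, 16, 10, 18], [62, 46, 56, 33, 35, 29, 16, 16, 16]⟩, .loop 73 2 [67, 49, 44, 33, 33, 31, 16, 19, 16, 6] 6 7 [⟨[24], 386, false, [1, 4, 6, 2, 4, 5, 6, 5, 3]⟩, ⟨[66, 66, 37, 37], 218, false, [2, 3, 4, 6, 4, 5, 10]⟩, ⟨[], 864, true, [0, 4, 6, 4, 5, 6, 4, 5, 6, 2, 10]⟩] []),
  (⟨false, 2, 2, [62, 51, 44, 36, 32, 19, 6, 23, 18], [66, 50, 55, 31, 26, 33, 2, 23, 23, 17, 6], [58, 44, 30, 38, 26, 2, 23, 8, 17]⟩, .loop 72 2 [59, 52, 50, 33, 41, 29, 16, 16, 8, 22] 4 5 [⟨[], 284, false, [3, 6, 2, 5, 6, 2]⟩, ⟨[24, 23], 614, false, [2, 6, 10, 5, 3, 6, 2, 4, 6]⟩] [⟨[24], 351, true, [2, 3, 6, 2, 6, 4, 5, 6, 4, 5]⟩]),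
  (⟨false, 2, 2, [63, 45, 57, 30, 34, 2, 23, 17, 22, 11], [59, 44, 48, 43, 30, 32, 35, 2, 17, 23, 23, 13], [59, 48, 47, 35, 31, 26, 16, 16, 18, 20]⟩, .loop 33 2 [62, 45, 53, 48, 38, 30, 16, 2, 0, 16] 4 5 [⟨[23], 661, true, [2, 6, 4, 5, 3, 6, 4, 6, 2]⟩, ⟨[24], 503, true, [0, 6, 2, 6, 5, 10, 5, 6, 2, 4]⟩] [⟨[23, 24], 642, false, [2, 6, 2, 5, 3, 6, 5, 6, 2]⟩]),
  (⟨false, 2, 2, [61, 44, 48, 52, 30, 37, 32, 16, 16, 24, 22], [66, 46, 57, 38, 33, 40, 2, 23, 18], [59, 48, 57, 30, 27, 27, 16, 16, 18, 17]⟩, .loop 48 2 [66, 57, 36, 40, 30, 16, 16, 22, 11] 2 3 [⟨[23, 24], 505, true, [1, 3, 4, 5, 6, 2, 5, 6, 4, 6]⟩] [⟨[24, 23], 275, false, [4, 5, 3, 5, 6, 5, 10]⟩]),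
  (⟨false, 2, 2, [66, 44, 42, 57, 35, 29, 2, 23, 17, 22, 6], [61, 46, 51, 28, 38, 36, 2, 17, 23, 4], [61, 54, 35, 38, 16, 16, 16, 4]⟩, .loop 46 2 [67, 54, 50, 34, 27, 29, 2, 17, 23, 6] 4 5 [⟨[23], 752, true, [2, 3, 6, 1, 2, 5, 6, 10, 5]⟩, ⟨[23], 575, true, [4, 6, 4, 10, 5, 6, 4, 5]⟩] []),
  (⟨false, 5, 2, [62, 45, 42, 49, 33, 29, 2, 23, 8, 17, 25], [67, 50, 49, 30, 29, 26, 16, 10, 18, 16], [60, 51, 47, 35, 36, 38, 2, 17, 17, 10, 25]⟩, .loop 32 2 [44, 48, 43, 41, 34, 30, 2, 17, 17, 23, 4] 4 5 [⟨[23], 891, true, [5, 6, 2, 5, 6, 5]⟩, ⟨[24], 174, true, [2, 6, 5, 3, 6, 5, 10, 5, 6, 5, 6]⟩] [⟨[24, 23], 547, false, [2, 6, 2, 10, 5, 6, 4, 5]⟩]),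
  (⟨false, 2, 2, [66, 54, 52, 38, 33, 2, 17, 23, 18, 20], [66, 44, 48, 43, 35, 30, 26, 16, 16, 20, 17], [62, 44, 46, 48, 28, 34, 27, 2, 17, 0]⟩, .loop 70 2 [63, 47, 54, 40, 28, 2, 23, 10, 23, 18] 6 7 [⟨[23], 622, false, [0, 3, 5, 6, 4, 6, 4, 10, 5]⟩, ⟨[37, 66, 66, 38], 242, true, [2, 5, 3, 6, 5, 6, 4, 6, 10]⟩, ⟨[23, 24], 871, false, [0, 5, 6, 4, 10, 5, 6, 4, 5, 3, 6]⟩] []),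
  (⟨false, 2, 5, [44, 42, 54, 30, 38, 26, 2, 17, 17, 18], [66, 50, 46, 31, 26, 17, 23, 16, 6], [67, 52, 48, 41, 33, 2, 17, 23, 12, 16]⟩, .loop 17 5 [58, 47, 52, 28, 35, 41, 17, 23, 16] 6 7 [⟨[66], 186, false, [0, 3, 5, 6, 2, 6, 5, 6, 4]⟩, ⟨[23, 24], 668, true, [0, 2, 4, 5, 6, 4, 6, 4, 6, 10]⟩, ⟨[24], 732, true, [0, 6, 2, 6, 4, 6, 5, 10]⟩] [])]

/-- facts 960 and on -/
def facts30 : List (Fact × Why) := [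
  (⟨false, 2, 2, [59, 54, 56, 28, 16, 11, 16, 21, 22], [59, 44, 47, 44, 28, 35, 40, 2, 17, 23, 21], [59, 49, 49, 38, 16, 4, 16, 21]⟩, .loop 60 2 [62, 50, 45, 31, 32, 30, 2, 17, 17, 25, 8] 6 7 [⟨[], 939, true, [0, 4, 6, 2, 6, 4, 5, 6, 2]⟩, ⟨[23], 915, false, [3, 6, 4, 5, 3, 6, 2, 4, 5]⟩, ⟨[], 448, true, [2, 4, 6, 4, 10, 5, 6, 4]⟩] [⟨[24], 698, false, [6, 2, 6, 5, 3, 6, 4, 5, 3]⟩, ⟨[], 765, false, [2, 3, 6, 4, 6, 5, 6, 2, 6, 10]⟩, ⟨[], 686, true, [0, 3, 6, 5, 6, 2, 6, 5, 3, 6]⟩, ⟨[], 761, false, [0, 3, 6, 2, 4, 6, 5, 6, 4]⟩]),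
  (⟨false, 2, 2, [63, 46, 51, 28, 36, 16, 21, 16, 11], [66, 55, 33, 31, 16, 16, 2, 23], [58, 44, 43, 57, 28, 38, 26, 2, 17, 17, 13, 25]⟩, .loop 67 2 [67, 44, 55, 50, 34, 33, 28, 16, 11, 16, 8] 2 3 [⟨[23], 368, true, [0, 5, 6, 10, 5, 6, 2, 10, 5, 6]⟩] [⟨[23], 161, false, [1, 2, 3, 6, 5, 3, 6, 2, 6]⟩, ⟨[23], 837, true, [6, 1, 2, 6, 10, 5, 6, 2, 6]⟩]),
  (⟨false, 2, 5, [67, 47, 56, 33, 27, 40, 2, 23, 23, 16], [59, 44, 51, 48, 36, 32, 31, 16, 16, 16, 11], [63, 56, 34, 27, 38, 16, 10, 25]⟩, .loop 17 2 [62, 44, 42, 47, 34, 27, 19, 6, 17, 22] 4 5 [⟨[], 866, true, [0, 3, 4, 6, 4, 6, 4]⟩, ⟨[38, 66, 66, 38], 921, false, [2, 4, 10, 5, 6, 4, 6, 4]⟩] [⟨[], 786, false, [1, 3, 6, 4, 5, 3]⟩]),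
  (⟨false, 2, 2, [59, 50, 49, 30, 34, 27, 16, 16, 11, 18], [60, 44, 57, 31, 34, 41, 2, 23, 19, 6], [63, 48, 46, 30, 38, 29, 16, 16, 18, 11]⟩, .loop 67 2 [66, 50, 42, 31, 41, 28, 17, 17, 23, 16] 2 3 [⟨[], 294, false, [1, 3, 4, 5, 3, 6, 2, 6, 5]⟩] [⟨[24, 23], 648, false, [0, 2, 4, 6, 2, 5, 3, 6, 4, 6]⟩, ⟨[], 450, false, [1, 4, 6, 4, 5, 6, 4, 5, 3, 6]⟩]),
  (⟨false, 2, 2, [58, 44, 42, 54, 33, 29, 17, 23, 4, 6], [58, 52, 50, 33, 29, 2, 17, 0, 17, 19], [63, 30, 41, 17, 23, 17, 19]⟩, .loop 47 2 [66, 45, 53, 31, 29, 41, 17, 23, 18, 17] 4 5 [⟨[23, 24, 23], 704, true, [5, 6, 1, 5, 10, 5, 6, 2, 5]⟩, ⟨[23, 24], 426, true, [4, 6, 4, 5, 6, 2, 6, 2, 10]⟩] []),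
  (⟨false, 2, 2, [60, 52, 44, 28, 40, 33, 17, 17, 22, 11], [61, 52, 50, 36, 31, 16, 24, 16, 25], [63, 45, 54, 45, 33, 38, 37, 16, 16, 2, 4, 24]⟩, .loop 44 2 [58, 48, 52, 34, 27, 16, 16, 16, 16] 4 5 [⟨[24], 935, true, [1, 3, 6, 5, 6, 5, 10]⟩, ⟨[], 702, true, [0, 6, 2, 5, 3, 6, 5, 6]⟩] []),
  (⟨false, 2, 2, [59, 44, 48, 43, 28, 38, 37, 2, 17, 17, 6, 16], [63, 48, 45, 31, 28, 32, 16, 16, 10], [67, 51, 51, 34, 36, 31, 16, 10, 16]⟩, .loop 28 3 [44, 36, 27, 17, 23, 23, 0] 4 5 [⟨[245, 22, 50], 127, false, [6, 1, 5, 10, 5, 6, 4, 6, 2]⟩, ⟨[23, 24, 23], 608, false, [3, 4, 5, 6, 4, 6, 5, 3, 5]⟩] [⟨[22, 50, 21, 245], 555, false, [1, 3, 4, 6, 4, 5, 6, 5, 3]⟩]),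
  (⟨false, 2, 2, [61, 30, 27, 30, 16, 16, 8, 22], [61, 46, 56, 28, 34, 31, 2, 17, 23, 12, 16], [45, 42, 34, 40, 29, 2, 23, 10, 23, 6]⟩, .loop 45 5 [45, 42, 49, 34, 27, 38, 18, 23] 2 3 [⟨[37], 247, true, [5, 6, 2, 4, 6, 5, 3, 6, 4]⟩] [⟨[37, 66, 37], 602, false, [2, 6, 10, 5, 10]⟩]),
  (⟨false, 2, 2, [66, 44, 42, 54, 31, 29, 29, 17, 23, 18, 17], [62, 47, 51, 30, 38, 40, 2, 17, 18, 22, 18], [63, 45, 53, 28, 31, 28, 38, 18, 23, 17, 22]⟩, .loop 28 2 [66, 51, 55, 33, 41, 28, 16, 16, 18, 24] 4 5 [⟨[23], 429, true, [1, 2, 6, 4, 5, 6, 2, 6, 5, 3]⟩, ⟨[23, 24, 23], 324, true, [0, 6, 4, 5, 6, 5, 3, 5, 6]⟩] [⟨[23], 827, true, [5, 6, 4, 5, 6, 4, 5, 10]⟩]),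
  (⟨false, 2, 2, [59, 51, 57, 35, 28, 28, 16, 16, 20], [63, 44, 46, 28, 31, 29, 17, 17, 22], [61, 45, 50, 45, 35, 28, 35, 2, 16, 16, 16, 4]⟩, .loop 28 2 [60, 50, 47, 36, 30, 33, 16, 10, 16, 24] 6 7 [⟨[24], 887, true, [4, 5, 6, 10, 5, 6, 5, 3, 5, 6]⟩, ⟨[38, 66, 38], 362, false, [3, 6, 4, 5, 6, 4, 5]⟩, ⟨[24, 23], 744, true, [2, 4, 5, 6, 5, 10, 5, 6, 4, 5]⟩] []),
  (⟨false, 2, 2, [63, 45, 50, 38, 36, 2, 23, 6, 17, 17], [62, 44, 43, 57, 28, 40, 17, 17, 22], [67, 47, 44, 30, 26, 35, 16, 2, 21]⟩, .loop 21 2 [44, 49, 35, 28, 16, 19, 22, 16] 2 3 [⟨[], 911, true, [4, 6, 2, 4, 5, 6, 2, 5]⟩] [⟨[24, 23], 186, true, [1, 5, 3, 5, 6, 4, 5, 3, 6]⟩, ⟨[37, 66], 238, true, [2, 6, 4, 10, 5, 6, 2, 4, 5]⟩]),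
  (⟨false, 2, 2, [58, 45, 57, 31, 33, 33, 16, 4, 16, 20], [62, 50, 44, 28, 30, 34, 16, 16, 22, 8], [61, 45, 43, 31, 28, 32, 16, 19, 11]⟩, .loop 67 2 [62, 47, 52, 34, 37, 37, 2, 17, 17, 23, 12] 6 7 [⟨[], 626, true, [3, 5, 6, 2, 6, 4, 6, 5, 6]⟩, ⟨[24], 448, false, [2, 3, 6, 1, 5, 6, 4, 6, 5, 6]⟩, ⟨[23, 24, 23], 429, true, [6, 2, 4, 5, 3, 6, 5, 3]⟩] []),
  (⟨false, 2, 2, [62, 52, 33, 30, 2, 17, 17, 10, 25], [47, 44, 51, 30, 32, 32, 16, 8, 22, 19], [67, 52, 49, 40, 28, 16, 21, 17, 17]⟩, .loop 31 2 [58, 48, 57, 33, 31, 16, 18, 16, 19] 6 7 [⟨[23, 24, 23], 597, true, [2, 5, 6, 4, 5, 3, 6, 4]⟩, ⟨[23, 24, 23], 597, false, [5, 6, 2, 4, 5, 6, 4, 10]⟩, ⟨[24, 23], 211, true, [2, 6, 4, 6, 5, 10, 5, 6, 2, 6]⟩] []),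
  (⟨false, 2, 2, [67, 54, 56, 41, 41, 16, 21, 16, 19], [59, 52, 48, 30, 29, 32, 2, 23, 13, 23], [62, 47, 47, 31, 41, 26, 16, 16, 13, 10]⟩, .loop 44 2 [62, 47, 47, 52, 35, 40, 31, 19, 6, 23] 4 5 [⟨[], 954, true, [1, 3, 5, 6, 4, 6, 2, 4, 5, 10]⟩, ⟨[23, 24], 507, false, [3, 5, 3, 6, 1, 5, 10]⟩] []),
  (⟨false, 2, 2, [60, 47, 49, 56, 31, 38, 2, 17, 17, 6, 4], [66, 45, 46, 28, 40, 36, 16, 16, 4], [61, 47, 50, 28, 40, 2, 23, 17, 0, 23]⟩, .loop 30 2 [66, 45, 42, 47, 33, 40, 16, 11, 16, 25, 22] 2 3 [⟨[24], 770, true, [0, 3, 6, 2, 5, 6, 5, 3]⟩] [⟨[], 668, false, [2, 5, 6, 10, 5, 6, 2, 6]⟩, ⟨[23, 24], 251, true, [2, 10, 5, 6, 1, 4, 5, 6, 10]⟩]),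
  (⟨false, 2, 2, [61, 45, 49, 31, 32, 30, 16, 11, 16, 8], [60, 57, 55, 31, 29, 16, 18, 16, 25], [62, 44, 56, 46, 28, 40, 26, 2, 23, 4, 6]⟩, .loop 21 5 [63, 48, 52, 35, 29, 34, 16, 21, 16, 20] 2 3 [⟨[], 361, false, [2, 4, 5, 6, 2, 6, 10, 5, 6]⟩] [⟨[66, 66, 37, 37, 66], 229, false, [2, 3, 4, 5, 6, 5, 10, 5, 6, 5]⟩, ⟨[24, 23], 943, false, [3, 6, 4, 5, 3, 6, 5, 6, 10]⟩]),
  (⟨false, 2, 2, [59, 51, 51, 33, 34, 31, 16, 11, 16, 16], [61, 50, 47, 34, 36, 35, 2, 17, 17, 24, 22], [59, 48, 48, 31, 34, 28, 16, 10, 17, 17]⟩, .loop 23 2 [66, 45, 43, 45, 30, 27, 30, 16, 16, 10] 4 5 [⟨[24], 688, true, [1, 6, 5, 6, 10, 5, 6, 5, 10, 5]⟩, ⟨[66, 66, 38, 66, 38], 771, true, [1, 2, 3, 5, 6, 4, 5, 6, 2, 6]⟩] [⟨[24, 23], 903, true, [0, 2, 3, 4, 6, 2]⟩]),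
  (⟨false, 2, 2, [66, 55, 42, 30, 28, 33, 2, 23, 19], [61, 47, 56, 41, 29, 2, 17, 25, 17], [58, 48, 55, 31, 36, 35, 16, 16, 22, 11]⟩, .loop 32 2 [58, 46, 42, 51, 38, 27, 16, 16, 8, 18] 6 7 [⟨[24], 376, true, [4, 10, 5, 6, 10, 5, 6, 2, 4]⟩, ⟨[], 164, true, [6, 5, 3, 6, 4, 6, 4]⟩, ⟨[22, 245, 22, 21, 22], 199, true, [6, 4, 5, 6, 2, 6, 5, 3]⟩] []),
  (⟨false, 2, 2, [54, 56, 36, 30, 40, 2, 17, 17, 11, 19], [45, 52, 28, 35, 40, 16, 24, 16, 8], [61, 48, 46, 30, 35, 29, 16, 10, 23]⟩, .loop 21 2 [61, 44, 49, 28, 34, 41, 2, 23, 25, 19] 6 7 [⟨[23], 592, true, [1, 6, 4, 6, 10, 5, 3, 6, 2, 4, 6]⟩, ⟨[], 545, false, [5, 6, 2, 10, 5, 6, 5, 3, 5]⟩, ⟨[23, 24, 23], 419, true, [4, 6, 4, 6, 2, 4, 5]⟩] []),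
  (⟨false, 2, 2, [66, 54, 43, 28, 30, 26, 2, 16, 6, 17, 22], [59, 50, 55, 30, 27, 32, 2, 23, 17, 8, 21], [66, 55, 28, 30, 26, 16, 24, 16, 10]⟩, .loop 69 2 [62, 44, 46, 31, 29, 32, 2, 17, 17, 8, 20] 4 5 [⟨[23], 684, true, [2, 3, 5, 6, 2, 6, 10, 5, 6]⟩, ⟨[23, 24, 23], 591, false, [4, 5, 6, 1, 4, 10, 5]⟩] [⟨[], 225, true, [4, 10, 5, 3, 6, 1, 4, 6, 5]⟩]),
  (⟨false, 2, 2, [67, 46, 42, 35, 36, 38, 16, 21, 23, 23], [63, 52, 50, 31, 35, 29, 16, 16, 2, 20], [62, 45, 53, 48, 30, 26, 33, 16, 16, 2, 23]⟩, .loop 68 2 [66, 55, 46, 28, 38, 37, 2, 17, 17, 17, 18] 6 7 [⟨[24], 793, false, [2, 6, 10, 5, 6, 2, 6, 4, 6, 5]⟩, ⟨[], 393, true, [4, 5, 6, 4, 5, 3, 6, 4, 5, 6]⟩, ⟨[23, 24], 351, false, [5, 6, 4]⟩] []),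
  (⟨false, 2, 2, [62, 44, 46, 33, 31, 2, 17, 17, 0, 8], [66, 46, 43, 35, 36, 38, 16, 16, 25, 18], [59, 44, 48, 43, 38, 33, 40, 16, 4, 16, 10]⟩, .loop 32 2 [51, 46, 35, 40, 31, 2, 23, 6, 17, 17] 6 7 [⟨[], 916, true, [0, 6, 2, 6, 4, 5, 6, 2, 6, 2]⟩, ⟨[24, 23], 293, true, [1, 2, 6, 4, 5, 6, 2, 6, 5]⟩, ⟨[23, 24, 23], 679, true, [2, 3, 4, 6, 4, 5, 6, 2, 4]⟩] []),
  (⟨false, 2, 2, [62, 45, 45, 30, 34, 28, 16, 16, 19, 11], [67, 47, 49, 33, 28, 37, 2, 16, 6, 17, 17], [66, 48, 57, 28, 41, 16, 10, 16, 24, 24]⟩, .loop 72 2 [59, 55, 42, 31, 34, 33, 2, 23, 17, 12] 4 5 [⟨[], 173, true, [2, 6, 10, 5, 3, 6, 4, 5, 3]⟩, ⟨[23, 24], 824, true, [0, 2, 3, 5, 6, 4, 10, 5, 6, 2]⟩] [⟨[23], 479, false, [1, 6, 5, 3, 6, 2, 5, 6, 10, 5]⟩]),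
  (⟨false, 2, 2, [58, 54, 43, 28, 34, 33, 16, 16, 24, 19], [62, 47, 52, 41, 30, 28, 2, 23, 23, 19], [67, 52, 49, 36, 32, 26, 17, 23, 16, 11]⟩, .loop 50 2 [63, 50, 46, 34, 26, 32, 2, 17, 23, 21] 10 11 [⟨[24, 23], 498, true, [1, 2, 5, 6, 5, 10, 5, 6]⟩, ⟨[], 960, false, [0, 3, 4, 6, 5, 10]⟩, ⟨[23], 914, true, [1, 10, 5, 6, 4, 6, 10]⟩, ⟨[24], 930, true, [6, 10, 5, 6, 2, 6, 2, 5, 10]⟩, ⟨[23], 765, false, [2, 6, 2, 6, 4, 10, 5, 6, 2, 6]⟩] [⟨[24, 23], 591, true, [3, 5, 3, 6]⟩, ⟨[24, 23], 939, true, [5, 3, 6, 4, 5, 3, 6]⟩]),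
  (⟨false, 5, 2, [60, 48, 44, 28, 31, 27, 2, 17, 23, 20, 11], [44, 46, 57, 33, 30, 36, 2, 23, 10, 23], [60, 44, 43, 53, 30, 40, 33, 2, 23, 23, 18, 6]⟩, .loop 67 2 [63, 51, 55, 33, 34, 26, 2, 23, 23, 10] 6 7 [⟨[24], 236, true, [0, 6, 4, 10, 5, 3, 6, 4, 6, 5]⟩, ⟨[24, 23], 598, false, [1, 4, 10, 5, 3, 6, 5, 10, 5, 6]⟩, ⟨[24], 243, false, [6, 5, 6, 2, 6, 5, 10, 5]⟩] []),
  (⟨false, 2, 2, [61, 56, 53, 38, 30, 2, 17, 17, 22], [62, 47, 52, 31, 35, 30, 2, 23, 23, 11], [66, 50, 44, 36, 29, 31, 2, 23, 23, 25]⟩, .loop 35 4 [45, 42, 45, 34, 40, 27, 16, 21, 16, 24] 4 5 [⟨[28, 61], 724, false, [2, 6, 4, 6, 2, 6, 4]⟩, ⟨[66, 37, 37], 863, true, [1, 6, 4, 6, 4, 5, 3, 6, 2]⟩] [⟨[61, 63, 63, 61, 29], 184, false, [1, 5, 3, 5, 6, 5, 3, 6, 2]⟩]),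
  (⟨false, 2, 2, [60, 55, 49, 31, 32, 30, 16, 16, 25, 22], [62, 47, 53, 30, 37, 35, 16, 16, 2, 16], [61, 48, 52, 28, 31, 26, 16, 16, 25, 17]⟩, .loop 17 2 [60, 51, 51, 28, 41, 28, 16, 11, 16, 21] 2 3 [⟨[24], 499, false, [6, 4, 5, 3, 5, 6, 5, 6, 2, 6]⟩] [⟨[23], 892, true, [4, 5, 6, 4, 6, 4, 6, 10, 5]⟩, ⟨[23], 951, false, [5, 6, 5, 3, 6, 5, 6, 10, 5, 6, 2]⟩]),
  (⟨false, 2, 2, [67, 48, 56, 28, 38, 36, 2, 17, 23, 23, 8], [59, 44, 57, 55, 30, 26, 32, 2, 16, 6, 23, 20], [49, 44, 38, 32, 34, 2, 17, 23, 11, 24]⟩, .loop 73 2 [67, 47, 47, 52, 28, 30, 38, 2, 23, 6, 23, 4] 6 7 [⟨[23, 24], 221, false, [2, 3, 4, 5, 6, 2, 6, 5, 6, 4]⟩, ⟨[23], 691, true, [1, 4, 6, 5, 3, 6, 2, 6, 5]⟩, ⟨[23, 24, 23], 898, true, [1, 6, 10, 5, 6, 4, 5, 6, 10]⟩] []),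
  (⟨false, 2, 2, [61, 47, 56, 28, 34, 37, 16, 11, 23], [62, 47, 54, 34, 27, 38, 2, 23, 23, 18, 6], [58, 50, 31, 33, 31, 2, 17, 22, 6, 17]⟩, .loop 47 2 [49, 49, 31, 26, 16, 18, 16, 19] 4 5 [⟨[23, 24, 23], 685, true, [0, 6, 4, 6, 2, 6, 5, 10, 5]⟩, ⟨[24, 23], 654, false, [1, 5, 6, 4, 5, 6, 4, 10, 5, 3]⟩] []),
  (⟨false, 2, 2, [45, 53, 33, 36, 16, 21, 16, 8], [60, 46, 57, 28, 30, 28, 16, 11, 16, 8], [60, 47, 42, 30, 29, 26, 16, 2, 19, 6]⟩, .loop 71 2 [67, 45, 43, 45, 34, 33, 2, 17, 22, 22, 10] 2 3 [⟨[], 427, true, [5, 6, 1, 4, 6, 5, 6]⟩] [⟨[24], 210, false, [4, 6, 10, 5, 6, 5, 3, 5, 6, 2]⟩, ⟨[66], 361, false, [2, 10, 5, 6, 4, 5, 3, 6, 4, 6]⟩]),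
  (⟨false, 2, 2, [62, 50, 30, 26, 34, 2, 23, 6, 23, 16], [67, 44, 53, 56, 35, 38, 35, 2, 23, 13, 23], [58, 49, 45, 31, 34, 28, 16, 16, 11, 19]⟩, .loop 73 2 [66, 47, 44, 51, 28, 38, 26, 16, 4, 16, 10, 21] 4 5 [⟨[], 969, true, [2, 4, 5, 3, 6, 4, 5, 6, 4, 5]⟩, ⟨[23], 117, false, [4, 6, 4, 6, 5, 10, 5, 6]⟩] [⟨[23], 671, true, [0, 5, 6, 2, 4, 6, 5, 6]⟩]),
  (⟨false, 2, 2, [61, 45, 53, 36, 40, 30, 16, 4, 16, 16, 10], [62, 44, 30, 38, 26, 2, 17, 17, 6, 13], [61, 47, 42, 36, 33, 2, 17, 17, 13, 24]⟩, .loop 46 2 [50, 50, 41, 34, 2, 16, 16, 6, 16] 4 5 [⟨[24, 23], 732, false, [0, 2, 3, 6, 2, 5, 6, 4, 6]⟩, ⟨[24], 775, false, [10, 5, 6, 5, 6, 10, 5]⟩] [])]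

/-- facts 992 and on -/
def facts31 : List (Fact × Why) := [
  (⟨false, 2, 4, [58, 56, 53, 28, 36, 28, 2, 23, 17, 24, 23], [67, 51, 28, 26, 40, 2, 23, 17, 6, 22], [67, 48, 52, 34, 31, 37, 16, 24, 16, 25]⟩, .loop 17 4 [66, 49, 46, 36, 31, 26, 16, 16, 10, 19] 6 7 [⟨[29, 27], 687, false, [0, 2, 3, 5, 6, 4, 6, 2, 5, 10]⟩, ⟨[], 834, false, [2, 6, 4, 6, 4, 5, 3, 6]⟩, ⟨[], 639, true, [1, 6, 5, 6, 2, 6, 5, 10, 5]⟩] []),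
  (⟨false, 2, 2, [58, 45, 42, 45, 34, 27, 29, 2, 17, 23, 24], [58, 46, 46, 30, 40, 30, 18], [63, 45, 49, 35, 35, 26, 2, 23, 23, 10]⟩, .loop 73 2 [66, 57, 30, 29, 2, 16, 16, 6, 16] 4 5 [⟨[24], 554, false, [0, 5, 10, 5, 6, 5, 10]⟩, ⟨[23, 24, 23], 881, true, [1, 5, 3, 6, 4, 5, 6, 2, 4]⟩] [⟨[], 483, true, [3, 4, 6, 5, 3, 6, 4, 5]⟩]),
  (⟨false, 2, 2, [59, 54, 43, 28, 34, 41, 2, 23, 23, 10], [58, 51, 46, 36, 31, 31, 16, 4, 16, 19, 11], [62, 45, 53, 30, 29, 35, 16, 21, 16, 19]⟩, .loop 73 2 [61, 49, 53, 28, 41, 28, 16, 11, 17, 6] 2 3 [⟨[23], 978, true, [0, 4, 10, 5, 6, 4, 6, 5, 6, 10]⟩] [⟨[24], 729, false, [0, 4, 5, 6, 5, 6, 2, 6, 5, 3]⟩, ⟨[24, 23], 700, false, [0, 6, 10, 5, 6, 4, 6, 5, 6, 5]⟩]),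
  (⟨false, 2, 2, [59, 54, 50, 36, 30, 16, 10, 23, 17], [50, 50, 33, 29, 31, 16, 16, 20, 25], [67, 47, 50, 31, 34, 27, 16, 16, 19, 16]⟩, .loop 16 2 [66, 44, 43, 53, 30, 38, 28, 16, 10] 4 5 [⟨[23, 24, 23], 216, false, [5, 3, 5, 6, 5, 6, 2]⟩, ⟨[24, 23], 597, false, [1, 4, 6, 5, 3, 6, 2, 5]⟩] [⟨[24, 23], 475, true, [3, 6, 2, 5, 6, 5, 3, 5, 6]⟩]),
  (⟨false, 2, 2, [62, 51, 51, 30, 40, 31, 16, 16, 8, 22, 22], [60, 44, 49, 28, 38, 30, 2, 17, 17, 10], [66, 44, 47, 44, 31, 33, 36, 2, 23, 17, 17, 10]⟩, .loop 66 2 [60, 45, 50, 42, 30, 26, 28, 16, 16, 16, 18, 24] 6 7 [⟨[24], 274, false, [4, 6, 2, 6, 5, 10, 5, 6, 2, 4]⟩, ⟨[38], 927, true, [1, 6, 2, 6, 4]⟩, ⟨[23], 586, false, [2, 3, 5, 6, 5, 6]⟩] []),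
  (⟨false, 2, 2, [63, 46, 42, 51, 34, 29, 41, 16, 24, 16, 25], [58, 50, 42, 33, 30, 32, 2, 23, 11], [67, 44, 43, 33, 34, 2, 23, 13]⟩, .loop 48 2 [58, 50, 42, 33, 30, 32, 2, 23] 4 5 [⟨[], 849, true, [0, 2, 6, 4, 10, 5, 6, 4, 6, 2, 4]⟩, ⟨[24, 23], 996, true, [2, 5, 6, 4, 6, 2, 6]⟩] []),
  (⟨false, 2, 2, [60, 45, 50, 45, 34, 27, 41, 2, 23, 10, 23, 6], [44, 51, 34, 31, 41, 2, 17, 17, 2, 22], [67, 48, 55, 31, 29, 27, 2, 17, 17, 13, 23]⟩, .loop 45 2 [61, 56, 28, 36, 28, 2, 23, 6, 17, 17] 2 3 [⟨[23], 224, false, [0, 2, 5, 6, 10, 5, 6, 4, 6, 2, 10]⟩] [⟨[23, 24, 23], 861, true, [1, 4, 10, 5, 6, 2, 5, 6, 4, 10, 5]⟩]),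
  (⟨false, 2, 2, [62, 47, 54, 34, 29, 36, 2, 23, 17, 0, 23], [62, 44, 51, 48, 28, 36, 32, 16, 16, 10, 16], [67, 47, 31, 29, 40, 16, 22, 22]⟩, .loop 30 2 [62, 44, 47, 28, 40, 26, 16, 16, 11, 18] 6 7 [⟨[23, 24, 23], 263, false, [3, 4, 6, 5, 6, 10, 5, 6, 10]⟩, ⟨[23], 400, true, [2, 3, 4, 6, 5, 6, 2, 6]⟩, ⟨[], 519, true, [4, 5, 6, 2, 5, 6, 4, 6, 5, 3]⟩] []),
  (⟨false, 2, 2, [59, 46, 51, 55, 33, 35, 16, 16, 20, 13], [59, 45, 52, 31, 27, 34, 2, 23, 17, 19], [66, 51, 55, 30, 19, 6, 17]⟩, .loop 46 2 [66, 49, 53, 30, 26, 35, 2, 17, 17, 13] 4 5 [⟨[24], 536, true, [1, 6, 4, 6, 10, 5, 3, 6, 5]⟩, ⟨[24], 458, false, [0, 6, 5, 6, 4, 6, 10, 5]⟩] []),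
  (⟨false, 2, 2, [66, 45, 42, 47, 35, 28, 40, 2, 23, 25], [66, 45, 50, 42, 36, 16, 16, 4, 13], [44, 48, 34, 26, 35, 16, 2, 21, 17, 24]⟩, .loop 21 5 [62, 45, 42, 49, 33, 28, 35, 16, 16, 8] 4 5 [⟨[38], 151, false, [3, 5, 6, 4, 6, 5, 6, 2]⟩, ⟨[23, 24, 23], 495, false, [4, 5, 6, 10, 5, 6, 4, 6, 5]⟩] [⟨[66, 37, 66, 38], 927, true, [2, 6, 1, 4, 5, 6, 2, 6, 4]⟩]),
  (⟨false, 2, 2, [66, 52, 50, 30, 28, 37, 2, 23, 10, 23, 19], [61, 44, 57, 35, 31, 2, 17, 17, 13], [60, 57, 31, 28, 35, 16, 16, 24, 21]⟩, .loop 19 2 [63, 48, 57, 38, 35, 2, 17, 17, 23, 11] 4 5 [⟨[], 170, true, [5, 6, 2, 10, 5, 6, 2, 6, 4]⟩, ⟨[24], 484, false, [1, 6, 5, 3, 6, 5, 3, 6, 5]⟩] [⟨[23, 24], 490, true, [0, 4, 5, 6, 5, 6, 4]⟩]),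
  (⟨false, 2, 2, [61, 45, 43, 45, 28, 41, 29, 16, 22, 22, 10], [63, 46, 28, 41, 27, 32, 16, 16, 25], [58, 55, 49, 34, 27, 38, 2, 23]⟩, .loop 21 2 [63, 45, 49, 30, 28, 34, 17, 23, 23, 25] 4 5 [⟨[], 583, false, [0, 3, 4, 5, 3, 6, 5, 6, 2, 4, 10]⟩, ⟨[24, 23], 596, false, [10, 5, 3, 6, 1, 4, 6]⟩] [⟨[23, 24, 23], 933, false, [0, 6, 4, 5, 3, 6, 4, 6, 5, 6]⟩]),
  (⟨false, 2, 2, [59, 49, 49, 41, 27, 34, 16, 16, 2, 11], [59, 52, 48, 36, 29, 33, 16, 16, 2, 21], [63, 47, 51, 34, 26, 30, 2, 17, 23, 20, 25]⟩, .loop 19 2 [66, 44, 42, 54, 34, 26, 32, 16, 16, 20, 19] 2 3 [⟨[24], 203, true, [3, 4, 6, 1, 5, 6, 2, 4, 10, 5]⟩] [⟨[23, 24, 23], 606, true, [2, 6, 5, 10, 5, 6, 5, 6, 4]⟩, ⟨[], 795, false, [0, 6, 4, 5, 3, 6, 5, 6, 5, 3]⟩]),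
  (⟨false, 2, 2, [60, 47, 30, 26, 30, 17, 23, 23, 17], [63, 48, 35, 28, 31, 2, 17, 23, 24, 21], [59, 44, 42, 54, 28, 35, 32, 2, 17, 17, 18, 23]⟩, .loop 50 2 [66, 54, 47, 30, 37, 40, 16, 16, 4, 8] 2 3 [⟨[23, 24], 281, false, [1, 4, 6, 2, 4, 5, 6, 4, 6]⟩] [⟨[], 787, true, [2, 3, 6, 5, 3, 6, 2, 6]⟩, ⟨[23, 24, 23], 578, false, [0, 4, 6, 2, 4, 5, 3, 6, 4, 6]⟩, ⟨[24], 369, true, [2, 6, 5, 6, 4, 6, 5, 10]⟩, ⟨[24], 232, false, [6, 1, 4, 5, 3, 6, 2, 5, 6]⟩, ⟨[63, 27, 61, 61], 407, false, [0, 2, 5, 6, 4, 6, 4, 6, 10]⟩, ⟨[], 413, true, [5, 6, 4, 5, 3, 5, 6, 2, 5]⟩]),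
  (⟨false, 2, 2, [67, 50, 44, 31, 28, 36, 16, 21, 16, 20], [59, 55, 49, 34, 33, 28, 2, 17, 22, 16, 2], [67, 51, 53, 33, 2, 17, 17, 2, 22]⟩, .loop 29 2 [61, 57, 31, 41, 36, 2, 17, 18, 22, 11] 6 7 [⟨[23], 746, true, [1, 5, 3, 6, 5, 6, 10]⟩, ⟨[37, 66, 66], 560, false, [5, 6, 5, 6, 2, 6, 5, 3]⟩, ⟨[23, 24], 822, true, [2, 4, 6, 4, 10, 5, 6, 5, 3, 5]⟩] []),
  (⟨false, 2, 2, [60, 49, 56, 30, 27, 38, 2, 17, 17, 17, 12], [46, 57, 34, 27, 2, 17, 23, 17, 24], [61, 55, 49, 31, 37, 29, 2, 17, 23, 10]⟩, .loop 29 2 [55, 34, 27, 29, 16, 16, 10, 16, 11] 4 5 [⟨[], 704, true, [1, 5, 3, 5, 6, 4, 5, 6, 5]⟩, ⟨[23, 24], 896, false, [1, 3, 4, 5, 6, 4, 6, 4, 5, 10]⟩] [⟨[24], 464, false, [0, 4, 5, 10, 5, 6, 5, 6, 10, 5]⟩]),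
  (⟨false, 2, 2, [59, 56, 50, 28, 34, 30, 29, 16, 11, 23, 23], [62, 54, 44, 28, 26, 36, 16, 16, 10, 20], [61, 51, 33, 34, 16, 16, 4, 22]⟩, .loop 71 5 [48, 43, 28, 41, 29, 16, 16] 2 3 [⟨[66, 38], 866, false, [1, 5, 6, 4, 10, 5, 6, 2, 4, 10]⟩] [⟨[38, 66, 66], 537, false, [1, 4, 5, 3, 5, 6, 2, 5, 3]⟩, ⟨[23, 24], 1002, false, [0, 4, 5, 3, 6, 2, 5, 6, 5]⟩]),
  (⟨false, 2, 2, [60, 44, 43, 28, 40, 28, 17, 23, 17, 8], [59, 56, 53, 33, 31, 2, 17, 17, 6, 20], [66, 46, 56, 36, 27, 27, 16, 11]⟩, .loop 21 2 [67, 48, 47, 36, 40, 16, 16, 24, 11] 2 3 [⟨[24, 23], 852, false, [6, 4, 5, 3, 6, 2, 6, 5]⟩] [⟨[24], 857, true, [5, 6, 10, 5, 6, 10, 5, 6]⟩, ⟨[], 513, true, [6, 1, 2, 6, 5, 3]⟩]),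
  (⟨false, 2, 2, [67, 44, 43, 51, 30, 40, 29, 16, 18], [67, 45, 54, 45, 34, 28, 16, 16, 16, 16], [62, 44, 42, 54, 38, 30, 2, 17, 23, 12, 16]⟩, .loop 46 2 [58, 54, 43, 35, 28, 31, 2, 23, 13] 2 3 [⟨[23, 24, 23], 678, true, [2, 10, 5, 3, 6, 4, 5]⟩] [⟨[23], 481, false, [3, 5, 6, 1, 10, 5, 6, 4, 6]⟩]),
  (⟨false, 2, 2, [62, 48, 55, 30, 26, 40, 17, 23, 23, 25], [59, 51, 47, 28, 35, 40, 2, 23, 23, 0, 13], [60, 45, 46, 28, 31, 26, 16, 16, 2, 24]⟩, .loop 17 2 [60, 47, 49, 56, 38, 31, 2, 17, 23, 18, 20] 4 5 [⟨[24, 23], 941, true, [2, 5, 6, 4, 5, 3, 6, 4, 6, 5]⟩, ⟨[24, 23], 849, false, [0, 5, 6, 2, 6, 4, 10, 5, 6]⟩] [⟨[24], 849, true, [0, 4, 6, 2, 6, 10, 5]⟩]),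
  (⟨false, 2, 2, [60, 44, 51, 48, 30, 32, 35, 16, 16, 16, 2], [63, 44, 42, 47, 36, 30, 40, 16, 16, 2, 0], [44, 48, 43, 31, 32, 30, 2, 17, 23, 17, 8]⟩, .loop 35 2 [59, 51, 41, 30, 37, 2, 17, 0] 2 3 [⟨[], 891, false, [0, 4, 6, 4, 6, 5, 6, 5, 3, 5]⟩] [⟨[24], 488, false, [3, 5, 6, 1, 2, 4, 6, 5, 6]⟩, ⟨[24], 764, true, [1, 2, 6, 2, 5, 3, 6, 2, 5, 10]⟩]),
  (⟨false, 2, 2, [61, 55, 43, 28, 38, 16, 11, 18], [66, 44, 46, 57, 36, 34, 2, 23, 8, 23, 21], [61, 44, 42, 54, 33, 31, 33, 16, 2, 16, 2]⟩, .loop 72 3 [63, 48, 46, 30, 29, 27, 17, 23, 17, 2] 2 3 [⟨[22], 468, false, [2, 4, 6, 10, 5, 3, 6, 5, 6, 5]⟩] [⟨[21, 245, 21, 22], 230, false, [3, 4, 6, 4, 5, 10, 5, 6, 4, 6, 5]⟩, ⟨[], 614, false, [4, 6, 5, 6, 10, 5, 6, 4, 5, 3]⟩]),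
  (⟨false, 2, 2, [67, 55, 42, 30, 40, 26, 16, 16, 16, 20], [59, 46, 48, 33, 31, 38, 2, 17, 17, 13, 25], [60, 51, 55, 28, 40, 28, 2, 17, 17, 10, 25]⟩, .loop 17 5 [61, 49, 51, 34, 26, 31, 16, 16, 4, 8] 2 3 [⟨[37, 66, 37], 886, false, [4, 5, 6, 4, 5, 3, 5, 6, 5]⟩] [⟨[66, 66, 38, 66, 38], 529, false, [2, 5, 6, 4, 6, 5, 3, 6, 2, 5]⟩, ⟨[], 658, true, [3, 5, 6, 4, 10, 5, 6, 4, 5]⟩]),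
  (⟨false, 2, 2, [67, 54, 43, 38, 31, 16, 16, 4, 24], [63, 51, 44, 31, 33, 2, 17, 17, 18, 10], [59, 44, 47, 44, 30, 28, 34, 16, 24, 6]⟩, .loop 45 2 [58, 48, 36, 32, 26, 2, 16, 6, 23, 17] 2 3 [⟨[], 419, true, [2, 6, 2, 6, 10, 5, 6, 4, 6]⟩] [⟨[23, 24, 23], 269, true, [2, 4, 6, 2, 5, 3, 6, 2, 5, 6]⟩]),
  (⟨false, 2, 2, [44, 42, 48, 33, 38, 16, 16, 8, 22], [60, 44, 46, 57, 28, 41, 38, 2, 23, 23, 21, 16], [67, 48, 43, 30, 40, 31, 17, 23, 17]⟩, .loop 71 2 [67, 44, 53, 28, 41, 34, 16, 10, 23, 17] 6 7 [⟨[24], 852, true, [0, 4, 5, 3, 6, 5, 10, 5, 6, 2, 4]⟩, ⟨[24], 506, false, [0, 4, 6, 2, 4, 5, 6, 4, 6, 10]⟩, ⟨[66, 37, 38], 112, true, [1, 3, 6, 4, 6, 5, 3, 6, 2, 4]⟩] []),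
  (⟨false, 2, 2, [66, 44, 48, 28, 38, 29, 16, 16, 8, 21], [61, 55, 47, 28, 30, 34, 2, 23, 23, 16, 8], [59, 46, 53, 35, 28, 40, 2, 17, 17, 8, 23]⟩, .loop 70 5 [60, 47, 48, 31, 2, 17, 17, 13, 23] 4 5 [⟨[37], 449, true, [1, 6, 2, 4, 5, 3, 6, 4, 6, 5]⟩, ⟨[23], 850, false, [0, 6, 4, 10, 5, 6, 2, 5, 10]⟩] [⟨[37, 37, 66], 508, true, [2, 5, 6, 1, 4, 6, 5, 3, 6]⟩]),
  (⟨false, 2, 2, [63, 50, 48, 35, 28, 40, 2, 17, 17, 13, 25], [59, 44, 57, 55, 31, 27, 34, 16, 16, 24, 19], [66, 44, 57, 49, 31, 32, 38, 2, 23, 8]⟩, .loop 21 2 [62, 44, 48, 43, 34, 33, 40, 2, 23, 18] 4 5 [⟨[23], 291, false, [4, 5, 3, 6, 5, 6, 2, 5, 6, 10]⟩, ⟨[23], 871, true, [0, 6, 4, 5, 6, 2, 10, 5, 6, 2]⟩] [⟨[23], 264, true, [2, 6, 4, 6, 4, 5, 3, 6, 2]⟩]),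
  (⟨false, 4, 2, [60, 48, 57, 34, 27, 41, 2, 17, 17, 23, 4], [59, 44, 55, 33, 27, 16, 11, 16, 18], [61, 45, 56, 28, 35, 32, 2, 17, 17, 8, 21]⟩, .loop 28 2 [60, 51, 46, 31, 35, 2, 17, 17, 25, 10] 6 7 [⟨[24, 23], 951, true, [0, 2, 10, 5, 6, 5, 10, 5, 6]⟩, ⟨[], 485, false, [0, 6, 2, 6, 4, 5, 10, 5]⟩, ⟨[24, 23], 256, true, [4, 6, 1, 2, 6, 4, 5, 3, 6]⟩] []),
  (⟨false, 2, 2, [66, 45, 56, 34, 37, 34, 16, 4, 16, 16, 24], [58, 50, 47, 28, 38, 26, 2, 23, 23, 23, 0], [62, 45, 53, 48, 28, 41, 31, 17, 23, 23, 16]⟩, .loop 18 2 [67, 44, 53, 56, 30, 30, 38, 16, 4, 11] 4 5 [⟨[23, 24, 23], 746, true, [2, 3, 5, 6, 5, 3, 5, 6, 2, 6]⟩, ⟨[37, 66, 66, 38], 760, true, [4, 6, 4, 6, 5, 3, 6, 2]⟩] [⟨[23, 24, 23], 632, false, [2, 3, 4, 6, 1, 5, 6]⟩]),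
  (⟨false, 2, 2, [45, 42, 51, 33, 27, 30, 16, 16, 18, 0], [45, 54, 28, 41, 27, 16, 21, 16, 11], [58, 46, 34, 38, 2, 17, 22, 16]⟩, .loop 18 2 [59, 54, 56, 33, 34, 40, 2, 23, 23, 25] 6 7 [⟨[], 889, true, [2, 4, 6, 5, 3, 6, 5]⟩, ⟨[24, 23], 725, true, [4, 10, 5, 6, 1, 10, 5, 3, 6, 5]⟩, ⟨[28, 27], 407, false, [2, 6, 5, 10, 5, 6, 2]⟩] []),
  (⟨false, 2, 2, [63, 48, 55, 30, 41, 2, 17, 0, 17], [61, 45, 49, 33, 27, 31, 2, 17, 23], [66, 45, 42, 51, 28, 38, 33, 2, 17, 23, 20, 11]⟩, .loop 28 2 [58, 56, 50, 30, 34, 34, 2, 17, 23, 23, 8] 6 7 [⟨[], 638, false, [2, 5, 6, 4, 5, 10, 5, 6, 4]⟩, ⟨[23], 625, true, [6, 4, 6, 5, 6, 4, 5, 3, 6]⟩, ⟨[], 467, true, [4, 6, 1, 2, 5, 3, 6, 4, 6]⟩] []),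
  (⟨false, 2, 2, [67, 44, 47, 47, 28, 34, 2, 23, 6, 23, 4], [62, 48, 50, 28, 40, 33, 16, 22, 22, 2], [67, 57, 28, 34, 41, 16, 16, 11, 19]⟩, .loop 31 2 [66, 48, 43, 28, 31, 28, 17, 17, 22, 11] 2 3 [⟨[], 581, false, [10, 5, 3, 6, 4, 6, 5, 6, 2, 6]⟩] [⟨[], 332, false, [1, 3, 4, 5, 6, 5, 3, 5, 6, 2]⟩, ⟨[23], 751, false, [1, 4, 5, 3, 6, 5, 10, 5, 6, 2, 4]⟩])]

/-- facts 1024 and on -/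
def facts32 : List (Fact × Why) := [
  (⟨false, 2, 2, [47, 47, 52, 28, 34, 37, 2, 23, 4, 19], [62, 47, 47, 31, 41, 28, 2, 17, 17, 10, 22], [61, 44, 42, 47, 28, 30, 36, 2, 17, 17, 10]⟩, .loop 18 2 [46, 56, 28, 34, 37, 16, 16, 18, 11] 2 3 [⟨[], 750, false, [5, 6, 1, 2, 5, 6, 4, 6]⟩] [⟨[], 152, false, [1, 4, 10, 5, 6, 4, 6, 4, 10, 5]⟩, ⟨[50, 50, 22, 21, 21], 230, false, [1, 3, 4, 5, 6, 4, 5, 6, 5]⟩]),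
  (⟨false, 2, 2, [61, 45, 42, 45, 34, 29, 41, 16, 24, 23, 16], [67, 44, 46, 31, 35, 38, 16, 16, 11, 18], [59, 44, 43, 53, 30, 29, 26, 16, 2, 19, 6, 17]⟩, .loop 46 2 [58, 52, 44, 30, 32, 40, 16, 4, 16, 18] 2 3 [⟨[23, 24, 23], 264, true, [3, 5, 6, 1, 4, 6, 5, 6, 2]⟩] [⟨[23, 24], 802, false, [2, 3, 4, 6, 1, 5, 3, 6, 2, 5]⟩]),
  (⟨false, 2, 2, [58, 54, 46, 30, 29, 35, 16, 18, 24, 6], [59, 50, 50, 30, 34, 28, 2, 17, 17, 6, 16], [46, 44, 54, 28, 35, 28, 16, 4, 16, 21]⟩, .loop 32 2 [66, 54, 43, 40, 2, 23, 23, 23] 4 5 [⟨[23], 243, false, [1, 3, 4, 6, 5, 6, 10, 5]⟩, ⟨[66, 37, 66], 271, true, [1, 6, 2, 5, 3, 6, 2, 6, 4, 5]⟩] [⟨[24], 312, false, [6, 2, 6, 2, 4, 5, 3]⟩]),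
  (⟨false, 2, 2, [66, 48, 42, 28, 34, 30, 29, 17, 23, 17], [63, 48, 50, 30, 37, 30, 19, 6, 17, 0], [59, 44, 47, 31, 36, 34, 16, 16, 16, 20]⟩, .loop 35 2 [67, 52, 44, 28, 40, 37, 2, 16, 6, 17] 6 7 [⟨[23, 24, 23], 339, true, [10, 5, 3, 6, 2, 6, 2, 4]⟩, ⟨[], 871, true, [0, 2]⟩, ⟨[23, 24], 996, false, [5, 3, 6, 5, 6, 4, 6, 5, 6, 10]⟩] []),
  (⟨false, 2, 2, [62, 44, 43, 53, 41, 28, 16, 18, 23], [67, 45, 57, 41, 34, 16, 10, 16, 16], [61, 56, 36, 32, 16, 22, 22, 4]⟩, .loop 22 2 [67, 45, 52, 38, 28, 41, 16, 4, 16, 22] 6 7 [⟨[24, 23], 405, false, [6, 2, 10, 5, 6, 4]⟩, ⟨[24], 595, true, [3, 6, 4, 5, 6, 2, 6, 4]⟩, ⟨[23], 462, true, [2, 6, 2, 5, 6, 5, 6, 10, 5, 6]⟩] []),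
  (⟨false, 2, 2, [60, 44, 46, 57, 36, 32, 31, 2, 17], [63, 48, 52, 34, 40, 2, 23, 17, 22, 6], [62, 55, 49, 28, 34, 30, 29, 2, 16, 6, 17, 17]⟩, .loop 67 2 [59, 50, 45, 31, 26, 36, 2, 17, 17, 23, 13] 6 7 [⟨[23], 303, true, [2, 5, 3, 6, 4, 5, 3]⟩, ⟨[66, 66, 38, 66], 229, false, [2, 3, 6, 1, 2, 5, 6, 4, 10]⟩, ⟨[23, 24], 438, true, [2, 6, 1, 5, 3, 5, 6]⟩] []),
  (⟨false, 2, 2, [67, 45, 54, 56, 33, 27, 34, 16, 16, 22, 19], [60, 47, 47, 36, 30, 33, 16, 22, 22, 4], [60, 55, 47, 30, 40, 26, 16, 2, 19, 16]⟩, .loop 19 2 [58, 50, 55, 31, 28, 30, 16, 16, 24, 6] 2 3 [⟨[], 516, true, [2, 6, 5, 6, 4, 10, 5, 3]⟩] [⟨[], 556, false, [1, 5, 3, 6, 4, 5, 3, 6, 4, 5]⟩, ⟨[24, 23], 426, false, [10, 5, 6, 4, 5, 3, 6, 5, 10]⟩]),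
  (⟨false, 2, 2, [60, 45, 53, 48, 38, 32, 35, 16, 16, 20, 22], [63, 44, 57, 49, 30, 40, 2, 17, 17, 23], [58, 49, 51, 40, 40, 2, 17, 25, 6]⟩, .loop 21 2 [59, 45, 53, 48, 28, 26, 16, 16, 10, 16, 11] 4 5 [⟨[], 619, true, [2, 5, 6, 4, 6, 2, 5, 6, 10]⟩, ⟨[24, 23], 610, true, [4, 5, 6, 10, 5, 3, 6, 5, 6, 5]⟩] [⟨[23, 24, 23], 765, false, [6, 2, 5, 3, 6, 5, 6, 2, 10, 5]⟩]),
  (⟨false, 2, 2, [59, 46, 57, 41, 36, 2, 17, 18, 22, 21], [66, 47, 52, 33, 29, 30, 16, 10, 8], [58, 46, 40, 35, 16, 16, 4, 25]⟩, .loop 18 2 [63, 51, 53, 28, 17, 23, 17, 2] 4 5 [⟨[23], 632, true, [1, 2, 5, 6, 4, 5, 3, 6, 4]⟩, ⟨[23, 24], 820, false, [2, 6, 1, 10, 5, 6, 2, 6, 4]⟩] [⟨[23, 24], 372, true, [0, 6, 2, 10, 5, 6, 4, 6, 2]⟩]),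
  (⟨false, 2, 2, [58, 47, 56, 28, 38, 29, 16, 16, 4, 23], [66, 48, 57, 40, 27, 2, 16, 16, 6, 16], [67, 51, 57, 30, 29, 2, 17, 23, 20, 25]⟩, .loop 23 2 [60, 48, 46, 30, 37, 32, 16, 2, 21, 17] 6 7 [⟨[], 730, true, [0, 5, 10, 5, 6, 4, 5, 6, 10]⟩, ⟨[24, 23], 607, false, [1, 2, 4, 6, 4, 5, 10, 5]⟩, ⟨[23, 24, 23], 954, true, [5, 6, 4, 6, 5, 6, 10, 5, 3]⟩] []),
  (⟨false, 2, 2, [62, 51, 57, 34, 27, 41, 2, 17, 17, 23], [58, 45, 43, 35, 35, 41, 2, 17, 17, 18, 23], [67, 45, 56, 50, 30, 34, 29, 2, 23, 17, 6]⟩, .loop 60 2 [58, 45, 54, 30, 32, 26, 16, 16, 25] 4 5 [⟨[24], 685, false, [4, 5, 6, 1, 2, 4, 5, 3, 6]⟩, ⟨[23, 24, 23], 988, true, [1, 2, 3, 4, 6, 5, 6, 4, 10, 5]⟩] [⟨[23, 24, 23], 758, true, [1, 2, 6, 5, 3, 5, 6, 4, 6, 2]⟩, ⟨[24], 196, false, [6,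 1, 5, 3, 6, 4, 6, 2, 5]⟩, ⟨[23, 24, 23], 691, true, [1, 6, 10, 5, 6, 4, 5, 3, 6, 2]⟩, ⟨[24, 23], 483, false, [0, 2, 6, 5, 10, 5, 6, 2, 5, 10]⟩, ⟨[], 570, false, [3, 4, 6, 2, 6, 5, 6, 4]⟩]),
  (⟨false, 2, 5, [67, 45, 42, 34, 31, 38, 2, 23, 8, 23], [61, 55, 42, 28, 41, 2, 17, 23, 17, 25], [61, 44, 43, 51, 30, 29, 32, 16, 10, 8]⟩, .loop 17 2 [60, 44, 46, 44, 28, 31, 40, 2, 17, 19] 2 3 [⟨[23], 807, false, [1, 6, 4, 10, 5, 6, 5, 3]⟩] [⟨[23], 165, true, [2, 3, 4, 6, 4, 5, 6, 2, 10]⟩, ⟨[24], 526, false, [1, 10, 5, 3, 6, 4, 5]⟩]),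
  (⟨false, 2, 5, [63, 57, 55, 36, 27, 36, 16, 4, 16, 19, 6], [44, 51, 46, 28, 31, 41, 2, 17, 0, 23, 17], [60, 45, 43, 45, 33, 29, 16, 16, 16, 2]⟩, .loop 21 5 [66, 57, 35, 36, 30, 19, 6, 17, 22] 6 7 [⟨[37], 347, true, [1, 10, 5, 6, 10, 5, 6]⟩, ⟨[66, 66, 38, 37, 66], 542, false, [6, 2, 6, 4, 5, 3, 6, 2, 5]⟩, ⟨[23, 24, 23], 577, true, [0, 2, 4, 6, 4, 5, 6, 4, 5, 6, 10]⟩] []),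
  (⟨false, 2, 2, [66, 48, 53, 35, 31, 29, 16, 10, 16], [52, 49, 35, 38, 35, 16, 10, 16, 24], [60, 52, 49, 34, 26, 32, 17, 22, 6]⟩, .loop 35 2 [44, 53, 28, 36, 32, 2, 23, 23, 8, 18] 6 7 [⟨[23, 24, 23], 783, true, [5, 3, 5, 6, 5, 3, 6, 4]⟩, ⟨[23], 840, false, [0, 6, 10, 5, 3, 6, 5, 6, 2, 6]⟩, ⟨[24], 706, false, [6, 2, 6, 4, 10, 5, 6, 5]⟩] []),
  (⟨false, 2, 2, [58, 48, 55, 38, 32, 16, 11, 11], [63, 50, 55, 33, 31, 2, 23, 23, 19], [58, 44, 43, 57, 30, 40, 26, 16, 11, 18, 23]⟩, .loop 18 2 [63, 44, 48, 43, 36, 35, 40, 2, 23, 6, 23, 16] 6 7 [⟨[23, 24, 23], 723, false, [0, 6, 2, 6, 5, 3, 6, 5, 6]⟩, ⟨[], 91, false, [3, 6, 2, 6, 5, 6, 4, 6, 10, 5]⟩, ⟨[24], 805, false, [5, 6, 2, 4, 5, 6]⟩] []),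
  (⟨false, 2, 5, [47, 52, 30, 34, 28, 18, 23, 17, 23], [59, 54, 52, 28, 36, 28, 16, 16, 20, 17], [67, 52, 44, 28, 26, 38, 16, 22, 19]⟩, .loop 22 5 [60, 51, 44, 31, 26, 33, 16, 10, 13] 4 5 [⟨[66, 37, 37], 238, true, [0, 2, 6, 5, 6, 10, 5, 3, 6, 5, 10]⟩, ⟨[23], 1033, false, [2, 6, 2, 5, 6, 5, 3, 6, 4]⟩] [⟨[38, 66, 37], 794, true, [0, 6, 4, 6, 4, 10, 5, 3, 6, 5]⟩]),
  (⟨false, 2, 2, [61, 52, 55, 28, 31, 40, 16, 11, 16, 21, 22], [61, 44, 57, 55, 30, 40, 26, 2, 23, 23, 23, 24], [61, 49, 57, 28, 31, 33, 2, 23, 4]⟩, .loop 31 2 [62, 46, 43, 30, 28, 16, 16, 10] 2 3 [⟨[24], 248, false, [0, 2, 3, 6, 2, 5, 6, 4, 6, 2]⟩] [⟨[], 581, true, [1, 2, 3, 6, 5, 3, 6, 5, 3, 6]⟩, ⟨[23, 24, 23], 434, false, [3, 4, 6, 4, 6, 4, 5, 3, 6]⟩]),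
  (⟨false, 2, 2, [59, 45, 42, 47, 31, 28, 36, 16, 16, 18, 0], [60, 48, 47, 38, 36, 16, 16, 18, 25], [58, 49, 56, 28, 35, 26, 2, 17, 17, 18, 16]⟩, .loop 16 2 [61, 44, 48, 52, 31, 27, 41, 2, 23, 4, 19] 4 5 [⟨[24], 395, false, [2, 5, 3, 6, 4, 5, 6, 10]⟩, ⟨[23, 24, 23], 821, true, [2, 4, 6, 2, 5, 3, 6, 2, 5]⟩] [⟨[23], 991, false, [0, 10, 5, 6, 5, 10, 5, 6, 2, 6]⟩]),
  (⟨false, 2, 2, [66, 44, 47, 47, 30, 27, 32, 2, 17, 0, 23, 23], [61, 48, 53, 36, 30, 33, 2, 23, 17, 25, 12], [63, 55, 46, 28, 26, 38, 16, 16]⟩, .loop 21 2 [60, 46, 51, 55, 38, 30, 35, 2, 17, 22, 16, 10] 4 5 [⟨[23, 24, 23], 631, false, [0, 10, 5, 6, 2, 6, 4, 10]⟩, ⟨[66, 37, 37], 250, true, [1, 2, 3, 6, 4, 5, 10, 5, 6, 5]⟩] [⟨[23, 24, 23], 425, false, [3, 6, 2, 6, 2, 4, 5, 10]⟩]),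
  (⟨false, 2, 2, [63, 51, 49, 28, 41, 29, 16, 16, 4, 23], [60, 45, 49, 31, 29, 35, 16, 11, 16, 2, 10], [61, 46, 44, 36, 40, 30, 16, 2, 24]⟩, .loop 69 2 [67, 47, 56, 31, 36, 35, 16, 16, 2, 21] 6 7 [⟨[], 388, true, [1, 6, 4, 10, 5, 6, 2, 5, 3]⟩, ⟨[24], 577, false, [5, 6, 5, 6, 4]⟩, ⟨[23], 1014, true, [6, 4, 6, 5, 3, 6, 2, 5]⟩] []),
  (⟨false, 2, 2, [63, 46, 48, 54, 33, 41, 2, 17, 17, 24, 17], [66, 55, 43, 35, 28, 2, 16, 16, 16, 4], [62, 46, 42, 36, 35, 27, 16, 19, 6, 10]⟩, .loop 68 2 [66, 48, 44, 34, 26, 32, 16, 16, 20, 24] 6 7 [⟨[], 933, false, [1, 2, 3, 5, 6, 5, 6, 4, 6, 10]⟩, ⟨[23], 175, true, [2, 6, 5, 6, 2, 6, 10, 5, 6, 2]⟩, ⟨[], 520, false, [2, 3, 4, 6, 5, 10, 5, 6, 2, 4]⟩] []),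
  (⟨false, 2, 5, [62, 54, 52, 30, 30, 35, 2, 17, 22, 16, 2], [58, 51, 49, 33, 27, 30, 2, 23, 23, 24], [62, 57, 28, 31, 27, 31, 16, 16, 20, 23]⟩, .loop 72 5 [62, 51, 51, 38, 27, 16, 16, 16, 11] 4 5 [⟨[37, 38], 529, false, [0, 6, 10, 5]⟩, ⟨[], 161, true, [2, 4, 6, 4, 6, 4, 10, 5, 6]⟩] [⟨[66, 66, 38, 66, 37], 794, false, [5, 6, 2, 10, 5, 6, 2]⟩]),
  (⟨false, 2, 2, [60, 44, 53, 33, 35, 32, 2, 23, 23, 4, 23], [62, 48, 48, 31, 27, 41, 16, 19, 22, 16], [60, 45, 57, 31, 36, 41, 2, 23, 23, 13, 17]⟩, .loop 66 2 [59, 57, 31, 34, 27, 17, 17, 17, 24] 4 5 [⟨[23], 1045, false, [0, 4, 6, 10, 5, 3, 6, 2]⟩, ⟨[38, 66, 66, 38], 921, false, [4, 5, 3, 6, 1, 4, 5, 6]⟩] [⟨[24, 23], 755, true, [6, 2, 5, 3, 6, 4, 5, 6, 4]⟩]),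
  (⟨false, 2, 2, [60, 44, 57, 49, 28, 38, 17, 23, 18], [51, 47, 31, 33, 36, 19, 6, 17, 19], [60, 45, 46, 41, 27, 16, 16, 4, 6]⟩, .loop 72 2 [44, 56, 46, 30, 35, 37, 16, 8] 2 3 [⟨[], 812, false, [6, 2, 6, 4, 10, 5, 6, 2, 5]⟩] [⟨[24], 121, true, [0, 3, 6, 5, 10, 5, 6, 4, 6]⟩, ⟨[], 701, true, [2, 3, 5, 6, 4, 6, 10, 5, 10]⟩]),
  (⟨false, 2, 2, [50, 44, 34, 31, 37, 2, 23, 23, 16], [62, 44, 48, 43, 40, 38, 16, 16, 20, 25, 23], [59, 44, 48, 43, 36, 32, 26, 2, 23, 10, 17, 0]⟩, .loop 66 2 [67, 48, 43, 35, 28, 37, 16, 4, 16, 20, 22] 6 7 [⟨[], 475, false, [1, 2, 6, 5, 3, 6, 2, 6, 4]⟩, ⟨[], 176, false, [0, 4, 6, 4, 5, 6, 5, 10, 5]⟩, ⟨[29, 27, 63], 160, false, [0, 3, 6, 5, 10, 5, 6, 2]⟩] []),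
  (⟨false, 2, 2, [63, 49, 47, 38, 30, 16, 21, 16, 20], [44, 46, 33, 35, 26, 16, 21, 16, 22], [67, 50, 35, 36, 16, 18, 16, 20]⟩, .loop 35 2 [58, 51, 51, 28, 40, 28, 2, 23, 17, 0, 23] 2 3 [⟨[23], 167, true, [3, 4, 5, 3, 6, 4, 6, 5, 3]⟩] [⟨[24], 924, false, [6, 4, 6, 10, 5, 6, 2, 4, 10]⟩, ⟨[66, 66, 37, 66, 37], 882, true, [3, 6, 5, 3, 6, 2, 5, 6, 10, 5, 6]⟩]),
  (⟨false, 2, 2, [66, 44, 43, 51, 28, 40, 26, 2, 17, 17, 6, 16], [58, 45, 53, 48, 30, 40, 29, 16, 16, 20, 16], [60, 45, 56, 55, 41, 38, 16, 18, 16, 4]⟩, .loop 68 2 [59, 48, 50, 35, 28, 2, 23, 17, 24, 17] 6 7 [⟨[23], 477, false, [6, 1, 10, 5, 6, 2, 6, 5]⟩, ⟨[23], 351, true, [0, 4, 10, 5, 6, 2, 10]⟩, ⟨[23], 540, true, [4, 5, 6, 2, 4, 5, 6, 4, 10, 5]⟩] []),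
  (⟨false, 2, 2, [67, 56, 53, 38, 28, 16, 22, 22, 24], [59, 57, 30, 26, 32, 16, 10, 16, 21], [63, 49, 47, 31, 29, 29, 16, 18, 24]⟩, .loop 69 2 [61, 47, 48, 31, 27, 34, 16, 16, 4, 22] 6 7 [⟨[], 232, false, [1, 10, 5, 6, 4, 6, 4]⟩, ⟨[61, 63, 28, 61], 256, false, [4, 5, 6, 4, 5, 6, 2]⟩, ⟨[24], 448, false, [1, 2, 4, 5, 6, 5, 10, 5, 6]⟩] []),
  (⟨false, 2, 2, [66, 51, 44, 35, 31, 34, 16, 11, 11], [58, 45, 53, 36, 28, 38, 16, 16, 11, 25], [61, 54, 46, 28, 35, 36, 16, 16, 4, 11]⟩, .loop 46 2 [60, 47, 50, 34, 40, 27, 2, 17, 18, 22, 6] 4 5 [⟨[23], 483, true, [0, 4, 6, 4, 5, 6, 2, 6, 10]⟩, ⟨[23, 24], 691, false, [1, 2, 6, 4, 5, 6, 2, 6, 4]⟩] []),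
  (⟨false, 2, 2, [66, 48, 53, 38, 2, 23, 23, 16, 8], [66, 44, 48, 38, 29, 30, 2, 17, 0, 17], [66, 47, 53, 28, 38, 2, 16, 6, 17, 6]⟩, .loop 44 2 [59, 48, 53, 31, 35, 29, 17, 17, 17, 24] 4 5 [⟨[23], 527, true, [2, 3, 5, 6, 4, 5, 6, 5, 6]⟩, ⟨[23], 592, false, [4, 6, 1, 4, 10, 5, 10]⟩] []),
  (⟨false, 2, 2, [58, 51, 42, 38, 32, 36, 2, 17, 23, 24, 23], [61, 46, 56, 31, 27, 35, 16, 24, 16, 21], [67, 28, 41, 29, 16, 16, 18, 11]⟩, .loop 29 2 [66, 47, 28, 30, 32, 2, 23, 17, 22] 6 7 [⟨[], 866, true, [5, 6, 5, 3, 6, 4, 5, 6, 4]⟩, ⟨[66, 66, 37, 66, 37], 460, false, [3, 4, 5, 6, 1, 4, 5, 3, 5]⟩, ⟨[61, 63, 30, 63], 790, false, [0, 6, 4, 10, 5, 3, 6, 5, 10, 5]⟩] []),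
  (⟨false, 2, 2, [45, 42, 45, 40, 38, 17, 23, 23, 0], [61, 48, 45, 35, 28, 28, 2, 17, 17, 23, 4], [67, 46, 51, 55, 36, 26, 2, 17, 17, 22, 16]⟩, .loop 68 2 [63, 49, 53, 33, 31, 16, 16, 10, 8, 22] 2 3 [⟨[], 960, false, [0, 2, 6, 4, 6, 5]⟩] [⟨[24], 216, false, [0, 6, 2, 5, 6, 5, 3, 5, 6, 4]⟩, ⟨[], 613, true, [0, 5, 6, 4, 5, 3, 5, 6, 4, 6]⟩])]

/-- facts 1056 and on -/
def facts33 : List (Fact × Why) := [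
  (⟨false, 2, 2, [58, 49, 44, 31, 41, 2, 17, 17, 0, 11], [46, 44, 31, 32, 38, 2, 17, 23, 20, 11], [45, 42, 30, 30, 36, 2, 17, 17, 6, 4]⟩, .loop 65 2 [59, 50, 30, 26, 32, 16, 16, 2, 21] 2 3 [⟨[24, 23], 448, true, [1, 4, 6, 5, 6, 2, 10, 5, 6]⟩] [⟨[24, 23], 914, false, [1, 3, 5, 6, 4, 5, 3, 5, 6, 4]⟩, ⟨[23], 726, true, [3, 4, 6, 4, 5, 6, 2, 5, 10]⟩, ⟨[23], 698, true, [4, 5, 3, 6, 1, 2, 5, 6, 2, 10]⟩, ⟨[23, 24, 23], 591, false, [3, 4, 6, 1, 4, 6, 5, 10]⟩, ⟨[23, 24, 23], 686, false, [1, 4, 6, 5, 6, 10, 5, 6, 4]⟩, ⟨[], 983, false, [2, 3, 5, 6, 5, 6, 4]⟩]),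
  (⟨false, 2, 2, [63, 49, 51, 30, 35, 37, 2, 17, 17, 17, 12], [59, 57, 55, 30, 40, 28, 16, 22, 22, 2], [67, 54, 46, 35, 31, 32, 2, 17, 23, 17]⟩, .loop 46 2 [61, 56, 30, 34, 28, 2, 23, 23, 8, 18] 4 5 [⟨[23], 689, true, [1, 2, 6, 5, 3, 5, 6, 4, 6, 2]⟩, ⟨[24], 545, true, [0, 10, 5, 3, 6, 2, 4, 5, 6, 4]⟩] []),
  (⟨false, 2, 2, [60, 50, 55, 30, 27, 2, 17, 23], [67, 44, 51, 30, 35, 35, 17, 22, 21, 6], [59, 47, 47, 52, 36, 40, 35, 2, 23, 17, 2, 22]⟩, .loop 20 2 [59, 50, 49, 28, 41, 33, 2, 23, 17, 22] 4 5 [⟨[], 509, false, [1, 4, 6, 2, 6, 5, 3, 6, 5, 3]⟩, ⟨[24, 23], 291, false, [0, 6, 4, 6, 2, 6, 5, 3, 6, 5]⟩] [⟨[23, 24, 23], 726, true, [1, 6, 5, 3, 5, 6, 2, 6, 5]⟩]),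
  (⟨false, 2, 2, [59, 44, 47, 52, 40, 2, 17, 23, 18, 21], [62, 45, 53, 48, 31, 34, 27, 16, 10, 16, 10], [61, 51, 44, 33, 36, 38, 16, 16, 18, 0]⟩, .loop 28 4 [34, 36, 30, 17, 23, 23, 18] 2 3 [⟨[61], 672, true, [0, 6, 4, 5, 6, 10]⟩] [⟨[61, 28], 482, false, [0, 5, 6, 4, 6, 5, 6, 2, 6, 10]⟩, ⟨[24, 23], 781, true, [10, 5, 6, 5, 6]⟩]),
  (⟨false, 2, 2, [61, 45, 42, 51, 30, 37, 32, 2, 23, 17, 23, 11], [62, 50, 42, 31, 37, 37, 2, 17, 17, 23, 13], [50, 42, 28, 30, 26, 34, 2, 23, 17, 23]⟩, .loop 18 5 [47, 50, 30, 27, 36, 16, 25, 17] 4 5 [⟨[37, 66], 122, false, [1, 5, 10, 5, 6, 5]⟩, ⟨[24, 23], 1053, false, [0, 10, 5, 6, 4, 10, 5, 6, 4]⟩] [⟨[66, 66, 37, 66, 37], 268, true, [2, 3, 5, 6, 4, 10, 5, 6, 2]⟩]),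
  (⟨false, 2, 2, [67, 28, 35, 31, 41, 16, 11, 23, 16, 16], [60, 44, 42, 51, 36, 32, 16, 10, 16, 16, 11], [62, 49, 42, 34, 40, 2, 23, 8]⟩, .loop 49 2 [51, 51, 38, 33, 40, 16, 24, 16, 10] 2 3 [⟨[23], 209, true, [6, 2, 6, 5, 10, 5, 6, 5, 10, 5]⟩] [⟨[23], 841, true, [3, 5, 6, 2, 6, 4, 5, 3, 5]⟩]),
  (⟨false, 2, 2, [60, 45, 50, 30, 30, 30, 2, 17, 22, 22, 16], [59, 44, 53, 56, 30, 34, 28, 16, 10, 17], [58, 50, 44, 30, 34, 27, 2, 17, 22, 22, 11]⟩, .loop 68 2 [62, 44, 46, 48, 33, 35, 26, 2, 17, 23, 17, 25] 2 3 [⟨[23, 24, 23], 964, false, [4, 6, 10, 5, 6, 2, 4, 5, 3]⟩] [⟨[24, 23], 981, false, [1, 10, 5, 6, 2, 6, 5, 3, 6]⟩, ⟨[24, 23], 464, true, [0, 3, 5, 6, 4, 10, 5, 6, 2, 5]⟩]),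
  (⟨false, 2, 2, [66, 54, 50, 41, 28, 32, 16, 16, 4], [58, 48, 48, 30, 35, 40, 16, 11, 16, 11, 19], [66, 44, 49, 28, 34, 2, 23, 8, 17, 6]⟩, .loop 46 2 [59, 47, 55, 38, 32, 2, 23, 8, 23, 23] 2 3 [⟨[], 779, true, [0, 3, 4, 6, 2, 6, 5, 3]⟩] [⟨[24], 912, false, [1, 2, 6, 5, 3, 6, 2, 4, 5, 6]⟩]),
  (⟨false, 2, 2, [66, 56, 41, 30, 28, 16, 11, 16, 2], [60, 51, 52, 36, 32, 16, 16, 25], [62, 48, 46, 28, 30, 41, 41, 16, 16, 25, 18]⟩, .loop 31 2 [54, 47, 31, 27, 32, 16, 10, 17, 6, 23] 2 3 [⟨[23], 235, false, [6, 1, 2, 4, 10, 5, 6, 4, 6]⟩] [⟨[24, 23], 416, false, [5, 3, 5, 6, 4, 6, 4]⟩, ⟨[23], 668, true, [1, 10, 5, 3, 6, 5, 6, 2, 4, 5]⟩]),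
  (⟨false, 2, 2, [66, 45, 52, 30, 32, 2, 17, 23, 18, 18], [58, 46, 51, 31, 33, 30, 16, 16, 4, 23], [63, 55, 38, 29, 16, 16, 20, 11]⟩, .loop 45 2 [59, 48, 47, 30, 29, 41, 2, 23, 6, 17, 17] 4 5 [⟨[], 1023, false, [0, 6, 4, 5, 6, 2, 4, 5, 3]⟩, ⟨[], 953, true, [2, 5, 6, 2, 5, 6, 10]⟩] []),
  (⟨false, 2, 2, [66, 50, 42, 31, 34, 27, 2, 17, 23, 17, 8], [63, 50, 28, 34, 40, 16, 16, 24, 22], [58, 48, 45, 35, 29, 36, 16, 2, 21]⟩, .loop 70 2 [61, 47, 49, 56, 34, 31, 37, 17, 17, 17, 19] 2 3 [⟨[23], 512, true, [4, 5, 6, 1, 2, 4, 5, 6]⟩] [⟨[23], 1030, true, [1, 6, 2, 5, 6, 10, 5, 6, 10]⟩, ⟨[23], 1011, true, [4, 5, 3, 6, 4, 6, 4, 5]⟩]),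
  (⟨false, 5, 2, [66, 51, 43, 28, 41, 33, 16, 16, 8, 16, 20], [61, 47, 54, 30, 40, 34, 2, 23, 8, 17, 17], [59, 44, 47, 44, 33, 29, 37, 2, 17, 23, 11]⟩, .loop 44 2 [62, 51, 47, 30, 41, 26, 16, 16, 24, 19] 4 5 [⟨[24], 809, true, [5, 10, 5, 6, 2, 6, 4, 5]⟩, ⟨[66, 66, 38, 66], 794, true, [0, 6, 4, 5, 6, 4, 10, 5, 6]⟩] []),
  (⟨false, 2, 2, [60, 45, 42, 47, 31, 27, 41, 2, 17, 17, 23, 12], [58, 45, 54, 36, 30, 33, 2, 17, 17, 0, 13], [49, 56, 38, 26, 16, 16, 10, 19]⟩, .loop 33 2 [67, 51, 55, 30, 32, 40, 16, 16, 8, 16] 2 3 [⟨[23], 224, true, [0, 2, 6, 4, 10, 5, 6, 2, 6]⟩] [⟨[24], 524, true, [4, 6, 2, 10, 5, 6, 5, 3, 5, 6]⟩, ⟨[], 92, false, [3, 6, 5, 6, 4, 6, 2, 10, 5]⟩]),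
  (⟨false, 2, 2, [59, 49, 47, 40, 28, 40, 2, 17, 23, 24, 17], [58, 47, 44, 51, 28, 31, 27, 16, 11, 23, 23], [60, 44, 43, 51, 33, 41, 30, 16, 16, 4, 18]⟩, .loop 32 5 [63, 44, 47, 44, 28, 40, 31, 16, 16, 19, 23] 2 3 [⟨[], 478, false, [2, 4, 5, 3, 6, 4, 5, 3]⟩] [⟨[37, 66, 38, 37], 749, false, [6, 4, 6, 10, 5, 6, 2, 5, 3]⟩, ⟨[24, 23], 488, false, [2, 3, 4, 6, 4, 5, 6, 4, 5]⟩]),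
  (⟨false, 2, 2, [61, 44, 47, 44, 33, 30, 36, 16, 16, 8, 17, 12], [58, 54, 47, 41, 28, 2, 23, 19], [60, 47, 54, 31, 27, 41, 2, 17, 22, 22]⟩, .loop 19 5 [51, 42, 41, 36, 16, 16, 11, 18] 2 3 [⟨[38], 886, false, [2, 6, 4]⟩] [⟨[66, 66, 37], 794, true, [6, 2, 6, 5, 6, 4, 10, 5]⟩, ⟨[37, 66, 66], 461, false, [0, 6, 4, 5, 3, 6, 4, 6, 5]⟩]),
  (⟨false, 2, 2, [59, 55, 47, 31, 29, 32, 2, 17, 22, 16, 16], [67, 44, 56, 46, 33, 40, 16, 2, 0, 16], [62, 44, 46, 44, 28, 36, 29, 27, 2, 23, 23, 18, 0]⟩, .loop 32 2 [62, 50, 46, 28, 30, 27, 31, 16, 11, 16, 24] 4 5 [⟨[], 668, true, [0, 5, 3, 6, 4, 5, 6, 2, 5, 6]⟩, ⟨[23, 24], 741, false, [3, 4, 5, 3, 6, 2, 6, 4, 5, 6]⟩] [⟨[24], 642, true, [0, 2, 5, 6, 5, 10, 5, 6, 2]⟩]),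
  (⟨false, 5, 2, [59, 52, 55, 33, 28, 17, 23, 18, 17], [66, 44, 47, 47, 33, 33, 31, 2, 17, 23, 25], [61, 54, 56, 31, 28, 36, 2, 17, 19, 25]⟩, .loop 17 2 [67, 51, 42, 36, 27, 40, 16, 16, 19, 23] 2 3 [⟨[], 140, false, [0, 6, 4, 10, 5, 6, 10]⟩] [⟨[23], 720, true, [4, 5, 3, 6, 2, 6, 4, 5, 10]⟩, ⟨[23, 24], 475, false, [6, 4, 5, 6, 5, 3, 6, 5]⟩]),
  (⟨false, 2, 2, [61, 51, 52, 38, 29, 2, 17, 23, 4, 10], [47, 50, 38, 33, 2, 23, 8, 23, 6], [66, 56, 50, 28, 36, 40, 16, 16, 18, 17]⟩, .loop 23 2 [62, 54, 44, 31, 29, 27, 16, 24, 6] 4 5 [⟨[24], 729, false, [3, 4, 5, 6, 1, 4, 5, 6, 5, 10]⟩, ⟨[23, 24, 23], 697, true, [5, 3, 6, 2, 4, 5]⟩] [⟨[23, 24], 225, true, [4, 5, 6, 10, 5, 6, 2, 4, 6]⟩]),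
  (⟨false, 2, 2, [52, 36, 32, 31, 2, 17, 23, 24, 17], [61, 54, 50, 33, 30, 32, 2, 23, 13, 23, 6], [60, 46, 44, 54, 34, 28, 2, 17, 17, 6, 23]⟩, .loop 29 2 [60, 57, 55, 30, 35, 40, 16, 16, 16, 20] 6 7 [⟨[], 942, true, [2, 4, 5, 6, 4, 6, 5, 10, 5]⟩, ⟨[24, 23], 978, false, [6, 4, 6, 4, 10, 5, 10]⟩, ⟨[23], 708, false, [3, 4, 5, 3]⟩] []),
  (⟨false, 2, 2, [62, 48, 53, 31, 36, 17, 23, 23, 17], [58, 54, 47, 31, 34, 27, 16, 11, 16, 21], [58, 48, 34, 29, 2, 23, 23, 8, 24]⟩, .loop 33 2 [67, 46, 48, 54, 34, 27, 38, 2, 17, 0, 23, 23] 4 5 [⟨[], 646, false, [0, 4, 10, 5, 3, 6, 4, 6, 4, 6]⟩, ⟨[66, 66, 38, 66, 38], 825, true, [1, 3, 6, 2, 4, 6, 5, 6, 10]⟩] [⟨[24], 972, true, [1, 3, 6, 5, 10, 5, 6, 4, 5]⟩]),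
  (⟨false, 2, 2, [33, 27, 2, 16, 16, 22], [63, 44, 43, 57, 30, 27, 31, 2, 23, 6, 23, 8], [61, 48, 43, 31, 33, 36, 2, 17, 17, 10, 17]⟩, .loop 17 2 [58, 45, 54, 35, 29, 34, 2, 23, 8, 23, 6] 4 5 [⟨[24], 849, false, [2, 3, 5, 6, 5, 6, 10, 5, 6, 2, 5]⟩, ⟨[23], 471, false, [0, 4, 5, 3, 6, 5, 10, 5]⟩] [⟨[24], 867, false, [0, 2, 6, 4, 6, 5, 3, 6, 2, 5]⟩]),
  (⟨false, 2, 2, [58, 52, 44, 36, 40, 30, 16, 16, 25], [66, 50, 55, 28, 40, 26, 2, 23, 23, 0], [66, 54, 50, 38, 34, 2, 16, 16]⟩, .loop 30 2 [59, 44, 55, 50, 28, 40, 26, 2, 23, 17, 24, 11] 6 7 [⟨[], 271, false, [1, 2, 6, 4, 6, 5, 3, 6, 2, 4, 6]⟩, ⟨[], 108, true, [1, 5, 6, 2, 5, 3, 6, 5]⟩, ⟨[50, 50, 21, 22], 81, false, [6, 2, 5, 6, 5, 3, 5, 6]⟩] []),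
  (⟨false, 5, 2, [63, 47, 48, 28, 38, 36, 16, 16, 16, 8], [61, 46, 57, 28, 38, 36, 2, 23, 23, 21, 16], [66, 51, 52, 28, 35, 31, 41, 16, 16, 4, 16]⟩, .loop 18 2 [63, 44, 57, 49, 28, 31, 34, 16, 19, 22] 2 3 [⟨[24], 576, true, [2, 4, 10, 5, 6, 5, 6, 10]⟩] [⟨[], 697, true, [2, 6, 2, 6, 10, 5, 3, 6, 2, 5]⟩, ⟨[], 815, true, [10, 5, 6, 1, 5, 10, 5]⟩]),
  (⟨false, 2, 2, [58, 44, 43, 53, 34, 31, 31, 16, 19, 6, 16], [61, 45, 56, 33, 28, 35, 16, 16, 8, 18], [66, 51, 42, 31, 26, 33, 16, 11]⟩, .loop 69 2 [67, 45, 45, 35, 29, 2, 17, 17, 8, 21] 2 3 [⟨[], 1009, true, [1, 2, 6, 10, 5, 6, 5, 3, 5, 6]⟩] [⟨[24, 23], 547, false, [0, 4, 6, 4, 10, 5, 6, 4, 5, 10]⟩, ⟨[24], 644, true, [1, 3, 5, 6, 4, 5, 6, 10]⟩]),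
  (⟨false, 2, 2, [66, 44, 57, 49, 38, 30, 26, 16, 4, 16, 2, 11], [63, 54, 52, 31, 29, 29, 2, 17, 17, 17, 10], [63, 47, 52, 30, 40, 31, 2, 23, 8, 23, 17]⟩, .loop 21 2 [58, 46, 48, 41, 34, 30, 2, 23, 17, 25, 12] 6 7 [⟨[24], 1061, true, [1, 2, 6, 2, 6, 4, 10, 5, 6, 4]⟩, ⟨[24], 413, false, [2, 5, 3, 6, 4, 6, 5, 3]⟩, ⟨[23], 910, false, [4, 5, 3, 6, 2, 4, 5, 6, 4, 6]⟩] []),
  (⟨false, 2, 2, [62, 44, 53, 41, 30, 16, 16, 4, 16], [67, 45, 50, 45, 30, 29, 26, 19, 6, 17], [66, 50, 44, 28, 31, 2, 23, 23, 18, 16]⟩, .loop 29 2 [59, 55, 34, 27, 28, 2, 23, 17, 24] 4 5 [⟨[24], 705, false, [0, 2, 4, 6, 4, 6, 10, 5, 3]⟩, ⟨[24, 23], 768, true, [1, 4, 6, 4, 5, 6, 4, 5, 10]⟩] [⟨[], 744, true, [5, 3, 5, 6, 1, 5, 3, 5, 6]⟩]),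
  (⟨false, 2, 2, [66, 55, 42, 30, 34, 31, 2, 17, 17, 17, 21], [63, 56, 31, 41, 28, 16, 16, 10, 22], [66, 44, 42, 45, 30, 29, 30, 16, 22, 22, 4]⟩, .loop 55 2 [61, 45, 42, 45, 34, 36, 31, 16, 10, 19] 6 7 [⟨[24], 519, true, [6, 4, 6, 4]⟩, ⟨[], 753, true, [5, 6, 4, 5, 10, 5, 6, 5, 10]⟩, ⟨[], 649, false, [1, 4, 5, 3, 6, 4, 5, 6, 2]⟩] [⟨[23, 24, 23], 486, false, [4, 5, 6, 1, 4, 10, 5, 3, 6, 2]⟩, ⟨[], 519, true, [2, 10, 5, 3, 6, 4, 5, 6, 4]⟩, ⟨[], 753, true, [1, 3, 6, 2, 4, 6]⟩, ⟨[], 649, false, [1, 4, 5, 6, 4, 5, 3, 6, 2, 5]⟩]),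
  (⟨false, 5, 2, [67, 45, 42, 51, 35, 29, 35, 16, 16, 19], [44, 42, 57, 34, 31, 41, 16, 16, 16, 22], [59, 45, 42, 51, 31, 34, 30, 2, 17, 23, 4, 20]⟩, .loop 70 2 [60, 50, 44, 34, 27, 16, 18] 4 5 [⟨[], 821, false, [1, 6, 2, 6, 5, 6, 4]⟩, ⟨[23], 466, false, [1, 4, 6, 5, 6, 10]⟩] [⟨[23, 24], 838, false, [2, 3, 5, 6, 1, 5, 10, 5, 6]⟩]),
  (⟨false, 3, 2, [45, 48, 31, 27, 31, 16, 16, 16, 4, 13], [58, 48, 55, 28, 34, 40, 17, 22, 21], [60, 44, 43, 51, 35, 37, 17, 22, 6, 23]⟩, .loop 33 2 [60, 51, 43, 31, 33, 38, 16, 16, 4, 25] 4 5 [⟨[], 421, false, [2, 6, 10, 5, 6, 10]⟩, ⟨[24, 23], 159, true, [5, 6, 4, 10, 5, 3, 6, 2, 6]⟩] [⟨[24, 23], 963, false, [5, 6, 4, 6, 2, 4, 5, 6, 10]⟩]),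
  (⟨false, 2, 2, [67, 45, 43, 45, 31, 29, 2, 23, 17, 22, 4], [59, 47, 52, 38, 29, 30, 16, 4, 16, 24], [62, 45, 50, 45, 28, 41, 33, 16, 19, 6, 10]⟩, .loop 46 2 [63, 44, 47, 28, 34, 31, 32, 2, 23, 23, 4, 6] 4 5 [⟨[24], 394, true, [1, 4, 6, 5, 10, 5, 6]⟩, ⟨[66, 66, 37, 38], 521, false, [2, 3, 6, 1, 4, 5, 3, 6, 5, 3]⟩] []),
  (⟨false, 2, 2, [63, 46, 56, 40, 28, 2, 23, 23, 10], [67, 44, 47, 34, 26, 34, 2, 17, 19, 22, 11], [58, 50, 50, 30, 26, 16, 11, 16, 22]⟩, .loop 23 2 [58, 46, 51, 35, 36, 2, 16, 6, 17, 6] 2 3 [⟨[], 549, false, [0, 4, 6, 10, 5, 6, 4, 10]⟩] [⟨[23], 509, false, [6, 5, 6, 4, 5, 3, 6, 4, 5]⟩, ⟨[23, 24, 23], 700, false, [1, 6, 4, 5, 6, 2, 6, 5, 6]⟩]),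
  (⟨false, 5, 2, [44, 43, 53, 31, 26, 36, 16, 16, 19, 17], [44, 42, 46, 38, 29, 30, 16, 16, 8, 16], [63, 52, 49, 30, 34, 29, 2, 17, 19, 22, 20]⟩, .loop 21 2 [60, 56, 28, 40, 31, 2, 17, 22, 22, 16] 6 7 [⟨[], 499, false, [0, 2, 3, 4, 5, 6, 2, 6, 4, 5]⟩, ⟨[], 134, true, [6, 5, 10, 5, 6, 4, 5, 3]⟩, ⟨[24, 23], 927, false, [0, 3, 6, 4, 6, 5, 6, 10, 5, 3]⟩] [])]

/-- facts 1088 and on -/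
def facts34 : List (Fact × Why) := [
  (⟨false, 2, 2, [66, 45, 42, 47, 28, 41, 35, 2, 23, 17, 24, 6], [58, 33, 29, 35, 16, 16, 20, 25], [60, 44, 55, 34, 40, 27, 2, 17, 18, 22, 18]⟩, .loop 16 2 [62, 44, 48, 43, 38, 28, 41, 16, 16, 19, 10] 4 5 [⟨[24], 1038, true, [2, 4, 6, 4, 5, 6, 5, 10]⟩, ⟨[24, 23], 658, true, [6, 5, 3, 5, 6, 4, 6, 5]⟩] [⟨[], 732, false, [10, 5, 6, 2, 5, 6, 2, 10]⟩]),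
  (⟨false, 2, 2, [61, 57, 38, 32, 34, 2, 23, 17, 25], [60, 45, 53, 48, 34, 31, 16, 16, 2, 11], [57, 28, 34, 30, 2, 17, 22, 6, 16]⟩, .loop 71 2 [62, 50, 55, 28, 30, 38, 2, 17, 23, 18, 21] 2 3 [⟨[], 304, false, [3, 6, 5, 3, 6, 4, 6, 2, 4, 5]⟩] [⟨[23], 715, true, [0, 3, 6, 4, 5, 6, 10]⟩, ⟨[23], 660, true, [1, 2, 4, 5, 3, 6, 4, 5, 6, 5, 3]⟩]),
  (⟨false, 2, 2, [67, 47, 54, 35, 37, 2, 17, 17], [67, 44, 57, 49, 28, 31, 27, 16, 16, 19, 11], [63, 47, 44, 51, 28, 31, 26, 2, 23, 4]⟩, .loop 29 2 [58, 45, 56, 31, 35, 26, 2, 17, 17, 25] 6 7 [⟨[], 757, true, [4, 5, 6, 2, 6, 4, 6, 10, 5]⟩, ⟨[23, 24, 23], 647, true, [0, 2, 4, 5, 3, 6, 5, 6, 10]⟩, ⟨[23, 24, 23], 356, false, [3, 4, 6, 2, 5, 6, 5, 3, 5]⟩] []),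
  (⟨false, 2, 2, [67, 45, 31, 34, 41, 2, 17, 23, 4, 20], [61, 45, 56, 50, 35, 28, 2, 23, 8, 17], [44, 51, 38, 35, 36, 2, 17, 17, 23]⟩, .loop 46 2 [67, 52, 48, 34, 36, 35, 2, 17, 23, 17] 4 5 [⟨[], 1051, false, [3, 5, 3, 6, 4, 5, 3, 6, 2]⟩, ⟨[24, 23], 1031, false, [0, 5, 3, 5, 6, 4, 6, 2, 6]⟩] []),
  (⟨false, 5, 2, [56, 30, 29, 40, 16, 21, 16, 8], [67, 54, 47, 33, 40, 38, 17, 17, 23, 20], [60, 50, 42, 30, 26, 41, 16, 19, 22, 25]⟩, .loop 21 2 [62, 44, 51, 48, 28, 40, 37, 2, 17, 17, 18, 23] 4 5 [⟨[23], 445, false, [0, 4, 6, 4, 6, 4, 5, 6, 2, 10, 5]⟩, ⟨[], 122, true, [2, 6, 1, 2, 5, 3, 6, 4]⟩] [⟨[], 528, false, [6, 1, 4, 5, 6, 2, 6, 10, 5]⟩]),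
  (⟨false, 2, 2, [60, 45, 43, 45, 33, 30, 36, 17, 23, 4], [67, 55, 49, 28, 38, 29, 16, 2, 24, 6], [51, 47, 28, 40, 26, 2, 17, 18, 22, 18]⟩, .loop 67 2 [66, 48, 46, 33, 30, 32, 2, 17, 17, 23, 11] 2 3 [⟨[23, 24, 23], 259, false, [3, 5, 3, 6, 2, 6, 4, 6, 5]⟩] [⟨[], 660, true, [3, 5, 6, 4, 6, 2, 5, 3]⟩, ⟨[24], 284, true, [4, 5, 3, 5, 6, 1, 4, 5, 3]⟩]),
  (⟨false, 2, 2, [51, 46, 33, 36, 30, 2, 23], [67, 44, 53, 31, 27, 2, 23, 23, 11, 16], [58, 46, 51, 55, 35, 35, 29, 2, 16, 6, 23, 20]⟩, .loop 69 2 [44, 56, 34, 26, 2, 23, 18, 6, 22] 6 7 [⟨[24, 23], 427, false, [2, 6, 4, 5, 6, 2, 6, 5, 10]⟩, ⟨[23], 777, true, [5, 3, 6, 5, 6, 4, 6, 10]⟩, ⟨[23, 24], 748, false, [2, 5, 3, 6, 2, 4, 5, 6, 5, 10]⟩] []),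
  (⟨false, 2, 2, [61, 50, 46, 28, 34, 27, 16, 19, 16, 6], [59, 47, 49, 33, 29, 17, 22, 6, 22], [50, 44, 35, 31, 32, 2, 17, 23, 23, 13]⟩, .loop 66 2 [67, 44, 42, 47, 28, 30, 38, 16, 16, 16, 19] 2 3 [⟨[23, 24, 23], 603, true, [1, 2, 10, 5, 6, 5, 3]⟩] [⟨[], 856, false, [2, 4, 6, 4, 10, 5, 6]⟩, ⟨[23], 499, false, [6, 2, 6, 2, 4, 5, 3, 6, 4]⟩]),
  (⟨false, 2, 2, [60, 47, 44, 51, 30, 40, 34, 16, 2, 24, 6, 17], [47, 55, 33, 29, 16, 16, 21, 24], [58, 44, 43, 53, 28, 41, 34, 17, 17, 22, 16]⟩, .loop 73 2 [60, 45, 50, 36, 35, 16, 4, 16] 6 7 [⟨[], 901, false, [5, 6, 2, 6, 10, 5, 6, 2, 6, 4]⟩, ⟨[66, 37, 66, 37], 406, false, [4, 6, 5, 6, 10, 5, 6, 2, 4, 5]⟩, ⟨[24], 966, false, [2, 3, 5, 6, 2, 5, 6, 4, 6]⟩] []),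
  (⟨false, 2, 2, [61, 48, 45, 30, 37, 27, 16, 16, 4, 25], [66, 47, 31, 36, 41, 2, 17, 6], [67, 44, 42, 46, 41, 30, 28, 2, 17, 22, 22, 10]⟩, .loop 19 2 [60, 48, 50, 28, 40, 33, 2, 23, 23, 16, 8] 4 5 [⟨[23, 24], 1062, false, [1, 2, 3, 6, 5, 6, 4, 6, 5]⟩, ⟨[24], 126, false, [2, 3, 6, 4, 5, 6, 2, 10]⟩] [⟨[24, 23], 553, true, [3, 6, 1, 2, 4, 6, 5, 6, 10]⟩]),
  (⟨false, 5, 2, [60, 48, 45, 41, 33, 16, 16, 2, 11], [50, 30, 27, 28, 2, 17, 17, 17, 21], [44, 56, 46, 28, 41, 27, 2, 17, 23, 13]⟩, .loop 22 2 [58, 44, 46, 44, 35, 28, 31, 2, 17, 17, 19, 6] 2 3 [⟨[23], 214, true, [2, 3, 5, 6, 5, 3, 6, 2, 6, 4]⟩] [⟨[24, 23], 1049, true, [0, 4, 6, 4, 10, 5, 6, 2, 4]⟩, ⟨[24, 23], 425, true, [2, 6, 4, 6, 5, 3]⟩]),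
  (⟨false, 2, 2, [45, 42, 51, 30, 26, 41, 16, 16, 16, 11], [60, 44, 48, 43, 40, 28, 2, 17, 22, 22, 11], [62, 47, 52, 33, 31, 36, 16, 10, 18]⟩, .loop 47 2 [62, 47, 55, 34, 31, 41, 17, 23, 23, 17] 2 3 [⟨[23], 1023, true, [1, 6, 2, 6, 4, 6, 5, 3, 6, 2]⟩] [⟨[23, 24], 952, true, [3, 6, 4, 5, 3, 6, 2, 4, 5]⟩]),
  (⟨false, 2, 2, [44, 42, 46, 28, 35, 31, 41, 2, 23, 4, 19], [58, 44, 47, 52, 30, 34, 28, 17, 23, 17, 2], [58, 45, 56, 55, 34, 26, 2, 17, 17, 6, 16]⟩, .loop 49 2 [61, 57, 55, 35, 30, 2, 23, 23, 24] 4 5 [⟨[], 1048, false, [1, 10, 5, 6, 10, 5, 3, 6, 4, 5]⟩, ⟨[24, 23], 850, false, [1, 6, 2, 10, 5, 6, 4, 5, 10, 5]⟩] []),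
  (⟨false, 2, 2, [59, 51, 44, 33, 27, 34, 17, 17, 17], [58, 47, 53, 28, 35, 40, 16, 16, 11, 18, 23], [60, 50, 44, 40, 28, 40, 2, 17, 17, 24, 17]⟩, .loop 34 4 [59, 44, 30, 40, 28, 16, 16, 2, 0] 4 5 [⟨[63], 110, true, [6, 1, 5, 3, 5, 6, 4, 5, 3]⟩, ⟨[23], 1014, true, [3, 4, 6, 5, 6, 4, 5, 3, 6]⟩] [⟨[29, 63, 61, 28], 645, true, [2, 6, 5, 3, 6, 2, 6, 4, 5]⟩]),
  (⟨false, 2, 2, [45, 50, 42, 35, 31, 16, 16, 2, 16], [62, 45, 43, 33, 29, 35, 18, 23, 17, 17], [63, 46, 53, 38, 34, 16, 21, 16, 21]⟩, .loop 72 2 [63, 48, 53, 41, 28, 32, 16, 8, 17, 23] 2 3 [⟨[], 647, true, [1, 3, 4, 6, 4, 6, 5, 3]⟩] [⟨[23, 24, 23], 454, true, [3, 4, 5, 6, 2, 6, 4, 10, 5, 3]⟩, ⟨[63, 53, 27], 687, false, [4, 6, 4, 10, 5, 6, 2, 4]⟩]),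
  (⟨false, 2, 5, [62, 49, 46, 36, 27, 36, 16, 16, 16, 19], [58, 54, 40, 27, 2, 17, 17, 13, 24], [61, 46, 48, 54, 34, 36, 30, 2, 16, 6, 17, 17]⟩, .loop 21 5 [61, 45, 53, 48, 31, 28, 41, 2, 17, 17, 17, 13] 6 7 [⟨[66, 38], 343, false, [0, 10, 5, 6, 2, 5, 6, 10, 5]⟩, ⟨[24, 23], 715, true, [1, 3, 4, 5, 6, 10, 5, 10]⟩, ⟨[24], 390, true, [2, 6, 5, 6, 5, 3, 5]⟩] []),
  (⟨false, 5, 2, [61, 44, 42, 47, 33, 36, 38, 16, 16, 4, 8], [60, 45, 53, 34, 28, 16, 16, 20, 22], [61, 48, 31, 41, 16, 11, 17]⟩, .loop 30 2 [63, 44, 42, 48, 28, 36, 29, 27, 16, 16, 16, 4, 13] 6 7 [⟨[], 761, true, [1, 2, 5, 3, 6, 2, 5, 6, 5, 10]⟩, ⟨[23], 375, false, [1, 3, 6, 4, 5, 6, 10, 5, 6, 4]⟩, ⟨[24], 166, true, [6, 5, 3, 5, 6, 5, 3, 5]⟩] []),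
  (⟨false, 2, 2, [60, 44, 49, 33, 28, 2, 17, 23, 20, 25], [63, 44, 43, 28, 40, 31, 17, 23, 18, 23], [60, 46, 51, 41, 34, 30, 2, 23, 23, 4]⟩, .loop 22 2 [58, 47, 50, 33, 35, 2, 17, 17, 18, 16] 4 5 [⟨[], 732, true, [2, 4, 6, 4, 10, 5, 6, 2, 5]⟩, ⟨[23, 24], 1070, false, [1, 6, 4, 5, 3, 5, 6, 5, 3, 5]⟩] [⟨[24], 669, false, [5, 6, 1, 4, 5, 6, 2, 6, 10]⟩]),
  (⟨false, 2, 2, [62, 45, 50, 34, 38, 2, 17, 17, 17], [67, 46, 46, 28, 34, 33, 16, 21, 16, 10], [61, 44, 53, 56, 28, 31, 35, 2, 17, 0, 23, 23]⟩, .loop 49 2 [60, 47, 44, 51, 34, 27, 41, 16, 16, 20, 8] 4 5 [⟨[23], 605, true, [3, 4, 6, 1, 4, 5, 3]⟩, ⟨[23], 324, true, [2, 5, 3, 6, 1, 5, 3, 6, 5]⟩] []),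
  (⟨false, 2, 2, [44, 46, 57, 30, 32, 30, 16, 11, 16, 21], [66, 46, 46, 30, 30, 36, 16, 4, 16, 13], [66, 44, 47, 44, 31, 34, 41, 2, 23, 6, 23, 8]⟩, .loop 19 2 [61, 44, 57, 49, 33, 34, 30, 2, 17, 17, 22, 24] 2 3 [⟨[], 603, true, [0, 2, 5, 6, 2, 4, 5, 10]⟩] [⟨[24, 23], 902, true, [0, 4, 10, 5, 6, 2, 5, 6, 5]⟩, ⟨[24, 23], 815, true, [1, 2, 6, 4, 6, 5, 3, 5, 6, 2]⟩]),
  (⟨false, 2, 2, [63, 45, 50, 42, 31, 29, 29, 17, 22, 21], [56, 53, 28, 35, 28, 2, 23, 4, 6, 17], [58, 46, 46, 28, 26, 41, 16, 4, 16, 10, 21]⟩, .loop 66 4 [62, 49, 46, 28, 35, 41, 2, 23, 17, 19] 4 5 [⟨[30], 363, true, [1, 2, 5, 6, 4, 6, 10, 5, 6]⟩, ⟨[24], 898, false, [3, 5, 6, 1, 4, 6, 10, 5, 6, 2]⟩] [⟨[63, 61, 61, 28, 63], 725, false, [0, 2, 6, 5, 6, 2, 4, 10]⟩]),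
  (⟨false, 2, 2, [60, 51, 35, 36, 30, 2, 23, 17, 6, 24], [60, 46, 49, 28, 38, 37, 16, 16, 11, 18], [66, 44, 57, 49, 34, 37, 37, 19, 6, 17, 22]⟩, .loop 22 2 [67, 44, 51, 46, 30, 26, 41, 16, 4, 16, 2, 11] 4 5 [⟨[23, 24, 23], 733, true, [0, 2, 4, 5, 6, 10, 5, 3]⟩, ⟨[23], 850, true, [4, 10, 5, 6, 4, 6, 5, 10, 5]⟩] [⟨[24], 1011, true, [2, 10, 5, 6, 4, 5, 6, 2, 6]⟩]),
  (⟨false, 2, 2, [45, 45, 36, 29, 31, 16, 10, 17, 17], [63, 48, 53, 35, 28, 31, 2, 17, 17, 19], [59, 47, 53, 31, 34, 30, 16, 11, 16, 4]⟩, .loop 46 2 [60, 45, 45, 33, 27, 31, 2, 23, 17] 4 5 [⟨[], 779, true, [4, 10, 5, 6, 5, 3, 5, 6, 4, 5]⟩, ⟨[24], 616, false, [1, 2, 5, 6, 4, 6, 10, 5, 3]⟩] []),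
  (⟨false, 2, 2, [67, 45, 42, 30, 40, 26, 2, 23, 10, 23, 23], [66, 45, 49, 28, 31, 28, 16, 11, 17, 6], [67, 55, 28, 31, 37, 16, 16, 2, 10]⟩, .loop 72 5 [58, 45, 42, 51, 28, 26, 40, 16, 24, 16, 21] 4 5 [⟨[66, 66, 38], 863, true, [6, 2, 4, 5, 6, 10]⟩, ⟨[23, 24, 23], 513, true, [3, 5, 3, 6, 5, 6, 4, 10]⟩] [⟨[66, 37, 66, 37], 361, false, [2, 5, 6, 1, 4, 5, 3, 6, 2, 5]⟩]),
  (⟨false, 2, 2, [60, 48, 57, 28, 40, 30, 16, 16, 2, 4, 11], [58, 44, 42, 45, 28, 30, 26, 34, 2, 17, 17, 19, 10], [62, 44, 43, 35, 29, 36, 2, 23, 17, 22, 4]⟩, .loop 22 2 [67, 52, 44, 28, 38, 30, 16, 4, 16, 18] 4 5 [⟨[], 610, false, [1, 4, 6, 2, 6, 4, 10]⟩, ⟨[24, 23], 795, true, [6, 10, 5, 3, 6, 2, 6, 4, 5]⟩] [⟨[23, 24], 1046, false, [2, 6, 5, 6, 4, 6, 5, 6, 5, 10]⟩]),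
  (⟨false, 2, 2, [63, 47, 47, 52, 28, 41, 28, 2, 17, 23, 6, 20], [59, 55, 49, 31, 28, 40, 2, 23, 23, 11], [67, 51, 35, 30, 26, 16, 16, 24, 12]⟩, .loop 20 2 [67, 51, 57, 30, 34, 29, 16, 4, 16, 24] 2 3 [⟨[23], 1107, false, [3, 4, 5, 3, 6, 2]⟩] [⟨[24], 853, true, [5, 6, 5, 6, 2, 6, 10, 5]⟩, ⟨[24, 23], 801, false, [6, 2, 6, 4, 5, 6, 4]⟩]),
  (⟨false, 2, 2, [61, 44, 42, 51, 30, 35, 41, 16, 16, 24, 17], [58, 44, 56, 28, 34, 30, 2, 23, 23, 23, 24], [63, 49, 57, 28, 35, 16, 2, 11]⟩, .loop 73 2 [48, 44, 31, 29, 27, 2, 17, 17, 6, 10] 2 3 [⟨[], 731, false, [1, 6, 5, 6, 4, 5, 3, 6, 5, 10]⟩] [⟨[], 293, false, [10, 5, 3, 6, 4]⟩, ⟨[24, 23], 975, true, [5, 6, 1, 4, 5, 3, 6, 2]⟩]),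
  (⟨false, 2, 2, [67, 44, 42, 57, 30, 37, 30, 16, 24, 17, 6], [45, 49, 31, 33, 34, 16, 19, 6, 16], [58, 44, 42, 57, 31, 41, 26, 16, 16, 19, 11]⟩, .loop 44 2 [45, 49, 33, 35, 28, 16, 10, 16, 21] 2 3 [⟨[23], 966, true, [0, 2, 4, 6, 2, 5, 6, 2, 6]⟩] [⟨[23, 24], 598, true, [2, 4, 10, 5, 6, 2, 6, 5, 6]⟩]),
  (⟨false, 2, 2, [58, 50, 47, 16, 24], [61, 51, 49, 34, 31, 16, 22, 19, 17], [48, 47, 35, 40, 31, 2, 16, 6, 23, 20]⟩, .loop 17 2 [67, 44, 53, 56, 30, 30, 38, 16, 16, 18, 17] 6 7 [⟨[], 583, false, [3, 6, 5, 6, 4, 10, 5, 3, 6]⟩, ⟨[23], 692, true, [2, 3, 5, 6, 5, 10, 5, 6, 2, 5]⟩, ⟨[], 401, true, [1, 5, 6, 10, 5, 6, 5, 10, 5, 6]⟩] []),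
  (⟨false, 2, 2, [61, 49, 45, 31, 26, 34, 16, 11, 16, 18], [66, 54, 43, 30, 37, 31, 16, 16, 18, 17], [58, 51, 43, 30, 26, 35, 2, 16, 16, 6, 18]⟩, .loop 17 2 [63, 49, 42, 31, 41, 28, 2, 17, 23, 18] 2 3 [⟨[], 717, false, [6, 5, 6, 2, 5, 6, 4, 6, 5]⟩] [⟨[23, 24], 935, false, [0, 6, 10, 5, 6, 2, 6, 4, 5, 6]⟩, ⟨[24, 23], 456, false, [2, 5, 6, 2, 10, 5, 6, 2, 6]⟩]),
  (⟨false, 2, 2, [66, 52, 38, 34, 16, 11, 17, 6], [67, 54, 52, 41, 41, 16, 21, 16, 4], [44, 46, 48, 28, 26, 37, 16, 22]⟩, .loop 66 2 [60, 47, 48, 28, 40, 37, 16, 16, 19, 20] 4 5 [⟨[], 1017, false, [6, 10, 5, 6, 4, 10, 5, 6]⟩, ⟨[23], 429, false, [2, 4, 6, 5, 6, 4, 5, 10]⟩] [⟨[24, 23], 492, false, [2, 10, 5]⟩]),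
  (⟨false, 2, 2, [62, 44, 55, 50, 30, 32, 2, 23, 23, 11], [62, 44, 43, 53, 36, 40, 35, 2, 17, 23, 10, 21], [49, 44, 36, 30, 16, 2, 0, 16]⟩, .loop 31 2 [49, 53, 33, 38, 16, 16, 13, 16] 2 3 [⟨[], 1055, true, [5, 3, 6, 2, 5, 6, 5, 10]⟩] [⟨[], 859, true, [6, 4, 10, 5, 6, 4, 10, 5, 10]⟩, ⟨[23, 24], 1033, true, [1, 5, 10, 5, 6, 4, 6]⟩])]

/-- facts 1120 and on -/
def facts35 : List (Fact × Why) := [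
  (⟨false, 2, 2, [66, 45, 42, 51, 30, 29, 2, 23, 4, 6, 23], [60, 44, 56, 38, 31, 35, 2, 17, 17, 6, 16], [61, 55, 42, 28, 34, 36, 16, 16, 16, 11]⟩, .loop 65 2 [47, 49, 56, 28, 35, 31, 2, 23, 17] 6 7 [⟨[24], 273, true, [2, 6, 4, 5, 3, 5, 6, 5, 10]⟩, ⟨[23, 24, 23], 1012, true, [0, 2, 10, 5, 3, 6, 4, 5, 3, 6]⟩, ⟨[23], 432, false, [3, 4, 5, 6, 1, 4, 5, 6, 4]⟩] [⟨[23, 24], 902, true, [6, 1, 4, 5, 6, 4, 10, 5]⟩, ⟨[], 942, false, [1, 6, 2, 6, 4, 6]⟩, ⟨[24], 1010, false, [0, 3, 6, 2, 5, 6, 4, 6, 5]⟩, ⟨[24, 23], 1119, false, [1, 4, 6, 5, 6, 2, 4, 6, 10]⟩]),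
  (⟨false, 2, 2, [59, 45, 52, 28, 30, 35, 17, 23, 23, 17], [62, 45, 54, 45, 31, 36, 34, 2, 17, 23, 20, 11], [66, 47, 51, 33, 28, 37, 16, 21]⟩, .loop 23 2 [60, 46, 42, 38, 33, 40, 16, 21, 16, 22] 2 3 [⟨[], 504, false, [1, 5, 6, 4, 10, 5, 6, 5]⟩] [⟨[23], 900, false, [6, 4, 5, 6, 2, 6, 2]⟩, ⟨[66, 38, 66, 66, 38], 542, false, [10, 5, 6, 1, 2]⟩]),
  (⟨false, 2, 2, [66, 46, 42, 51, 30, 27, 27, 16, 16, 16], [62, 51, 46, 35, 31, 29, 17, 17], [67, 54, 28, 31, 40, 16, 2, 0, 16]⟩, .loop 62 2 [66, 49, 56, 28, 26, 36, 16, 16, 4] 4 5 [⟨[], 748, false, [4, 5, 6, 10, 5, 6, 4, 10, 5, 10]⟩, ⟨[23, 24], 183, true, [1, 5, 6, 2, 6, 2, 4, 5]⟩] [⟨[23], 719, true, [0, 3, 6, 5, 6, 10, 5, 6, 4, 10]⟩, ⟨[24], 424, true, [2, 3, 4, 5, 6, 2, 10, 5, 6, 2, 6]⟩, ⟨[24], 677,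 false, [2, 5, 6, 5, 3, 6, 4, 6, 2, 6]⟩, ⟨[], 776, false, [1, 4, 6, 5, 3, 5, 6, 5, 10]⟩, ⟨[24], 850, false, [3, 5, 6, 1, 4, 5, 10, 5]⟩]),
  (⟨false, 2, 2, [66, 49, 56, 35, 29, 16, 16, 19, 11], [50, 48, 38, 28, 41, 2, 23, 17, 22, 11], [66, 50, 50, 35, 28, 37, 17, 23, 23]⟩, .loop 32 2 [58, 57, 30, 28, 41, 2, 23, 17, 2, 22] 6 7 [⟨[], 808, false, [1, 6, 4, 6, 10, 5, 6, 4, 10, 5]⟩, ⟨[23, 24], 522, true, [2, 6, 2, 4, 5, 3, 6, 4, 5, 10]⟩, ⟨[23], 741, true, [2, 3, 4, 6, 4, 5, 6, 2, 10, 5]⟩] []),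
  (⟨false, 2, 5, [58, 44, 48, 52, 41, 30, 16, 25, 22], [62, 55, 43, 28, 38, 29, 16, 11, 23, 16, 16], [51, 53, 31, 41, 36, 16, 16, 18, 11]⟩, .loop 31 2 [67, 52, 36, 28, 16, 24, 17, 6] 4 5 [⟨[], 864, true, [4, 5, 6, 5, 6, 4]⟩, ⟨[], 677, false, [1, 5, 3, 6, 4, 5, 10, 5, 6, 5]⟩] [⟨[23, 24], 301, true, [0, 4, 6, 2, 4, 5, 3, 6, 5]⟩]),
  (⟨false, 2, 2, [60, 45, 56, 50, 41, 30, 16, 16, 4, 16], [58, 47, 55, 30, 32, 35, 2, 23, 17, 19, 6], [61, 44, 57, 30, 28, 37, 2, 17, 23, 17, 8]⟩, .loop 19 2 [62, 44, 46, 38, 29, 30, 16, 4, 16, 22] 6 7 [⟨[], 786, false, [6, 2, 10, 5, 6, 4, 6]⟩, ⟨[66, 37, 66, 66, 38], 335, true, [1, 5, 3, 6, 5, 6, 2, 6, 10]⟩, ⟨[61, 63, 63, 27], 493, false, [3, 5, 6, 4, 6, 4, 5, 10, 5, 6]⟩] []),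
  (⟨false, 2, 2, [62, 48, 42, 34, 36, 30, 16, 18], [61, 46, 56, 28, 38, 33, 17, 17, 17, 10], [67, 44, 46, 48, 31, 36, 35, 2, 23, 17, 24, 23]⟩, .loop 19 2 [67, 44, 42, 57, 31, 33, 36, 2, 17, 23, 20, 6] 2 3 [⟨[23], 1012, false, [0, 4, 6, 4, 10, 5, 6, 10, 5, 10]⟩] [⟨[23], 1034, false, [1, 6, 2, 6, 4, 10, 5, 6]⟩, ⟨[], 765, false, [0, 5, 6, 5, 10, 5, 6]⟩]),
  (⟨false, 2, 2, [61, 54, 44, 30, 32, 2, 17, 17, 22, 11], [59, 57, 53, 36, 29, 16, 16, 4, 11], [66, 44, 51, 31, 37, 29, 16, 21, 17, 17]⟩, .loop 31 2 [63, 50, 50, 31, 27, 2, 17, 17, 10, 22] 4 5 [⟨[], 268, false, [0, 2, 6, 5, 6, 4, 6, 5, 10]⟩, ⟨[38], 718, true, [1, 2, 10, 5, 6, 2, 6, 5]⟩] [⟨[], 899, false, [1, 4, 5, 6, 2, 6, 4, 6, 10, 5]⟩]),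
  (⟨false, 2, 2, [67, 49, 57, 40, 38, 2, 17, 25, 6], [67, 45, 52, 35, 28, 31, 16, 16, 4, 22], [49, 33, 38, 36, 2, 23, 23, 8, 24]⟩, .loop 73 2 [58, 55, 30, 27, 28, 2, 17, 23, 20, 11] 2 3 [⟨[24, 23], 964, true, [2, 6, 1, 4, 6, 2, 5, 3]⟩] [⟨[24, 23], 191, true, [6, 2, 4, 5, 6, 2, 5]⟩, ⟨[], 344, false, [6, 1, 5, 3, 6, 5, 6, 4]⟩]),
  (⟨false, 2, 5, [63, 48, 43, 35, 35, 35, 2, 17, 0], [63, 54, 52, 33, 31, 32, 16, 16, 18, 21], [63, 45, 54, 31, 34, 30, 19, 6, 17, 22]⟩, .loop 49 2 [58, 44, 55, 52, 28, 31, 28, 2, 23, 6, 23, 16] 2 3 [⟨[23], 1118, true, [2, 6, 4, 6, 10, 5, 6, 2, 4, 6]⟩] [⟨[24], 386, false, [3, 4, 5, 6, 1, 2, 6, 4, 10, 5]⟩]),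
  (⟨false, 2, 2, [66, 45, 43, 28, 41, 34, 16, 16, 16, 13], [58, 45, 54, 56, 28, 30, 38, 16, 16, 4, 13, 17], [66, 47, 36, 28, 38, 16, 16, 20, 19]⟩, .loop 33 2 [62, 56, 50, 31, 36, 41, 16, 16, 25, 18] 4 5 [⟨[24], 344, true, [1, 6, 2, 5, 6, 2, 10, 5]⟩, ⟨[23], 963, true, [5, 3, 6, 4, 5, 6, 2]⟩] [⟨[24, 23], 980, true, [0, 6, 2, 6, 5, 6, 2, 6, 10, 5]⟩]),
  (⟨false, 2, 2, [58, 44, 47, 47, 28, 40, 2, 17, 22, 6], [63, 46, 46, 33, 34, 40, 16, 16, 2, 21], [67, 48, 50, 28, 36, 16, 8, 17]⟩, .loop 59 2 [60, 51, 28, 41, 27, 2, 17, 23, 23] 14 15 [⟨[24], 424, false, [0, 6, 4, 6, 4, 6, 10, 5, 3]⟩, ⟨[23], 928, true, [5, 3, 5, 6, 1, 4, 6]⟩, ⟨[24], 632, true, [1, 3, 6, 2, 6, 5, 10, 5, 6, 2]⟩, ⟨[24], 183, false, [3, 6, 5, 6, 4, 5, 3, 6, 5]⟩, ⟨[24], 1048, false,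 [0, 4, 10, 5, 6, 4, 6, 5, 6, 5]⟩, ⟨[24, 23], 850, false, [0, 2, 3, 5, 6, 4, 6, 2, 5]⟩, ⟨[24, 23], 822, true, [5, 3, 6, 1, 2, 4, 5, 6, 5]⟩] []),
  (⟨false, 2, 2, [60, 47, 48, 31, 41, 2, 17, 17, 23, 13], [60, 46, 51, 34, 27, 2, 23, 17], [62, 54, 50, 38, 2, 17, 23, 11, 17]⟩, .loop 70 2 [50, 46, 34, 27, 28, 2, 17, 17, 24, 22] 4 5 [⟨[23], 216, true, [2, 6, 5, 10, 5, 6, 2, 5, 6, 4]⟩, ⟨[24, 23], 284, true, [2, 6, 5, 6, 4, 6, 5]⟩] [⟨[23], 1031, true, [3, 5, 6, 1, 2, 6, 4, 6, 10]⟩]),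
  (⟨false, 2, 2, [61, 57, 53, 33, 38, 36, 16, 16, 8, 21], [62, 48, 50, 34, 38, 28, 2, 17, 17, 13, 24], [58, 44, 57, 49, 38, 33, 16, 19, 6]⟩, .loop 32 2 [67, 45, 42, 45, 36, 32, 31, 2, 17, 23, 24, 21] 4 5 [⟨[], 349, false, [3, 6, 1, 2, 4, 5, 6, 5, 10]⟩, ⟨[], 461, false, [0, 5, 6, 10, 5, 6, 2, 10, 5, 6]⟩] [⟨[24], 1041, false, [1, 5, 3, 6, 5, 10, 5, 6, 4, 6, 5]⟩]),
  (⟨false, 2, 2, [48, 57, 33, 34, 41, 2, 23, 17, 25, 6], [58, 46, 44, 54, 28, 41, 33, 16, 11, 23], [58, 44, 42, 47, 33, 40, 38, 17, 22, 6, 17]⟩, .loop 46 5 [60, 51, 53, 28, 34, 37, 2, 23, 8, 17, 17] 2 3 [⟨[], 895, true, [6, 5, 10, 5, 6, 2]⟩] [⟨[66, 38, 66, 38], 1124, true, [5, 6, 1, 2, 6, 10, 5, 10]⟩]),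
  (⟨false, 2, 2, [59, 49, 53, 36, 27, 36, 2, 23, 10, 23, 4], [62, 45, 54, 31, 37, 16, 24, 16, 21], [61, 54, 56, 33, 31, 36, 2, 17, 17]⟩, .loop 69 2 [58, 50, 55, 38, 28, 41, 16, 16, 2, 4, 24] 4 5 [⟨[], 146, false, [4, 6, 1, 2, 5, 3, 6, 4, 5, 3]⟩, ⟨[63, 63, 61, 61, 27], 184, false, [6, 5, 3, 6, 2, 6, 4, 5, 10, 5, 6]⟩] [⟨[23, 24, 23], 417, false, [1, 2, 3, 6, 4, 5, 3, 6, 2, 4]⟩]),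
  (⟨false, 2, 2, [66, 51, 49, 28, 40, 31, 2, 17, 23, 25], [58, 46, 44, 36, 27, 27, 2, 23, 17, 19, 22], [59, 52, 30, 35, 40, 28, 2, 17, 23, 10, 21]⟩, .loop 18 2 [62, 55, 46, 30, 35, 35, 2, 23, 23, 25] 2 3 [⟨[], 552, true, [0, 3, 5, 6, 4, 5, 6, 2, 6, 2, 10]⟩] [⟨[24, 23], 890, true, [0, 6, 4, 6, 4, 10, 5, 3]⟩, ⟨[23, 24, 23], 552, false, [1, 3, 5, 6, 2, 5, 6, 4, 5]⟩]),
  (⟨false, 2, 2, [60, 55, 47, 31, 29, 37, 2, 17, 17, 0, 11], [56, 50, 28, 36, 32, 2, 23, 17, 6], [63, 45, 53, 40, 30, 16, 4, 16, 10, 21]⟩, .loop 21 2 [61, 47, 49, 31, 34, 27, 2, 17, 17, 17, 20] 2 3 [⟨[], 684, false, [2, 3, 6, 2, 6, 4, 5, 6, 2, 10]⟩] [⟨[23, 24], 840, true, [10, 5, 6, 5, 3, 6]⟩, ⟨[24], 1012, false, [4, 5, 3, 5, 6, 5, 3, 5, 6, 4]⟩]),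
  (⟨false, 2, 2, [58, 46, 49, 36, 31, 2, 23, 10, 23, 4], [60, 48, 47, 28, 30, 26, 2, 23, 17, 24, 23], [62, 47, 54, 41, 29, 40, 17, 23, 18, 23]⟩, .loop 30 2 [66, 50, 47, 33, 35, 29, 2, 23, 10, 23, 4] 2 3 [⟨[24], 787, false, [3, 4, 5, 6, 4, 5, 6, 2]⟩] [⟨[23, 24], 1002, true, [5, 6, 1, 2, 6, 4, 6, 5]⟩, ⟨[23, 24], 541, true, [6, 1, 4, 5, 6, 4, 6]⟩]),
  (⟨false, 2, 2, [55, 46, 28, 36, 32, 2, 17, 23, 11, 24], [63, 44, 47, 30, 26, 28, 2, 23, 24], [62, 44, 42, 31, 29, 2, 23, 8, 17, 25]⟩, .loop 22 2 [60, 44, 42, 46, 30, 41, 29, 16, 16, 4, 11] 4 5 [⟨[24, 23], 710, false, [0, 2, 4, 5]⟩, ⟨[23, 24, 23], 450, false, [1, 6, 5, 3, 6, 2, 6, 4, 6]⟩] [⟨[24], 183, true, [1, 5, 6, 5, 6, 2, 6, 4, 6, 10]⟩]),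
  (⟨false, 2, 2, [62, 44, 49, 38, 28, 2, 17, 23, 17], [66, 44, 56, 28, 30, 41, 41, 16, 2, 16], [66, 44, 43, 53, 34, 40, 2, 17, 25, 19]⟩, .loop 67 2 [59, 45, 42, 30, 26, 34, 2, 17, 22, 16] 2 3 [⟨[23, 24], 907, false, [4, 10, 5, 6, 2, 5, 6, 2, 10]⟩] [⟨[23, 24], 332, true, [1, 2, 3, 5, 6, 4, 5, 6, 2, 10]⟩, ⟨[24], 905, false, [1, 4, 10, 5, 3, 6, 5, 3]⟩]),
  (⟨false, 2, 2, [63, 57, 55, 28, 34, 41, 18, 23, 18], [45, 31, 36, 34, 2, 17, 23, 20], [61, 44, 42, 45, 28, 31, 40, 16, 11, 16, 16]⟩, .loop 48 2 [45, 31, 36, 34, 2, 17, 23, 13] 4 5 [⟨[23], 1138, true, [1, 5, 6, 5, 6, 4, 10, 5]⟩, ⟨[23, 24, 23], 885, true, [3, 6, 1, 5, 10, 5, 6, 2, 5, 6]⟩] []),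
  (⟨false, 2, 4, [47, 49, 38, 36, 16, 16, 11, 23, 23], [61, 52, 50, 30, 27, 30, 17, 17, 17, 19], [46, 44, 31, 28, 40, 16, 16, 24, 23]⟩, .loop 35 4 [67, 56, 38, 28, 31, 2, 17, 25, 19] 6 7 [⟨[], 146, true, [3, 5, 3, 6, 4, 5, 6, 5, 3]⟩, ⟨[23], 1014, false, [0, 4, 6, 5, 6, 10, 5, 3, 6, 5]⟩, ⟨[], 744, true, [3, 5, 6, 4, 6, 5, 3, 6]⟩] []),
  (⟨false, 2, 2, [61, 46, 42, 51, 31, 28, 40, 16, 16, 16, 13], [60, 45, 50, 42, 35, 28, 37, 2, 17, 0, 23, 23], [63, 56, 53, 30, 30, 36, 16, 11, 25, 16]⟩, .loop 33 2 [48, 43, 28, 31, 40, 2, 23, 23, 21] 2 3 [⟨[23, 24, 23], 421, true, [10, 5, 3, 6, 1, 2, 5, 6, 10, 5]⟩] [⟨[23, 24, 23], 667, true, [3, 4, 5, 3, 6, 5, 6, 2]⟩, ⟨[23], 577, true, [1, 2, 4, 6, 4, 6, 5, 10]⟩]),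
  (⟨false, 2, 2, [67, 54, 44, 31, 29, 41, 16, 21, 23, 23], [61, 46, 43, 30, 37, 27, 16, 16, 2, 20], [67, 31, 33, 33, 2, 23, 23, 13]⟩, .loop 31 2 [67, 45, 42, 51, 34, 36, 35, 2, 23, 17, 0, 25] 6 7 [⟨[], 481, true, [0, 4, 5, 6, 2, 5, 6, 4, 6, 10]⟩, ⟨[23, 24, 23], 233, false, [1, 3, 5, 3, 6, 5, 3, 6, 2, 6]⟩, ⟨[23, 24], 820, true, [0, 2, 4, 5, 6, 4, 5, 6, 4]⟩] []),
  (⟨false, 2, 2, [66, 45, 54, 45, 33, 35, 41, 2, 17, 17, 0], [60, 48, 57, 38, 35, 16, 4, 16, 19, 11], [62, 49, 49, 33, 34, 33, 16, 16, 4]⟩, .loop 46 2 [58, 44, 51, 31, 26, 30, 2, 23, 17, 25, 21] 2 3 [⟨[], 634, true, [0, 6, 2, 5, 6, 4, 6, 5, 3, 5]⟩] [⟨[24], 685, true, [0, 2, 6, 4, 5, 6, 2, 6, 5]⟩]),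
  (⟨false, 2, 2, [45, 42, 45, 30, 32, 34, 2, 23, 17, 23, 8], [61, 44, 48, 31, 29, 27, 16, 10, 19], [63, 57, 53, 28, 30, 26, 34, 17, 23, 18, 22]⟩, .loop 34 2 [61, 47, 51, 38, 40, 16, 16, 10, 8, 22] 6 7 [⟨[], 848, false, [0, 2, 10, 5, 6, 4, 5, 3, 6, 2, 6]⟩, ⟨[], 493, true, [0, 6, 5, 6, 2, 6, 5, 3]⟩, ⟨[61, 28], 160, false, [1, 2, 5, 6, 4, 10, 5, 6, 5, 3]⟩] []),
  (⟨false, 2, 5, [67, 44, 55, 52, 31, 28, 41, 16, 4, 16, 2, 20], [67, 48, 28, 34, 37, 2, 23, 8, 23, 6], [66, 46, 56, 41, 28, 33, 2, 23, 23, 21, 16]⟩, .loop 28 5 [63, 47, 30, 28, 30, 17, 17, 22, 21] 6 7 [⟨[38], 1035, true, [4, 6, 4, 5, 6, 10, 5, 6]⟩, ⟨[24, 23], 984, true, [2, 5, 6, 2, 6, 10, 5, 6, 5]⟩, ⟨[66, 38, 66, 66], 534, false, [4, 6, 4, 6, 10, 5, 6, 5, 3]⟩] []),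
  (⟨false, 2, 2, [63, 45, 42, 45, 30, 41, 26, 2, 17, 23, 17, 8], [63, 50, 55, 35, 31, 32, 16, 21, 17, 17], [48, 53, 28, 34, 30, 2, 16, 6, 23, 20]⟩, .loop 73 2 [58, 44, 51, 35, 36, 38, 16, 16, 19, 21] 4 5 [⟨[24], 138, true, [6, 10, 5, 6, 2, 6, 5, 6]⟩, ⟨[23, 24, 23], 414, true, [0, 6, 4, 6, 4, 5, 10, 5, 6, 2]⟩] [⟨[24, 23], 236, true, [4, 10, 5, 6, 4, 6, 2, 4, 5, 6]⟩]),
  (⟨false, 2, 5, [60, 47, 47, 36, 35, 40, 16, 10, 19], [59, 46, 48, 28, 36, 33, 16, 16, 21, 16], [44, 42, 35, 28, 37, 16, 16, 10, 21]⟩, .loop 68 2 [61, 52, 28, 35, 32, 16, 16, 8, 16, 20] 2 3 [⟨[24], 1079, false, [3, 4, 6, 1, 4, 5, 6, 2, 10]⟩] [⟨[24], 648, true, [0, 3, 6, 2, 5, 6, 5, 10, 5, 6]⟩, ⟨[23, 24], 100, false, [0, 3, 6, 2, 4, 5, 6, 4, 5, 6, 4]⟩]),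
  (⟨false, 2, 2, [67, 52, 49, 41, 34, 18], [62, 47, 47, 52, 30, 28, 30, 2, 17, 19, 22, 11], [62, 44, 42, 48, 41, 26, 2, 17, 17, 10, 25]⟩, .loop 60 2 [44, 49, 35, 37, 16, 4, 16, 20, 22] 2 3 [⟨[], 810, true, [3, 6, 5, 6, 2, 5, 10]⟩] [⟨[23, 24], 527, false, [1, 6, 2, 6, 2, 10, 5]⟩, ⟨[23], 1053, true, [0, 4, 6, 2, 5, 6, 2, 6]⟩, ⟨[23], 231, true, [5, 6, 5, 10, 5]⟩, ⟨[24], 324, true, [5, 3, 6, 1, 4, 6, 2, 5, 6]⟩, ⟨[], 548, false, [4, 6, 4, 5, 6, 5, 6, 10, 5]⟩, ⟨[23], 827, true, [3, 6, 2, 5, 6, 5, 6, 4, 10]⟩]),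
  (⟨false, 2, 2, [44, 43, 57, 30, 30, 36, 16, 16, 20, 23], [67, 46, 53, 34, 26, 2, 23, 23, 18, 17], [63, 55, 47, 33, 41, 28, 16, 11, 16, 21]⟩, .loop 47 2 [66, 54, 30, 26, 40, 2, 17, 19, 22, 20] 4 5 [⟨[23, 24, 23], 1119, true, [2, 10, 5, 3, 6, 2, 6, 4, 5]⟩, ⟨[23, 24], 481, true, [0, 6, 10, 5, 3, 6, 4, 5, 6]⟩] [])]

end CfsgLib.Sporadic.ThPres
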