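import Cfsg.Agent.Lib.Sporadic.ThPres.Check

set_option autoImplicit false
set_option maxRecDepth 20000

/-! Facts among double cosets (generated; owner: helper9). -/

namespace CfsgLib.Sporadic.ThPres
open CfsgLib.Recog.SporBound (Q)

/-- facts 1152 and on -/
def facts36 : List (Fact × Why) := [
  (⟨false, 2, 2, [62, 52, 55, 36, 32, 37, 2, 23, 23, 18, 0], [62, 54, 47, 34, 31, 2, 17, 23, 6], [62, 52, 49, 28, 34, 36, 16, 16, 2, 10, 21]⟩, .loop 35 2 [62, 47, 51, 40, 35, 26, 16] 2 3 [⟨[23, 24], 629, false, [0, 2, 3, 4, 5, 6, 10, 5, 6]⟩] [⟨[23, 24, 23], 189, true, [2, 6, 2, 4, 5, 6, 5, 3, 5]⟩, ⟨[24, 23], 865, true, [6, 5, 6, 4, 6, 4, 5, 10, 5]⟩]),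
  (⟨false, 2, 2, [63, 44, 46, 48, 40, 35, 16, 16, 22, 17], [62, 45, 56, 31, 34, 41, 2, 16, 16, 6], [62, 51, 51, 35, 29, 34, 16, 11, 23]⟩, .loop 31 4 [47, 56, 41, 36, 16, 11] 4 5 [⟨[], 113, true, [1, 6, 10, 5, 3, 6, 2, 6, 5]⟩, ⟨[], 145, false, [0, 5, 6, 2, 6, 5, 6, 10, 5]⟩] [⟨[61, 53, 27], 992, true, [4, 6, 1, 5, 3, 5, 6, 2, 5]⟩]),
  (⟨false, 2, 2, [58, 31, 32, 2, 17, 17, 0, 10], [59, 47, 44, 35, 35, 35, 17, 23, 16], [61, 49, 56, 30, 27, 32, 16, 16, 4]⟩, .loop 22 2 [48, 55, 30, 26, 30, 16, 10, 16] 6 7 [⟨[23, 24], 817, true, [6, 1, 10, 5, 6, 10, 5, 3]⟩, ⟨[66, 37, 66, 66], 900, true, [1, 4, 5, 3, 5, 6, 5, 3, 5]⟩, ⟨[], 553, false, [10, 5, 6, 2, 5, 3, 6, 4, 6, 2]⟩] []),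
  (⟨false, 2, 2, [60, 46, 51, 55, 34, 26, 17, 17, 23], [67, 46, 46, 30, 37, 31, 2, 23, 17, 25, 12], [63, 46, 56, 33, 34, 31, 16, 11, 16, 8]⟩, .loop 72 2 [59, 50, 48, 34, 40, 29, 2, 23, 17, 19, 22] 2 3 [⟨[24, 23], 707, true, [1, 2, 3, 6, 2, 4, 5, 6, 4, 6]⟩] [⟨[24, 23], 1066, false, [2, 3, 6, 1, 4, 6, 5, 3, 6, 5]⟩, ⟨[23, 24], 707, true, [2, 5, 6, 10, 5, 3, 6, 4, 5]⟩]),
  (⟨false, 2, 2, [63, 48, 47, 33, 41, 2, 23, 23, 4, 6], [62, 46, 44, 54, 36, 40, 30, 2, 23, 8, 23, 23], [59, 46, 53, 28, 35, 41, 16, 16, 2, 10]⟩, .loop 70 5 [62, 44, 57, 49, 28, 34, 2, 17, 23, 23, 8] 4 5 [⟨[66, 37], 506, true, [0, 4, 5, 6, 4, 6, 5, 6, 10]⟩, ⟨[23], 714, false, [1, 3, 5, 6, 2, 4, 6, 10, 5, 6]⟩] [⟨[37, 66], 682, false, [1, 3, 6, 4, 5, 3, 6, 5, 10, 5]⟩]),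
  (⟨false, 2, 2, [59, 49, 49, 30, 26, 33, 2, 23, 13, 23, 18], [63, 45, 50, 31, 33, 17, 22, 21, 6], [60, 54, 56, 38, 27, 16, 24, 23, 23]⟩, .loop 46 2 [61, 47, 55, 30, 29, 34, 16, 16, 16, 18] 2 3 [⟨[23, 24, 23], 1028, true, [10, 5, 6, 5, 3, 6, 4, 5, 6, 4]⟩] [⟨[23, 24, 23], 1055, true, [1, 6, 2, 5, 6, 5, 3, 6, 4, 6]⟩]),
  (⟨false, 2, 2, [62, 44, 42, 51, 30, 32, 26, 2, 17, 17, 20, 8], [59, 44, 30, 41, 27, 17, 22, 6, 23], [59, 45, 54, 45, 28, 35, 28, 16, 16, 20, 25]⟩, .loop 18 2 [59, 44, 55, 50, 35, 35, 35, 16, 4, 16, 20] 2 3 [⟨[23, 24], 498, false, [0, 2, 3, 4, 6, 4, 5, 3]⟩] [⟨[24, 23], 644, true, [0, 2, 5, 6, 4, 6, 4, 10, 5, 3]⟩, ⟨[23], 898, true, [2, 4, 6, 4, 5, 10, 5, 6]⟩]),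
  (⟨false, 2, 2, [63, 45, 53, 48, 30, 28, 17, 23, 17, 19], [58, 44, 42, 57, 38, 37, 2, 23, 8, 23, 23], [66, 49, 56, 36, 32, 37, 2, 17, 17, 18, 10]⟩, .loop 21 2 [58, 45, 34, 27, 16, 11, 25, 16] 2 3 [⟨[], 1132, true, [0, 2, 5, 6, 2, 4, 10, 5, 6, 2]⟩] [⟨[23], 702, false, [6, 4, 5, 6, 2, 10, 5, 6, 5, 6]⟩, ⟨[24, 23], 678, false, [1, 2, 5, 6, 2, 10, 5, 6, 4]⟩]),
  (⟨false, 2, 2, [48, 47, 35, 31, 34, 16, 16, 2, 4], [62, 47, 56, 31, 27, 35, 16, 4, 16, 16, 24], [62, 57, 53, 34, 31, 37, 16, 16, 2, 23]⟩, .loop 31 2 [47, 56, 30, 26, 28, 16, 16, 25, 22] 6 7 [⟨[], 601, false, [3, 6, 4]⟩, ⟨[24], 330, false, [2, 5, 3, 6, 4, 5, 6, 4]⟩, ⟨[66, 38, 37, 66], 443, false, [2, 4, 6, 1, 4, 5, 3, 5]⟩] []),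
  (⟨false, 2, 2, [59, 45, 53, 35, 38, 2, 17, 19], [61, 51, 49, 30, 26, 2, 17, 17, 23, 11], [67, 44, 42, 48, 41, 2, 23, 17, 2]⟩, .loop 66 2 [67, 54, 52, 31, 27, 35, 16, 16, 24, 19] 2 3 [⟨[], 414, false, [2, 6, 4, 6, 2, 10]⟩] [⟨[], 835, false, [3, 5, 6, 4, 5, 10]⟩, ⟨[23, 24, 23], 991, false, [4, 5, 6, 5, 3, 5]⟩]),
  (⟨false, 2, 2, [60, 48, 48, 30, 28, 35, 16, 18, 16, 24], [63, 48, 44, 41, 30, 16, 4, 16, 13], [66, 44, 48, 52, 41, 32, 2, 17, 23, 17, 25]⟩, .loop 22 2 [60, 57, 53, 40, 30, 27, 2, 23, 23, 18, 17] 4 5 [⟨[23, 24, 23], 484, false, [3, 6, 5, 6, 5, 3, 5, 6, 2]⟩, ⟨[24, 23], 322, true, [3, 5, 6, 5, 6, 2, 6, 4, 10]⟩] [⟨[24], 1150, true, [4, 5, 6, 2, 4, 5, 6, 2, 5]⟩]),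
  (⟨false, 2, 2, [67, 45, 48, 28, 34, 33, 16, 16, 20, 25, 23], [50, 47, 28, 26, 30, 16, 19, 6], [58, 44, 49, 34, 27, 29, 2, 17, 22]⟩, .loop 62 2 [58, 50, 50, 34, 26, 32, 17, 17, 23, 20] 12 13 [⟨[], 848, false, [3, 6, 5, 6, 4, 6, 4, 10]⟩, ⟨[23], 1145, true, [0, 6, 10, 5, 6, 2, 6, 10, 5, 6]⟩, ⟨[23, 24, 23], 1009, false, [2, 3, 4, 6, 1, 5, 3, 6, 5, 6]⟩, ⟨[24], 490, true, [3, 6, 5, 6, 4, 5, 10]⟩, ⟨[23, 24], 196, true, [6, 10, 5, 3, 6, 2, 4, 6]⟩, ⟨[], 405, false, [0, 4, 6, 10, 5, 6, 2, 5, 6, 4]⟩] [⟨[23, 24, 23], 570, false, [2, 4, 5, 6, 4, 6, 2, 10, 5, 6]⟩]),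
  (⟨false, 2, 2, [62, 54, 47, 28, 34, 36, 17, 22, 21, 6], [67, 49, 51, 40, 37, 2, 17, 17, 22], [61, 48, 28, 34, 30, 16, 4, 16, 21]⟩, .loop 16 2 [67, 49, 53, 33, 31, 32, 16, 16, 10, 8, 22] 6 7 [⟨[23, 24, 23], 180, true, [5, 3, 6, 5, 6, 10, 5, 6, 10]⟩, ⟨[61, 63, 63, 61, 53], 455, true, [4, 10, 5, 6, 4, 6, 5, 6, 5]⟩, ⟨[24, 23], 752, false, [1, 6, 2, 4, 6, 5, 6, 2, 10, 5]⟩] []),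
  (⟨false, 2, 2, [59, 48, 47, 31, 28, 16, 10, 17, 23], [67, 45, 52, 30, 41, 27, 16, 8, 17, 17, 22], [67, 45, 50, 42, 28, 30, 35, 2, 23, 17, 23, 8]⟩, .loop 46 5 [59, 44, 53, 35, 35, 31, 18, 23, 17, 6] 2 3 [⟨[], 809, false, [6, 5, 3, 6, 4]⟩] [⟨[38, 66, 38], 582, false, [6, 2, 6, 4, 5, 3]⟩]),
  (⟨false, 2, 2, [63, 45, 56, 34, 40, 2, 17, 23, 24, 23], [67, 44, 51, 48, 33, 40, 38, 16, 21, 16, 10], [59, 49, 28, 38, 26, 16, 16, 19]⟩, .loop 23 2 [66, 50, 30, 35, 35, 2, 23, 8, 23, 10] 6 7 [⟨[23], 367, true, [1, 2, 5, 6, 5, 6, 2, 6, 4]⟩, ⟨[24], 497, true, [1, 4, 6, 2, 6, 4, 5, 6, 5, 3]⟩, ⟨[23, 24], 1090, false, [4, 5, 6, 1, 4, 10]⟩] []),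
  (⟨false, 2, 2, [60, 44, 42, 54, 30, 38, 26, 16, 11, 16, 4], [60, 51, 49, 28, 35, 31, 41, 16, 11, 25], [60, 44, 57, 49, 38, 32, 36, 2, 23, 8, 23, 10]⟩, .loop 31 2 [66, 44, 56, 46, 30, 38, 26, 16, 24, 17] 6 7 [⟨[24], 689, false, [0, 2, 5, 6, 5, 10, 5, 6, 4]⟩, ⟨[], 871, true, [1, 5, 3, 6, 5, 6, 4, 6, 2, 6]⟩, ⟨[23, 24], 469, true, [1, 4, 6, 4, 5, 6, 4, 5, 10]⟩] []),
  (⟨false, 2, 2, [63, 44, 57, 41, 37, 2, 17, 23, 17, 24], [61, 56, 50, 31, 33, 31, 16, 16, 20, 25, 23], [59, 45, 34, 28, 40, 17, 17, 22, 19]⟩, .loop 18 2 [59, 45, 42, 49, 30, 38, 32, 2, 17, 22] 4 5 [⟨[], 685, true, [1, 2, 3, 6, 2, 6, 5, 6, 5]⟩, ⟨[24], 750, false, [0, 2, 6, 4, 5, 6, 5, 6, 2, 10]⟩] [⟨[23, 24, 23], 726, true, [5, 3, 6, 5, 6, 4, 6, 4, 5, 10]⟩]),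
  (⟨false, 2, 2, [60, 45, 42, 49, 35, 35, 17, 23, 17, 8], [60, 44, 43, 57, 34, 27, 38, 16, 21, 16, 24], [61, 46, 48, 31, 33, 30, 2, 23, 8]⟩, .loop 32 2 [58, 49, 45, 30, 27, 32, 2, 17, 17, 17, 21] 4 5 [⟨[], 152, false, [0, 2, 3, 4, 6, 5, 6, 2, 4, 6, 10]⟩, ⟨[50, 22, 245, 21], 468, false, [0, 2, 4, 6, 5, 6, 10, 5, 6]⟩] [⟨[24, 23], 541, true, [2, 3, 6, 5, 3, 6, 5, 3, 6, 4]⟩]),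
  (⟨false, 2, 2, [48, 31, 27, 34, 2, 23, 23, 17, 6], [60, 54, 43, 33, 38, 37, 16, 19, 16], [62, 48, 33, 36, 16, 4, 16, 20]⟩, .loop 63 2 [61, 45, 53, 48, 30, 29, 32, 16, 4, 16, 4] 12 13 [⟨[], 182, false, [5, 3, 6, 1, 4, 5, 6, 2, 6]⟩, ⟨[23, 24, 23], 1130, true, [4, 6, 4, 5, 6, 2, 10, 5, 6, 4]⟩, ⟨[23], 964, true, [0, 2, 3, 5, 6, 4, 6, 5, 3, 5]⟩, ⟨[], 835, false, [3, 6, 4, 5, 10, 5, 6, 2, 5]⟩, ⟨[], 799, true, [2, 3, 6, 1, 5, 10, 5, 6, 4, 6]⟩, ⟨[], 1144, false, [1, 6, 5, 6, 10, 5, 3, 6, 2, 6]⟩] [⟨[23, 24, 23], 647, false, [2, 3, 6, 1, 2, 4, 5, 6, 2, 5]⟩]),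
  (⟨false, 2, 2, [61, 46, 53, 33, 38, 17, 23, 17, 22], [62, 49, 45, 35, 35, 35, 2, 17, 23, 20, 24], [59, 47, 47, 52, 34, 41, 16, 18, 16, 8]⟩, .loop 16 2 [59, 45, 45, 28, 31, 28, 38, 16, 18, 16, 16] 6 7 [⟨[23], 527, false, [2, 3, 5, 6, 5, 3, 6]⟩, ⟨[], 1116, true, [0, 3, 4, 6, 2, 6, 2, 4, 5, 6, 5]⟩, ⟨[], 401, false, [4, 6, 4, 5, 3, 5, 6, 4, 5]⟩] []),
  (⟨false, 2, 2, [66, 44, 56, 30, 41, 27, 16, 16, 10], [60, 51, 42, 30, 40, 31, 2, 23, 8, 23, 21], [47, 28, 31, 33, 16, 2, 19, 6]⟩, .loop 32 2 [66, 44, 43, 34, 27, 31, 2, 17, 17, 22] 2 3 [⟨[24], 393, false, [1, 6, 4, 5, 3, 6, 5, 3, 6, 4]⟩] [⟨[24], 847, false, [1, 2, 6, 2, 5, 6, 4, 5, 10]⟩, ⟨[24, 23], 1018, false, [0, 5, 6, 10, 5, 3, 6, 2, 4]⟩]),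
  (⟨false, 2, 2, [67, 45, 54, 45, 28, 35, 28, 2, 16, 16, 16, 24], [60, 49, 35, 28, 37, 16, 16, 10, 21], [59, 49, 30, 35, 35, 16, 16, 24, 17]⟩, .loop 69 2 [67, 51, 43, 31, 34, 27, 16, 16, 20, 11] 2 3 [⟨[24, 23], 731, false, [2, 5, 6, 1, 2, 4, 10]⟩] [⟨[24, 23], 498, true, [0, 2, 10, 5, 6, 2, 4, 5]⟩, ⟨[23, 24], 643, false, [10, 5, 6, 4, 5, 3, 5, 6, 4, 6]⟩]),
  (⟨false, 2, 2, [44, 53, 56, 30, 28, 2, 17, 19, 22, 11], [67, 46, 44, 36, 28, 38, 16, 21, 16, 4], [66, 45, 54, 45, 33, 34, 31, 16, 16, 2, 24, 19]⟩, .loop 17 2 [66, 45, 56, 41, 38, 19, 6, 17, 19] 4 5 [⟨[23, 24], 183, true, [1, 4, 6, 2, 10, 5, 6]⟩, ⟨[], 597, false, [1, 4, 5, 6, 4, 6, 2, 4, 5]⟩] [⟨[23, 24], 496, false, [1, 6, 5, 6, 2, 4, 10, 5, 6, 4]⟩]),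
  (⟨false, 2, 2, [60, 51, 44, 36, 32, 31, 16, 4, 16, 16], [58, 52, 55, 28, 30, 38, 2, 17, 17, 18], [62, 44, 55, 52, 28, 40, 33, 2, 23, 4, 6, 17]⟩, .loop 67 2 [60, 48, 28, 30, 36, 2, 23, 10, 23, 4] 4 5 [⟨[23], 524, true, [4, 5, 6, 2, 6, 5, 3, 6, 2, 6]⟩, ⟨[63, 61, 61, 63, 28], 493, false, [1, 3, 4, 5, 6, 2, 6, 5, 3]⟩] [⟨[23, 24, 23], 356, false, [3, 4, 6, 2, 6, 5, 6, 10, 5]⟩]),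
  (⟨false, 2, 2, [60, 44, 48, 43, 36, 2, 23, 6, 23, 8], [60, 45, 50, 42, 30, 41, 27, 16, 16, 22], [61, 44, 46, 44, 34, 27, 28, 19, 6, 23, 16]⟩, .loop 71 2 [44, 46, 44, 35, 28, 31, 16, 8, 17, 17, 22] 4 5 [⟨[23], 397, true, [5, 6, 5, 6, 4, 10, 5, 6, 4, 6]⟩, ⟨[], 432, false, [0, 3, 6, 5, 6, 4, 10, 5, 6]⟩] [⟨[], 165, true, [1, 6, 5, 6, 5, 3, 5, 6, 2, 4]⟩]),
  (⟨false, 2, 2, [62, 45, 54, 34, 33, 34, 16, 11], [61, 44, 30, 26, 35, 2, 23, 23, 16], [60, 54, 56, 38, 26, 33, 2, 23, 23, 25, 19]⟩, .loop 29 2 [59, 55, 49, 36, 30, 33, 2, 17, 17] 6 7 [⟨[24], 526, false, [1, 2, 6, 5, 6, 2, 4, 5]⟩, ⟨[37, 66, 38, 37], 282, true, [1, 6, 10, 5, 3, 6, 5, 6, 2]⟩, ⟨[23, 24, 23], 1024, true, [6, 2, 5, 3, 6, 4, 6, 5, 6]⟩] []),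
  (⟨false, 2, 2, [60, 49, 47, 30, 38, 37, 17, 22, 6, 16], [59, 56, 53, 30, 37, 40, 2, 16, 6, 17], [58, 50, 48, 35, 36, 38, 2, 17, 17, 23, 16]⟩, .loop 35 2 [66, 45, 46, 35, 28, 40, 16, 2, 19, 6, 17] 6 7 [⟨[24], 616, true, [0, 3, 6, 4, 5, 6, 2, 5, 6, 4]⟩, ⟨[], 547, true, [0, 3, 4, 5, 6, 5, 6, 2, 4, 10]⟩, ⟨[24, 23], 393, true, [3, 5, 6, 5, 3, 6, 2, 4]⟩] []),
  (⟨false, 2, 2, [67, 44, 46, 57, 36, 40, 2, 17, 22, 10], [63, 44, 46, 44, 31, 29, 2, 17, 0, 17], [66, 55, 43, 31, 34, 28, 2, 23, 17, 25, 12]⟩, .loop 67 2 [66, 49, 47, 40, 38, 2, 17, 23, 17, 22] 2 3 [⟨[23], 594, false, [2, 4, 5, 6, 2, 10, 5]⟩] [⟨[23, 24, 23], 1014, true, [1, 2, 6, 2, 6, 4, 10, 5, 6, 5]⟩, ⟨[23, 24], 211, true, [0, 5, 6, 4, 10]⟩]),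
  (⟨false, 2, 2, [59, 47, 49, 28, 35, 36, 16, 18, 18, 6], [63, 45, 56, 35, 30, 16, 16, 22, 8], [66, 48, 53, 34, 31, 38, 17, 17, 22, 11]⟩, .loop 17 2 [66, 51, 43, 28, 34, 27, 2, 17, 0, 17] 4 5 [⟨[], 845, true, [2, 4, 6, 5, 10, 5, 6, 4, 5, 3]⟩, ⟨[24], 121, false, [5, 6, 4, 5, 6, 4, 5, 6, 10]⟩] [⟨[23, 24, 23], 753, false, [0, 4, 6, 2, 4, 10, 5, 6]⟩]),
  (⟨false, 2, 2, [60, 44, 53, 56, 33, 36, 30, 16, 10, 8, 16], [67, 44, 51, 30, 41, 36, 2, 17, 17, 2], [67, 47, 42, 31, 28, 30, 2, 17, 0, 17, 19]⟩, .loop 49 2 [67, 47, 51, 31, 37, 35, 16, 16, 8] 4 5 [⟨[], 596, false, [2, 5, 3, 6, 1, 5, 6, 10, 5, 6]⟩, ⟨[23, 24, 23], 446, false, [2, 3, 4, 5, 6, 4, 6, 4, 10, 5]⟩] []),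
  (⟨false, 2, 2, [63, 49, 42, 35, 28, 40, 16, 16, 19, 4], [61, 54, 50, 36, 35, 40, 16, 16, 16, 4], [66, 48, 53, 33, 35, 2, 17, 0, 17, 19]⟩, .loop 58 2 [67, 45, 53, 38, 32, 36, 16, 16, 2, 10, 21] 14 15 [⟨[], 1128, false, [6, 4, 10, 5, 6, 2, 5, 6]⟩, ⟨[23, 24], 1070, false, [6, 5, 6, 4, 5, 6, 10, 5, 3]⟩, ⟨[23, 24], 702, true, [4, 6, 2, 6, 4, 6, 5, 10]⟩, ⟨[23, 24, 23], 1128, false, [0, 2, 4, 6, 4, 5, 6, 4, 5, 3]⟩, ⟨[23, 24, 23], 965, false, [2, 4, 10, 5, 6, 2, 5, 3, 6, 4]⟩, ⟨[24], 935, true, [2, 4, 10, 5, 3, 6, 5, 6, 4]⟩, ⟨[23], 935, true, [0, 4, 10, 5, 6, 2, 6, 2, 5]⟩] []),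
  (⟨false, 2, 2, [58, 45, 42, 49, 28, 31, 26, 2, 17, 23, 23, 19], [62, 44, 43, 30, 27, 31, 2, 17, 23, 11, 24], [67, 44, 57, 49, 30, 34, 28, 16, 22, 22, 4]⟩, .loop 18 2 [67, 46, 46, 34, 36, 31, 19, 6] 2 3 [⟨[23], 839, true, [1, 2, 4, 6, 10, 5, 3, 6, 4, 6]⟩] [⟨[23], 372, false, [1, 10, 5, 3, 6, 4, 6, 2, 5, 10]⟩, ⟨[23, 24], 871, false, [2, 4, 6, 5, 6, 2, 10, 5, 6]⟩])]

/-- facts 1184 and on -/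
def facts37 : List (Fact × Why) := [
  (⟨false, 2, 2, [63, 46, 35, 29, 35, 18, 23, 17, 22], [67, 48, 48, 34, 33, 34, 16, 16, 24, 23], [59, 44, 49, 28, 34, 27, 16, 16, 10, 21]⟩, .loop 17 2 [58, 45, 56, 50, 33, 34, 33, 16, 24, 23, 16] 4 5 [⟨[], 1042, true, [1, 4, 5, 6, 2, 6, 10, 5, 3]⟩, ⟨[], 840, false, [3, 6, 1, 5, 6, 4, 6, 5, 6, 10]⟩] [⟨[23], 723, true, [1, 2, 5, 6, 4, 6, 10, 5, 6, 2, 10]⟩]),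
  (⟨false, 2, 5, [61, 55, 46, 34, 28, 40, 16, 19, 6, 10], [67, 50, 47, 36, 31, 26, 2, 23, 23, 17, 6], [44, 42, 45, 34, 29, 2, 17, 23, 20, 13]⟩, .loop 19 2 [66, 50, 49, 28, 34, 36, 2, 17, 23, 10, 19] 2 3 [⟨[23, 24, 23], 1126, true, [0, 6, 2, 6, 4, 6, 10, 5, 6, 2]⟩] [⟨[23, 24], 606, true, [2, 3, 6, 4, 5, 10]⟩, ⟨[23, 24, 23], 786, false, [1, 6, 10, 5, 3, 6, 2, 6, 4, 6]⟩]),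
  (⟨false, 2, 2, [59, 50, 45, 28, 35, 28, 17, 17, 22], [47, 42, 28, 30, 41, 41, 2, 17, 23, 24], [58, 45, 42, 51, 30, 29, 40, 16, 11, 16, 16]⟩, .loop 28 5 [63, 45, 56, 55, 36, 31, 31, 2, 17, 22, 12] 4 5 [⟨[], 383, true, [2, 10, 5, 3, 6, 5, 6, 2]⟩, ⟨[23, 24, 23], 768, false, [0, 3, 4, 6, 4, 5, 10, 5, 6, 5]⟩] [⟨[66, 38, 37, 66], 478, false, [0, 3, 6, 2, 5, 6, 5, 3, 5, 6]⟩]),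
  (⟨false, 2, 2, [66, 56, 38, 32, 35, 16, 16, 11, 23], [58, 54, 43, 33, 31, 36, 2, 23, 18, 6, 22], [66, 51, 57, 28, 38, 31, 2, 17, 23, 12, 18]⟩, .loop 17 5 [59, 54, 46, 30, 30, 37, 2, 23, 17, 2] 2 3 [⟨[37], 763, false, [1, 4, 6, 4, 6, 4, 10, 5]⟩] [⟨[37, 38], 1087, false, [5, 6, 1, 2, 6, 5, 6, 10, 5, 6]⟩, ⟨[23, 24], 969, true, [1, 6, 2, 6, 4, 5, 6, 2, 4]⟩]),
  (⟨false, 2, 2, [62, 54, 46, 33, 33, 2, 23, 10, 17, 19], [66, 48, 50, 31, 35, 38, 16, 22, 19, 17], [58, 47, 51, 28, 30, 41, 16, 10, 16, 25]⟩, .loop 48 2 [63, 44, 46, 31, 26, 33, 16, 16, 22, 6] 4 5 [⟨[23, 24, 23], 974, false, [1, 4, 10, 5, 6, 2]⟩, ⟨[23, 24, 23], 906, false, [2, 3, 6, 4, 6, 4, 5, 6]⟩] []),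
  (⟨false, 2, 2, [49, 56, 30, 16, 16, 24, 12], [66, 48, 53, 33, 35, 41, 16, 11, 16, 22], [50, 46, 38, 29, 30, 16, 16, 20, 13]⟩, .loop 29 2 [62, 49, 45, 31, 32, 30, 2, 17, 0, 23, 20] 2 3 [⟨[23], 970, true, [0, 2, 4, 6, 2, 10, 5, 6, 2]⟩] [⟨[24], 595, false, [0, 4, 5, 6, 4, 5, 6, 4, 10]⟩, ⟨[24, 23], 960, true, [4, 6, 4, 6, 5, 6, 10, 5, 6, 5]⟩]),
  (⟨false, 2, 2, [63, 44, 56, 46, 36, 32, 26, 17, 17, 17, 10], [61, 44, 43, 38, 28, 16, 16, 22, 6], [66, 47, 47, 52, 30, 35, 35, 16, 16, 13, 10]⟩, .loop 17 2 [61, 46, 51, 55, 31, 34, 2, 17, 17, 19, 10] 6 7 [⟨[24, 23], 1144, false, [1, 6, 2, 6, 10, 5, 6, 4, 5, 3]⟩, ⟨[], 739, false, [1, 3, 4, 6, 4, 5, 3]⟩, ⟨[], 525, false, [1, 4, 6, 2, 6, 5, 6, 2, 4, 6]⟩] []),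
  (⟨false, 2, 5, [48, 42, 30, 35, 35, 2, 17, 17, 11], [59, 47, 49, 56, 38, 30, 26, 2, 17, 23, 24, 17], [66, 50, 33, 41, 30, 16, 16, 10, 8, 22]⟩, .loop 22 2 [49, 56, 34, 33, 16, 4, 23] 2 3 [⟨[23], 155, false, [10, 5, 3, 6, 5, 6, 10, 5, 10]⟩] [⟨[24], 217, false, [2, 3, 4, 6, 5, 6, 2, 5]⟩, ⟨[38, 66], 794, false, [3, 5, 6, 4, 5, 10, 5, 6, 4]⟩]),
  (⟨false, 2, 2, [60, 55, 47, 38, 34, 2, 23, 23, 17, 12], [67, 52, 55, 31, 32, 36, 2, 23, 17, 22], [59, 54, 43, 34, 36, 30, 2, 17, 23, 11, 25]⟩, .loop 70 2 [60, 44, 48, 52, 28, 40, 26, 2, 23, 17, 25, 6] 4 5 [⟨[], 668, true, [2, 4, 6, 1, 10, 5, 3, 6, 5, 3]⟩, ⟨[23, 24], 459, false, [2, 5, 3, 6, 1, 4, 6, 4, 5]⟩] [⟨[23, 24], 293, true, [2, 3, 6, 2, 6, 4, 5, 6, 4, 5, 10]⟩]),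
  (⟨false, 4, 2, [59, 47, 52, 34, 33, 40, 16, 16, 24], [52, 55, 34, 27, 2, 23, 17, 8, 21], [67, 50, 48, 31, 32, 30, 16, 10, 19]⟩, .loop 68 2 [61, 44, 55, 50, 35, 40, 31, 2, 17, 17, 20, 22] 2 3 [⟨[], 184, true, [3, 6, 5, 6, 10, 5, 3]⟩] [⟨[24], 638, true, [2, 4, 6, 2, 6, 4, 10, 5, 3]⟩, ⟨[], 448, true, [2, 3, 6, 5, 3, 6, 2, 5, 10]⟩]),
  (⟨false, 2, 2, [62, 49, 49, 34, 27, 41, 2, 17, 17, 13, 25], [61, 47, 49, 33, 29, 30, 16, 10, 18, 16], [62, 45, 43, 31, 33, 36, 2, 17, 23, 10, 21]⟩, .loop 47 2 [67, 45, 43, 30, 35, 29, 18, 23, 17, 23] 4 5 [⟨[23], 669, false, [6, 5, 10, 5, 6, 5, 10]⟩, ⟨[], 1055, false, [0, 3, 5, 3, 6, 2, 4, 5, 6]⟩] []),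
  (⟨false, 2, 5, [60, 44, 42, 46, 34, 29, 2, 17, 0, 23, 13], [62, 50, 55, 41, 28, 33, 16, 18, 16, 22], [60, 47, 53, 34, 31, 37, 16, 11, 17, 6]⟩, .loop 72 5 [66, 50, 49, 30, 40, 33, 16, 16, 10, 16, 2] 6 7 [⟨[38, 66, 66], 166, false, [0, 4, 6, 2, 6, 10, 5, 3, 6, 2]⟩, ⟨[23, 24], 586, false, [6, 5, 3, 6, 2, 6, 4]⟩, ⟨[], 291, true, [5, 3, 6, 2, 6, 4, 5, 6, 4, 10]⟩] []),
  (⟨false, 2, 5, [62, 45, 53, 40, 28, 40, 2, 17, 25, 19], [61, 49, 28, 30, 26, 34, 16, 10, 16, 10], [67, 44, 42, 30, 37, 27, 2, 17, 19]⟩, .loop 16 5 [58, 44, 47, 52, 33, 41, 29, 16, 4, 16, 21] 6 7 [⟨[], 944, true, [3, 6, 1, 5, 6, 10, 5, 3, 6, 5]⟩, ⟨[24], 679, true, [1, 3, 4, 6, 2, 6, 5, 6, 2, 10]⟩, ⟨[23, 24], 480, false, [1, 6, 4, 6, 2, 4, 5, 3, 6, 5, 6]⟩] []),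
  (⟨false, 2, 2, [62, 48, 47, 31, 37, 37, 2, 23, 8, 17, 6], [51, 51, 34, 28, 16, 16, 11, 12], [58, 48, 44, 33, 31, 34, 16, 11, 16, 11, 19]⟩, .loop 28 2 [66, 44, 51, 48, 41, 16, 11, 19, 22] 4 5 [⟨[], 1151, true, [0, 10, 5, 6, 4, 6, 2, 6]⟩, ⟨[23, 24], 1134, false, [2, 5, 6, 1, 4, 6, 5, 3, 6, 2]⟩] [⟨[24, 23], 855, true, [5, 6, 4, 5, 6, 2, 4, 5, 10]⟩]),
  (⟨false, 2, 2, [67, 50, 45, 33, 36, 38, 16, 16, 18, 20], [61, 30, 27, 27, 2, 17, 17, 0, 11], [59, 57, 30, 32, 2, 17, 23, 18]⟩, .loop 21 2 [67, 46, 42, 51, 30, 26, 32, 2, 17, 17, 24] 6 7 [⟨[23], 485, true, [3, 4, 5, 6, 1, 2, 5]⟩, ⟨[23], 430, true, [0, 6, 2, 4, 6, 5, 6, 5, 3]⟩, ⟨[24], 826, false, [4, 6, 10, 5, 6, 4, 6, 10, 5, 3]⟩] []),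
  (⟨false, 2, 2, [59, 54, 50, 33, 29, 16, 10, 8, 16], [62, 48, 55, 31, 34, 2, 17, 17, 10, 22], [60, 45, 56, 31, 28, 27, 16, 19, 6, 23]⟩, .loop 21 2 [60, 52, 55, 35, 36, 30, 16, 16, 18, 16] 4 5 [⟨[24], 1144, true, [2, 3, 6, 4, 6, 4, 5, 10]⟩, ⟨[24, 23], 1099, true, [1, 2, 6, 2, 4, 5, 3, 6, 4]⟩] [⟨[23, 24], 318, false, [1, 2, 3, 6, 2, 4, 5, 6, 4]⟩]),
  (⟨false, 2, 2, [66, 57, 28, 34, 30, 16, 16, 20, 19], [62, 48, 48, 38, 37, 16, 16, 11, 24], [61, 46, 44, 54, 38, 29, 30, 2, 17, 17, 25, 13]⟩, .loop 20 2 [54, 44, 36, 28, 37, 2, 17, 23, 17, 22] 6 7 [⟨[24], 601, false, [1, 4, 6, 2, 5, 3, 6, 2]⟩, ⟨[23, 24, 23], 1137, true, [2, 6, 1, 4, 5, 3, 5, 6, 5, 3]⟩, ⟨[23], 917, true, [0, 2, 4, 5, 6, 5, 10, 5, 6]⟩] []),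
  (⟨false, 2, 2, [46, 48, 54, 36, 27, 16, 19, 22, 11], [63, 45, 52, 31, 27, 32, 2, 17, 22, 6, 17], [44, 42, 51, 30, 40, 16, 10, 23]⟩, .loop 45 2 [59, 55, 46, 38, 30, 26, 2, 17, 17, 25] 4 5 [⟨[], 1158, false, [1, 6, 5, 6, 10, 5, 6, 2, 6, 5]⟩, ⟨[23, 24, 23], 1060, true, [0, 6, 4, 5, 6, 4, 6, 4, 10]⟩] []),
  (⟨false, 2, 2, [58, 51, 30, 37, 30, 17, 23, 23, 16], [58, 47, 49, 56, 34, 26, 30, 2, 23, 17, 6], [66, 45, 48, 30, 29, 30, 2, 17, 23, 10, 21]⟩, .loop 33 2 [61, 44, 51, 30, 38, 40, 2, 17, 17, 24, 23] 4 5 [⟨[24, 23], 262, true, [1, 10, 5, 3, 6, 4, 5, 6, 10]⟩, ⟨[24, 23], 1134, true, [3, 6, 1, 4, 5, 6, 2, 6, 10]⟩] [⟨[24], 1159, true, [0, 3, 4, 5, 3, 6, 4, 6, 5, 3]⟩]),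
  (⟨false, 2, 2, [49, 47, 30, 28, 33, 16, 16, 8, 22], [47, 52, 31, 28, 40, 19, 6, 17, 19], [58, 49, 46, 33, 35, 41, 2, 23, 4, 6, 23]⟩, .loop 68 2 [66, 49, 53, 31, 28, 30, 16, 16, 24, 13] 4 5 [⟨[], 1018, false, [0, 4, 5, 3, 6, 2, 6, 5]⟩, ⟨[23, 24], 808, true, [6, 5, 10, 5, 6, 5]⟩] [⟨[23, 24, 23], 935, true, [0, 4, 5, 6, 2, 10, 5, 6, 5, 6, 10]⟩]),
  (⟨false, 2, 2, [66, 45, 42, 31, 33, 30, 2, 16, 16, 16, 4], [66, 45, 43, 34, 31, 41, 17, 17], [48, 46, 30, 34, 16, 24, 16, 25]⟩, .loop 32 2 [67, 45, 40, 38, 16, 22] 6 7 [⟨[23], 1023, true, [2, 4, 5, 6, 5, 6, 2, 4, 6, 10]⟩, ⟨[24], 592, false, [3, 5, 6, 2, 5, 6, 4, 6]⟩, ⟨[24], 1172, true, [5, 3, 6, 4, 6, 2, 4, 5, 6, 2]⟩] []),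
  (⟨false, 2, 2, [62, 48, 28, 36, 40, 16, 16, 18, 25], [60, 47, 55, 33, 34, 30, 16, 11, 16, 21, 22], [62, 44, 48, 31, 29, 29, 2, 23, 23, 25, 10]⟩, .loop 23 2 [62, 45, 50, 42, 38, 32, 35, 17, 23, 23, 16] 6 7 [⟨[], 458, true, [0, 2, 4, 6, 2, 6, 4, 5, 6, 10]⟩, ⟨[], 271, false, [4, 6, 1, 5, 6, 2, 10, 5, 6]⟩, ⟨[37, 66, 37, 37], 240, true, [4, 10, 5, 6, 1, 10, 5, 10]⟩] []),
  (⟨false, 2, 2, [60, 47, 56, 36, 27, 27, 2, 17, 0, 23, 16], [59, 49, 53, 28, 26, 41, 2, 17, 17, 11, 19], [60, 52, 28, 26, 38, 16, 18, 16, 25]⟩, .loop 28 2 [58, 47, 44, 38, 29, 16, 22, 22, 4] 4 5 [⟨[23], 1076, false, [0, 2, 10, 5, 3, 6, 4, 5, 6, 5, 10]⟩, ⟨[24], 1006, false, [3, 5, 6, 5, 3, 5]⟩] [⟨[23, 24], 480, false, [6, 1, 4, 5, 6, 5, 3, 5, 6, 4]⟩]),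
  (⟨false, 2, 2, [44, 42, 47, 36, 30, 40, 2, 16, 6, 17, 17], [60, 45, 50, 28, 30, 26, 34, 2, 17, 22, 22, 11], [61, 49, 44, 35, 29, 16, 10, 18, 16]⟩, .loop 16 2 [66, 44, 42, 36, 32, 26, 16, 22] 2 3 [⟨[23, 24, 23], 855, true, [1, 2, 6, 4, 5, 6]⟩] [⟨[24], 991, false, [4, 6, 2, 5, 3, 6, 5, 3]⟩, ⟨[23], 432, false, [6, 2, 4, 5, 6, 5, 3, 6, 5, 6]⟩]),
  (⟨false, 2, 2, [61, 54, 52, 31, 28, 40, 2, 23, 23, 18], [61, 46, 42, 51, 41, 41, 16, 16, 21, 22], [66, 45, 52, 31, 29, 35, 2, 17, 25]⟩, .loop 30 2 [66, 55, 46, 33, 30, 16, 16, 10, 16, 24] 6 7 [⟨[], 587, false, [2, 6, 1, 5, 3, 6, 2, 6, 4, 5]⟩, ⟨[24], 311, true, [4, 6, 1, 2, 5, 3, 6, 5, 6, 10]⟩, ⟨[66, 66, 37, 38], 338, true, [2, 5, 6, 4, 6, 2, 6, 4, 10]⟩] []),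
  (⟨false, 2, 2, [63, 48, 43, 38, 26, 16, 2, 0], [66, 45, 57, 36, 35, 27, 16, 4, 16, 16, 12], [62, 52, 50, 40, 35, 2, 23, 17, 25, 12]⟩, .loop 48 2 [63, 46, 44, 54, 35, 36, 16, 4, 16, 16, 10] 2 3 [⟨[24], 951, false, [0, 5, 10, 5, 6, 2, 5, 10]⟩] [⟨[24], 861, false, [2, 3, 4, 5, 6, 5, 3, 6, 5, 10]⟩]),
  (⟨false, 2, 2, [63, 44, 49, 30, 40, 26, 2, 16, 16, 16, 4], [60, 46, 46, 28, 31, 28, 38, 2, 17, 17, 25, 10], [61, 50, 48, 31, 35, 26, 16, 16, 2, 11, 12]⟩, .loop 22 2 [67, 48, 43, 41, 26, 2, 17, 22, 16] 6 7 [⟨[23, 24], 258, true, [1, 2, 6, 4, 5, 3, 6, 5, 3]⟩, ⟨[23], 1033, false, [3, 5, 6, 4, 10, 5]⟩, ⟨[], 367, true, [6, 2, 5, 6, 2, 10, 5, 6, 2]⟩] []),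
  (⟨false, 2, 2, [63, 49, 49, 28, 40, 33, 16, 22, 22, 22], [61, 48, 53, 30, 38, 28, 16, 21, 16, 24], [62, 45, 30, 26, 40, 2, 16, 6, 17, 17]⟩, .loop 31 2 [61, 49, 45, 31, 29, 27, 2, 16, 16, 6, 25] 2 3 [⟨[23, 24, 23], 774, false, [6, 2, 6, 2, 4, 5, 3, 6, 2, 6, 4]⟩] [⟨[24, 23], 90, true, [4, 5, 6, 1, 4, 6, 10, 5]⟩, ⟨[61, 61, 28], 385, false, [2, 5, 6, 1, 2, 5]⟩]),
  (⟨false, 2, 2, [63, 52, 38, 32, 34, 2, 23, 23, 10], [66, 44, 47, 44, 40, 28, 40, 16, 24, 23, 23], [58, 46, 53, 33, 41, 28, 2, 23, 10, 23, 19]⟩, .loop 21 2 [63, 47, 44, 31, 34, 41, 16, 16, 2, 23] 2 3 [⟨[], 714, false, [5, 3, 6, 1, 4, 6, 5, 6, 2]⟩] [⟨[24, 23], 677, false, [4, 5, 6, 1, 4, 5, 6, 10]⟩, ⟨[23, 24, 23], 467, true, [4, 6, 1, 10, 5, 3, 6, 4, 5]⟩]),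
  (⟨false, 2, 2, [63, 45, 50, 35, 31, 27, 16, 16, 2, 16], [62, 45, 54, 56, 31, 35, 27, 16, 16, 19, 4], [48, 57, 28, 31, 26, 2, 17, 0, 23, 20]⟩, .loop 17 2 [45, 56, 55, 31, 29, 29, 16, 16, 24, 18] 6 7 [⟨[24], 494, true, [1, 4, 6, 2, 6, 4, 10, 5, 3]⟩, ⟨[245, 50, 245, 22, 21], 804, false, [0, 4, 6, 4, 10, 5, 6, 2, 6, 4]⟩, ⟨[24, 23], 950, true, [3, 4, 6, 1, 2, 6, 5, 6]⟩] []),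
  (⟨false, 5, 2, [66, 45, 56, 50, 31, 32, 29, 2, 17, 23, 12, 24], [45, 46, 33, 33, 31, 2, 17, 17, 6, 16], [47, 55, 30, 32, 26, 2, 16, 6, 17, 17]⟩, .loop 33 2 [63, 57, 34, 37, 37, 2, 16, 6, 23, 17] 2 3 [⟨[23], 156, false, [4, 5, 6, 1, 2]⟩] [⟨[23], 234, false, [0, 6, 4, 10, 5, 3, 6, 2, 6, 2]⟩, ⟨[24, 23], 514, true, [5, 3, 5, 6, 4, 6, 5, 6, 10, 5]⟩]),
  (⟨false, 2, 2, [67, 49, 53, 38, 26, 16], [58, 49, 45, 34, 26, 35, 17, 23, 17, 17], [62, 44, 42, 33, 34, 30, 2, 16, 6, 23, 23]⟩, .loop 73 2 [62, 51, 43, 28, 38, 29, 2, 17, 22, 16, 16] 4 5 [⟨[24, 23], 999, true, [1, 10, 5, 6, 4, 5, 6]⟩, ⟨[24, 23], 316, true, [4, 6, 1, 5, 6, 10, 5, 6]⟩] [⟨[24], 492, false, [2, 3, 6, 2, 5, 6, 10, 5, 6]⟩])]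

/-- facts 1216 and on -/
def facts38 : List (Fact × Why) := [
  (⟨false, 2, 2, [62, 41, 28, 32, 17, 23, 23, 19], [45, 52, 34, 28, 16, 16, 16, 16], [61, 50, 42, 28, 34, 37, 16, 16, 2, 10]⟩, .loop 20 2 [67, 48, 47, 35, 30, 36, 2, 17, 23, 24, 23] 6 7 [⟨[23], 1212, false, [2, 3, 6, 5, 6, 4, 6, 5, 3, 6]⟩, ⟨[23, 24], 351, true, [2, 3, 6, 1, 2, 4, 5, 6, 10, 5]⟩, ⟨[24, 23], 826, false, [0, 5, 3, 6, 5, 3, 6, 5]⟩] []),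
  (⟨false, 2, 2, [67, 51, 31, 28, 41, 16, 16, 18, 11, 16], [59, 44, 53, 56, 33, 31, 32, 2, 17, 18, 22, 18], [63, 46, 42, 28, 36, 2, 17, 23, 18, 20]⟩, .loop 45 2 [59, 44, 47, 47, 38, 31, 35, 2, 17, 22, 22, 11] 4 5 [⟨[23], 835, false, [1, 3, 4, 6, 5, 10]⟩, ⟨[], 799, true, [6, 5, 6, 2, 6, 4, 5, 6]⟩] []),
  (⟨false, 2, 2, [62, 48, 48, 33, 34, 41, 16, 16, 18, 25], [59, 47, 55, 36, 31, 31, 16, 16, 20, 17], [67, 51, 57, 28, 31, 28, 16, 16, 20, 25]⟩, .loop 30 2 [62, 44, 51, 48, 31, 26, 26, 16, 10, 23, 23] 2 3 [⟨[23], 497, false, [1, 2, 5, 6, 2, 10, 5, 6, 2]⟩] [⟨[23, 24, 23], 1099, true, [3, 4, 6, 5, 3, 6, 4, 5, 3]⟩, ⟨[24], 556, true, [0, 6, 4, 6, 2, 6, 10, 5, 3, 6, 2]⟩]),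
  (⟨false, 2, 2, [63, 44, 46, 48, 40, 35, 16, 16, 22, 19], [67, 50, 49, 33, 27, 34, 16, 18, 16, 24], [61, 47, 44, 51, 28, 30, 41, 41, 2, 23, 17, 25]⟩, .loop 18 2 [58, 49, 46, 33, 41, 29, 2, 23, 19, 16] 4 5 [⟨[24], 213, true, [2, 5, 6, 2, 4, 5, 6, 2, 5]⟩, ⟨[50, 245, 22, 50], 132, true, [2, 3, 6, 4, 6, 5, 6, 2, 10]⟩] [⟨[23, 24], 440, false, [4, 6, 10, 5, 6, 4, 6, 5, 10]⟩]),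
  (⟨false, 2, 5, [66, 48, 56, 28, 31, 26, 17, 17, 23, 25], [61, 45, 53, 48, 28, 30, 28, 16, 16, 11, 23, 23], [67, 35, 30, 36, 2, 17, 17, 18, 23]⟩, .loop 31 5 [66, 51, 44, 40, 27, 2, 16, 6, 17] 2 3 [⟨[66, 66, 38], 1185, true, [5, 3, 6, 4, 5, 6, 4, 5, 3]⟩] [⟨[37, 37, 66], 650, true, [2, 6, 10, 5, 6, 10, 5, 6]⟩, ⟨[23], 95, true, [0, 3, 5, 3, 6, 2, 6, 4, 5, 10]⟩]),
  (⟨false, 2, 2, [58, 49, 30, 2, 17, 25, 17], [61, 54, 44, 35, 35, 31, 16, 16, 22], [63, 51, 49, 28, 26, 41, 2, 16, 16, 6, 16]⟩, .loop 72 2 [61, 45, 42, 47, 30, 26, 40, 18, 23, 17, 22] 4 5 [⟨[24], 304, false, [2, 5, 6, 2, 10, 5, 6, 5, 10]⟩, ⟨[24, 23], 993, false, [1, 4, 10, 5, 6, 4, 6, 4, 10, 5]⟩] [⟨[24, 23], 611, false, [2, 6, 4, 6, 4, 5, 6, 2, 6]⟩]),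
  (⟨false, 2, 2, [66, 45, 42, 41, 27, 2, 23, 17, 8], [66, 46, 28, 34, 31, 17, 23, 23, 18], [61, 45, 42, 47, 33, 31, 38, 16, 2]⟩, .loop 71 2 [63, 52, 44, 30, 40, 16, 16, 8, 22] 4 5 [⟨[24], 850, true, [10, 5, 6, 2, 6, 4, 6, 5, 3]⟩, ⟨[23, 24, 23], 747, true, [6, 4, 5, 3, 6, 2, 5, 6]⟩] [⟨[24, 23], 896, true, [0, 3, 6, 4, 6, 5, 6, 2, 5]⟩]),
  (⟨false, 2, 2, [59, 50, 45, 28, 35, 26, 16, 16, 22, 25], [60, 49, 49, 30, 29, 30, 2, 17, 23, 24, 17], [58, 44, 53, 56, 35, 31, 34, 16, 10, 17, 17]⟩, .loop 21 2 [61, 54, 43, 30, 30, 28, 16, 11, 18, 23, 23] 6 7 [⟨[23], 1212, true, [1, 4, 6, 2]⟩, ⟨[], 919, false, [5, 6, 2, 5, 6, 2, 10, 5, 6]⟩, ⟨[23], 182, true, [10, 5, 6, 2, 6, 4, 5, 6, 2, 6]⟩] []),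
  (⟨false, 2, 2, [66, 46, 57, 30, 37, 33, 2], [67, 48, 48, 33, 30, 16, 24, 17, 22], [67, 44, 55, 34, 36, 30, 16, 16, 21, 16]⟩, .loop 60 2 [63, 45, 43, 45, 34, 37, 34, 2, 23, 23, 13] 4 5 [⟨[24], 726, true, [3, 5, 6, 2, 6, 2, 4, 10, 5, 6]⟩, ⟨[], 930, false, [4, 5, 3, 5, 6, 1, 5, 3, 5]⟩] [⟨[23, 24], 603, false, [0, 2, 3, 4, 6, 2, 6, 4, 5, 6]⟩, ⟨[23, 24], 939, true, [4, 5, 6, 2, 5, 3, 6, 4, 5]⟩, ⟨[], 1056, true, [1, 4, 10, 5, 6, 4, 5, 6]⟩, ⟨[], 498, false, [6, 2, 4, 6, 10]⟩, ⟨[23, 24, 23], 686, false, [5, 6, 10, 5, 3, 6, 5, 6, 5]⟩]),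
  (⟨false, 2, 2, [63, 44, 51, 36, 32, 30, 2, 23, 10, 23, 4], [67, 47, 47, 52, 31, 37, 29, 16, 4, 16, 22, 22], [66, 50, 55, 33, 34, 41, 16, 16, 11, 18, 23]⟩, .loop 17 5 [61, 51, 52, 33, 30, 36, 18, 23, 17, 17] 4 5 [⟨[66, 37], 384, true, [2, 10, 5, 6, 4, 5, 3, 6]⟩, ⟨[23], 785, false, [0, 2, 6, 4, 5, 3, 6, 2, 6]⟩] [⟨[37, 66, 66], 250, true, [0, 2, 5, 6, 4, 5, 3]⟩]),
  (⟨false, 2, 2, [58, 45, 56, 55, 30, 41, 26, 2, 17, 17, 18, 21], [67, 44, 51, 28, 41, 38, 2, 23, 18, 6], [59, 50, 55, 28, 36, 29, 27, 2, 23, 10, 17]⟩, .loop 66 2 [61, 54, 44, 34, 27, 38, 2, 23, 23, 12] 6 7 [⟨[24], 255, true, [6, 2, 6, 10, 5, 6, 5]⟩, ⟨[37, 66, 66], 936, true, [0, 3, 4, 5, 6, 10, 5, 6]⟩, ⟨[23], 1139, true, [1, 6, 2, 5, 6, 5, 10, 5]⟩] []),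
  (⟨false, 2, 2, [45, 57, 31, 29, 16, 2, 11], [67, 50, 55, 30, 26, 32, 2, 17, 17, 23, 16], [60, 44, 42, 51, 28, 26, 16, 8, 17, 23, 8]⟩, .loop 28 2 [59, 48, 55, 33, 31, 34, 17, 17, 22, 11] 6 7 [⟨[23], 429, false, [0, 10, 5, 6, 2, 6, 5]⟩, ⟨[24, 23], 592, true, [4, 6, 1, 2, 5, 6, 4, 5, 3]⟩, ⟨[23, 24, 23], 1059, false, [2, 6, 4, 6, 5, 6, 5, 10]⟩] []),
  (⟨false, 2, 2, [67, 49, 49, 31, 34, 41, 16, 16, 24, 21], [60, 44, 57, 34, 33, 18, 23, 17, 23], [60, 44, 48, 43, 31, 28, 27, 16, 16, 18, 11, 16]⟩, .loop 61 2 [58, 44, 42, 45, 34, 37, 17, 23, 4] 10 11 [⟨[], 539, false, [3, 4, 5, 3, 6]⟩, ⟨[23], 570, false, [6, 1, 4, 10, 5, 6, 4, 5, 6, 5]⟩, ⟨[24], 462, true, [0, 2, 3, 6, 4, 5, 6, 5, 6, 4]⟩, ⟨[23], 487, false, [0, 4, 6, 2, 5, 6, 4, 6, 5]⟩, ⟨[23,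 24], 196, true, [1, 10, 5, 6, 4, 6, 2, 6]⟩] [⟨[23], 988, true, [0, 5, 3, 6, 4, 6, 2, 4, 5]⟩, ⟨[], 1009, true, [4, 10, 5, 6, 2, 4, 5, 3, 6]⟩]),
  (⟨false, 2, 2, [60, 48, 45, 34, 41, 16, 11, 19], [60, 49, 57, 31, 28, 40, 16, 16, 24, 12], [59, 52, 55, 28, 34, 41, 16, 16, 20, 11]⟩, .loop 29 2 [50, 46, 34, 37, 2, 23, 17, 24, 11] 4 5 [⟨[23], 917, true, [1, 2, 10, 5, 6, 4, 5, 6, 2]⟩, ⟨[24], 1027, false, [2, 4, 6, 10, 5, 3, 6, 5, 3, 6]⟩] [⟨[24], 365, true, [4, 10, 5, 3, 6, 1, 2, 6, 4]⟩]),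
  (⟨false, 2, 2, [61, 46, 48, 28, 31, 34, 2, 17, 23, 10, 19], [62, 51, 41, 28, 32, 2, 17, 17, 6, 20], [62, 52, 55, 30, 40, 34, 2, 17, 22, 8]⟩, .loop 16 2 [67, 50, 55, 28, 26, 40, 16, 16, 8, 16] 6 7 [⟨[23, 24], 503, true, [5, 3, 6, 2, 5, 6, 4, 10]⟩, ⟨[], 117, false, [1, 3, 4, 6, 2, 5, 6, 4, 10, 5]⟩, ⟨[], 655, true, [0, 3, 6, 2]⟩] []),
  (⟨false, 2, 2, [60, 48, 46, 34, 28, 37, 2, 23, 23, 25], [59, 45, 28, 38, 29, 16, 16, 21, 24], [60, 44, 46, 57, 28, 26, 38, 2, 17, 17, 13, 24]⟩, .loop 30 2 [63, 51, 43, 31, 27, 32, 2, 17, 22, 16, 16] 6 7 [⟨[], 1076, true, [10, 5, 6, 1, 4, 6, 5, 3, 5]⟩, ⟨[23, 24], 869, true, [0, 4, 5, 10, 5, 6, 4]⟩, ⟨[24, 23], 411, false, [0, 4, 5, 6, 2, 4, 5, 6, 4, 5]⟩] []),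
  (⟨false, 2, 2, [62, 44, 46, 48, 36, 40, 37, 2, 23, 17, 8, 21], [60, 47, 53, 34, 33, 40, 16, 2, 11], [66, 48, 44, 36, 40, 30, 2, 17, 17, 19, 10]⟩, .loop 45 2 [67, 52, 44, 34, 26, 35, 17, 17, 22, 16] 2 3 [⟨[23], 1205, true, [6, 1, 2, 6, 4, 5, 3, 5]⟩] [⟨[23, 24, 23], 302, true, [0, 10, 5, 6, 4, 5, 6, 4, 5]⟩]),
  (⟨false, 2, 2, [49, 49, 30, 29, 26, 16, 11, 19, 22], [63, 44, 43, 57, 34, 31, 16, 10, 16, 2], [61, 45, 49, 41, 30, 16, 16, 20, 22]⟩, .loop 46 2 [67, 52, 50, 30, 38, 16, 16, 16, 24] 4 5 [⟨[23], 884, false, [5, 6, 2, 4, 5, 6, 5, 6, 2]⟩, ⟨[66, 37, 38], 313, false, [1, 5, 6, 4, 10, 5, 3, 6, 4, 6]⟩] []),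
  (⟨false, 3, 2, [63, 46, 48, 54, 35, 37, 38, 16, 21, 16, 11], [63, 52, 55, 28, 26, 16, 16, 16, 11], [60, 44, 46, 57, 33, 27, 16, 16, 13, 10]⟩, .loop 33 2 [63, 45, 53, 35, 30, 36, 2, 17, 23, 17] 2 3 [⟨[], 468, true, [0, 5, 6, 10, 5, 6, 4, 6, 5, 6]⟩] [⟨[24], 621, false, [1, 2, 5, 6, 4, 5, 10, 5, 6]⟩, ⟨[66, 37, 66, 37], 267, true, [0, 3, 6, 2, 4, 5, 6, 5, 6]⟩]),
  (⟨false, 2, 2, [45, 50, 42, 40, 38, 2, 17, 23, 24, 21], [67, 54, 46, 30, 32, 31, 2, 23, 19], [67, 51, 55, 30, 26, 30, 16, 16, 10, 10]⟩, .loop 68 2 [59, 46, 46, 40, 40, 32, 2, 23, 23, 10] 4 5 [⟨[], 1141, false, [3, 4, 6, 1, 2, 6, 4, 5, 3]⟩, ⟨[], 742, true, [2, 6, 2, 6, 5, 3, 6, 4]⟩] [⟨[24, 23], 426, true, [0, 3, 4, 6, 2, 6, 5, 6, 2]⟩]),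
  (⟨false, 2, 2, [60, 47, 49, 30, 27, 30, 2, 23, 10, 17, 19], [63, 46, 30, 40, 29, 2, 16, 16, 22, 22], [63, 54, 35, 30, 36, 2, 17, 23, 10, 21]⟩, .loop 21 2 [60, 46, 57, 40, 32, 2, 23, 23, 13] 4 5 [⟨[23], 1028, true, [4, 6, 1, 2, 6, 4, 10, 5, 3, 6]⟩, ⟨[24, 23], 331, true, [0, 2, 10, 5, 6, 4, 5, 6, 2]⟩] [⟨[23], 983, true, [2, 3, 5, 6, 4, 5, 6, 4, 6]⟩]),
  (⟨false, 2, 2, [44, 48, 52, 35, 31, 29, 16, 16, 20, 16], [59, 45, 50, 42, 34, 29, 36, 2, 17, 25, 17], [67, 54, 56, 31, 32, 38, 2, 17, 25, 19]⟩, .loop 66 2 [61, 44, 42, 46, 28, 30, 35, 2, 23, 23, 23, 0] 6 7 [⟨[], 1235, false, [1, 5, 6, 2, 4, 5, 6, 4, 5, 3]⟩, ⟨[23], 918, true, [6, 4, 6, 5, 6, 4, 10, 5]⟩, ⟨[24, 23], 1051, false, [6, 10, 5, 6, 4, 6, 2, 4, 5]⟩] []),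
  (⟨false, 2, 2, [49, 45, 35, 28, 16, 16, 10, 16, 11], [62, 54, 36, 30, 2, 17, 23, 25], [62, 44, 47, 47, 33, 34, 40, 16, 21, 16, 19]⟩, .loop 22 2 [44, 48, 52, 33, 28, 37, 16, 11, 23] 4 5 [⟨[24], 459, false, [3, 6, 2, 4, 5, 6, 4, 5, 10]⟩, ⟨[], 931, false, [10, 5, 3, 6, 2, 5, 6, 5]⟩] [⟨[23], 530, true, [6, 5, 3, 5, 6, 5, 10]⟩]),
  (⟨false, 2, 2, [63, 44, 55, 52, 35, 40, 31, 16, 4, 16, 21], [59, 51, 52, 31, 29, 27, 18], [67, 52, 50, 33, 38, 37, 16, 16, 16, 8]⟩, .loop 72 2 [61, 46, 44, 54, 28, 34, 38, 19, 6] 6 7 [⟨[23, 24, 23], 990, true, [3, 6, 4, 5, 6, 5, 3, 6, 2]⟩, ⟨[23, 24, 23], 658, true, [2, 6, 1, 4, 6, 5, 10, 5, 6]⟩, ⟨[23, 24], 605, true, [3, 5, 3, 6, 4, 6, 5, 3, 6, 5]⟩] []),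
  (⟨false, 2, 5, [62, 47, 49, 56, 28, 30, 30, 16, 21, 16, 19], [62, 46, 43, 33, 41, 30, 16, 16, 24, 13], [59, 50, 55, 28, 41, 35, 2, 23, 23, 19]⟩, .loop 18 2 [61, 55, 34, 16, 11, 16, 22, 22] 4 5 [⟨[23], 525, true, [1, 6, 4, 6, 5, 3, 6, 2, 4, 6]⟩, ⟨[66, 66, 37, 37, 66], 508, true, [0, 3, 6, 2, 6, 4]⟩] [⟨[23, 24], 282, false, [1, 6, 10, 5, 6, 4, 6, 5]⟩]),
  (⟨false, 2, 2, [63, 51, 43, 36, 27, 36, 19, 6, 17], [48, 38, 26, 2, 17, 17, 0, 11], [62, 44, 48, 52, 34, 40, 27, 2, 16, 6, 23]⟩, .loop 48 2 [48, 38, 26, 2, 17, 17, 0] 4 5 [⟨[24], 235, false, [3, 5, 6, 10, 5, 3, 6, 2, 4, 6]⟩, ⟨[23], 1062, true, [1, 3, 5, 3, 6, 4, 6, 5, 3, 6, 2]⟩] []),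
  (⟨false, 2, 2, [66, 45, 56, 30, 30, 37, 16, 18], [62, 45, 46, 30, 40, 34, 2, 23, 23, 18, 23], [63, 57, 53, 36, 27, 17, 22, 6, 23]⟩, .loop 33 2 [59, 46, 48, 36, 27, 40, 2, 17, 17, 11, 19] 2 3 [⟨[24, 23], 610, false, [0, 6, 5, 6, 2, 4, 6, 5, 3, 6]⟩] [⟨[23], 1187, true, [1, 3, 5, 6, 10, 5, 6, 2]⟩, ⟨[23, 24], 1003, false, [2, 3, 4, 5, 6, 1, 4, 6, 4]⟩]),
  (⟨false, 4, 2, [59, 46, 42, 40, 40, 32, 16, 4, 16, 21], [63, 44, 46, 48, 30, 26, 36, 2, 23, 13, 23, 23], [61, 44, 43, 57, 28, 30, 28, 2, 16, 16, 16, 6]⟩, .loop 67 2 [58, 44, 56, 46, 34, 37, 34, 16, 2, 19, 16] 4 5 [⟨[23, 24], 845, false, [0, 5, 10, 5, 6, 4, 5, 6, 5, 10]⟩, ⟨[24, 23], 615, true, [4, 5, 10, 5, 6, 4]⟩] [⟨[24, 23], 625, true, [3, 6, 1, 5, 6, 4, 6, 5, 10]⟩]),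
  (⟨false, 2, 2, [61, 45, 42, 31, 35, 16, 16, 16, 4, 13], [60, 55, 47, 30, 32, 31, 17, 17, 23, 16], [67, 54, 50, 28, 26, 31, 2, 23, 17, 25, 10]⟩, .loop 44 2 [58, 47, 56, 35, 31, 32, 16, 16, 16, 4, 13] 4 5 [⟨[23], 999, false, [4, 5, 6, 5, 6, 4, 10, 5, 3, 6]⟩, ⟨[24], 1017, false, [0, 1, 2, 10, 5, 3]⟩] []),
  (⟨false, 5, 2, [61, 45, 56, 50, 30, 29, 16, 16, 21, 24], [66, 54, 47, 31, 32, 36, 16, 18, 16, 4], [59, 44, 43, 51, 28, 41, 35, 16, 10, 16, 25]⟩, .loop 71 2 [46, 44, 54, 28, 40, 33, 19, 6, 17, 0] 4 5 [⟨[23, 24], 976, false, [1, 5, 3, 6, 4, 5, 10, 5, 6, 2]⟩, ⟨[], 403, true, [1, 6, 10, 5, 6, 2, 6, 4]⟩] [⟨[23, 24, 23], 748, true, [0, 3, 6, 5, 6, 2, 6, 5, 6]⟩]),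
  (⟨false, 2, 2, [66, 44, 42, 46, 30, 34, 31, 16, 16, 4, 17], [45, 42, 47, 30, 41, 27, 16, 4, 16, 8], [46, 49, 36, 32, 37, 16, 2, 0]⟩, .loop 66 2 [60, 46, 57, 30, 32, 31, 16, 16, 8, 18] 2 3 [⟨[23], 627, true, [2, 6, 2, 6, 10, 5, 3, 6, 5]⟩] [⟨[23], 292, false, [2, 4, 6, 10, 5, 3, 6, 5, 6]⟩, ⟨[23, 24], 212, false, [1, 2, 6, 2, 5, 3, 6, 4, 6]⟩]),
  (⟨false, 2, 2, [67, 57, 53, 38, 32, 34, 2, 17, 17, 11, 22], [62, 50, 46, 30, 32, 26, 2, 17, 23, 6], [67, 46, 49, 36, 31, 26, 2, 23, 8, 17]⟩, .loop 73 2 [63, 51, 51, 31, 37, 29, 2, 16, 16, 6, 18] 2 3 [⟨[23], 1122, true, [6, 1, 4, 10, 5, 6, 2]⟩] [⟨[23, 24], 1164, false, [1, 6, 5, 3, 6, 4, 5, 10]⟩, ⟨[24], 651, true, [2, 4, 10, 5, 3, 6, 5, 6, 10]⟩])]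

/-- facts 1248 and on -/
def facts39 : List (Fact × Why) := [
  (⟨false, 2, 2, [66, 46, 44, 54, 30, 26, 30, 16, 16, 21, 24], [62, 48, 45, 30, 35, 35, 2, 23, 8, 17, 6], [63, 44, 55, 50, 30, 27, 28, 16, 25, 22, 6]⟩, .loop 30 2 [62, 55, 46, 33, 29, 30, 2, 17, 17, 13, 25] 6 7 [⟨[], 628, false, [3, 6, 5, 6, 2, 6, 5, 3, 5]⟩, ⟨[23], 256, true, [1, 4, 6, 2, 6, 5, 6, 4]⟩, ⟨[63, 63, 28], 1142, true, [1, 3, 4, 6, 4, 5, 6, 4, 5, 6]⟩] []),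
  (⟨false, 2, 2, [60, 45, 50, 45, 31, 35, 38, 17, 23, 23], [61, 45, 57, 38, 33, 16, 24, 16, 16], [62, 52, 48, 31, 27, 2, 17, 22, 6, 23]⟩, .loop 71 2 [67, 44, 55, 52, 30, 28, 34, 2, 17, 17, 11, 19] 6 7 [⟨[], 314, true, [6, 1, 2, 6]⟩, ⟨[23, 24], 1164, true, [1, 2, 4, 5, 3, 6, 4, 5, 6, 5]⟩, ⟨[], 575, false, [0, 3, 6, 2, 4, 6, 5]⟩] []),
  (⟨false, 2, 2, [59, 52, 55, 28, 35, 41, 16, 16, 16, 18], [63, 45, 54, 45, 28, 30, 27, 31, 2, 17, 17, 22, 11], [61, 48, 35, 28, 31, 2, 17, 22, 18, 23]⟩, .loop 23 5 [66, 46, 48, 33, 31, 16, 4, 11] 4 5 [⟨[38, 66], 362, false, [1, 2, 3, 5, 6, 4, 10, 5, 3]⟩, ⟨[24], 765, false, [2, 10, 5, 6, 4, 5, 6, 5, 3]⟩] [⟨[66, 66, 38], 406, false, [0, 3, 4, 5, 6, 4, 6, 5, 6, 2]⟩]),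
  (⟨false, 2, 2, [60, 44, 35, 36, 16, 19, 22, 11], [58, 52, 28, 35, 40, 16, 2, 24, 6, 17], [63, 45, 56, 50, 31, 36, 41, 16, 10]⟩, .loop 68 2 [61, 44, 47, 44, 28, 34, 31, 32, 2, 23, 17, 22, 11] 4 5 [⟨[], 796, false, [0, 10, 5, 6, 10, 5, 10]⟩, ⟨[24], 833, false, [6, 2, 6, 5, 6, 2]⟩] [⟨[23, 24, 23], 1073, false, [0, 4, 6, 2, 10]⟩]),
  (⟨false, 2, 2, [67, 50, 45, 28, 41, 38, 16, 11, 16, 21, 22], [63, 51, 46, 36, 27, 35, 16, 18, 23], [59, 44, 47, 44, 34, 31, 41, 16, 16, 11, 16]⟩, .loop 31 5 [62, 48, 44, 30, 27, 32, 16, 16, 8, 6] 2 3 [⟨[], 166, false, [2, 5, 6, 4, 6, 4, 5]⟩] [⟨[66, 66, 37, 66, 37], 769, false, [5, 6, 5, 10, 5, 6, 2, 4, 5]⟩, ⟨[23, 24], 862, false, [4, 5, 3, 6, 1, 2, 6, 4, 5, 10]⟩]),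
  (⟨false, 2, 2, [67, 52, 30, 29, 26, 16, 16, 4, 13], [66, 50, 46, 28, 36, 29, 27, 2, 17, 0, 23, 23], [66, 45, 56, 33, 33, 31, 17, 23, 17, 17]⟩, .loop 46 2 [60, 44, 51, 36, 31, 31, 17, 23, 23, 13] 2 3 [⟨[], 969, true, [0, 4, 6, 10, 5, 6, 4, 10, 5, 3]⟩] [⟨[], 861, false, [2, 5, 6, 2, 4, 5, 6, 4, 6, 10]⟩]),
  (⟨false, 5, 2, [60, 45, 49, 38, 17, 17, 23, 20], [67, 48, 47, 38, 32, 34, 16, 11, 19], [66, 51, 47, 38, 31, 35, 2, 17, 17, 17, 8]⟩, .loop 67 2 [44, 47, 41, 30, 37, 17, 23, 18, 17] 2 3 [⟨[], 817, true, [6, 2, 6]⟩] [⟨[23], 1226, false, [1, 2, 5, 6, 4, 6, 2]⟩, ⟨[24, 23], 580, true, [2, 6, 5, 6, 2, 6, 2, 4, 10, 5]⟩]),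
  (⟨false, 2, 2, [63, 55, 28, 40, 33, 17, 17, 17, 24], [60, 44, 57, 49, 28, 35, 41, 2, 17, 17, 13], [62, 57, 30, 35, 40, 28, 16, 16, 20, 25]⟩, .loop 70 2 [63, 55, 47, 28, 34, 41, 2, 23, 10, 17, 0] 6 7 [⟨[24], 1017, true, [1, 6, 5, 10, 5, 6, 5, 3]⟩, ⟨[23], 800, false, [2, 6, 1, 10, 5, 6, 2, 4, 6]⟩, ⟨[38, 37, 66], 449, true, [2, 3, 4, 5, 6, 2, 6, 5]⟩] []),
  (⟨false, 5, 2, [49, 53, 30, 30, 36, 16, 21], [63, 44, 57, 55, 34, 38, 16, 2, 16, 6], [63, 44, 55, 50, 33, 35, 26, 2, 17, 17, 6, 23]⟩, .loop 23 2 [66, 49, 51, 30, 40, 26, 2, 23, 23, 18, 17] 4 5 [⟨[], 899, true, [0, 3, 4, 6, 4, 5, 6, 5, 10]⟩, ⟨[], 478, true, [4, 6, 5, 3, 6, 4, 6, 5]⟩] [⟨[23, 24], 373, true, [6, 5, 3, 6, 4, 5, 3, 6, 2]⟩]),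
  (⟨false, 2, 2, [62, 44, 48, 52, 35, 29, 34, 2, 17, 23, 18, 20], [62, 44, 48, 35, 36, 17, 17, 17, 25], [66, 48, 48, 31, 33, 16, 16, 16, 11]⟩, .loop 35 2 [67, 48, 55, 28, 40, 33, 2, 17, 17, 22] 2 3 [⟨[24], 372, false, [0, 3, 5, 3, 6, 4, 5, 3, 6]⟩] [⟨[24, 23], 963, true, [1, 2, 3, 5, 6, 2, 6, 10, 5, 6, 5]⟩, ⟨[23], 751, true, [0, 3, 5, 6, 4, 5, 6, 2, 6, 10]⟩]),
  (⟨false, 2, 2, [67, 44, 18, 23, 18], [61, 47, 52, 31, 2, 17, 17, 17, 10], [61, 47, 47, 31, 33, 16, 24, 16]⟩, .loop 52 2 [59, 45, 54, 45, 30, 32, 34, 16, 21, 16] 12 13 [⟨[], 1011, false, [0, 4, 5, 6, 5, 3, 6, 4]⟩, ⟨[23, 24, 23], 1069, true, [5, 3, 6, 2, 4, 6, 5, 6, 4, 10]⟩, ⟨[23, 24], 589, false, [1, 3, 6, 4]⟩, ⟨[], 706, false, [5, 3, 5, 6, 2, 4, 5]⟩, ⟨[23], 791, false, [5, 6, 4,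 5, 6, 5, 3, 6]⟩, ⟨[23, 24, 23], 1060, false, [1, 3, 6, 5, 6, 2, 4, 10, 5, 6]⟩] [⟨[24, 23], 671, true, [5, 3, 5, 6, 1, 2, 6]⟩]),
  (⟨false, 2, 2, [62, 46, 44, 28, 31, 29, 17, 23, 16, 10], [62, 33, 31, 32, 2, 17, 17, 0, 13], [61, 51, 55, 28, 31, 37, 2, 23, 23, 21]⟩, .loop 46 5 [66, 46, 48, 31, 41, 36, 16, 21, 23] 2 3 [⟨[37], 452, true, [3, 6, 5, 10, 5, 6, 2, 4, 5]⟩] [⟨[66, 37, 37, 66], 452, true, [0, 10, 5, 6, 2, 4, 5, 6, 5]⟩]),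
  (⟨false, 2, 2, [62, 45, 43, 28, 30, 34, 16, 19, 6, 16], [59, 54, 43, 31, 26, 30, 2, 23, 8, 23, 21], [60, 47, 48, 28, 30, 41, 2, 23, 23, 4, 6]⟩, .loop 28 2 [67, 44, 42, 31, 26, 30, 16, 16, 18, 16] 4 5 [⟨[24], 479, false, [1, 3, 4, 6, 4, 6, 4, 5, 10, 5]⟩, ⟨[23], 719, true, [0, 4, 10, 5, 6, 2, 6]⟩] [⟨[24], 332, false, [3, 5, 3, 6, 4, 6, 2, 6, 4]⟩]),
  (⟨false, 2, 2, [59, 45, 42, 49, 34, 26, 30, 2, 23, 23, 13], [58, 44, 42, 30, 38, 16, 16, 21], [59, 54, 35, 38, 16, 16, 20, 11]⟩, .loop 21 2 [66, 49, 57, 35, 30, 26, 2, 23, 23, 11] 6 7 [⟨[23], 1179, true, [0, 4, 6, 4, 10, 5, 6, 5, 3]⟩, ⟨[24, 23], 1250, false, [0, 3, 6, 5, 10, 5, 6, 4, 6, 5]⟩, ⟨[24], 484, false, [2, 4, 6, 4, 5, 6, 2, 6, 10, 5]⟩] []),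
  (⟨false, 2, 2, [62, 45, 45, 40, 35, 19, 6, 23, 18], [63, 51, 44, 28, 41, 33, 16, 4, 16, 8], [44, 57, 49, 35, 36, 29, 2, 23, 6, 17, 6]⟩, .loop 72 2 [60, 47, 51, 38, 29, 30, 16, 8, 17] 6 7 [⟨[23], 235, true, [0, 3, 6, 5, 3, 6, 5, 6, 4, 10]⟩, ⟨[23, 24, 23], 1217, false, [1, 4, 5, 6, 2, 4, 5, 6, 5]⟩, ⟨[23, 24, 23], 1216, true, [6, 5, 3, 6, 5, 6, 10, 5, 6, 10, 5]⟩] []),
  (⟨false, 5, 2, [60, 44, 47, 47, 30, 28, 37, 2, 17], [62, 45, 56, 30, 28, 33, 16, 16, 16, 2, 13], [58, 49, 49, 33, 31, 33, 2, 17, 17, 0]⟩, .loop 16 2 [66, 48, 42, 28, 30, 16, 10, 16, 21] 2 3 [⟨[], 1256, true, [3, 4, 6, 5, 3, 6, 5, 6, 4]⟩] [⟨[24, 23], 993, false, [1, 3, 4, 6, 2, 5, 6, 4, 10, 5]⟩, ⟨[24], 667, false, [0, 2, 5, 6, 4, 5, 6, 10]⟩]),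
  (⟨false, 2, 2, [63, 54, 46, 41, 41, 2, 17, 17, 24, 17], [61, 44, 43, 53, 28, 38, 16, 4, 16, 16], [51, 51, 34, 41, 16, 18, 16]⟩, .loop 18 2 [67, 45, 48, 30, 30, 35, 16, 4, 16, 16, 12] 6 7 [⟨[], 768, false, [2, 4, 6, 1, 10, 5, 10]⟩, ⟨[23, 24, 23], 823, false, [3, 5, 3, 6, 4, 5, 6, 2, 4, 10]⟩, ⟨[24, 23], 1126, false, [4, 6, 4, 10, 5, 6, 2, 5, 3]⟩] []),
  (⟨false, 2, 2, [61, 47, 44, 33, 29, 16, 19, 11], [58, 45, 56, 50, 36, 35, 16, 21, 16], [59, 48, 52, 36, 30, 33, 16, 16, 4, 16]⟩, .loop 48 2 [58, 45, 56, 50, 36, 35, 16, 21, 16, 10] 4 5 [⟨[], 839, true, [0, 4, 5, 6, 4, 10, 5, 6, 4, 5]⟩, ⟨[24], 1136, true, [0, 6, 4, 5, 6, 5]⟩] []),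
  (⟨false, 2, 2, [61, 56, 53, 30, 32, 31, 2, 23, 10, 23, 4], [62, 44, 53, 56, 41, 26, 16, 8, 17, 17, 22], [62, 47, 55, 41, 30, 37, 16, 16, 16, 18]⟩, .loop 46 2 [60, 44, 48, 43, 38, 35, 36, 2, 23, 17, 24, 6] 4 5 [⟨[24], 958, false, [1, 2, 4, 5, 3, 6, 5, 6, 10]⟩, ⟨[23], 1197, false, [3, 4, 5, 3, 6, 2, 5, 6, 4]⟩] []),
  (⟨false, 2, 2, [58, 47, 53, 30, 30, 28, 16, 16], [67, 54, 43, 28, 16, 16, 18, 0], [61, 45, 50, 42, 30, 29, 41, 2, 17, 17, 18, 10]⟩, .loop 22 2 [62, 50, 55, 28, 30, 29, 2, 17, 17, 10] 2 3 [⟨[24], 1233, false, [0, 2, 3, 4, 5, 6, 2, 6, 5, 6]⟩] [⟨[23, 24], 1067, true, [0, 6, 4, 6, 10, 5, 6, 2, 10, 5]⟩, ⟨[38, 66, 37, 37], 683, false, [1, 5, 6, 4, 10, 5, 6, 10, 5]⟩]),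
  (⟨false, 2, 2, [66, 46, 41, 29, 16, 24, 16, 25], [66, 47, 47, 35, 17, 17, 22, 21], [67, 48, 43, 31, 32, 29, 2, 17, 19, 22, 11]⟩, .loop 20 2 [49, 56, 33, 36, 41, 2, 23, 23, 4, 6] 4 5 [⟨[23, 24, 23], 669, true, [1, 2, 6, 2, 4, 5, 6, 2, 5]⟩, ⟨[24], 872, true, [6, 10, 5, 6, 2, 6, 2, 4]⟩] [⟨[23, 24, 23], 988, true, [0, 6, 4, 5, 10, 5, 6, 4, 5]⟩]),
  (⟨false, 2, 2, [60, 49, 53, 31, 29, 32, 16, 24, 16, 16], [60, 44, 43, 41, 31, 16, 16, 21], [63, 52, 44, 31, 34, 27, 16, 16, 2, 4]⟩, .loop 23 2 [63, 50, 45, 31, 36, 2, 23, 13, 23, 18] 2 3 [⟨[24], 510, true, [0, 2, 6, 4, 6, 2, 5, 3, 6]⟩] [⟨[23, 24, 23], 1150, true, [1, 6, 2, 4, 10, 5, 6, 4, 6]⟩, ⟨[23, 24], 585, true, [4, 6, 5, 3, 6, 4, 6, 2, 5, 10]⟩]),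
  (⟨false, 2, 2, [58, 45, 50, 42, 38, 29, 16, 16, 19, 16], [63, 52, 44, 33, 29, 35, 17, 23, 17, 17], [63, 45, 40, 30, 27, 16, 16, 24, 2]⟩, .loop 68 2 [60, 46, 46, 36, 40, 37, 2, 23, 23, 8, 24] 4 5 [⟨[], 926, true, [1, 3, 6, 4, 6, 2, 6, 5]⟩, ⟨[24, 23], 715, false, [1, 5, 6, 2, 6, 5, 3, 6]⟩] [⟨[23, 24, 23], 1058, true, [6, 5, 6, 10, 5, 6, 4]⟩]),
  (⟨false, 2, 2, [58, 44, 51, 46, 31, 41, 16, 16, 8, 18], [66, 56, 30, 28, 41, 2, 17, 17, 22, 11], [60, 44, 42, 45, 28, 26, 30, 2, 23, 8, 23, 23]⟩, .loop 20 2 [58, 44, 56, 46, 30, 34, 31, 16, 18, 16, 19] 6 7 [⟨[], 658, false, [0, 4, 6, 4, 5, 3, 5, 6, 2, 4, 5]⟩, ⟨[], 763, true, [5, 6, 1, 2, 4, 5, 3, 6, 4]⟩, ⟨[66, 66, 38, 66, 37], 168, false, [0, 2, 4, 6, 10, 5, 6, 2, 5, 10]⟩] []),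
  (⟨false, 2, 2, [66, 48, 46, 35, 35, 16, 16, 25, 19], [63, 44, 53, 56, 28, 30, 30, 2, 23, 23, 0], [63, 48, 44, 28, 30, 26, 16, 2, 21, 17]⟩, .loop 72 2 [62, 51, 53, 38, 35, 16, 16, 2, 25] 4 5 [⟨[23], 1064, true, [6, 2, 4, 6, 10, 5, 6, 2, 6, 4]⟩, ⟨[], 492, true, [2, 6, 1, 5, 3, 6, 2]⟩] [⟨[23], 397, true, [0, 2, 4, 5, 3, 6, 2, 5, 6]⟩]),
  (⟨false, 2, 2, [63, 44, 51, 48, 35, 29, 31, 2, 23, 17, 25, 10], [67, 55, 47, 30, 40, 30, 2, 17, 22, 6, 17], [61, 45, 50, 45, 30, 28, 41, 16, 16, 24, 18]⟩, .loop 48 2 [58, 47, 48, 41, 34, 2, 23, 23, 17, 6] 4 5 [⟨[], 1153, false, [5, 6, 10, 5, 6, 2, 6, 10]⟩, ⟨[23], 399, false, [6, 1, 4, 5, 3, 6, 2, 6, 5]⟩] []),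
  (⟨false, 2, 2, [67, 54, 47, 30, 28, 28, 16, 16, 2, 23], [62, 48, 30, 38, 28, 2, 17, 22, 6, 17], [67, 44, 53, 30, 38, 28, 2, 17, 17, 17, 10]⟩, .loop 35 5 [58, 55, 43, 28, 30, 29, 16, 16, 2, 0] 2 3 [⟨[66], 959, true, [3, 5, 6, 5, 3, 6, 2, 6, 5, 10]⟩] [⟨[38, 66, 37, 37], 526, true, [0, 2, 4, 6, 5, 10, 5, 6]⟩, ⟨[24, 23], 685, false, [0, 3, 4, 6, 5, 6, 2, 4, 6, 10, 5]⟩]),
  (⟨false, 2, 2, [63, 55, 47, 34, 37, 37, 16, 11, 16, 18], [67, 57, 55, 33, 40, 2, 23, 17, 8], [66, 49, 44, 41, 32, 29, 2, 17, 17, 6, 24]⟩, .loop 47 2 [67, 57, 55, 33, 40, 2, 23, 17, 0, 25] 4 5 [⟨[], 1170, true, [0, 2, 4, 5, 3, 6, 4, 6, 5, 3]⟩, ⟨[23], 704, false, [4, 6, 5, 3, 6, 4, 5, 3, 6]⟩] []),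
  (⟨false, 2, 2, [59, 45, 42, 47, 34, 37, 37, 16, 4, 16, 20, 22], [44, 47, 52, 38, 32, 36, 2, 17, 17, 17, 18], [58, 47, 47, 31, 37, 2, 17, 23, 21, 16]⟩, .loop 66 2 [61, 48, 35, 29, 35, 16, 16, 19, 4] 6 7 [⟨[24], 428, false, [0, 6, 2, 4, 10, 5, 6, 2]⟩, ⟨[23, 24], 484, true, [3, 4, 5, 6, 2, 5, 6, 4]⟩, ⟨[23], 380, true, [1, 3, 6, 5, 6, 2, 5, 10]⟩] []),
  (⟨false, 5, 2, [61, 44, 47, 44, 36, 35, 27, 16, 11, 23, 16], [60, 46, 53, 28, 41, 38, 16, 16, 19, 20], [66, 48, 43, 30, 28, 28, 2, 23, 10, 17, 0]⟩, .loop 49 2 [60, 46, 53, 28, 41, 38, 16, 16, 13, 19] 4 5 [⟨[], 875, true, [0, 3, 5, 3, 6, 5, 10, 5, 6, 5]⟩, ⟨[23], 814, true, [3, 4, 6, 1, 5, 10, 5, 6, 4, 5, 3]⟩] []),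
  (⟨false, 2, 2, [63, 54, 46, 28, 26, 30, 17, 22, 6], [58, 54, 43, 35, 30, 36, 2, 16, 16, 6, 25], [66, 45, 57, 28, 35, 16, 16, 19, 20]⟩, .loop 65 2 [58, 45, 50, 42, 35, 40, 31, 2, 23, 6, 23, 16] 2 3 [⟨[23, 24], 626, false, [0, 2, 5, 3, 6, 2, 5, 6, 4, 6, 5]⟩] [⟨[], 605, false, [2, 4, 10, 5, 6, 5, 3]⟩, ⟨[23, 24, 23], 1150, false, [5, 10, 5, 6, 4, 5, 6, 5, 10, 5]⟩, ⟨[], 1102, false, [3, 6, 1, 4, 5, 6, 2, 6, 4, 10]⟩, ⟨[23], 774, false, [1, 6, 10]⟩, ⟨[23, 24, 23], 1053, false, [0, 2, 6, 2, 4, 10, 5, 6, 2, 6, 4]⟩, ⟨[24, 23], 741, false, [0, 2, 6, 4, 6, 10]⟩]),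
  (⟨false, 2, 5, [60, 45, 42, 30, 28, 17, 23, 23, 0], [66, 48, 47, 31, 33, 2, 17, 17, 0, 8], [63, 54, 44, 28, 30, 26, 16, 16, 2, 16]⟩, .loop 16 2 [63, 51, 49, 41, 29, 16, 16, 13, 24] 2 3 [⟨[23], 1112, false, [0, 3, 5, 6, 4, 5, 6, 2, 6, 2, 10]⟩] [⟨[23], 932, true, [6, 2, 5, 3, 6, 2, 6, 5]⟩, ⟨[24, 23], 338, false, [1, 5, 3, 6, 2, 6, 4, 5, 6, 10]⟩])]

/-- facts 1280 and on -/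
def facts40 : List (Fact × Why) := [
  (⟨false, 2, 2, [67, 46, 48, 31, 34, 28, 2, 23, 19, 6], [63, 49, 38, 32, 35, 16, 4, 16, 2, 20], [58, 44, 53, 56, 31, 28, 27, 2, 17, 17, 8]⟩, .loop 73 2 [67, 47, 55, 31, 36, 16, 8, 17, 17, 22] 2 3 [⟨[23], 436, false, [1, 4, 5, 3, 6, 4]⟩] [⟨[24, 23], 319, true, [6, 5, 6, 4, 5, 6, 2]⟩, ⟨[53, 29, 28], 938, true, [1, 2, 4, 6, 10, 5, 3, 6, 4, 5]⟩]),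
  (⟨false, 2, 2, [62, 49, 28, 30, 32, 16, 16, 13, 16], [63, 48, 53, 31, 28, 30, 2, 17, 17, 17, 12], [63, 48, 46, 36, 40, 16, 2, 11]⟩, .loop 23 3 [62, 54, 47, 30, 32, 40, 19, 6, 23, 18] 2 3 [⟨[50], 674, true, [0, 3, 4, 6, 5, 3, 6, 2, 6, 5]⟩] [⟨[21, 245, 50, 21, 50], 213, false, [2, 5, 6, 1, 4, 6, 5, 3, 6, 2]⟩, ⟨[23, 24, 23], 616, false, [6, 4, 10, 5, 6, 2, 6, 4, 10]⟩]),
  (⟨false, 2, 2, [67, 45, 52, 31, 35, 27, 2, 17, 18, 22, 6], [63, 44, 46, 34, 29, 16, 18, 16, 25], [58, 52, 44, 28, 26, 31, 16, 24, 16, 16]⟩, .loop 64 2 [62, 44, 31, 26, 33, 16, 11, 18, 23, 23] 8 9 [⟨[24], 1223, false, [3, 5, 3, 6, 5, 10, 5, 6, 4]⟩, ⟨[], 633, false, [1, 4, 6, 2, 6, 5, 6, 2, 4]⟩, ⟨[], 1108, false, [0, 6, 5, 10, 5, 6, 4, 5, 3, 6, 5]⟩, ⟨[24, 23], 1217, true,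 [0, 2, 3, 5, 6, 4, 6, 4, 5, 3]⟩] [⟨[24], 571, false, [1, 10, 5, 6, 4, 5, 10, 5]⟩, ⟨[23, 24, 23], 380, true, [5, 3, 6, 2, 6, 5, 6, 2, 6]⟩, ⟨[23, 24, 23], 1262, true, [1, 5, 6, 2, 4, 5, 10]⟩]),
  (⟨false, 2, 2, [58, 54, 56, 28, 34, 34, 16, 16, 22, 2], [61, 45, 49, 30, 30, 41, 16, 11, 19, 6], [63, 44, 48, 28, 30, 35, 16, 16, 18, 11, 16]⟩, .loop 61 2 [58, 46, 53, 30, 32, 26, 17, 23, 23, 21] 12 13 [⟨[], 791, false, [0, 2, 5, 6, 4, 6, 4, 10, 5, 3]⟩, ⟨[23, 24, 23], 1201, false, [0, 6, 5, 6, 10, 5, 3, 6, 5, 6, 2]⟩, ⟨[], 1158, false, [1, 6, 2, 5, 6, 5, 10, 5]⟩, ⟨[24], 1135, false, [0, 6, 4, 10, 5, 3, 6]⟩, ⟨[24, 23], 847, true, [5, 3, 6, 4, 5, 6, 2, 10]⟩, ⟨[], 671, false, [1, 5, 6, 2, 4, 6, 10, 5, 3, 6, 2]⟩] [⟨[23], 512, true, [2, 3, 6, 5, 6, 4,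 10, 5, 6, 5]⟩]),
  (⟨false, 2, 2, [66, 45, 54, 33, 40, 16, 2, 21, 17, 24], [58, 49, 47, 30, 32, 40, 2, 16, 16, 16, 6], [62, 51, 55, 28, 40, 28, 17]⟩, .loop 72 3 [63, 44, 42, 30, 27, 36, 2, 17, 23, 21] 4 5 [⟨[245, 21], 152, true, [1, 4, 6, 2, 6, 4, 10, 5]⟩, ⟨[23, 24, 23], 772, true, [1, 6, 10, 5, 6, 4, 5, 6]⟩] [⟨[21, 245, 21, 245, 50, 21], 213, false, [1, 4, 5, 6, 4, 6, 2, 4, 5]⟩]),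
  (⟨false, 2, 2, [67, 51, 42, 31, 34, 30, 16, 10, 16, 2], [44, 43, 35, 30, 36, 16, 10, 17, 6], [67, 44, 42, 48, 36, 35, 40, 16, 19, 6]⟩, .loop 29 2 [62, 44, 42, 51, 41, 37, 2, 23, 17, 25, 10] 2 3 [⟨[24], 1079, false, [0, 2, 5, 6, 4, 5, 6, 4, 10]⟩] [⟨[23, 24], 1182, true, [1, 5, 6, 2, 6, 5, 10, 5, 6, 2, 6]⟩, ⟨[], 812, true, [1, 5, 6, 10, 5, 6, 2, 6, 2]⟩]),
  (⟨false, 2, 2, [48, 47, 33, 30, 16, 22, 22, 2], [66, 48, 43, 36, 27, 35, 16, 10, 23], [66, 44, 46, 48, 30, 41, 26, 16, 11, 11, 16]⟩, .loop 56 2 [61, 45, 53, 31, 28, 27, 2, 17, 23, 4] 12 13 [⟨[], 1197, false, [2, 3, 5, 6, 5, 3, 6, 2, 4]⟩, ⟨[23, 24, 23], 1235, true, [0, 4, 10, 5, 3, 6, 5, 6, 2, 4, 5]⟩, ⟨[23, 24], 1153, false, [0, 5, 6, 4, 5, 6, 10]⟩, ⟨[23], 299, true, [2, 3, 6, 2, 6,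 5, 6, 5, 3, 5]⟩, ⟨[], 607, true, [5, 6, 1, 2, 4, 5, 6, 4, 5]⟩, ⟨[23], 839, false, [5, 6, 4, 6, 4, 5, 6, 2, 6]⟩] [⟨[23], 958, true, [1, 3, 4, 6, 5, 10, 5, 6, 4]⟩]),
  (⟨false, 2, 2, [59, 50, 49, 28, 34, 27, 16, 16, 10, 8], [58, 45, 48, 35, 36, 30, 16, 4, 16, 10, 21], [58, 55, 43, 33, 38, 16, 16, 19, 17]⟩, .loop 49 2 [67, 46, 36, 35, 40, 2, 23, 17, 6] 2 3 [⟨[23], 1113, false, [1, 6, 2, 6, 5, 3, 6, 5, 3]⟩] [⟨[23, 24, 23], 536, false, [6, 4, 6, 4, 5, 3, 5]⟩]),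
  (⟨false, 2, 2, [49, 34, 40, 2, 23, 18], [67, 47, 55, 35, 29, 31, 2, 17, 23, 17, 24], [61, 45, 48, 35, 36, 2, 17, 22, 16]⟩, .loop 69 2 [58, 52, 50, 34, 26, 29, 16, 8, 17] 4 5 [⟨[], 1097, true, [1, 3, 6, 5, 6, 10, 5, 6, 2, 5]⟩, ⟨[23], 896, false, [1, 2, 3, 4, 5, 6, 2, 5, 3]⟩] [⟨[23, 24], 828, false, [0, 3, 6, 2, 5, 6, 2]⟩]),
  (⟨false, 2, 2, [61, 45, 42, 49, 35, 31, 26, 16, 25, 17], [67, 44, 47, 52, 33, 33, 2, 23, 17, 19, 22], [60, 46, 48, 35, 35, 35, 16, 16, 11, 23, 23]⟩, .loop 46 5 [45, 48, 30, 41, 29, 2, 23, 17, 19] 2 3 [⟨[38, 66, 37], 371, false, [1, 3, 4, 6, 4, 6, 2]⟩] [⟨[66, 66, 38, 37, 66], 683, false, [2, 6, 1, 2, 4, 5, 6, 5]⟩]),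
  (⟨false, 2, 2, [63, 44, 56, 34, 27, 29, 16, 2, 24, 6, 17], [60, 51, 49, 34, 41, 41, 16, 16, 10, 20], [62, 44, 56, 46, 28, 41, 31, 16, 16, 20, 16]⟩, .loop 64 2 [51, 47, 31, 28, 35, 16, 22, 22, 22] 8 9 [⟨[24], 647, false, [5, 6, 1, 2, 4, 5, 6, 2]⟩, ⟨[23], 1108, false, [1, 4, 5, 6, 2, 10, 5, 6]⟩, ⟨[24], 426, false, [0, 4, 5, 6, 4, 6, 4, 6, 10]⟩, ⟨[24, 23], 1223, false, [0, 4, 6, 5, 6, 2, 6, 5, 10]⟩] [⟨[24], 1238, true, [2, 3, 5, 6, 4, 5, 6, 2]⟩, ⟨[24], 1262, false, [6, 2, 6, 5, 3, 5, 6, 4, 6]⟩, ⟨[24], 799, true, [2, 6, 4, 6, 4, 10, 5, 6, 2, 6]⟩]),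
  (⟨false, 5, 2, [67, 46, 56, 31, 26, 36, 16, 16, 8, 22], [67, 45, 52, 33, 29, 30, 16, 2, 19, 16], [44, 46, 57, 31, 37, 37, 2, 23, 17, 23, 8]⟩, .loop 33 2 [67, 44, 46, 48, 30, 38, 31, 2, 17, 17, 17] 4 5 [⟨[], 1239, false, [0, 4, 6, 5, 6, 2, 5, 3, 6, 4]⟩, ⟨[], 921, true, [6, 5, 6, 4, 6, 2, 6]⟩] [⟨[23, 24, 23], 1247, true, [2, 4, 6, 2, 10, 5, 6, 2, 6, 4]⟩]),
  (⟨false, 2, 2, [66, 49, 44, 33, 31, 31, 16, 22, 19], [61, 44, 42, 47, 36, 28, 34, 17, 23, 23], [59, 46, 51, 31, 26, 34, 2, 17, 17, 25, 13]⟩, .loop 16 2 [62, 51, 47, 36, 35, 40, 2, 23, 23, 8] 6 7 [⟨[], 1132, true, [4, 6, 4, 6, 5, 6, 5, 3]⟩, ⟨[23, 24, 23], 704, true, [1, 4, 5, 3, 6, 2, 4, 5, 10]⟩, ⟨[24, 23], 1120, false, [4, 6, 1, 2, 5, 6, 10]⟩] []),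
  (⟨false, 5, 2, [63, 48, 55, 41, 28, 32, 2, 23, 23, 8, 18], [66, 44, 51, 48, 30, 40, 27, 2, 17, 22, 22, 10], [67, 48, 46, 28, 30, 16, 11, 16, 21, 22]⟩, .loop 20 2 [66, 46, 42, 51, 33, 41, 16, 16, 20, 22] 4 5 [⟨[23], 1030, false, [2, 6, 5, 6, 4, 6, 4, 5, 10]⟩, ⟨[], 327, true, [10, 5, 6, 5, 6, 2, 6, 10, 5]⟩] [⟨[24, 23], 351, false, [1, 3, 6, 5, 3, 6, 4, 5, 3]⟩]),
  (⟨false, 2, 2, [61, 49, 30, 41, 26, 16, 11, 25], [67, 44, 46, 48, 35, 38, 35, 16, 18, 16, 24], [60, 56, 50, 31, 35, 38, 16, 16, 21, 22]⟩, .loop 46 2 [67, 48, 57, 40, 28, 40, 16, 16, 10, 21] 2 3 [⟨[23], 216, true, [2, 4, 10, 5, 6, 5, 6, 4]⟩] [⟨[23, 24, 23], 808, false, [0, 2, 10, 5, 6, 4, 6, 2, 5, 3]⟩]),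
  (⟨false, 2, 2, [59, 44, 42, 46, 40, 16, 18, 16, 11], [67, 46, 51, 30, 27, 30, 2, 17, 23, 20, 6], [59, 44, 46, 48, 33, 38, 36, 2, 23, 23, 21]⟩, .loop 30 2 [62, 45, 42, 45, 31, 28, 32, 2, 16, 16, 22, 22] 2 3 [⟨[24, 23], 779, true, [6, 2, 4, 6, 5, 6, 4, 5, 3]⟩] [⟨[], 1121, true, [2, 6, 1, 2, 5, 6, 4, 6, 10]⟩, ⟨[23, 24], 1156, false, [1, 3, 4, 6, 2, 6, 4, 5, 3, 6, 2]⟩]),
  (⟨false, 2, 2, [46, 51, 55, 31, 38, 16, 16, 13, 24], [60, 48, 42, 31, 33, 2, 23, 8, 23, 10], [66, 47, 35, 36, 38, 16, 16, 16, 20]⟩, .loop 33 5 [60, 54, 56, 35, 31, 29, 16, 16, 8, 18] 2 3 [⟨[66], 1039, true, [4, 6, 2, 6, 5, 6, 4, 5, 3]⟩] [⟨[66, 38, 37, 66], 769, false, [6, 4, 5, 6, 2, 6, 10, 5, 6]⟩, ⟨[23, 24, 23], 755, false, [1, 3, 6, 2, 6, 4, 6, 5]⟩]),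
  (⟨false, 2, 2, [61, 45, 48, 30, 32, 34, 2, 17, 17, 24, 22], [58, 50, 42, 33, 33, 2, 23, 17, 6, 12], [58, 48, 53, 34, 40, 16, 16, 20, 25]⟩, .loop 66 2 [66, 48, 41, 28, 16, 16, 10, 16] 4 5 [⟨[23, 24], 1039, false, [1, 5, 6, 2, 4, 5, 6, 4, 5]⟩, ⟨[66], 682, false, [2, 4, 6, 4, 6, 4, 10, 5, 3]⟩] [⟨[23], 898, false, [6, 5, 3, 6, 2, 5, 6, 10, 5]⟩]),
  (⟨false, 2, 2, [49, 56, 28, 34, 38, 16, 16, 16, 18, 24], [66, 45, 53, 48, 38, 36, 2, 17, 22], [59, 44, 47, 30, 30, 36, 2, 17, 17, 19, 6]⟩, .loop 31 2 [59, 46, 51, 35, 28, 31, 2, 23, 6] 6 7 [⟨[], 328, true, [2, 5, 6, 4, 6, 4, 5, 6, 2, 10]⟩, ⟨[24, 23], 1260, false, [3, 4, 5, 6, 4, 6, 4, 5, 3]⟩, ⟨[23, 24], 823, false, [1, 4, 10, 5, 6, 4, 5, 6, 4, 5]⟩] []),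
  (⟨false, 2, 2, [47, 44, 41, 28, 32, 2, 17, 23, 11, 17], [63, 45, 52, 30, 40, 33, 16, 21, 17, 17], [59, 48, 50, 34, 38, 28, 2, 16, 16]⟩, .loop 19 2 [62, 45, 56, 55, 33, 38, 2, 23, 17, 25, 12] 2 3 [⟨[], 638, true, [4, 10, 5, 6, 1, 4, 6, 4, 10, 5]⟩] [⟨[24, 23], 782, true, [1, 2, 6, 2, 5, 6, 4, 6, 5, 10]⟩, ⟨[24, 23], 660, false, [1, 3, 4, 5, 3, 6, 4]⟩]),
  (⟨false, 5, 2, [66, 46, 42, 28, 41, 29, 16, 16, 20, 17], [59, 47, 47, 52, 36, 35, 35, 16, 2, 16, 2], [62, 47, 49, 56, 40, 30, 27, 2, 17, 0, 23, 16]⟩, .loop 21 2 [63, 45, 42, 49, 41, 29, 2, 17, 23, 10, 21] 4 5 [⟨[24, 23], 1237, false, [2, 6, 4, 6, 4, 5, 6, 10, 5]⟩, ⟨[], 500, true, [1, 4, 6, 5, 6]⟩] [⟨[23], 1008, true, [2, 3, 4, 6, 1, 4, 6, 4, 5, 10]⟩]),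
  (⟨false, 2, 2, [63, 48, 43, 34, 29, 36, 16, 11, 16, 22], [61, 57, 53, 34, 41, 41, 2, 17, 17, 24, 17], [62, 54, 44, 28, 40, 31, 2, 17, 17, 22, 6]⟩, .loop 44 2 [67, 48, 56, 34, 31, 16, 16, 10, 22] 4 5 [⟨[24], 1233, false, [0, 6, 2, 6, 4, 6, 10, 5, 6]⟩, ⟨[24], 853, true, [1, 3, 4, 6, 5, 6, 4, 10, 5, 3]⟩] []),
  (⟨false, 2, 2, [57, 55, 28, 34, 36, 16, 2, 11, 11], [46, 51, 55, 31, 26, 40, 16, 16, 24, 23], [59, 49, 56, 33, 41, 2, 17, 25, 6]⟩, .loop 30 5 [59, 51, 55, 35, 31, 16, 16, 8] 2 3 [⟨[], 936, true, [0, 5, 6, 2, 4, 5, 6, 4, 10]⟩] [⟨[66, 37, 37, 66], 683, false, [0, 4, 10, 5, 6, 2, 4, 5, 6, 2, 10]⟩, ⟨[23, 24], 557, false, [1, 5, 6, 10, 5, 6, 4, 5, 10, 5]⟩]),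
  (⟨false, 2, 2, [61, 47, 50, 31, 27, 41, 16, 18, 24, 6], [61, 52, 55, 41, 34, 30, 16, 10, 16, 10], [67, 47, 44, 51, 28, 36, 29, 16, 16, 8, 17, 12]⟩, .loop 70 2 [59, 44, 57, 55, 33, 34, 40, 16, 2, 24] 6 7 [⟨[], 498, false, [5, 3, 5, 6, 2, 5]⟩, ⟨[24, 23], 749, true, [3, 5, 6, 4, 6, 5, 6]⟩, ⟨[], 343, false, [6, 1, 5, 6, 10, 5, 3, 6, 5, 3]⟩] []),
  (⟨false, 2, 2, [47, 50, 28, 36, 2, 17, 23, 17, 24], [59, 44, 42, 48, 34, 27, 31, 16, 16, 10, 20], [44, 43, 57, 28, 34, 37, 2, 17, 17, 25, 12]⟩, .loop 47 2 [61, 45, 42, 51, 31, 34, 27, 2, 16, 16, 16] 2 3 [⟨[23], 1054, false, [5, 3, 5, 6, 1, 4, 5, 6, 2, 10]⟩] [⟨[], 1175, true, [2, 5, 6, 4, 5, 6, 5, 3]⟩]),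
  (⟨false, 2, 2, [66, 44, 55, 52, 28, 34, 37, 18, 23, 17, 6], [61, 47, 56, 28, 30, 27, 31, 17, 22, 6, 25], [60, 46, 42, 35, 28, 28, 17, 22, 6, 16]⟩, .loop 20 2 [59, 47, 47, 52, 38, 35, 36, 2, 17, 17, 25, 10] 6 7 [⟨[23], 426, true, [1, 6, 5, 6, 4, 6, 5, 6]⟩, ⟨[23], 870, true, [0, 4, 5, 6, 5, 3, 6, 4]⟩, ⟨[24], 972, false, [6, 5, 6, 2, 5]⟩] []),
  (⟨false, 2, 2, [62, 48, 45, 35, 35, 35, 2, 23, 17, 17, 6], [58, 55, 43, 40, 37, 16, 4, 16, 10], [62, 44, 42, 51, 34, 26, 31, 2, 17, 0, 23, 16]⟩, .loop 31 2 [61, 45, 46, 41, 26, 16, 16, 18, 11] 4 5 [⟨[23, 24], 881, false, [1, 6, 2, 6, 2, 10]⟩, ⟨[24], 492, true, [1, 10, 5, 6, 2, 4, 5, 6]⟩] [⟨[24, 23], 304, true, [4, 5, 6, 2, 6, 2, 4, 5, 3, 6]⟩]),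
  (⟨false, 2, 2, [61, 48, 47, 28, 30, 28, 2, 17, 17, 19], [67, 45, 48, 31, 26, 30, 2, 17, 17, 10, 22], [58, 54, 47, 40, 28, 40, 2, 23, 23, 4]⟩, .loop 35 2 [50, 42, 36, 35, 35, 2, 17, 17, 11, 19] 2 3 [⟨[23], 935, false, [3, 4, 5, 6, 1, 4, 10, 5]⟩] [⟨[24], 1223, true, [0, 3, 4, 5, 6, 2, 5, 3, 6, 5]⟩, ⟨[24], 365, false, [2, 3, 4, 5, 6, 1, 5, 10]⟩]),
  (⟨false, 2, 2, [62, 46, 48, 30, 26, 28, 16, 16, 24, 6], [62, 52, 38, 40, 16, 16, 25, 23], [62, 44, 42, 47, 31, 26, 36, 2, 23, 13, 23, 18]⟩, .loop 63 2 [67, 54, 50, 34, 26, 31, 16, 16, 24, 6] 4 5 [⟨[24], 318, true, [4, 10, 5, 3, 6, 2, 6, 4]⟩, ⟨[], 1032, true, [5, 10, 5, 6, 5, 6, 10, 5, 3]⟩] [⟨[23], 752, true, [5, 6, 4, 5, 3, 5]⟩, ⟨[23, 24], 579, false, [3, 5, 6, 2, 6, 10, 5, 3]⟩, ⟨[23, 24, 23],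 376, true, [1, 6, 2, 6, 10, 5, 6, 4, 5, 10, 5]⟩, ⟨[23], 222, false, [4, 5, 6, 1, 4, 6, 4, 5, 3, 5]⟩, ⟨[24], 511, false, [1, 5, 10, 5, 6, 5, 10, 5, 6, 2]⟩]),
  (⟨false, 2, 2, [66, 51, 36, 28, 2, 17, 17, 25, 10], [59, 55, 42, 33, 34, 33, 16, 10, 16, 16, 11], [62, 44, 57, 33, 30, 36, 2, 23, 17, 24, 23]⟩, .loop 53 2 [66, 48, 46, 31, 35, 29, 16, 4, 16, 10] 4 5 [⟨[], 930, false, [3, 6, 5, 6, 4, 10, 5, 6, 5, 6]⟩, ⟨[24], 448, true, [1, 2, 6, 5, 6, 10, 5, 6, 2, 10]⟩] [⟨[24, 23], 1125, true, [3, 5, 6, 10, 5, 3, 6]⟩, ⟨[23, 24, 23], 686, false, [3, 6, 5, 3, 6, 5, 6, 10, 5, 6]⟩, ⟨[24], 388, true, [3, 6, 2, 4, 6, 5, 6, 4, 10]⟩, ⟨[], 949, true, [0, 5, 3, 6]⟩, ⟨[23, 24, 23], 939, false, [0, 5, 3, 6, 5, 3]⟩]),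
  (⟨false, 5, 2, [61, 45, 30, 41, 34, 2, 23, 23, 17, 22], [67, 51, 51, 31, 28, 27, 16, 16, 16], [62, 44, 46, 44, 28, 40, 30, 2, 17, 23, 11, 11]⟩, .loop 32 2 [60, 48, 48, 31, 32, 36, 16, 16, 13, 16] 6 7 [⟨[23], 1105, false, [1, 5, 10, 5, 6, 5, 3, 6, 4]⟩, ⟨[23, 24], 1170, false, [2, 3, 6, 5, 3, 6, 5, 6, 2]⟩, ⟨[23, 24], 348, true, [5, 3, 6, 5, 10, 5, 6, 2]⟩] []),
  (⟨false, 5, 2, [66, 48, 50, 36, 28, 34, 16, 2, 19, 22], [62, 50, 46, 35, 31, 27, 2, 23, 10, 17, 19], [60, 44, 51, 33, 41, 28, 2, 17, 18]⟩, .loop 71 2 [52, 49, 41, 30, 28, 2, 17, 22, 18, 23] 2 3 [⟨[23, 24], 901, false, [1, 5, 6, 5, 3, 6, 5, 6, 2, 6]⟩] [⟨[23, 24, 23], 227, false, [0, 6, 5, 6, 10, 5, 6, 4, 10]⟩, ⟨[24], 1307, true, [0, 6, 2, 5, 6, 2]⟩])]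

/-- facts 1312 and on -/
def facts41 : List (Fact × Why) := [
  (⟨false, 2, 2, [66, 45, 43, 45, 38, 34, 2, 23, 8, 17, 6], [60, 45, 54, 30, 40, 27, 2, 17, 0, 23], [66, 44, 51, 46, 30, 26, 17, 17, 23]⟩, .loop 16 2 [44, 53, 56, 36, 29, 33, 16, 8, 22, 6] 6 7 [⟨[23], 671, true, [3, 6, 4, 6, 5, 6, 2, 5]⟩, ⟨[24, 23], 899, false, [1, 2, 4, 6, 5, 3, 6, 2, 4]⟩, ⟨[23], 850, true, [2, 6, 5, 6, 4, 5, 3, 5, 6, 5]⟩] []),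
  (⟨false, 2, 2, [66, 51, 52, 34, 27, 38, 2, 23, 8, 17, 17], [48, 52, 30, 41, 27, 16, 18, 18, 6], [63, 50, 48, 38, 28, 31, 2, 23, 10, 23, 18]⟩, .loop 32 2 [66, 45, 54, 28, 34, 37, 16, 16, 22, 2] 4 5 [⟨[], 701, false, [0, 6, 5, 3, 6, 5, 6, 10]⟩, ⟨[24, 23], 134, false, [0, 4, 6, 2, 10, 5, 6, 5, 6, 10]⟩] [⟨[23, 24, 23], 799, true, [4, 6, 1, 5, 6, 10]⟩]),
  (⟨false, 2, 2, [60, 57, 55, 33, 27, 27, 2, 17, 17, 2], [66, 44, 43, 33, 34, 33, 2, 17, 23, 11, 24], [63, 44, 55, 50, 30, 30, 30, 16, 2, 24, 6, 17]⟩, .loop 29 2 [66, 49, 47, 30, 27, 27, 16, 16, 22, 17] 4 5 [⟨[24], 359, false, [0, 6, 10, 5, 6, 4, 6, 10]⟩, ⟨[37, 66, 66, 38], 699, false, [6, 1, 4, 5, 6, 4, 10, 5, 6, 4]⟩] [⟨[23, 24], 1208, false, [0, 3, 5, 6, 2, 4, 5, 6, 4, 6]⟩]),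
  (⟨false, 2, 2, [59, 54, 44, 30, 41, 26, 2, 16, 6, 17, 19], [61, 51, 49, 36, 35, 35, 16, 16, 21], [59, 55, 42, 35, 28, 28, 18, 23, 17, 17]⟩, .loop 35 2 [67, 54, 44, 28, 38, 36, 16, 11, 16, 2] 6 7 [⟨[], 984, true, [4, 5, 3, 6, 4, 5, 3, 6, 5, 3]⟩, ⟨[66, 38, 37], 584, false, [2, 5, 6, 10, 5, 3, 6, 2, 4]⟩, ⟨[23], 916, true, [1, 3, 5, 6, 2, 6, 4, 5, 3, 5]⟩] []),
  (⟨false, 5, 2, [67, 46, 28, 31, 27, 2, 23, 17, 25, 21], [62, 44, 47, 52, 28, 38, 33, 16, 4, 16, 16, 10], [66, 51, 47, 36, 34, 16, 16, 24, 18]⟩, .loop 72 2 [61, 44, 55, 52, 34, 33, 28, 16, 16, 24, 18] 6 7 [⟨[23, 24], 859, true, [6, 5, 6, 4, 6, 2, 10]⟩, ⟨[23, 24, 23], 722, true, [1, 2, 6, 5, 6, 2, 6, 2, 4, 10]⟩, ⟨[], 1277, true, [6, 1, 5, 3, 6, 2, 6, 4, 6]⟩] []),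
  (⟨false, 2, 2, [47, 42, 28, 40, 33, 2, 17, 22, 8], [67, 49, 57, 28, 34, 30, 16, 19], [58, 51, 42, 30, 30, 2, 17, 23, 18, 18]⟩, .loop 57 2 [60, 47, 47, 38, 32, 35, 16, 4, 23] 2 3 [⟨[], 1204, true, [2, 6, 1, 5, 3]⟩] [⟨[24], 774, true, [5, 6, 10, 5, 3, 6, 2, 6, 2, 4]⟩, ⟨[24], 1314, false, [2, 10, 5, 6, 1, 5, 3, 5, 6, 4]⟩, ⟨[23], 1268, false, [3, 4, 5, 3, 6, 4, 5, 6, 5]⟩, ⟨[23], 1089, false, [0, 5, 6, 4, 5, 6, 2, 5]⟩, ⟨[23], 890, true, [2, 4, 6, 1, 10, 5, 3, 6, 5, 3]⟩, ⟨[23, 24], 605, true, [1, 2, 10, 5, 6, 4, 6, 2, 5, 10]⟩]),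
  (⟨false, 5, 2, [63, 45, 43, 45, 33, 41, 19, 6, 23, 20], [58, 51, 43, 28, 31, 26, 2, 17, 17, 10, 17], [67, 44, 47, 52, 36, 28, 16, 11, 11]⟩, .loop 48 2 [59, 44, 42, 48, 28, 34, 41, 2, 17, 17, 17, 12] 4 5 [⟨[], 723, false, [1, 5, 6, 2, 4, 5, 10]⟩, ⟨[24, 23], 560, true, [0, 6, 2, 5, 6, 4, 6, 2, 5, 3, 6]⟩] []),
  (⟨false, 2, 2, [63, 47, 49, 33, 31, 38, 16, 18, 23, 6], [66, 49, 31, 29, 35, 16, 10, 19, 6], [61, 51, 44, 31, 37, 29, 16, 24, 23]⟩, .loop 67 2 [66, 49, 31, 29, 35, 16, 19] 6 7 [⟨[], 831, true, [1, 3, 6, 4, 5, 3, 6, 4]⟩, ⟨[23, 24, 23], 1286, true, [3, 6, 2, 6, 2, 5, 6, 10, 5]⟩, ⟨[23, 24], 1173, false, [1, 6, 2, 6, 5, 3, 6, 2, 6, 5]⟩] []),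
  (⟨false, 2, 2, [62, 54, 35, 30, 26, 16, 18, 16, 22], [66, 44, 43, 53, 31, 27, 31, 2, 17, 17, 22, 16], [62, 47, 50, 34, 29, 36, 2, 17, 0, 23, 16]⟩, .loop 16 2 [66, 54, 44, 31, 35, 30, 2, 23, 23, 17, 2] 2 3 [⟨[], 1249, false, [0, 4, 6, 4, 5, 10, 5]⟩] [⟨[23], 1029, true, [2, 3, 6, 5, 6, 2, 5, 6, 4, 10]⟩, ⟨[23, 24], 196, true, [5, 3, 6, 4, 6, 5, 6, 5, 10, 5]⟩]),
  (⟨false, 2, 2, [60, 55, 30, 41, 29, 2, 23, 17, 2], [62, 44, 48, 35, 31, 34, 2, 17, 17, 8, 21], [63, 44, 48, 52, 33, 31, 34, 16, 16, 4, 16]⟩, .loop 20 2 [60, 44, 46, 44, 28, 31, 40, 2, 17, 17, 24, 23] 2 3 [⟨[23, 24], 738, false, [1, 5, 3, 6, 5, 6, 2, 5, 6, 10]⟩] [⟨[24, 23], 785, true, [1, 6, 4, 6, 2, 4, 5, 3, 6, 5, 6]⟩, ⟨[24, 23], 589, true, [4, 5, 6, 2, 5, 6, 4, 6, 2]⟩]),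
  (⟨false, 2, 2, [62, 44, 47, 52, 41, 16, 2, 16], [67, 46, 31, 33, 36, 16, 10, 18, 23], [44, 56, 40, 40, 32, 16, 24, 16, 21]⟩, .loop 68 2 [51, 53, 33, 38, 37, 16, 4, 16, 20] 4 5 [⟨[], 856, true, [1, 2, 4, 6, 10]⟩, ⟨[24, 23], 846, true, [1, 2, 5, 6, 4, 10, 5]⟩] [⟨[23], 828, true, [1, 6, 4, 6, 2, 4, 5, 3, 6, 2]⟩]),
  (⟨false, 2, 2, [66, 44, 47, 52, 30, 27, 36, 18, 23, 17, 22], [61, 46, 42, 30, 26, 35, 2, 17, 17, 17, 2], [61, 54, 56, 33, 31, 36, 16, 16, 8, 17, 25]⟩, .loop 35 5 [61, 44, 42, 51, 28, 30, 34, 17, 23, 23, 8] 4 5 [⟨[37], 515, true, [1, 3, 5, 3, 6, 5, 10]⟩, ⟨[24], 883, true, [0, 10, 5, 3, 6, 5, 3, 6, 2, 6]⟩] [⟨[66, 38, 66, 38], 406, false, [1, 6, 2, 6, 5, 3, 6, 2]⟩]),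
  (⟨false, 4, 2, [66, 47, 47, 38, 29, 30, 2, 17, 18], [59, 45, 54, 45, 41, 28, 16, 10], [63, 50, 50, 30, 32, 34, 2, 23, 17, 23]⟩, .loop 70 2 [61, 47, 42, 28, 41, 27, 16, 16, 10, 10] 2 3 [⟨[], 1243, true, [2, 6, 1, 10, 5, 6, 2, 4]⟩] [⟨[23], 340, true, [1, 2, 4, 6, 10, 5, 6, 2, 6]⟩, ⟨[23, 24, 23], 1294, true, [0, 3, 4, 6, 5, 3, 6, 2, 4, 6]⟩]),
  (⟨false, 2, 2, [58, 49, 44, 35, 40, 16, 10, 16, 16, 11], [66, 54, 47, 38, 33, 40, 2, 17, 17, 11, 22], [58, 44, 47, 52, 33, 34, 40, 16, 16, 11, 18, 23]⟩, .loop 47 2 [59, 45, 48, 36, 28, 38, 16, 16, 22] 2 3 [⟨[24], 480, false, [1, 3, 4, 6, 2, 5, 6, 4, 5, 3]⟩] [⟨[23, 24], 1018, false, [10, 5, 3, 6, 2, 6, 5, 6, 4]⟩]),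
  (⟨false, 2, 2, [66, 46, 44, 54, 28, 34, 31, 16, 8, 17, 23, 8], [56, 50, 41, 30, 37, 2, 17, 23, 4, 10], [66, 45, 56, 50, 30, 32, 26]⟩, .loop 73 2 [62, 47, 42, 34, 26, 35, 2, 23, 17, 22] 2 3 [⟨[], 1170, true, [3, 5, 6, 4, 6, 5, 6, 2, 6, 10]⟩] [⟨[23, 24, 23], 516, false, [0, 6, 2, 6, 4, 5, 3, 6, 2, 6, 2]⟩, ⟨[24], 1257, true, [1, 2, 6, 4, 5, 10]⟩]),
  (⟨false, 2, 2, [59, 49, 53, 33, 30, 36, 16, 24, 16, 21], [58, 47, 49, 56, 31, 34, 28, 19, 6, 23, 16], [60, 44, 51, 34, 26, 29, 16, 16, 24, 11]⟩, .loop 33 2 [61, 50, 50, 33, 41, 2, 17, 18, 22, 11] 2 3 [⟨[24], 623, false, [5, 6, 4, 5, 6, 2, 6, 5, 10]⟩] [⟨[23, 24, 23], 867, false, [1, 3, 6, 2, 6, 2]⟩, ⟨[23, 24, 23], 1041, false, [1, 6, 10, 5, 6, 2]⟩]),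
  (⟨false, 5, 2, [66, 57, 55, 38, 30, 26, 16, 16, 21], [47, 55, 30, 27, 30, 2, 23, 17, 24], [66, 44, 43, 53, 28, 34, 16, 16, 25, 23]⟩, .loop 71 2 [59, 44, 56, 28, 34, 36, 16, 25, 17] 2 3 [⟨[23], 618, true, [0, 3, 5, 6, 4, 6, 4, 5, 3]⟩] [⟨[24, 23], 421, true, [1, 2, 5, 6, 4, 5, 3, 5]⟩, ⟨[24, 23], 719, false, [0, 4, 10, 5, 6, 2, 5, 3]⟩]),
  (⟨false, 2, 2, [62, 45, 50, 31, 41, 2, 17, 23, 11], [66, 46, 56, 28, 36, 40, 2, 23, 23, 17, 12], [61, 45, 56, 55, 30, 32, 40, 16, 2, 16, 2]⟩, .loop 68 2 [62, 44, 47, 47, 36, 40, 37, 16, 10, 23, 17] 4 5 [⟨[], 931, false, [0, 2, 6, 10, 5, 6, 2, 4]⟩, ⟨[24, 23], 1171, false, [1, 6, 5, 6, 4, 5, 3, 5, 6]⟩] [⟨[], 609, false, [4, 5, 3, 6, 5, 6, 4, 10, 5]⟩]),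
  (⟨false, 2, 2, [63, 50, 44, 34, 37, 2, 17, 17, 22], [58, 50, 47, 30, 40, 28, 2, 17, 23, 12, 10], [62, 45, 56, 50, 41, 27, 34, 16, 25, 22]⟩, .loop 69 2 [67, 46, 42, 51, 33, 38, 37, 19, 6, 23, 23] 2 3 [⟨[], 733, true, [4, 6, 1, 5, 6, 10, 5, 10]⟩] [⟨[24], 799, true, [5, 6, 4, 10, 5, 6, 10, 5, 3]⟩, ⟨[23, 24], 379, false, [0, 6, 4, 6, 2, 6, 10, 5, 3, 6, 5]⟩]),
  (⟨false, 2, 2, [58, 44, 47, 44, 35, 40, 2, 23, 8, 23], [61, 47, 44, 31, 26, 30, 2, 17, 17, 23, 16], [60, 46, 51, 35, 36, 16, 16, 22]⟩, .loop 57 2 [58, 45, 49, 31, 35, 38, 2, 17, 18, 22, 11] 14 15 [⟨[24], 835, false, [5, 10, 5, 6, 5, 6, 4]⟩, ⟨[23, 24], 380, false, [1, 4, 5, 3, 5, 6, 4]⟩, ⟨[23, 24, 23], 816, true, [1, 2, 6, 5, 6, 4, 6, 2, 5, 10]⟩, ⟨[23, 24, 23], 1282, false, [1, 2,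 10, 5, 3, 6, 4, 6, 5, 3]⟩, ⟨[24], 704, true, [0, 6, 5, 10, 5, 6, 4, 5, 10]⟩, ⟨[23], 1170, false, [0, 10, 5, 3, 6, 5, 3, 6, 4, 6]⟩, ⟨[23], 633, true, [0, 6, 2, 6, 10, 5, 3, 6, 2, 6]⟩] []),
  (⟨false, 2, 2, [59, 44, 42, 54, 28, 31, 41, 16, 16, 21], [66, 49, 44, 30, 26, 38, 16, 2, 11, 11], [59, 45, 53, 48, 38, 31, 2, 23, 17, 18]⟩, .loop 61 2 [63, 51, 51, 30, 35, 40, 28, 16, 24, 16, 8] 10 11 [⟨[], 914, true, [0, 2, 10, 5, 6, 4, 6, 2, 5]⟩, ⟨[24], 1224, false, [1, 6, 5, 6, 10, 5, 6, 4, 6]⟩, ⟨[], 331, true, [6, 4, 5, 6, 10, 5, 3, 6, 4]⟩, ⟨[24, 23], 591, false, [5, 3, 6, 1, 5, 6, 2, 10, 5, 6]⟩, ⟨[], 1125, false, [4, 5, 3, 6, 5, 10, 5]⟩] [⟨[24, 23], 949, true, [6, 4, 10, 5, 6, 2, 5]⟩, ⟨[23, 24, 23], 1056, true, [1, 4, 5, 6, 10, 5, 6, 10]⟩]),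
  (⟨false, 2, 2, [59, 44, 51, 38, 28, 41, 16, 16, 10, 13], [67, 52, 48, 33, 27, 2, 23, 10, 23, 4], [66, 48, 56, 38, 32, 34, 2, 17, 17, 17, 12]⟩, .loop 20 2 [63, 48, 47, 30, 32, 35, 16, 22, 22, 10] 2 3 [⟨[23], 871, false, [0, 10, 5, 6, 4, 10]⟩] [⟨[], 1117, true, [4, 10, 5, 3, 6, 1, 4, 5, 6, 5]⟩, ⟨[23], 873, true, [4, 5, 3, 6, 5, 6, 2, 6, 2]⟩]),
  (⟨false, 2, 2, [59, 44, 34, 31, 38, 2, 16, 6, 23, 23], [59, 50, 47, 30, 32, 34, 16, 16, 20, 25, 23], [61, 44, 43, 51, 41, 26, 37, 16, 11, 19, 22]⟩, .loop 63 2 [67, 48, 43, 16, 16, 4, 16] 2 3 [⟨[23], 765, false, [2, 3, 6, 4, 6, 5, 6, 4]⟩] [⟨[], 726, false, [6, 1, 4, 5, 6, 2, 10]⟩, ⟨[], 761, true, [0, 4, 5, 3, 6, 5, 6, 2, 10]⟩, ⟨[23, 24, 23], 591, true, [5, 3, 5, 6, 4, 6, 2]⟩, ⟨[23, 24], 1249, true,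 [4, 10, 5, 3, 6, 4, 5]⟩, ⟨[24], 915, true, [0, 4, 5, 3, 6, 4, 6, 4, 6, 5]⟩, ⟨[23], 1056, true, [1, 2, 5, 3, 6, 2, 5, 10]⟩]),
  (⟨false, 2, 2, [61, 48, 48, 30, 30, 36, 2, 17, 23, 21], [67, 49, 44, 28, 40, 26, 16, 16, 19, 20], [67, 50, 50, 36, 26, 26, 16, 16, 13, 10]⟩, .loop 71 2 [67, 54, 47, 38, 30, 35, 17, 23, 17, 22] 2 3 [⟨[23, 24], 171, false, [1, 2, 6, 4, 5, 6, 5]⟩] [⟨[], 1285, false, [3, 4, 6, 5, 6, 4, 6, 5, 10, 5]⟩, ⟨[], 877, false, [6, 1, 4, 6, 2, 5, 10]⟩]),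
  (⟨false, 2, 2, [67, 47, 52, 30, 29, 34, 2, 23, 13, 23, 6], [58, 44, 47, 33, 29, 16, 24, 16], [59, 44, 57, 55, 28, 34, 37, 16, 11, 16, 21, 22]⟩, .loop 50 2 [62, 49, 45, 30, 30, 28, 2, 17, 17, 13, 25] 4 5 [⟨[], 1194, true, [3, 4, 6, 1, 2, 6, 5]⟩, ⟨[24], 1210, true, [1, 2, 3, 6, 2, 5, 6, 2]⟩] [⟨[24], 1075, true, [2, 5, 6, 5, 3, 6, 5, 6, 2, 6]⟩, ⟨[23], 1157, false, [4, 6, 10, 5, 6, 5, 10]⟩, ⟨[24], 933, true, [2, 6, 10, 5, 6, 4, 6, 2, 5, 10]⟩, ⟨[23, 24], 216, false, [5, 3, 6, 5, 6, 5, 3, 5]⟩, ⟨[24, 23], 1333, false, [5, 6, 5, 10, 5]⟩]),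
  (⟨false, 2, 2, [55, 33, 34, 38, 17, 23, 23, 8], [63, 47, 44, 51, 30, 40, 29, 2, 17, 23, 17], [62, 47, 51, 31, 26, 40, 2, 23, 23, 18, 6]⟩, .loop 28 2 [58, 52, 48, 28, 31, 35, 16, 16, 8, 18] 4 5 [⟨[23], 331, false, [0, 5, 3, 6, 5, 6, 10]⟩, ⟨[24, 23], 1074, false, [3, 4, 6, 2, 6, 5, 6, 4, 10]⟩] [⟨[], 910, true, [0, 2, 5, 3, 6, 2, 5, 6, 4, 6, 5]⟩]),
  (⟨false, 2, 2, [67, 48, 50, 30, 26, 35, 16, 16, 10, 21, 17], [66, 36, 27, 2, 17, 23, 6, 20], [60, 48, 57, 31, 29, 27, 2, 23, 23, 8, 17]⟩, .loop 18 2 [67, 57, 53, 38, 37, 2, 17, 23, 23, 19] 6 7 [⟨[23], 514, false, [0, 3, 4, 5, 3, 6, 2, 4, 5]⟩, ⟨[23, 24], 1202, true, [4, 5, 6, 10, 5, 3, 6, 2, 4]⟩, ⟨[23, 24], 738, true, [2, 3, 5, 6, 4, 6, 2, 5, 6]⟩] []),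
  (⟨false, 2, 2, [60, 50, 48, 40, 40, 2, 17, 17, 6, 24], [50, 49, 36, 32, 30, 16, 18, 16, 25], [58, 51, 31, 26, 30, 16, 18, 16, 4]⟩, .loop 19 2 [52, 48, 28, 41, 35, 2, 23, 23, 18, 11] 2 3 [⟨[], 251, true, [0, 3, 5, 6, 4, 5, 6, 4, 6, 2]⟩] [⟨[], 100, false, [3, 4, 5, 3, 6, 5, 3, 6, 4, 5]⟩, ⟨[38, 66, 66], 1263, false, [2, 10, 5, 3, 6, 2, 4, 5]⟩]),
  (⟨false, 2, 2, [66, 44, 49, 28, 41, 35, 16, 2, 24, 6, 17], [63, 44, 42, 51, 28, 30, 35, 2, 17, 0, 23, 23], [60, 51, 46, 33, 34, 38, 16, 18, 24, 6]⟩, .loop 64 2 [59, 51, 49, 31, 34, 41, 17, 23, 4, 6] 8 9 [⟨[], 437, true, [0, 3, 4, 6, 4, 5, 10, 5, 6, 5]⟩, ⟨[], 317, true, [2, 6, 4, 6, 2, 5, 6, 10]⟩, ⟨[], 1053, false, [3, 5, 6, 10, 5, 6, 2, 5, 3, 6]⟩, ⟨[], 890, true, [6, 5, 6, 2, 6, 10, 5, 6, 2]⟩]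 [⟨[24], 626, false, [6, 2, 5, 3, 6, 4, 6, 5, 10, 5]⟩, ⟨[], 1314, true, [4, 5, 6, 10, 5, 6, 2, 4, 10]⟩, ⟨[23], 548, false, [0, 4, 10, 5, 3, 6, 2, 6, 2, 4, 5]⟩]),
  (⟨false, 2, 2, [60, 50, 50, 38, 32, 16, 16, 16, 11], [59, 44, 43, 57, 34, 26, 32, 2, 17, 23, 18], [58, 50, 31, 29, 35, 2, 23, 17, 2]⟩, .loop 49 2 [62, 46, 42, 51, 30, 41, 27, 16, 16, 16, 4] 4 5 [⟨[24], 730, true, [3, 6, 4, 5, 3, 6, 5, 3, 6]⟩, ⟨[], 1285, false, [1, 10, 5, 3, 6, 5, 6, 2, 4, 5]⟩] []),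
  (⟨false, 2, 2, [62, 54, 47, 30, 27, 28, 16, 22, 22, 8], [58, 44, 46, 48, 30, 26, 28, 2, 16, 16, 6], [66, 44, 43, 57, 30, 40, 29, 2, 23, 23, 18, 11]⟩, .loop 32 2 [58, 47, 47, 52, 28, 40, 33, 16, 24, 6] 4 5 [⟨[23], 592, true, [1, 10, 5, 6, 4, 6, 4, 5, 3, 6]⟩, ⟨[23], 504, false, [4, 6, 2, 5, 6, 5, 3]⟩] [⟨[24], 879, true, [0, 2, 4, 5, 6, 2, 10, 5, 6, 2, 4]⟩]),
  (⟨false, 2, 2, [63, 45, 56, 55, 35, 35, 31, 2, 23, 17, 6], [63, 45, 42, 51, 30, 34, 2, 23, 18, 6], [59, 48, 45, 30, 35, 40, 2, 17, 17, 10, 17]⟩, .loop 71 2 [63, 45, 57, 33, 34, 30, 2, 23, 17, 19, 6] 4 5 [⟨[], 1182, false, [2, 4, 6, 10, 5, 6, 5, 10, 5, 6]⟩, ⟨[23, 24], 496, false, [1, 3, 6, 2, 6, 4]⟩] [⟨[24], 1089, false, [1, 4, 6, 2, 5, 6, 10, 5]⟩])]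

/-- facts 1344 and on -/
def facts42 : List (Fact × Why) := [
  (⟨false, 2, 2, [63, 45, 50, 45, 31, 29, 40, 16, 16, 16, 11], [58, 51, 55, 34, 40, 27, 2, 23, 23, 21], [58, 45, 50, 34, 40, 29, 16, 16, 2, 11, 12]⟩, .loop 35 2 [58, 46, 48, 54, 28, 38, 29, 2, 23, 17, 19] 2 3 [⟨[23, 24, 23], 1076, true, [1, 6, 5, 3, 6, 4, 5, 6, 4, 6]⟩] [⟨[], 925, false, [1, 2, 6, 5, 3, 6, 5, 6, 4]⟩, ⟨[23, 24], 1237, true, [6, 4, 6, 2, 6, 4, 5, 10, 5]⟩]),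
  (⟨false, 2, 2, [67, 44, 55, 50, 41, 26, 37, 16, 16, 4, 13, 17], [60, 47, 31, 29, 40, 16, 11, 18], [59, 50, 45, 30, 27, 32, 16, 16, 2, 10, 21]⟩, .loop 32 2 [62, 57, 30, 27, 30, 16, 10, 18] 6 7 [⟨[23, 24], 663, true, [0, 10, 5, 6, 10, 5, 6, 2, 6, 4]⟩, ⟨[66, 66, 37, 66], 1185, true, [10, 5, 6, 2, 6, 4, 5, 10]⟩, ⟨[], 356, false, [2, 6, 1, 5, 6, 2, 10, 5, 6, 2]⟩] []),
  (⟨false, 2, 2, [58, 44, 47, 52, 28, 30, 26, 16, 4, 16, 16, 10], [61, 48, 44, 35, 35, 35, 16, 16, 10, 18], [67, 46, 48, 41, 30, 28, 16, 18, 16, 19]⟩, .loop 29 2 [66, 47, 42, 34, 31, 17, 23, 18, 22] 2 3 [⟨[], 1299, false, [2, 4, 5, 6, 2, 10, 5, 6, 4]⟩] [⟨[23], 564, false, [2, 4, 5, 6, 5, 3, 6, 5, 6, 5]⟩, ⟨[], 798, false, [2, 5, 3, 6, 1, 5, 10, 5]⟩]),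
  (⟨false, 2, 2, [60, 45, 50, 31, 33, 34, 2, 17, 22, 6, 22], [66, 51, 42, 41, 26, 37, 16, 16, 19, 4], [59, 49, 46, 30, 28, 41, 2, 16, 16, 22, 22]⟩, .loop 71 2 [60, 51, 53, 33, 35, 32, 16, 10, 17, 6, 23] 6 7 [⟨[24, 23], 759, true, [0, 2, 4, 6, 5, 3, 5, 6, 5, 10]⟩, ⟨[24, 23], 663, true, [2, 4, 5, 3, 6, 1, 4, 5, 10]⟩, ⟨[66, 37, 66, 66, 38], 1277, false, [0, 2, 6, 4, 5, 6, 4, 6, 2]⟩] []),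
  (⟨false, 2, 2, [67, 54, 47, 31, 41, 26, 16, 16, 4, 20], [61, 47, 44, 30, 34, 28, 2, 17, 23, 23, 8], [45, 53, 48, 30, 38, 37, 17, 23, 23, 16]⟩, .loop 54 2 [62, 55, 42, 33, 27, 34, 2, 23, 17, 8, 21] 8 9 [⟨[23], 1120, true, [1, 6, 5, 6, 10, 5, 6, 2, 6, 4]⟩, ⟨[24], 1105, true, [6, 2, 4, 5, 6, 2, 6, 4, 10]⟩, ⟨[], 1010, false, [1, 3, 4, 5, 6, 2, 4, 5, 3]⟩, ⟨[], 491, false, [3, 4, 5, 6, 10, 5, 6, 5, 3]⟩] [⟨[23, 24, 23], 1206, true, [2, 4, 6, 1, 5, 6, 2, 4, 10, 5]⟩, ⟨[24], 360, true, [2, 4, 6, 1, 4, 5, 3, 6, 5, 10]⟩, ⟨[23], 273, false, [3, 4, 6, 5, 10, 5]⟩]),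
  (⟨false, 2, 2, [44, 42, 48, 31, 28, 41, 2, 17, 22, 16, 10], [63, 44, 43, 57, 33, 27, 31, 18, 23, 17, 6], [63, 49, 51, 28, 41, 29, 2, 17, 17, 6, 4]⟩, .loop 73 2 [62, 46, 57, 31, 34, 16, 16, 19, 23] 6 7 [⟨[23], 191, true, [0, 6, 4, 5, 10, 5, 6, 2, 5]⟩, ⟨[23], 399, false, [1, 10, 5, 6, 5, 3, 5, 6, 4, 6]⟩, ⟨[24], 1132, true, [3, 6, 2, 6, 4, 6, 5, 6, 4]⟩] []),
  (⟨false, 2, 2, [60, 47, 48, 28, 41, 28, 16, 11], [66, 47, 54, 34, 29, 36, 18, 23, 23, 23], [67, 51, 53, 28, 35, 40, 2, 17, 18, 22, 24]⟩, .loop 33 2 [63, 47, 42, 31, 28, 2, 17, 22, 16, 10] 6 7 [⟨[24, 23], 972, true, [1, 6, 4, 5, 3, 6, 5, 6, 4, 10]⟩, ⟨[23, 24], 317, true, [10, 5, 6, 10, 5, 3, 6, 4, 5]⟩, ⟨[23, 24, 23], 429, false, [0, 6, 5, 6, 4, 6, 10, 5, 3, 6]⟩] []),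
  (⟨false, 2, 2, [58, 51, 51, 35, 36, 29, 16, 16, 20, 13], [58, 48, 56, 33, 36, 30, 2, 23, 17, 24, 17], [58, 45, 46, 33, 33, 31, 16, 16, 20, 19]⟩, .loop 69 2 [58, 46, 51, 55, 34, 33, 16, 16, 8, 6] 4 5 [⟨[24], 606, false, [1, 5, 10, 5, 6, 4, 5, 10, 5, 6]⟩, ⟨[24], 1322, false, [0, 4, 6, 5, 3, 6, 4, 5, 6]⟩] [⟨[], 484, true, [6, 4, 10, 5, 6, 10, 5]⟩]),
  (⟨false, 2, 2, [62, 46, 48, 34, 37, 16, 8, 22], [62, 44, 43, 31, 34, 16, 10, 16, 24], [59, 50, 48, 28, 36, 40, 36, 16, 16, 24, 18]⟩, .loop 58 2 [62, 45, 28, 38, 29, 16, 11, 16, 11, 19] 10 11 [⟨[23], 318, true, [6, 4, 5, 3, 5, 6, 2, 6, 4]⟩, ⟨[24, 23], 477, true, [0, 2, 6, 4, 10, 5, 3]⟩, ⟨[], 575, false, [4, 6, 1]⟩, ⟨[23, 24, 23], 376, true, [1, 2, 5, 6, 4, 5, 6, 5, 3]⟩, ⟨[23, 24], 427, false,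 [0, 4, 6, 2, 5, 6, 2, 10]⟩] [⟨[23, 24], 956, true, [1, 2, 10, 5, 6, 2, 4, 5, 6, 2]⟩, ⟨[23, 24, 23], 1308, true, [2, 3, 6, 5, 6, 2, 6, 2]⟩]),
  (⟨false, 2, 2, [58, 46, 56, 34, 37, 34, 2, 17, 22, 6, 16], [58, 51, 51, 36, 28, 34, 16, 24, 16], [59, 45, 42, 49, 31, 29, 35, 2, 17, 17, 24, 23]⟩, .loop 44 2 [58, 51, 51, 36, 28, 34, 16, 24, 16, 11] 4 5 [⟨[], 630, false, [1, 4, 5, 6, 4, 6, 5, 3, 5, 6]⟩, ⟨[23], 638, false, [1, 2, 6, 4, 5, 6, 10, 5, 6]⟩] []),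
  (⟨false, 5, 5, [66, 44, 46, 28, 35, 27, 16, 16, 10, 20, 16], [60, 44, 34, 26, 30, 2, 17, 0, 23, 17], [62, 44, 43, 53, 35, 31, 2, 23, 13, 23, 23]⟩, .loop 18 2 [59, 45, 48, 28, 40, 30, 16, 16, 4, 8] 2 3 [⟨[24], 1293, true, [1, 2, 5, 6, 5, 6, 10, 5, 6, 2, 6]⟩] [⟨[23, 24, 23], 1334, true, [0, 2, 3, 6, 4, 6, 5, 3, 6]⟩, ⟨[], 518, false, [2, 6, 2, 6, 4, 5, 6, 4]⟩]),
  (⟨false, 2, 2, [61, 45, 57, 30, 27, 32, 2, 17, 17, 19], [60, 48, 45, 31, 26, 40, 2, 17, 22, 16, 21], [58, 55, 47, 33, 27, 40, 17, 23, 17, 22]⟩, .loop 68 5 [59, 50, 41, 41, 16, 18, 16, 4] 4 5 [⟨[], 229, false, [5, 3, 6, 1, 2, 5]⟩, ⟨[23], 652, true, [0, 4, 5, 6, 4, 6, 5, 3]⟩] [⟨[38, 66, 37], 329, true, [0, 5, 6, 4, 5, 3, 6, 2, 4]⟩]),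
  (⟨false, 2, 2, [60, 52, 49, 31, 35, 2, 17, 17, 18, 23], [63, 44, 51, 28, 31, 27, 31, 2, 17, 22, 6, 16], [67, 55, 42, 28, 36, 40, 16, 18, 16]⟩, .loop 49 2 [63, 47, 53, 28, 36, 34, 2, 16, 6, 17, 6] 4 5 [⟨[24], 1171, false, [0, 4, 5, 6, 4, 5]⟩, ⟨[23], 714, true, [1, 4, 6, 5, 10, 5, 6, 2, 5, 10]⟩] []),
  (⟨false, 2, 2, [67, 52, 50, 30, 26, 31, 17, 22, 21], [50, 42, 31, 33, 36, 2, 23, 17, 22, 6], [62, 45, 54, 45, 36, 26, 26, 16, 11, 18, 17]⟩, .loop 29 4 [60, 30, 26, 30, 2, 23, 17, 2, 6] 2 3 [⟨[61, 30, 29], 103, true, [3, 6, 4, 6, 2, 5, 6, 5, 6]⟩] [⟨[61, 63, 28, 63], 188, true, [6, 5, 6, 4, 5, 3, 5, 6]⟩, ⟨[23, 24, 23], 1244, false, [1, 3, 6, 2, 6, 2, 5, 6, 10]⟩]),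
  (⟨false, 2, 2, [60, 50, 44, 30, 30, 35, 2, 16, 16, 16, 4], [62, 54, 38, 35, 36, 16, 16, 11, 18, 23], [58, 50, 47, 36, 27, 35, 17, 23, 23, 16]⟩, .loop 68 2 [58, 51, 42, 30, 35, 35, 2, 17, 22, 22, 6] 6 7 [⟨[23], 838, true, [3, 4, 5, 6, 2, 6, 4, 10, 5, 3]⟩, ⟨[23, 24, 23], 382, true, [2, 3, 6, 1, 5, 6, 2, 6, 10, 5]⟩, ⟨[], 554, false, [2, 4, 5, 6, 4, 5, 10, 5]⟩] []),
  (⟨false, 2, 2, [66, 44, 43, 51, 41, 26, 2, 17, 22, 22, 21], [63, 55, 49, 33, 36, 41, 17, 23, 18, 23], [66, 57, 41, 34, 30, 2, 17, 23, 11, 24]⟩, .loop 33 2 [63, 44, 55, 52, 34, 33, 16, 16, 11, 23, 23] 6 7 [⟨[], 310, true, [3, 4, 6, 2, 4, 5, 6, 4, 5]⟩, ⟨[38, 37, 66], 267, true, [3, 6, 2, 6, 5, 3, 6, 5, 6]⟩, ⟨[23, 24, 23], 671, false, [2, 5, 6, 2, 4, 5, 3, 6, 5, 10]⟩] []),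
  (⟨false, 2, 2, [61, 45, 43, 45, 28, 31, 41, 17, 17, 22, 21], [61, 44, 55, 40, 30, 2, 17, 23, 23, 4], [60, 54, 50, 36, 35, 16, 10, 13]⟩, .loop 30 2 [66, 47, 42, 34, 27, 16, 22, 22, 24] 6 7 [⟨[], 903, false, [0, 6, 4, 10, 5, 6, 2, 5, 6, 4, 10]⟩, ⟨[24, 23], 615, true, [10, 5, 6, 2, 6, 4, 6, 5, 6, 10]⟩, ⟨[61, 53, 28], 178, true, [6, 5, 3, 6, 2, 6, 5, 6]⟩] []),
  (⟨false, 2, 2, [66, 45, 52, 31, 27, 16, 16, 19], [47, 51, 36, 32, 26, 2, 17, 17, 0, 13], [66, 51, 43, 34, 27, 38, 16, 18, 16, 4]⟩, .loop 22 2 [63, 44, 47, 30, 40, 28, 16, 16, 4, 18] 6 7 [⟨[23], 1152, false, [2, 6, 2, 4, 5, 6, 5, 6, 10]⟩, ⟨[23], 1075, true, [1, 3, 6, 4, 6, 2, 6, 5, 10]⟩, ⟨[24, 23], 1294, false, [1, 2, 4, 6, 5, 3, 6, 2, 5]⟩] []),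
  (⟨false, 2, 2, [61, 48, 48, 28, 2, 23, 23, 21, 16], [62, 47, 44, 51, 31, 33, 34, 17, 17, 17, 8], [61, 50, 47, 36, 32, 26, 2, 17, 0, 17, 19]⟩, .loop 35 2 [63, 52, 44, 30, 32, 31, 2, 17, 18, 22, 24] 6 7 [⟨[], 1330, true, [0, 6, 4, 6, 2, 5, 6, 2]⟩, ⟨[24, 23], 878, true, [1, 6, 2]⟩, ⟨[24], 1355, true, [1, 3, 5, 6, 4, 5, 10, 5, 6, 5]⟩] []),
  (⟨false, 5, 2, [44, 51, 48, 33, 38, 16, 2, 10, 23], [63, 52, 49, 36, 26, 26, 16, 2, 24, 6, 17], [57, 34, 31, 35, 16, 16, 4, 16]⟩, .loop 30 2 [59, 44, 51, 48, 30, 41, 29, 16, 4, 16, 2] 2 3 [⟨[23], 1300, true, [1, 4, 10, 5, 6, 4, 10, 5, 6, 2]⟩] [⟨[23], 1048, false, [1, 4, 6, 2, 4, 5, 6, 2]⟩, ⟨[23, 24, 23], 333, false, [4, 6, 1, 2, 6, 10, 5]⟩]),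
  (⟨false, 2, 2, [66, 44, 47, 52, 36, 29, 31, 16, 10, 18, 16], [59, 47, 49, 31, 33, 17, 23, 17, 22, 24], [59, 45, 42, 49, 31, 28, 36, 16, 10, 8, 16]⟩, .loop 28 2 [62, 44, 57, 49, 36, 29, 33, 2, 23, 23, 8, 18] 2 3 [⟨[], 505, true, [3, 5, 6, 10, 5, 6, 4, 6, 4, 5]⟩] [⟨[24], 1192, false, [10, 5, 6, 4, 5, 3, 5, 6, 5, 3]⟩, ⟨[24, 23], 785, false, [1, 3, 6, 5, 3, 6, 5, 10, 5, 6]⟩]),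
  (⟨false, 2, 2, [58, 46, 28, 31, 34, 2, 17, 17, 11, 19], [63, 49, 56, 33, 34, 31, 16, 16, 10, 8, 22], [60, 44, 42, 51, 34, 26, 32, 16, 16, 20]⟩, .loop 35 2 [62, 47, 49, 56, 33, 29, 31, 16, 19, 6, 17] 2 3 [⟨[24], 284, false, [3, 6, 5, 3, 6, 4, 5, 3]⟩] [⟨[24], 591, false, [3, 6, 2, 6, 5, 6, 4, 6, 10, 5]⟩, ⟨[23, 24], 1267, false, [6, 1, 4, 5, 6, 10, 5, 3, 6]⟩]),
  (⟨false, 2, 2, [59, 44, 43, 53, 28, 36, 40, 36, 2, 17, 17, 19, 25], [67, 44, 43, 51, 28, 34, 30, 29, 17, 17, 17], [60, 44, 42, 31, 37, 16, 16, 2, 23]⟩, .loop 47 2 [59, 46, 42, 35, 31, 34, 2, 23, 17, 19, 6] 4 5 [⟨[], 1048, true, [3, 6, 2, 5, 6, 4, 6]⟩, ⟨[24], 183, true, [0, 3, 6, 4, 6, 2, 6, 5, 6, 5]⟩] []),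
  (⟨false, 2, 3, [62, 31, 34, 28, 16, 10, 23, 17], [58, 45, 42, 49, 30, 40, 26, 2, 17, 0], [61, 47, 55, 28, 31, 35, 2, 23, 17, 23, 11]⟩, .loop 44 2 [45, 43, 35, 31, 34, 2, 17, 23, 20, 11] 2 3 [⟨[24], 644, true, [0, 2, 6, 4, 5, 3, 6, 5, 6, 2]⟩] [⟨[23, 24, 23], 213, true, [1, 5, 3, 6, 4, 5, 6, 2, 10, 5]⟩]),
  (⟨false, 2, 2, [67, 45, 56, 50, 30, 29, 27, 16, 24, 16, 25], [59, 44, 42, 51, 35, 35, 31, 17, 23, 17, 19], [60, 44, 51, 35, 31, 2, 17, 17, 2, 22]⟩, .loop 32 5 [63, 47, 50, 34, 29, 16, 25, 17] 4 5 [⟨[], 166, false, [0, 2, 5, 3, 6, 4, 6, 2, 5, 6]⟩, ⟨[], 1100, true, [2, 5, 3, 6, 4, 6, 4, 5, 6]⟩] [⟨[38, 37], 537, false, [2, 5, 6, 10, 5, 6, 4, 6, 2]⟩]),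
  (⟨false, 4, 4, [63, 45, 57, 33, 31, 36, 2, 23, 23, 23], [63, 48, 53, 31, 32, 29, 2, 23, 23, 25, 10], [67, 44, 42, 57, 35, 28, 37, 2, 16, 16, 22, 24]⟩, .loop 33 4 [67, 47, 50, 31, 28, 37, 2, 17, 23, 12, 16] 6 7 [⟨[], 363, true, [6, 2, 6, 2, 4, 5, 3, 6, 2, 5]⟩, ⟨[23, 24], 609, false, [2, 10, 5, 6, 5, 6, 4, 6]⟩, ⟨[23], 402, false, [6, 2, 6, 4, 5, 3, 6, 2, 5]⟩] []),
  (⟨false, 2, 2, [60, 49, 45, 33, 16, 11, 16, 25, 22], [61, 44, 46, 28, 30, 32, 17, 23, 16, 11], [66, 51, 55, 30, 27, 32, 2, 17, 17, 18, 21]⟩, .loop 58 2 [48, 57, 35, 31, 26, 16, 19, 22, 25] 8 9 [⟨[], 1033, false, [0, 5, 6, 4, 6, 2, 6, 10]⟩, ⟨[], 1055, true, [4, 5, 10, 5, 6, 1, 2, 6, 5]⟩, ⟨[23, 24], 595, true, [2, 3, 4, 6, 5, 6, 5, 10, 5]⟩, ⟨[23, 24], 1336, false, [5, 3, 6, 1]⟩]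 [⟨[23, 24, 23], 808, false, [0, 6, 2, 4, 6, 10, 5, 3, 6, 5, 10]⟩, ⟨[23, 24, 23], 1075, true, [3, 5, 3, 6, 2, 5]⟩, ⟨[24, 23], 1044, false, [6, 1, 5, 6, 10, 5, 3, 6, 5]⟩]),
  (⟨false, 2, 2, [59, 51, 36, 30, 33, 2, 17, 23, 18, 18], [59, 51, 47, 31, 28, 30, 2, 23, 4], [63, 55, 42, 28, 36, 29, 16, 18, 18]⟩, .loop 65 2 [59, 46, 51, 36, 31, 26, 2, 17, 17, 17, 21] 6 7 [⟨[], 1136, false, [1, 2, 4, 6, 5, 3, 6]⟩, ⟨[24], 670, false, [0, 4, 5, 6, 5, 6, 10]⟩, ⟨[], 299, true, [2, 10, 5, 6, 1, 2, 4]⟩] [⟨[], 1197, false, [1, 4, 6, 2, 5, 3, 6, 2, 4]⟩, ⟨[23], 1305, false, [0, 5, 6, 10, 5, 6, 2, 6, 4, 5]⟩, ⟨[23], 1286, false, [4, 5, 6, 2, 10, 5, 6, 5, 10]⟩, ⟨[], 1273, false, [2, 4, 6, 4, 5, 6, 5, 10, 5, 6]⟩]),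
  (⟨false, 2, 2, [66, 44, 42, 47, 35, 35, 26, 2, 23, 17, 0, 23], [66, 49, 56, 28, 41, 16, 16, 8, 17, 12], [67, 48, 43, 34, 40, 27, 2, 23, 17, 0, 25]⟩, .loop 35 2 [62, 48, 55, 28, 31, 29, 16, 16, 25, 16] 6 7 [⟨[], 570, false, [0, 4, 5, 6, 2, 5, 3, 6, 5, 10]⟩, ⟨[24], 332, false, [3, 5, 6, 10, 5, 6, 2, 6, 2]⟩, ⟨[], 999, true, [3, 6, 5, 10, 5, 6, 4, 6, 2]⟩] []),
  (⟨false, 2, 2, [66, 51, 49, 28, 36, 33, 2, 17, 18, 22, 22], [61, 48, 50, 30, 32, 32, 16, 16, 24, 6], [66, 55, 42, 31, 28, 38, 2, 17, 0, 23, 16]⟩, .loop 71 5 [59, 46, 48, 54, 38, 28, 31, 16, 11, 17] 4 5 [⟨[], 166, false, [0, 3, 4, 5, 6, 4, 6, 2, 5, 3]⟩, ⟨[23, 24, 23], 805, true, [0, 2, 5, 3, 6, 5, 6, 4, 6]⟩] [⟨[37, 38], 811, false, [0, 2, 4, 6, 5, 6, 2, 6]⟩]),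
  (⟨false, 2, 2, [47, 54, 31, 26, 36, 2, 17, 22, 22, 6], [62, 52, 30, 27, 30, 2, 17, 22, 22, 16], [63, 47, 56, 33, 35, 32, 16, 2, 24, 6, 17]⟩, .loop 28 2 [66, 46, 44, 54, 36, 27, 27, 2, 17, 23, 24, 23] 4 5 [⟨[], 1296, false, [3, 6, 4, 5, 6, 2, 6, 4, 6]⟩, ⟨[23, 24], 1016, false, [6, 1, 4, 6, 10]⟩] [⟨[23], 464, false, [1, 2, 5, 3, 6, 5, 6, 4, 6, 2]⟩]),
  (⟨false, 2, 2, [67, 48, 48, 28, 26, 41, 18, 23, 17, 23], [67, 45, 42, 47, 35, 28, 31, 16, 16, 19, 10], [63, 50, 46, 30, 26, 35, 2, 23, 19, 16]⟩, .loop 53 2 [59, 44, 47, 44, 31, 29, 40, 2, 17, 17, 13, 25] 4 5 [⟨[24], 1033, true, [1, 2, 6, 4, 5, 6, 5]⟩, ⟨[23, 24, 23], 1333, false, [3, 6, 5, 6, 2, 10, 5, 6]⟩] [⟨[], 1210, true, [2, 3, 4, 6, 4, 5, 6, 4, 5, 3, 6]⟩, ⟨[23, 24], 701, false, [0, 5,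 6, 2, 4]⟩, ⟨[], 1044, true, [1, 4, 6, 2, 5, 6, 4, 10]⟩, ⟨[23, 24, 23], 1157, false, [3, 6, 4, 6, 4, 6]⟩, ⟨[], 669, true, [0, 4, 6, 2, 5, 3, 6, 5]⟩])]

/-- facts 1376 and on -/
def facts43 : List (Fact × Why) := [
  (⟨false, 2, 2, [62, 54, 47, 34, 26, 34, 2, 23, 23, 11, 16], [60, 48, 42, 41, 28, 2, 17, 19, 22, 11], [59, 45, 43, 28, 34, 16, 2, 19]⟩, .loop 50 2 [59, 48, 42, 34, 28, 16, 16, 8, 16, 20] 12 13 [⟨[23], 761, true, [2, 3, 6, 2, 4, 5, 6, 4, 5]⟩, ⟨[23], 642, true, [1, 6, 5, 3, 6, 5, 6, 10]⟩, ⟨[24, 23], 448, true, [5, 6, 4, 10, 5, 3, 6, 2, 4]⟩, ⟨[], 1334, true, [1, 2, 5, 6, 5, 10, 5]⟩, ⟨[], 331, true, [6, 2, 5, 3, 6, 2, 5, 6, 4]⟩, ⟨[23], 698, false, [0, 2, 4, 6, 2, 6, 5, 10]⟩] [⟨[24, 23], 949, true, [0, 3, 5, 6, 4, 6, 4, 5, 10]⟩]),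
  (⟨false, 2, 2, [60, 44, 43, 57, 33, 30, 16, 16, 11, 18], [54, 43, 36, 32, 26, 17, 23, 23, 16], [62, 45, 57, 35, 38, 16, 16, 19, 10]⟩, .loop 72 2 [59, 47, 48, 36, 30, 16, 4, 16, 16, 24] 6 7 [⟨[], 595, false, [1, 2, 3, 5, 6, 2, 6, 4, 5, 3]⟩, ⟨[23], 155, true, [0, 3, 4, 6, 2, 6, 5, 10, 5, 6]⟩, ⟨[23], 595, true, [2, 3, 6, 1, 5, 3, 6, 2, 4]⟩] []),
  (⟨false, 2, 2, [60, 44, 55, 34, 33, 40, 16, 21, 16, 21], [62, 55, 49, 33, 33, 31, 2, 17, 22, 22, 16], [60, 44, 42, 46, 31, 28, 37, 16, 16, 25, 18]⟩, .loop 20 2 [59, 48, 53, 28, 30, 38, 2, 17, 23, 20, 13] 2 3 [⟨[24, 23], 1178, true, [0, 3, 6, 2, 6, 4, 6, 5]⟩] [⟨[24, 23], 921, true, [1, 4, 5, 6, 10, 5, 6, 4, 6, 2]⟩, ⟨[37, 66, 66, 38], 343, false, [0, 10, 5, 6, 10, 5, 6, 4, 6, 2]⟩]),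
  (⟨false, 2, 2, [46, 44, 54, 31, 28, 32, 2, 23, 17, 6, 22], [67, 46, 57, 28, 36, 32, 16, 19], [62, 45, 56, 31, 34, 28, 17, 22]⟩, .loop 56 2 [66, 45, 56, 50, 31, 36, 41, 2, 23, 17, 0, 25] 6 7 [⟨[23], 1107, true, [1, 2, 4, 6, 5, 3, 5, 6, 5, 3]⟩, ⟨[24, 23], 1120, false, [0, 2, 3, 5, 6, 2, 4, 5, 3, 6]⟩, ⟨[23, 24, 23], 855, false, [0, 3, 4, 5, 3, 6, 4, 6, 2, 4]⟩] [⟨[24], 360, false, [6, 2, 10, 5, 6, 4, 5, 6, 10]⟩, ⟨[], 942, false, [0, 5, 3, 6, 5, 3, 6, 5, 6]⟩, ⟨[23, 24], 982, false, [0, 3, 6, 2, 6, 4, 5, 10]⟩, ⟨[23, 24, 23], 491, true, [4, 6, 5, 6, 10, 5, 6, 4, 5]⟩]),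
  (⟨false, 2, 2, [44, 42, 33, 35, 16, 22, 22, 22], [59, 46, 42, 38, 34, 2, 17, 17, 25, 12], [58, 54, 28, 40, 28, 2, 17, 22, 22, 11]⟩, .loop 44 2 [58, 49, 44, 31, 28, 38, 2, 17, 17, 10, 25] 4 5 [⟨[23, 24, 23], 620, false, [5, 3, 5, 6, 4, 5, 6, 2, 6]⟩, ⟨[], 1184, true, [0, 4, 6, 5, 6, 4, 5, 6, 2]⟩] []),
  (⟨false, 2, 2, [61, 54, 44, 34, 28, 37, 2, 23, 6, 11], [44, 55, 38, 32, 36, 16, 16, 25, 25], [52, 50, 28, 40, 31, 16, 16, 4]⟩, .loop 71 2 [63, 44, 42, 57, 40, 40, 32, 16, 11, 17, 6] 4 5 [⟨[24], 602, true, [0, 6, 5, 3, 5]⟩, ⟨[66, 38, 37], 957, false, [4, 10, 5, 6, 4, 5, 6, 2, 10]⟩] [⟨[23, 24], 431, false, [2, 4, 6, 4, 6, 4, 5, 10, 5]⟩]),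
  (⟨false, 2, 2, [60, 49, 57, 28, 36, 29, 27, 2, 17, 17, 25, 21], [59, 46, 42, 51, 36, 32, 26, 16, 11, 16, 25], [59, 44, 47, 47, 28, 34, 40, 2, 16, 6]⟩, .loop 35 2 [60, 45, 56, 55, 31, 17, 17, 22, 16] 2 3 [⟨[23, 24], 1152, true, [3, 4, 6, 1, 2, 6, 4, 5, 3]⟩] [⟨[23, 24, 23], 390, false, [1, 2, 6, 4, 10, 5, 6, 10, 5, 3]⟩, ⟨[], 437, true, [3, 6, 2, 6, 5, 3, 6, 5, 10, 5]⟩]),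
  (⟨false, 2, 2, [66, 46, 49, 38, 33, 16, 16, 11, 16], [61, 44, 42, 47, 28, 34, 37, 2, 23, 19], [66, 45, 34, 16, 4, 16, 16, 10]⟩, .loop 17 2 [61, 48, 44, 30, 26, 30, 2, 23, 25, 19, 17] 4 5 [⟨[24, 23], 877, false, [6, 5, 3, 6, 2, 6, 5, 3, 6, 2]⟩, ⟨[23, 24, 23], 206, false, [1, 4, 5, 3, 5, 6, 2, 6, 4, 5]⟩] [⟨[23, 24, 23], 1236, true, [4, 6, 1, 4, 5, 10, 5, 6, 5]⟩]),
  (⟨false, 2, 2, [61, 44, 55, 52, 31, 36, 35, 2, 23, 17, 22], [66, 44, 43, 31, 35, 16, 16, 4, 24], [60, 46, 42, 51, 38, 26, 33, 16, 16, 10, 16, 2]⟩, .loop 48 2 [44, 31, 38, 2, 17, 23, 20, 19] 4 5 [⟨[23], 1306, true, [3, 6, 5, 6, 4, 5, 6, 4]⟩, ⟨[23, 24], 606, false, [0, 6, 4, 6, 10, 5, 6, 10]⟩] []),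
  (⟨false, 2, 2, [58, 45, 42, 45, 36, 32, 17, 22, 6, 17], [59, 57, 55, 28, 35, 31, 41, 16, 8, 17, 17], [58, 46, 38, 29, 30, 16, 10, 16, 2]⟩, .loop 22 2 [60, 46, 49, 34, 26, 34, 2, 17, 17, 19, 25] 4 5 [⟨[], 1187, true, [0, 6, 4, 6, 4, 10, 5, 3, 6, 2]⟩, ⟨[24, 23], 546, true, [2, 4, 6, 4]⟩] [⟨[23, 24, 23], 1106, true, [0, 5, 6, 4, 5, 3, 6, 4, 5, 10, 5]⟩]),
  (⟨false, 2, 2, [45, 33, 30, 32, 2, 17, 17, 13, 17], [50, 46, 30, 27, 32, 16, 4, 16, 4], [60, 47, 42, 33, 27, 34, 2, 17, 23, 20, 11]⟩, .loop 16 2 [58, 46, 42, 51, 28, 41, 35, 16, 4, 16, 25] 6 7 [⟨[23], 646, false, [2, 3, 6, 2, 5, 6, 4, 5, 10]⟩, ⟨[66, 38, 66, 66], 241, false, [1, 3, 5, 6, 5, 3, 6, 2, 6, 4, 5]⟩, ⟨[24], 903, true, [1, 6, 4, 6, 5, 6, 2, 10, 5]⟩] []),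
  (⟨false, 5, 2, [61, 47, 49, 31, 33, 33, 16, 16, 18, 17], [58, 44, 46, 35, 29, 31, 16, 16, 16], [60, 47, 53, 30, 34, 28, 16, 4, 16, 11]⟩, .loop 22 2 [67, 46, 51, 55, 31, 35, 26, 2, 17, 0, 23, 23] 6 7 [⟨[23], 638, false, [4, 5, 6, 5, 3, 6, 5, 6, 2, 4, 5]⟩, ⟨[23], 395, false, [0, 2, 5, 6, 2, 5, 3]⟩, ⟨[24, 23], 1310, true, [0, 6, 4, 5, 3, 5, 6, 2, 5, 6]⟩] []),
  (⟨false, 2, 2, [58, 55, 46, 40, 35, 2, 23, 17, 23, 25], [60, 50, 44, 30, 30, 34, 2, 17, 22, 22, 24], [58, 45, 56, 50, 35, 37, 16, 16, 10, 8, 22]⟩, .loop 35 2 [62, 55, 49, 34, 27, 28, 2, 17, 23, 10] 2 3 [⟨[23], 1004, false, [6, 5, 3, 6, 4, 5, 10, 5, 6]⟩] [⟨[], 263, false, [6, 4, 10, 5, 3]⟩, ⟨[24, 23], 891, false, [6, 4, 5, 6, 2, 5, 6]⟩]),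
  (⟨false, 2, 2, [44, 51, 48, 28, 30, 26, 34, 16, 25, 22, 6], [67, 47, 54, 28, 26, 36, 16, 4, 16, 16, 24], [63, 45, 45, 33, 36, 30, 16, 16, 2, 10, 21]⟩, .loop 66 2 [61, 45, 54, 45, 31, 26, 40, 19, 6, 23, 23] 4 5 [⟨[24], 210, false, [1, 2, 4, 6, 5, 6, 2, 6, 10]⟩, ⟨[37, 66], 887, false, [2, 5, 3, 6, 2, 6, 5, 6, 4, 5]⟩] [⟨[24, 23], 317, true, [1, 4, 5, 6, 10, 5, 6, 4, 6, 2, 10]⟩]),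
  (⟨false, 2, 2, [67, 51, 49, 36, 28, 16, 16], [67, 49, 45, 31, 41, 28, 2, 23, 17, 18], [66, 49, 45, 34, 26, 29, 16, 16, 2, 10]⟩, .loop 70 2 [60, 51, 47, 35, 31, 29, 16, 4, 16, 22] 4 5 [⟨[23], 1017, true, [3, 4, 6, 5, 6, 2, 10, 5, 6, 4]⟩, ⟨[24, 23], 1159, true, [2, 6, 2, 5, 6, 4, 6, 5, 10]⟩] [⟨[23], 1386, false, [0, 6, 4, 5, 6, 2, 5, 6, 4]⟩]),
  (⟨false, 2, 2, [67, 51, 47, 36, 32, 30, 2, 23, 23, 17, 12], [58, 50, 49, 31, 27, 32, 2, 17, 17, 18, 10], [67, 45, 42, 51, 33, 28, 37, 16, 16, 10, 13]⟩, .loop 61 2 [58, 48, 57, 35, 36, 29, 16, 16, 10, 21, 17] 10 11 [⟨[24], 1332, true, [4, 10, 5, 6, 4, 10]⟩, ⟨[23, 24, 23], 765, false, [6, 1, 4, 5, 3, 6, 2, 6, 5]⟩, ⟨[24], 388, true, [0, 3, 5, 6, 5, 3, 5, 6]⟩, ⟨[23, 24], 914, true, [0, 4, 5, 6, 5,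 6, 2, 4, 10]⟩, ⟨[], 915, true, [5, 6, 4, 6, 2, 4, 5, 6]⟩] [⟨[24], 1309, false, [0, 3, 6, 5, 6, 2, 6, 10, 5, 10]⟩, ⟨[23, 24], 591, false, [1, 6, 5, 6, 4, 5, 3, 6, 2]⟩]),
  (⟨false, 2, 2, [51, 46, 40, 16, 4, 16, 10], [62, 45, 46, 36, 27, 17, 17, 17, 25], [45, 42, 47, 28, 41, 28, 16, 21, 23, 23]⟩, .loop 50 2 [60, 44, 46, 48, 30, 30, 38, 16, 16, 24, 23] 14 15 [⟨[], 1197, true, [0, 5, 6, 2, 4, 6, 10, 5, 6]⟩, ⟨[], 1265, false, [2, 4, 6, 2, 5, 6, 4, 5, 3]⟩, ⟨[23, 24, 23], 208, true, [4, 6, 4, 6, 4, 5, 6, 2, 5, 10]⟩, ⟨[], 299, false, [2, 10, 5, 3, 6, 5, 6, 4, 6]⟩, ⟨[], 399, false, [1, 4, 10, 5, 6, 4, 5, 10, 5]⟩, ⟨[], 1273, false, [0, 6, 5, 6, 10, 5, 3, 6, 2]⟩, ⟨[], 655, true, [4, 6, 4, 5, 10, 5, 6, 4, 5]⟩] []),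
  (⟨false, 2, 2, [58, 49, 45, 28, 40, 36, 16, 16, 2], [59, 44, 46, 44, 36, 16, 11, 16, 11], [60, 47, 48, 28, 34, 31, 16, 4, 16, 22]⟩, .loop 65 2 [44, 57, 36, 29, 31, 2, 17, 17, 13, 25] 12 13 [⟨[23, 24, 23], 222, true, [1, 2, 4, 5, 6, 10, 5, 6, 4, 6, 10]⟩, ⟨[24, 23], 1077, false, [1, 10, 5, 3, 6, 5, 6, 5]⟩, ⟨[24], 427, false, [4, 10, 5, 6, 1, 10, 5, 6, 2, 6]⟩, ⟨[24, 23], 510, true, [1, 4, 6, 2, 6, 5, 3, 5, 6]⟩, ⟨[], 575, false, [0, 3, 6, 5, 6, 4]⟩, ⟨[23], 752, false, [0, 6, 2, 4, 5]⟩] [⟨[23], 956, false, [2, 3, 6, 1, 4, 6, 2, 5, 6, 2]⟩]),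
  (⟨false, 2, 2, [66, 45, 54, 30, 26, 31, 16, 16, 11, 25], [59, 44, 48, 52, 30, 41, 16, 11, 18, 23, 23], [60, 54, 47, 31, 34, 2, 17, 0, 23, 13]⟩, .loop 31 2 [62, 49, 42, 28, 31, 27, 31, 16, 16, 20, 8] 6 7 [⟨[24], 745, true, [5, 10, 5, 6, 1, 4, 5, 10, 5]⟩, ⟨[24], 1075, false, [0, 6, 4, 5, 6, 2, 5, 6, 10]⟩, ⟨[23, 24, 23], 859, true, [0, 3, 6, 4, 6, 2, 4, 5, 6, 2]⟩] []),
  (⟨false, 2, 2, [61, 45, 43, 45, 28, 35, 40, 16, 16, 16, 4, 13], [61, 47, 49, 56, 30, 32, 2, 17, 0], [61, 51, 43, 28, 38, 2, 23, 17, 24]⟩, .loop 35 2 [67, 55, 31, 34, 27, 2, 23, 17, 25, 12] 2 3 [⟨[24], 730, false, [2, 3, 5, 6, 5, 3, 6, 5, 6, 5]⟩] [⟨[24], 318, true, [1, 6, 4, 6, 5, 10, 5]⟩, ⟨[23, 24, 23], 940, false, [0, 6, 5, 6, 4, 10, 5, 6]⟩]),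
  (⟨false, 2, 2, [44, 48, 52, 36, 30, 33, 16, 16, 4, 23], [58, 54, 56, 30, 35, 37, 2, 23, 17, 0, 23], [60, 49, 47, 30, 40, 26, 16, 16, 20, 13]⟩, .loop 16 2 [58, 44, 57, 31, 27, 32, 16, 16, 11, 16] 4 5 [⟨[], 1163, false, [5, 3, 6, 1, 5, 6, 4, 6, 10, 5]⟩, ⟨[], 1336, false, [2, 3, 5, 6, 1, 4, 10, 5, 10]⟩] [⟨[24], 408, true, [6, 2, 6, 10, 5, 3, 6, 5, 3]⟩]),
  (⟨false, 2, 5, [67, 47, 49, 34, 31, 37, 16, 16], [48, 55, 35, 30, 26, 2, 17, 17, 6, 23], [61, 44, 48, 43, 28, 40, 37, 16, 16, 2, 19]⟩, .loop 22 5 [62, 47, 56, 30, 35, 16, 16, 2, 10, 21] 6 7 [⟨[66, 66], 122, false, [3, 5, 6, 5, 6, 10, 5, 6, 2, 5]⟩, ⟨[23, 24], 834, true, [0, 5, 6, 2, 4, 5, 6, 5]⟩, ⟨[23, 24, 23], 522, false, [1, 2, 4, 6, 4, 5, 10, 5, 6, 4, 6]⟩] []),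
  (⟨false, 2, 2, [59, 44, 46, 48, 28, 30, 27, 31, 2, 23, 23, 13, 17], [67, 45, 43, 45, 28, 31, 28, 16, 16, 24, 2], [58, 51, 51, 30, 29, 17, 17, 23, 20]⟩, .loop 17 2 [60, 45, 42, 45, 41, 32, 16, 16, 10, 21, 17] 2 3 [⟨[], 1374, false, [0, 2, 3, 4, 6, 2, 5, 6, 4]⟩] [⟨[23], 204, false, [4, 5, 6, 10, 5, 3, 6, 5, 6, 2, 5]⟩, ⟨[66, 38, 37], 563, true, [0, 5, 6, 4, 6, 2, 5, 3, 6]⟩]),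
  (⟨false, 2, 2, [55, 49, 30, 26, 31, 2, 17, 23, 21, 16], [58, 49, 31, 32, 36, 2, 23, 13, 23, 6], [44, 43, 57, 31, 26, 40, 2, 17, 17, 6, 4]⟩, .loop 33 2 [61, 47, 55, 30, 27, 38, 2, 17, 18] 4 5 [⟨[], 464, true, [5, 3, 6, 2, 4, 6, 5, 6, 10]⟩, ⟨[24, 23], 761, false, [2, 6, 4, 5, 6, 4, 6, 4, 10]⟩] [⟨[24], 1192, false, [0, 4, 6, 10, 5, 6, 5, 3]⟩]),
  (⟨false, 2, 2, [60, 46, 56, 31, 33, 30, 16, 16, 20, 8], [66, 47, 42, 30, 30, 38, 2, 23, 23, 8], [60, 44, 47, 33, 36, 41, 16, 16, 25, 23]⟩, .loop 72 2 [56, 50, 33, 31, 32, 2, 16, 16, 16, 6] 6 7 [⟨[], 725, true, [1, 4, 6, 2, 6, 10, 5, 3]⟩, ⟨[30, 28, 61], 672, true, [5, 3, 6, 4, 6, 5, 6, 5, 3]⟩, ⟨[24], 418, false, [0, 3, 4, 6, 5, 10, 5, 6, 5, 6]⟩] []),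
  (⟨false, 2, 2, [59, 49, 44, 36, 29, 33, 2, 17, 18, 22, 21], [46, 43, 30, 38, 16, 21, 17], [48, 52, 28, 38, 31, 2, 23, 23, 0]⟩, .loop 72 2 [67, 49, 46, 40, 30, 27, 2, 23, 23, 4, 19] 4 5 [⟨[], 764, false, [0, 2, 3, 4, 6, 2, 6, 5, 10]⟩, ⟨[23], 457, true, [0, 2, 3, 6, 4, 5, 6, 5]⟩] [⟨[24], 975, false, [3, 4, 6, 5, 6, 4, 5, 10]⟩]),
  (⟨false, 2, 2, [59, 45, 45, 38, 36, 2, 23, 23, 21], [47, 49, 34, 41, 2, 17, 22, 22, 24], [63, 52, 44, 28, 31, 27, 2, 17, 23, 24, 23]⟩, .loop 67 5 [60, 49, 42, 30, 32, 16, 10, 25] 4 5 [⟨[66, 66], 1035, true, [2, 3, 4, 6, 1, 2, 5]⟩, ⟨[], 973, false, [1, 2, 4, 6, 4, 5, 3, 6, 4]⟩] [⟨[66, 66, 38, 37, 66], 1067, false, [4, 6, 1, 2, 5, 6, 2, 10, 5]⟩]),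
  (⟨false, 2, 2, [62, 44, 31, 26, 30, 2, 17, 17, 11, 19], [62, 44, 56, 46, 31, 36, 34, 16, 11, 19, 6], [59, 44, 55, 38, 31, 16, 16, 18, 23]⟩, .loop 19 2 [61, 45, 56, 50, 30, 41, 2, 23, 8, 23, 21] 4 5 [⟨[24], 958, false, [1, 3, 6, 2, 6, 5, 10, 5, 6, 2, 5]⟩, ⟨[23], 612, false, [0, 6, 2, 10, 5, 6, 2, 4]⟩] [⟨[23], 1329, false, [0, 2, 4, 6, 10, 5, 6, 10]⟩]),
  (⟨false, 2, 2, [67, 55, 46, 30, 38, 26, 17, 23, 23, 21], [61, 44, 46, 36, 29, 31, 16, 18, 18, 22], [62, 50, 48, 35, 36, 2, 17, 23, 21, 16]⟩, .loop 71 2 [67, 52, 44, 31, 34, 28, 16, 11, 25, 16] 2 3 [⟨[23, 24], 937, false, [1, 3, 4, 6, 2, 5, 6, 10, 5]⟩] [⟨[24, 23], 588, false, [1, 5, 6, 5, 6, 10, 5, 6, 5]⟩, ⟨[23], 648, false, [0, 4, 6, 4, 5, 6, 2, 6, 4, 10]⟩]),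
  (⟨false, 2, 2, [60, 51, 55, 35, 29, 16, 16, 2, 21], [62, 46, 51, 55, 38, 35, 2, 17, 23, 18, 21], [61, 51, 43, 41, 28, 32, 2, 17, 17, 10, 25]⟩, .loop 44 2 [67, 57, 28, 30, 36, 16, 24, 16, 21] 2 3 [⟨[], 730, true, [1, 4, 6, 5, 3, 5, 6, 2, 6]⟩] [⟨[24], 1285, true, [3, 4, 5, 6, 4, 10, 5, 3]⟩]),
  (⟨false, 2, 2, [62, 52, 48, 36, 16, 16, 10, 20], [62, 49, 31, 34, 28, 16, 16, 4, 11], [62, 44, 47, 33, 41, 30, 16, 16, 24, 19]⟩, .loop 16 2 [67, 50, 44, 38, 33, 2, 17, 0, 23, 20] 6 7 [⟨[23], 1362, true, [4, 5, 6, 2, 6, 2, 4, 5, 10]⟩, ⟨[24, 23], 1381, true, [0, 4, 6, 5, 3, 6, 2, 4, 5]⟩, ⟨[], 625, false, [2, 4, 6, 5, 6, 2, 4, 6, 5, 6]⟩] []),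
  (⟨false, 2, 2, [44, 57, 30, 35, 41, 16, 24, 16, 25], [59, 54, 43, 33, 35, 26, 2, 16, 6, 17], [60, 44, 57, 49, 34, 26, 30, 16, 16, 20, 24]⟩, .loop 49 2 [67, 48, 42, 28, 35, 27, 2, 23, 13, 17] 4 5 [⟨[23], 1349, false, [0, 6, 4, 5, 3, 6, 5, 6, 5, 3]⟩, ⟨[24, 23], 1372, true, [1, 2, 6, 2, 6, 4, 5, 3, 6, 2]⟩] [])]

/-- facts 1408 and on -/
def facts44 : List (Fact × Why) := [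
  (⟨false, 2, 2, [60, 49, 51, 28, 38, 31, 2, 23, 6, 23], [58, 44, 57, 55, 31, 32, 16, 10, 17, 17], [66, 52, 55, 33, 27, 31, 16, 16, 16, 4]⟩, .loop 60 2 [67, 49, 38, 30, 26, 2, 23, 13] 4 5 [⟨[23, 24, 23], 1320, false, [0, 3, 4, 6, 4, 5, 6, 10, 5, 6, 5]⟩, ⟨[23, 24], 1033, true, [2, 6, 5, 6, 4, 6, 4, 10, 5, 3]⟩] [⟨[23, 24, 23], 1236, false, [0, 2, 3, 6, 4, 5, 3, 6, 2]⟩, ⟨[24], 1044, false, [6, 2, 5, 6, 10, 5, 3]⟩, ⟨[24], 1294, false, [0, 6, 2, 5, 6, 10]⟩, ⟨[24], 669, false, [1, 2, 6, 2, 5, 6, 2, 4]⟩, ⟨[23, 24], 595, true, [1, 6, 2, 5, 6, 4, 6, 2, 10]⟩]),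
  (⟨false, 2, 2, [67, 47, 48, 38, 28, 41, 2, 23, 13, 23, 6], [58, 44, 42, 51, 30, 32, 32, 16, 24, 17, 6], [59, 44, 42, 47, 34, 28, 37, 16, 16, 18, 11, 16]⟩, .loop 68 2 [61, 45, 50, 45, 35, 38, 16, 24, 17] 2 3 [⟨[], 834, true, [5, 3, 5, 6, 2, 4, 5, 6, 4]⟩] [⟨[], 1230, false, [1, 3, 5, 6, 2, 6, 5, 10, 5]⟩, ⟨[], 1215, true, [2, 3, 6, 4, 5, 6, 5, 3]⟩]),
  (⟨false, 2, 2, [66, 47, 53, 28, 30, 35, 16, 24, 6], [59, 49, 49, 36, 32, 16, 21, 16, 8], [63, 50, 47, 28, 38, 16, 2, 19, 6, 17]⟩, .loop 47 2 [60, 44, 43, 57, 30, 41, 26, 16, 10, 23] 2 3 [⟨[24, 23], 138, true, [1, 3, 4, 6, 5, 6, 2, 4, 6, 5]⟩] [⟨[24, 23], 423, false, [3, 6, 2, 6, 5, 6, 10, 5]⟩]),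
  (⟨false, 2, 2, [58, 48, 45, 38, 40, 16, 24, 17], [66, 44, 55, 52, 34, 31, 31, 16, 8, 22, 19], [60, 54, 44, 30, 30, 40, 16, 19, 6, 18]⟩, .loop 17 2 [59, 45, 34, 28, 16, 10, 16, 25] 6 7 [⟨[24], 377, false, [1, 5, 6, 2, 4, 6]⟩, ⟨[24], 569, false, [2, 6, 1, 4, 10, 5, 6, 2, 6, 10]⟩, ⟨[23, 24], 750, true, [2, 3, 5, 6, 10, 5, 6, 2, 6, 5]⟩] []),
  (⟨false, 2, 5, [60, 52, 50, 33, 27, 34, 16, 16, 10, 21], [58, 44, 57, 49, 31, 29, 37, 16, 16, 4, 20], [60, 45, 34, 28, 40, 16, 21]⟩, .loop 30 2 [61, 44, 57, 49, 28, 36, 29, 27, 17, 23, 4] 2 3 [⟨[24], 805, true, [1, 2, 5, 6, 5, 6, 4, 6, 5]⟩] [⟨[23, 24], 533, false, [2, 5, 6, 5, 6, 10, 5, 3, 6, 2]⟩, ⟨[23, 24], 338, false, [6, 5, 6, 4, 5, 3, 6, 2, 4]⟩]),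
  (⟨false, 2, 2, [58, 51, 28, 30, 38, 16, 19, 22, 25], [63, 52, 44, 38, 33, 40, 16, 18, 16, 22], [51, 51, 34, 29, 41, 17, 17, 23, 16]⟩, .loop 23 5 [61, 44, 57, 40, 40, 32, 16, 16, 24] 2 3 [⟨[37, 66], 101, true, [0, 5, 10, 5, 6, 2, 6, 4]⟩] [⟨[66, 66, 37, 37, 66], 602, false, [5, 3, 6, 1, 4, 6, 5, 3, 6]⟩, ⟨[24], 585, false, [0, 2, 4, 6, 10, 5, 6, 2, 6, 4]⟩]),
  (⟨false, 2, 2, [59, 45, 49, 40, 30, 27, 2, 16, 16, 6, 18], [62, 54, 56, 40, 16, 10, 19], [66, 48, 46, 36, 29, 33, 2, 17, 17, 0, 13]⟩, .loop 69 2 [63, 51, 47, 33, 27, 34, 16, 11, 19, 22] 4 5 [⟨[23], 670, false, [4, 5, 6, 4, 5, 6, 2, 10, 5]⟩, ⟨[24], 852, true, [2, 6, 1, 10, 5, 6, 4, 10]⟩] [⟨[], 639, true, [1, 2, 4, 6, 10, 5, 3, 6, 4]⟩]),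
  (⟨false, 2, 2, [51, 53, 28, 40, 31, 2, 23, 23, 21, 16], [62, 50, 45, 34, 31, 31, 16, 16, 8], [47, 44, 51, 30, 38, 16, 22, 19]⟩, .loop 46 2 [63, 55, 43, 41, 29, 40, 2, 17, 22, 16, 24] 2 3 [⟨[], 1205, true, [0, 2, 5, 6, 2, 4, 5, 6, 2, 6, 4, 10]⟩] [⟨[23, 24, 23], 484, false, [0, 4, 5, 6, 4, 10, 5, 6, 10, 5]⟩]),
  (⟨false, 2, 2, [63, 56, 53, 30, 38, 26, 16, 2, 19, 22], [51, 42, 30, 35, 40, 28, 16, 4, 16, 16, 13], [66, 51, 55, 30, 26, 2, 16, 6, 17, 6]⟩, .loop 17 2 [61, 51, 46, 34, 33, 16, 16, 4, 17] 2 3 [⟨[23], 147, true, [3, 4, 6, 4, 6, 5, 6, 10]⟩] [⟨[23, 24], 291, true, [4, 6, 4, 5, 6, 2, 6, 4, 10]⟩, ⟨[23], 480, true, [0, 6, 5, 6, 4, 6, 2, 10, 5]⟩]),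
  (⟨false, 2, 2, [60, 51, 42, 41, 27, 16, 4, 16, 22, 22], [66, 44, 47, 47, 30, 38, 16, 8, 17, 17, 22], [50, 46, 30, 30, 28, 2, 17, 22, 8]⟩, .loop 67 2 [58, 49, 56, 36, 40, 37, 2, 23, 23, 4, 19] 6 7 [⟨[23], 613, true, [1, 2, 3, 4, 6, 5, 6, 10]⟩, ⟨[23], 1391, false, [0, 2, 3, 4, 6, 2, 6, 5, 6, 2]⟩, ⟨[23], 668, true, [6, 2, 6, 4, 5, 6, 4]⟩] []),
  (⟨false, 2, 2, [66, 44, 42, 45, 34, 28, 37, 2, 17, 22, 16, 21], [58, 57, 53, 31, 35, 16, 10, 16, 25], [58, 44, 42, 46, 31, 28, 27, 2, 23, 10, 23, 18]⟩, .loop 49 2 [58, 57, 53, 31, 35, 16, 16, 4, 8] 4 5 [⟨[23], 1043, false, [5, 6, 10, 5, 3, 6, 2, 5, 6, 2]⟩, ⟨[23, 24, 23], 798, false, [1, 6, 5, 6, 4, 5, 3, 5, 6, 4]⟩] []),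
  (⟨false, 2, 2, [58, 52, 44, 38, 32, 35, 16, 21, 23], [62, 48, 46, 30, 41, 36, 2, 23, 17, 25, 12], [59, 45, 42, 49, 38, 30, 26, 2, 17, 23, 4, 21]⟩, .loop 45 2 [61, 46, 56, 30, 32, 26, 2, 17, 17, 17, 10] 4 5 [⟨[24, 23], 1169, true, [0, 6, 4, 6, 2, 10, 5, 6, 2, 5]⟩, ⟨[23, 24, 23], 759, true, [4, 6, 5, 3, 5, 6, 5]⟩] []),
  (⟨false, 2, 2, [62, 55, 49, 30, 28, 35, 16, 16, 18, 11, 16], [58, 28, 30, 26, 34, 2, 23, 8, 23, 21], [63, 47, 44, 51, 28, 35, 31, 17, 17, 17, 10]⟩, .loop 68 2 [59, 44, 42, 30, 26, 32, 2, 23, 13, 23, 6] 6 7 [⟨[], 1029, true, [6, 5, 6, 4, 5, 6, 10, 5]⟩, ⟨[23, 24, 23], 735, true, [1, 6, 4, 6, 5, 6, 10, 5, 3, 6]⟩, ⟨[66, 66, 37, 66, 37], 1254, false, [2, 6, 1, 10, 5, 6, 2, 6, 4]⟩] []),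
  (⟨false, 2, 2, [62, 44, 51, 28, 36, 29, 16, 21, 16, 20], [63, 48, 53, 28, 36, 40, 36, 17, 17, 22, 19], [67, 47, 55, 28, 38, 26, 2, 17, 17, 18]⟩, .loop 67 2 [66, 45, 56, 50, 30, 27, 32, 2, 17, 23, 12, 24] 4 5 [⟨[23], 777, true, [3, 6, 4, 6, 4, 5, 6, 4]⟩, ⟨[24], 358, false, [2, 4, 5, 3, 6, 5, 6, 2]⟩] [⟨[23], 417, false, [4, 6, 2, 5, 6, 2, 4, 5, 6]⟩]),
  (⟨false, 2, 5, [45, 54, 45, 36, 40, 17, 22, 6, 16], [67, 45, 42, 30, 29, 30, 2, 17, 0, 23, 20], [60, 46, 57, 33, 31, 31, 17, 23, 4, 6]⟩, .loop 21 2 [58, 47, 51, 41, 41, 17, 23, 16] 4 5 [⟨[], 993, false, [1, 3, 6, 5, 6, 2, 5, 6, 4]⟩, ⟨[23], 546, false, [6, 10, 5, 6, 2, 6, 10]⟩] [⟨[24], 449, false, [6, 4, 6, 5]⟩]),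
  (⟨false, 2, 2, [66, 47, 44, 51, 38, 32, 17, 23, 23, 13], [61, 54, 50, 31, 28, 38, 17, 23, 17, 2], [63, 55, 43, 31, 35, 38, 16, 24, 23, 23]⟩, .loop 20 2 [58, 44, 46, 35, 29, 16, 16, 18, 0] 4 5 [⟨[], 1205, true, [0, 5, 3, 6, 5, 3, 6, 2, 6]⟩, ⟨[23, 24], 1096, true, [0, 2, 5, 6, 4, 6, 4]⟩] [⟨[24], 1344, false, [3, 6, 5, 6]⟩]),
  (⟨false, 2, 2, [61, 44, 51, 48, 33, 33, 31, 2, 17, 23, 21, 16], [62, 49, 46, 36, 30, 2, 23, 23, 0, 13], [59, 48, 43, 41, 31, 2, 17, 17, 11]⟩, .loop 66 2 [62, 45, 56, 55, 28, 41, 28, 16, 21, 16, 4] 6 7 [⟨[24], 642, false, [0, 2, 6, 10, 5, 3, 6, 2, 4, 6]⟩, ⟨[24], 782, false, [1, 2, 3, 4, 5, 6, 2, 10, 5, 6]⟩, ⟨[23], 1242, true, [0, 6, 10, 5, 3, 6, 5, 3, 6]⟩] []),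
  (⟨false, 5, 2, [62, 54, 50, 30, 40, 27, 16, 2, 19, 16], [62, 50, 50, 31, 33, 2, 23, 17, 25, 6], [61, 47, 50, 28, 41, 28, 2, 17, 17, 25, 12]⟩, .loop 21 2 [59, 51, 42, 31, 33, 2, 23, 13, 23, 23] 6 7 [⟨[], 546, true, [0, 5, 6, 4, 6, 4, 5, 10, 5]⟩, ⟨[], 1101, false, [2, 6, 5, 6, 10, 5, 3, 6, 2]⟩, ⟨[23, 24], 901, false, [2, 4, 6, 4, 5, 3, 6, 4]⟩] []),
  (⟨false, 2, 2, [59, 54, 44, 34, 31, 37, 16, 2, 10, 23], [59, 46, 56, 30, 30, 34, 2, 17, 17, 11, 22], [58, 52, 44, 28, 40, 26, 17, 17, 17]⟩, .loop 70 2 [59, 46, 38, 30, 26, 16, 24, 17, 6] 2 3 [⟨[], 600, true, [3, 5, 6, 4, 6, 4, 5, 6, 2, 6, 10]⟩] [⟨[], 384, false, [0, 4, 6, 2, 4, 5, 6, 2]⟩, ⟨[66, 38, 66, 38], 329, true, [2, 3, 5, 6, 5, 3, 5, 6, 5, 6, 2]⟩]),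
  (⟨false, 2, 2, [58, 50, 46, 31, 26, 34, 16, 18, 18], [61, 56, 53, 34, 33, 28, 16, 18, 16, 20], [59, 46, 42, 31, 33, 16, 10, 23]⟩, .loop 31 5 [58, 54, 56, 34, 41, 2, 23, 17, 22, 4] 2 3 [⟨[], 814, false, [10, 5, 3, 6, 2, 5, 6, 2, 4]⟩] [⟨[66, 37, 37, 66], 806, true, [3, 5, 6, 4, 5, 3, 6, 5, 10, 5]⟩, ⟨[23, 24, 23], 1271, true, [1, 3, 4, 5, 6, 2, 5, 3]⟩]),
  (⟨false, 5, 2, [60, 44, 35, 37, 38, 16, 16, 22, 17], [60, 45, 50, 42, 34, 27, 38, 2, 17, 17, 0], [60, 45, 57, 28, 38, 16, 11, 16, 24]⟩, .loop 69 4 [66, 47, 56, 34, 33, 16, 16, 2, 0] 4 5 [⟨[30], 1193, false, [5, 6, 1, 5, 10, 5, 6, 4]⟩, ⟨[24], 1214, true, [3, 4, 6, 5, 10, 5, 6, 5, 6, 10]⟩] [⟨[29, 63, 63], 880, true, [2, 5, 6, 5, 3, 5, 6, 4, 6, 2]⟩]),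
  (⟨false, 2, 2, [51, 49, 31, 29, 32, 16, 10, 17, 6, 23], [66, 51, 44, 31, 33, 36, 16, 16, 8, 18], [61, 47, 47, 34, 29, 36, 2, 23, 23, 10, 17]⟩, .loop 33 2 [63, 49, 45, 28, 38, 37, 17, 17, 23, 18] 4 5 [⟨[], 870, false, [6, 1, 2, 4, 5, 3, 6, 4, 5]⟩, ⟨[23, 24], 473, false, [1, 2, 5, 3, 6, 4, 6, 5, 3, 6, 4]⟩] [⟨[23], 1239, true, [1, 2, 6, 4, 6, 5, 3, 5, 6, 2]⟩]),
  (⟨false, 2, 2, [60, 45, 45, 30, 30, 41, 2, 17, 17, 17, 12], [66, 49, 53, 28, 40, 28, 16, 16, 24, 17], [58, 50, 44, 35, 35, 29, 2, 23, 23, 18, 0]⟩, .loop 30 2 [63, 51, 53, 28, 30, 28, 16, 11, 16, 11, 19] 2 3 [⟨[23, 24], 203, false, [2, 4, 6, 5, 3, 5, 6, 5, 6]⟩] [⟨[23, 24, 23], 1127, false, [1, 6, 2, 6, 4, 6, 5, 6, 2, 10]⟩, ⟨[24, 23], 669, true, [2, 3, 4, 5, 6]⟩]),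
  (⟨false, 2, 2, [61, 44, 51, 28, 31, 33, 16, 4, 16, 16, 22], [45, 42, 28, 34, 28, 2, 17, 17, 23], [67, 38, 30, 2, 23, 10, 17, 19]⟩, .loop 33 2 [60, 49, 57, 34, 29, 41, 16, 24, 16, 21] 6 7 [⟨[23, 24, 23], 565, true, [0, 5, 3, 6, 5, 3, 6, 5, 6, 10]⟩, ⟨[66, 66, 37, 37, 66], 934, false, [0, 6, 4, 10, 5, 6, 2, 5, 6]⟩, ⟨[24, 23], 1399, true, [5, 3, 6, 5, 6, 10, 5]⟩] []),
  (⟨false, 2, 2, [58, 45, 43, 30, 35, 16, 16, 16, 20], [60, 45, 57, 33, 36, 30, 2, 23, 8, 23, 21], [62, 35, 35, 29, 16, 4, 16, 22, 22]⟩, .loop 65 2 [63, 44, 42, 31, 28, 27, 2, 23, 17, 22] 4 5 [⟨[23], 481, true, [0, 2, 4, 6, 5, 6, 2, 5, 6, 10]⟩, ⟨[], 1012, true, [3, 6, 5, 6, 2, 6, 5, 3, 5]⟩] [⟨[23], 1379, true, [6, 5, 6, 10, 5, 6, 10]⟩, ⟨[], 1225, true, [1, 2, 4, 5, 6, 10, 5,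 3, 6, 2, 4]⟩, ⟨[23, 24, 23], 1267, false, [0, 4, 6, 2, 10, 5, 6, 2, 4, 5, 3]⟩, ⟨[], 942, false, [0, 6, 2, 6, 5, 3, 6, 2, 6, 5]⟩, ⟨[24, 23], 1211, true, [0, 3, 5, 6, 2, 5, 6, 4, 6, 2]⟩]),
  (⟨false, 2, 2, [62, 44, 42, 51, 31, 41, 26, 2, 16, 16, 16, 6], [58, 45, 49, 30, 35, 35, 16, 18, 16, 16], [59, 51, 49, 31, 35, 38, 16, 4, 16, 18, 11]⟩, .loop 72 2 [60, 44, 47, 44, 36, 27, 40, 2, 17, 17, 19] 6 7 [⟨[23, 24, 23], 1119, true, [0, 4, 10, 5, 6, 10, 5, 6, 2, 10]⟩, ⟨[24, 23], 1139, true, [0, 6, 4, 5, 6, 2, 6, 2, 5]⟩, ⟨[23, 24], 1182, true, [3, 5, 6, 4, 6, 10, 5, 6]⟩] []),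
  (⟨false, 2, 5, [66, 44, 48, 35, 35, 29, 16, 16, 24, 19], [61, 44, 48, 43, 28, 41, 27, 32, 16, 16, 24, 23], [62, 48, 42, 31, 28, 16, 24, 17, 6]⟩, .loop 29 5 [63, 49, 45, 31, 28, 16, 11, 23] 2 3 [⟨[38], 884, true, [3, 5, 3, 6, 1, 2, 6, 5, 10]⟩] [⟨[66, 66, 38, 37], 453, true, [1, 4, 5, 6, 2, 6, 10, 5, 3, 6]⟩, ⟨[], 474, false, [6, 4, 6, 10]⟩]),
  (⟨false, 2, 2, [60, 44, 43, 28, 34, 34, 16, 16, 19], [60, 47, 56, 30, 40, 30, 16, 16, 4, 23], [60, 45, 45, 31, 29, 32, 2, 23, 23, 13, 10]⟩, .loop 45 2 [58, 56, 36, 31, 31, 2, 23, 6, 17, 17] 4 5 [⟨[23], 588, false, [1, 2, 5, 6, 2, 10, 5, 6, 5, 3]⟩, ⟨[23, 24, 23], 875, false, [4, 5, 10, 5, 6, 2, 5, 6, 10, 5]⟩] []),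
  (⟨false, 2, 2, [67, 49, 44, 31, 36, 16, 4, 16, 18, 11], [60, 45, 56, 55, 31, 26, 33, 2, 17, 0, 23, 23], [60, 45, 54, 56, 36, 31, 26, 17, 22, 6, 16]⟩, .loop 21 2 [66, 44, 42, 34, 28, 16, 16, 24] 2 3 [⟨[], 660, false, [2, 6, 5, 3, 6, 4, 5, 3, 6]⟩] [⟨[23, 24, 23], 1361, true, [2, 6, 2, 5, 6, 4, 5, 10, 5]⟩, ⟨[24, 23], 1109, true, [2, 4, 6, 10, 5, 6, 5, 10, 5]⟩]),
  (⟨false, 5, 2, [61, 46, 42, 34, 28, 37, 2, 17, 0, 23], [47, 55, 28, 34, 31, 16, 10, 16, 2], [60, 48, 44, 38, 28, 31, 2, 23, 13, 17]⟩, .loop 34 2 [67, 48, 48, 30, 40, 28, 2, 17, 17, 6, 4] 2 3 [⟨[24], 422, true, [1, 2, 4, 6, 4, 5, 6, 5, 3]⟩] [⟨[23, 24, 23], 599, false, [0, 3, 6, 2, 4, 5, 6, 2, 6, 4]⟩, ⟨[23, 24], 292, false, [3, 5, 6, 4, 10, 5]⟩]),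
  (⟨false, 2, 2, [58, 54, 47, 28, 26, 2, 17, 23, 12, 24], [59, 45, 56, 55, 31, 34, 33, 16, 16, 4, 22], [58, 46, 51, 30, 28, 37, 16, 24, 16, 19]⟩, .loop 34 2 [67, 50, 42, 33, 31, 38, 2, 23, 23, 11] 4 5 [⟨[], 1022, true, [1, 2, 6, 5, 3, 6, 2, 6, 4]⟩, ⟨[], 678, true, [1, 3, 5, 6, 4, 5, 6, 4, 5, 6]⟩] [⟨[24, 23], 1178, false, [2, 4, 6, 4, 5, 3, 6, 4]⟩]),
  (⟨false, 2, 2, [63, 45, 54, 30, 35, 35, 18], [58, 45, 33, 38, 37, 2, 23, 10, 23, 19], [59, 49, 30, 26, 35, 16, 16, 19, 17]⟩, .loop 66 2 [67, 45, 45, 28, 35, 32, 2, 23, 18, 6, 22] 6 7 [⟨[24], 457, false, [6, 1, 2, 5, 6, 10, 5, 3, 6, 5]⟩, ⟨[23], 1166, false, [1, 5, 6, 4, 6, 10, 5, 6, 2]⟩, ⟨[], 830, true, [3, 5, 6, 5, 3, 6, 5, 6, 2, 6]⟩] [])]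

end CfsgLib.Sporadic.ThPres
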