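import Cfsg.Agent.Lib.Sporadic.ThPres.Check

set_option autoImplicit false
set_option maxRecDepth 20000

/-! Facts among double cosets (generated; owner: helper9). -/

namespace CfsgLib.Sporadic.ThPres
open CfsgLib.Recog.SporBound (Q)

/-- facts 1440 and on -/
def facts45 : List (Fact × Why) := [
  (⟨false, 2, 2, [46, 48, 54, 31, 28, 38, 16, 16, 10, 10], [67, 49, 56, 28, 36, 29, 27, 2, 17, 22, 18], [61, 45, 43, 38, 33, 40, 2, 23, 17, 2, 6]⟩, .loop 71 2 [59, 44, 42, 57, 30, 26, 28, 16, 16, 2, 4, 23] 4 5 [⟨[], 414, true, [4, 10, 5, 6, 1, 4, 6, 4, 10, 5]⟩, ⟨[23], 861, false, [4, 6, 4, 6, 5, 6, 2, 5]⟩] [⟨[24], 722, true, [1, 3, 6, 4, 5, 10, 5, 6, 2, 5]⟩]),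
  (⟨false, 2, 2, [61, 48, 44, 36, 27, 27, 2, 17, 17, 17, 13], [61, 48, 57, 28, 36, 34, 2, 23, 8, 23], [66, 47, 53, 28, 30, 16, 16, 8, 6]⟩, .loop 29 2 [44, 36, 26, 2, 17, 17, 0, 10] 4 5 [⟨[], 898, false, [2, 4, 10, 5, 3, 6, 4, 5, 6]⟩, ⟨[24, 23], 438, false, [6, 10, 5, 6, 4, 5, 3]⟩] [⟨[24], 1390, false, [0, 3, 4, 6, 2, 6, 2, 4, 5, 6, 2]⟩]),
  (⟨false, 5, 2, [58, 47, 49, 56, 38, 28, 41, 2, 23, 17, 0, 25], [63, 44, 46, 48, 30, 40, 30, 16, 11, 17], [46, 44, 54, 34, 26, 30, 16, 24, 16, 11]⟩, .loop 18 2 [54, 56, 40, 38, 16, 21, 16, 19] 2 3 [⟨[23, 24], 749, true, [6, 2, 6, 5, 6, 4, 5, 6]⟩] [⟨[24, 23], 575, false, [2, 4, 6, 5, 6, 2, 6, 4, 5]⟩, ⟨[23, 24, 23], 251, false, [6, 2, 4, 6, 5, 6, 2, 10]⟩]),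
  (⟨false, 2, 2, [66, 48, 52, 28, 26, 37, 2, 17, 17, 24, 23], [59, 55, 35, 35, 29, 16, 16, 16, 2], [58, 51, 57, 31, 34, 30, 16, 24, 6]⟩, .loop 68 2 [60, 46, 44, 54, 28, 34, 41, 16, 8, 17, 23, 8] 4 5 [⟨[], 1346, true, [0, 6, 2, 6, 5, 6, 10, 5, 3, 6, 2]⟩, ⟨[23, 24, 23], 234, false, [3, 5, 3, 6, 5, 3, 6, 2]⟩] [⟨[24, 23], 497, true, [4, 6, 1, 5, 3, 6, 4, 5, 6]⟩]),
  (⟨false, 2, 2, [66, 48, 48, 34, 27, 28, 2, 17, 23, 18, 22], [63, 45, 49, 28, 38, 33, 2, 17, 19, 22, 11], [67, 48, 53, 34, 40, 2, 17, 23, 17, 8]⟩, .loop 69 2 [66, 46, 35, 28, 28, 17, 17, 23] 4 5 [⟨[], 493, true, [10, 5, 3, 6, 2, 5, 6, 10]⟩, ⟨[63, 28, 61, 61, 28], 1243, false, [6, 2, 4, 5, 6]⟩] [⟨[24, 23], 935, true, [1, 6, 2, 4, 10, 5, 6, 4]⟩]),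
  (⟨false, 2, 2, [52, 48, 28, 31, 28, 17, 17, 17, 19], [58, 48, 55, 30, 37, 17, 17, 22], [66, 50, 55, 36, 35, 2, 23, 23, 17, 12]⟩, .loop 23 2 [45, 50, 45, 30, 29, 27, 16, 10, 16, 24] 6 7 [⟨[24, 23], 479, false, [1, 4, 6, 5, 6, 10, 5, 6, 2, 4]⟩, ⟨[24, 23], 1329, true, [2, 5, 6, 4, 6, 4, 10, 5, 10]⟩, ⟨[23, 24], 958, false, [1, 3, 4, 6, 2, 6, 4, 6, 5]⟩] []),
  (⟨false, 2, 2, [67, 51, 51, 28, 31, 33, 2, 17, 17, 17], [58, 45, 53, 48, 38, 30, 35, 16, 16, 18, 25], [59, 44, 42, 48, 28, 41, 28, 16, 8, 22, 19]⟩, .loop 34 2 [60, 51, 44, 30, 26, 33, 2, 23, 13, 23, 23] 2 3 [⟨[24], 425, false, [6, 2, 6, 5, 3, 5, 6, 5, 6, 10]⟩] [⟨[24, 23], 955, false, [5, 3, 6, 2, 6, 2, 4, 5, 10]⟩, ⟨[23, 24], 651, true, [1, 2, 5, 6, 4, 5, 3, 6]⟩]),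
  (⟨false, 2, 2, [59, 45, 53, 48, 33, 29, 2, 23, 23, 16, 8], [61, 45, 43, 45, 34, 28, 40, 2, 23, 19, 6], [67, 47, 48, 28, 34, 41, 2, 23, 17, 24, 23]⟩, .loop 48 2 [62, 57, 38, 26, 33, 2, 17, 23, 17, 22] 2 3 [⟨[], 759, true, [0, 6, 5, 10, 5, 6, 4, 5, 10]⟩] [⟨[], 1359, false, [2, 5, 6, 1, 2, 4, 5, 6, 5, 3]⟩]),
  (⟨false, 2, 2, [62, 46, 57, 28, 30, 16, 10, 16, 25], [60, 51, 49, 33, 29, 16, 4, 16, 19, 23], [60, 45, 53, 48, 30, 30, 30, 16, 16, 24, 23]⟩, .loop 22 2 [67, 55, 33, 33, 2, 23, 8, 23, 23] 4 5 [⟨[24, 23], 1406, false, [1, 5, 6, 4, 10, 5, 6, 4, 6, 2]⟩, ⟨[23, 24], 438, true, [4, 6, 10, 5, 6, 2, 4, 10]⟩] [⟨[23], 222, false, [0, 6, 5, 6, 2, 6, 4, 5, 3, 6]⟩]),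
  (⟨false, 2, 2, [67, 48, 46, 31, 29, 32, 16, 10, 25], [61, 50, 47, 36, 32, 31, 16, 4, 23], [60, 45, 49, 36, 26, 26, 17, 17, 23]⟩, .loop 32 2 [46, 49, 30, 26, 35, 2, 17, 0] 6 7 [⟨[23], 1360, true, [3, 4, 6, 4, 6, 2, 5]⟩, ⟨[], 1398, true, [5, 6, 4, 5, 10, 5, 6, 5, 10]⟩, ⟨[23, 24, 23], 1224, false, [1, 5, 3, 6, 4, 6, 5, 10, 5, 6, 5]⟩] []),
  (⟨false, 2, 2, [60, 50, 55, 36, 16, 21, 16, 8], [62, 50, 42, 40, 32, 2, 23, 23], [60, 44, 49, 33, 27, 40, 16, 19, 16]⟩, .loop 47 2 [59, 52, 44, 38, 35, 36, 16, 11, 11, 16] 4 5 [⟨[23], 720, true, [1, 2, 3, 5, 6, 10, 5, 10]⟩, ⟨[24, 23], 393, false, [1, 6, 5, 3, 6, 5, 3, 6, 4, 6]⟩] []),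
  (⟨false, 5, 2, [62, 45, 48, 28, 31, 27, 31, 2, 17, 23, 20, 11], [58, 57, 53, 28, 40, 37, 2, 23, 8, 23, 25], [59, 52, 50, 30, 40, 30, 16, 4, 16, 16, 22]⟩, .loop 35 2 [61, 50, 47, 28, 34, 31, 32, 16, 11, 16] 2 3 [⟨[], 506, false, [2, 10, 5, 6, 4, 6, 5, 10]⟩] [⟨[23, 24], 783, true, [1, 2, 6, 4, 6, 2, 5, 3, 6, 5]⟩, ⟨[23, 24, 23], 1439, false, [0, 2, 5, 6, 2, 4, 5, 6, 2, 6, 4, 10]⟩]),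
  (⟨false, 2, 2, [60, 46, 51, 55, 38, 33, 19, 6, 23, 18], [47, 31, 36, 2, 23, 17, 17, 19], [58, 51, 43, 36, 28, 38, 16, 16, 4, 8]⟩, .loop 19 2 [63, 45, 54, 28, 34, 41, 16, 16, 8, 22] 4 5 [⟨[24], 1433, false, [0, 4, 10, 5, 3, 6, 2, 6, 4, 5, 10]⟩, ⟨[23, 24], 227, false, [3, 6, 4, 6, 2, 4, 5, 6]⟩] [⟨[23, 24, 23], 1349, false, [2, 3, 6, 1, 4, 5, 3, 6, 4]⟩]),
  (⟨false, 2, 2, [47, 49, 56, 36, 28, 17, 23], [62, 46, 53, 28, 26, 31, 33, 16, 16, 21, 22], [62, 44, 47, 52, 41, 32, 29, 2, 23, 10, 23, 4]⟩, .loop 69 2 [67, 52, 48, 35, 31, 26, 2, 16, 6, 22] 2 3 [⟨[23], 1362, false, [0, 2, 5, 6, 4, 5, 10]⟩] [⟨[], 529, true, [0, 5, 6, 2, 4, 6, 5, 6]⟩, ⟨[66, 66, 38, 66, 37], 895, true, [0, 3, 4, 6, 5, 3, 6, 2]⟩]),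
  (⟨false, 2, 2, [63, 49, 34, 33, 34, 16, 21, 16, 11], [59, 57, 31, 32, 36, 16, 18, 23], [60, 55, 42, 35, 35, 35, 2, 23, 17, 17, 10]⟩, .loop 35 2 [58, 48, 50, 28, 41, 27, 16, 16, 22, 8] 4 5 [⟨[24, 23], 432, false, [0, 2, 4, 6, 2, 5, 3, 6, 4]⟩, ⟨[23, 24], 308, false, [5, 6, 5, 6, 2]⟩] [⟨[23, 24], 668, false, [2, 4, 6, 5, 3, 6, 2, 4, 5, 10]⟩]),
  (⟨false, 2, 2, [60, 46, 57, 33, 41, 29, 16, 16, 24, 22], [59, 52, 44, 34, 31, 35, 16, 11, 16, 2], [63, 55, 43, 41, 26, 37, 2, 23, 23, 13]⟩, .loop 34 2 [62, 52, 31, 28, 32, 2, 17, 23, 24, 21] 4 5 [⟨[24], 1059, false, [2, 3, 5, 6, 5, 10, 5, 6, 5]⟩, ⟨[], 1424, false, [1, 6, 2, 4, 6, 5, 6, 4, 6]⟩] [⟨[23, 24], 965, false, [10, 5, 3, 6, 1, 2, 5]⟩]),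
  (⟨false, 2, 2, [61, 44, 47, 44, 33, 27, 30, 2, 17, 23, 11, 11], [62, 50, 46, 33, 27, 2, 17, 17, 18, 21], [60, 49, 56, 28, 36, 28, 2, 17, 22, 22, 10]⟩, .loop 45 2 [63, 44, 47, 33, 28, 2, 17, 23, 4, 21] 2 3 [⟨[24], 536, true, [0, 2, 4, 5, 6, 4, 10, 5, 10]⟩] [⟨[23, 24], 1386, true, [5, 6, 5, 3, 5, 6, 4, 5, 3]⟩]),
  (⟨false, 2, 2, [66, 46, 51, 31, 34, 33, 16, 4, 16, 2, 11], [61, 46, 46, 35, 28, 37, 2, 17, 23, 12, 10], [59, 56, 50, 31, 34, 28, 17, 22, 21, 6]⟩, .loop 33 2 [67, 48, 43, 34, 33, 34, 16, 10, 23, 17] 2 3 [⟨[23], 1327, true, [1, 6, 4, 5, 6, 10, 5, 10]⟩] [⟨[], 414, false, [0, 5, 6, 4, 5, 3, 5, 6, 2, 5]⟩, ⟨[], 684, true, [4, 6, 4, 10, 5, 6, 4, 5, 6, 2]⟩]),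
  (⟨false, 2, 2, [63, 45, 50, 35, 36, 38, 16, 18, 23, 6], [67, 49, 47, 31, 27, 34, 16, 21, 16, 19], [66, 54, 43, 36, 27, 27, 16, 4, 16, 22]⟩, .loop 73 2 [66, 40, 37, 17, 22] 4 5 [⟨[23], 258, false, [3, 5, 3, 6, 4, 5, 6, 2, 4, 10]⟩, ⟨[23], 312, true, [0, 5, 6, 2, 4, 5, 3, 6, 2, 6, 4]⟩] [⟨[], 345, true, [1, 2, 6, 4, 5, 3, 6]⟩]),
  (⟨false, 2, 2, [67, 44, 57, 33, 38, 37, 16, 18, 18, 6], [67, 47, 52, 28, 38, 2, 23, 23, 11, 16], [66, 47, 52, 34, 38, 16, 19, 6, 18]⟩, .loop 71 2 [67, 47, 42, 28, 38, 26, 16, 2, 11, 23] 4 5 [⟨[], 1253, true, [5, 6, 2, 6, 5, 10]⟩, ⟨[23], 135, true, [1, 5, 6, 2, 4, 6, 5, 6]⟩] [⟨[24], 447, false, [1, 3, 5, 6, 2, 4, 5, 6]⟩]),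
  (⟨false, 2, 3, [66, 47, 51, 30, 40, 31, 2, 17, 23, 23], [67, 44, 46, 57, 33, 33, 16, 24, 17, 6], [62, 48, 55, 33, 35, 29, 16, 18, 16, 20]⟩, .loop 17 2 [60, 44, 48, 43, 40, 40, 16, 21, 16, 4] 2 3 [⟨[23, 24, 23], 294, true, [1, 5, 3, 6, 4, 6, 5, 10]⟩] [⟨[], 400, true, [0, 3, 4, 6, 2, 6, 2, 5, 6, 10]⟩, ⟨[], 127, true, [1, 6, 2, 6, 10, 5, 6, 4, 6]⟩]),
  (⟨false, 2, 2, [58, 44, 55, 50, 35, 29, 31, 2, 17, 18, 22, 11], [45, 56, 55, 31, 32, 38, 19, 6, 17, 19], [61, 46, 44, 34, 28, 37, 17, 23, 17, 22]⟩, .loop 66 2 [62, 44, 43, 38, 32, 34, 2, 17, 23] 6 7 [⟨[23], 1168, true, [1, 4, 6, 4, 10, 5, 3, 6, 5]⟩, ⟨[24, 23], 405, true, [5, 3, 5, 6, 4, 6, 2, 6, 5, 6]⟩, ⟨[23], 1398, false, [1, 6, 4, 10, 5, 6, 2, 6, 10]⟩] []),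
  (⟨false, 2, 2, [45, 42, 45, 34, 31, 35, 2, 17, 23, 18, 21], [61, 48, 28, 31, 27, 31, 16, 10, 16, 25], [60, 47, 54, 34, 37, 16, 11, 11, 16]⟩, .loop 28 2 [60, 45, 43, 28, 34, 36, 16, 4, 16, 19, 23] 6 7 [⟨[23], 190, false, [1, 5, 3, 6, 2, 6, 4, 5, 10]⟩, ⟨[23, 24], 1254, true, [1, 6, 2, 6, 5, 6]⟩, ⟨[38, 37], 1318, false, [2, 6, 1, 4, 10, 5, 3, 6]⟩] []),
  (⟨false, 2, 2, [63, 44, 42, 28, 31, 28, 38, 2, 23, 17, 24, 17], [61, 55, 43, 35, 35, 41, 16, 4, 16, 25], [61, 28, 26, 30, 16, 22, 19]⟩, .loop 33 5 [59, 44, 51, 46, 40, 2, 23, 17, 2, 22] 2 3 [⟨[38, 37], 361, false, [2, 6, 1, 4, 10, 5, 6, 4, 6, 2]⟩] [⟨[66, 37, 37], 565, false, [5, 6, 10, 5, 6, 2, 5]⟩, ⟨[24], 1032, true, [6, 4, 5, 3, 6, 5, 10, 5, 6, 4]⟩]),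
  (⟨false, 2, 5, [62, 51, 46, 31, 27, 32, 16, 16, 10, 21], [62, 45, 42, 51, 30, 34, 31, 16, 16, 2, 21], [60, 50, 45, 31, 32, 30, 16, 16, 22]⟩, .loop 19 2 [66, 51, 53, 28, 38, 16, 16, 16, 4, 13] 4 5 [⟨[24], 1264, false, [0, 2, 4, 6, 5, 6, 4, 10, 5]⟩, ⟨[23, 24], 1153, true, [6, 1, 2, 4, 5, 6, 10, 5, 3]⟩] [⟨[24, 23], 391, true, [2, 5, 3, 6, 5, 10, 5, 6, 4]⟩]),
  (⟨false, 2, 2, [63, 51, 42, 34, 33, 2, 17, 17], [67, 44, 47, 52, 28, 41, 29, 16, 10, 16], [62, 45, 42, 45, 34, 27, 38, 16, 16, 10, 21, 17]⟩, .loop 44 2 [62, 44, 55, 52, 31, 41, 36, 17, 17, 23] 2 3 [⟨[], 1281, false, [6, 2, 6, 5, 3, 5, 6]⟩] [⟨[23, 24], 785, true, [2, 3, 6, 4, 5, 6, 4, 5, 3]⟩]),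
  (⟨false, 2, 2, [58, 55, 49, 28, 41, 34, 2, 17, 23, 4], [61, 51, 47, 30, 32, 26, 2, 17, 23, 4, 10], [59, 51, 55, 31, 34, 30, 17, 17, 23, 16]⟩, .loop 72 2 [63, 44, 47, 30, 38, 26, 2, 17, 23, 10] 6 7 [⟨[23, 24], 1361, false, [1, 6, 4, 10, 5, 3, 6, 2]⟩, ⟨[24, 23], 1405, true, [0, 2, 3, 6, 4, 6, 5, 6, 2, 10]⟩, ⟨[], 104, true, [0, 6, 4, 6, 4, 5, 3, 5, 6, 5]⟩] []),
  (⟨false, 2, 5, [66, 47, 49, 56, 28, 31, 40, 18, 23, 17, 6], [63, 44, 42, 45, 33, 28, 16, 16, 16, 19], [61, 46, 46, 30, 40, 27, 16, 2, 24, 6, 17]⟩, .loop 68 2 [63, 45, 57, 35, 36, 16, 16, 16, 24] 4 5 [⟨[23], 1173, false, [0, 10, 5, 6, 4, 5, 6]⟩, ⟨[], 379, true, [0, 4, 10, 5, 6, 2, 10]⟩] [⟨[23, 24], 734, true, [2, 4, 10, 5, 6, 2, 6, 5]⟩]),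
  (⟨false, 2, 2, [59, 44, 46, 44, 33, 30, 2, 23, 17, 23], [59, 56, 53, 31, 29, 27, 16, 16, 11, 24], [58, 44, 51, 48, 34, 36, 16, 2, 19, 22]⟩, .loop 66 2 [63, 48, 50, 28, 35, 41, 16, 16, 16, 4, 13] 2 3 [⟨[], 1064, false, [1, 2, 6, 5, 6, 5, 10, 5, 6, 2, 6]⟩] [⟨[23, 24, 23], 253, false, [4, 5, 3, 6, 1, 4, 5, 6]⟩, ⟨[23, 24, 23], 798, true, [0, 4, 10, 5, 6, 10, 5, 3, 6, 4, 5]⟩]),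
  (⟨false, 5, 2, [62, 45, 50, 34, 36, 35, 16, 24, 23], [61, 50, 45, 40, 32, 2, 23, 8, 23, 21], [58, 44, 46, 30, 26, 36, 16, 16, 20, 19]⟩, .loop 20 2 [62, 49, 47, 28, 38, 29, 17, 23, 23, 8] 6 7 [⟨[24], 1100, false, [0, 3, 6, 2, 6, 4, 5, 6, 2, 5]⟩, ⟨[23], 946, true, [2, 5, 6, 4, 10, 5, 3, 6]⟩, ⟨[23], 760, false, [0, 6, 4, 5, 6, 5, 6, 4]⟩] []),
  (⟨false, 2, 2, [58, 48, 47, 31, 28, 38, 17, 17, 17, 8], [61, 45, 54, 45, 33, 40, 38, 16, 19, 22], [66, 48, 30, 41, 16, 11, 16, 11]⟩, .loop 70 2 [61, 55, 38, 31, 35, 17, 23, 18, 23] 6 7 [⟨[23], 1242, true, [3, 5, 6, 4, 6, 2, 6, 4]⟩, ⟨[23, 24, 23], 425, true, [1, 3, 6, 4, 5, 6, 2, 10, 5]⟩, ⟨[24], 698, false, [2, 6, 5, 6, 4, 6, 2, 4, 10]⟩] []),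
  (⟨false, 2, 2, [67, 47, 44, 51, 28, 38, 37, 2, 23, 23, 18, 11], [62, 51, 46, 30, 30, 2, 17, 22, 18], [62, 47, 42, 28, 30, 30, 16, 16, 16, 18]⟩, .loop 67 2 [61, 48, 47, 28, 31, 33, 2, 17, 17, 25, 12] 2 3 [⟨[23], 1233, false, [6, 4, 6, 5, 6, 2, 5, 6, 10]⟩] [⟨[23, 24], 1353, true, [10, 5, 6, 1, 2, 6, 10]⟩, ⟨[23], 395, false, [3, 4, 6, 5, 3, 6, 4, 6]⟩])]

/-- facts 1472 and on -/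
def facts46 : List (Fact × Why) := [
  (⟨false, 2, 2, [61, 49, 49, 28, 30, 34, 2, 16, 16, 16, 6], [67, 45, 42, 31, 35, 29, 2, 23, 17, 18], [60, 48, 47, 34, 27, 16, 16, 8, 18]⟩, .loop 16 2 [58, 52, 55, 31, 27, 35, 2, 16, 6, 23, 23] 2 3 [⟨[23], 1302, true, [1, 3, 4, 5, 6, 10, 5, 3, 6, 4, 5]⟩] [⟨[24], 1393, false, [0, 2, 10, 5, 3, 6, 4, 5, 6, 2, 4]⟩, ⟨[23, 24], 1213, true, [3, 4, 6, 4, 6, 4, 5, 6, 2]⟩]),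
  (⟨false, 2, 2, [62, 52, 48, 36, 32, 31, 2, 17, 19], [46, 42, 51, 36, 27, 40, 16, 2, 24, 6], [61, 46, 42, 51, 38, 32, 34, 16, 11, 23, 16]⟩, .loop 57 2 [48, 43, 28, 38, 33, 2, 23, 23, 18, 17] 6 7 [⟨[23, 24, 23], 1101, false, [4, 10, 5, 6, 4, 5, 6, 2, 5]⟩, ⟨[23, 24], 702, false, [1, 3, 4, 5, 6, 4, 5, 3, 5]⟩, ⟨[], 935, false, [0, 2, 5, 3, 6, 4, 5, 6, 4, 5, 10]⟩] [⟨[24], 1128, false, [1, 2, 3, 6, 2, 5, 6, 2, 10]⟩, ⟨[23, 24], 1101, false, [6, 4, 6, 5, 6, 2, 10, 5]⟩, ⟨[23, 24], 702, false, [0, 10, 5, 6, 4, 6, 2, 5]⟩, ⟨[], 935, false, [1, 6, 5, 6, 4, 6]⟩]),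
  (⟨false, 2, 2, [59, 50, 46, 30, 38, 31, 16, 4, 16, 19, 23], [63, 45, 54, 56, 36, 28, 37, 16, 4, 16, 2], [60, 55, 43, 28, 30, 30, 2, 17, 19, 25]⟩, .loop 17 2 [66, 46, 53, 31, 33, 36, 16, 16, 10, 16, 11] 6 7 [⟨[24, 23], 544, false, [1, 2, 4, 5, 6, 4, 6, 10, 5, 3]⟩, ⟨[], 217, false, [0, 6, 2, 10, 5, 6, 5, 10]⟩, ⟨[38, 66, 38], 1256, false, [4, 6, 2, 4, 5, 6, 10, 5, 3]⟩] []),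
  (⟨false, 2, 2, [58, 45, 54, 56, 30, 26, 38, 16, 2, 24, 6], [51, 49, 35, 31, 27, 2, 17, 18, 22, 24], [60, 51, 47, 30, 32, 34, 2, 17, 23, 4, 20]⟩, .loop 22 2 [59, 46, 51, 55, 36, 32, 17, 22, 6, 25] 4 5 [⟨[24], 1184, true, [0, 2, 3, 5, 6, 4, 6, 4, 6]⟩, ⟨[], 325, false, [5, 3, 6, 2, 6, 2, 4, 5, 6, 2]⟩] [⟨[24], 317, true, [2, 4, 5, 6, 5, 3, 5, 6, 2]⟩]),
  (⟨false, 2, 2, [59, 44, 43, 30, 32, 26, 2, 17, 17, 11, 22], [66, 44, 51, 48, 30, 28, 33, 16, 16, 8, 17, 12], [63, 45, 46, 30, 27, 36, 2, 23, 23]⟩, .loop 20 2 [67, 52, 44, 30, 32, 36, 16, 2, 11, 23] 4 5 [⟨[], 1325, false, [1, 4, 6, 4, 6, 4]⟩, ⟨[23, 24, 23], 1326, true, [0, 6, 2, 5, 3, 6, 2, 4]⟩] [⟨[], 1042, true, [6, 4, 5, 6, 2, 6, 2, 4, 5, 6, 10]⟩]),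
  (⟨false, 2, 2, [58, 51, 43, 33, 31, 36, 16, 10, 16, 16], [59, 48, 57, 28, 34, 27, 2, 17, 22, 22, 24], [58, 44, 43, 57, 28, 31, 29, 2, 16, 6]⟩, .loop 33 2 [66, 48, 56, 36, 26, 16, 16, 10, 21, 17] 6 7 [⟨[23], 875, false, [0, 2, 5, 6, 2, 4, 5, 6, 10]⟩, ⟨[24, 23], 248, true, [1, 6, 10, 5, 6, 2, 5, 3, 6, 5]⟩, ⟨[23, 24, 23], 1112, true, [6, 1, 5, 6, 2, 6, 10, 5, 3]⟩] []),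
  (⟨false, 2, 2, [61, 49, 49, 34, 28, 37, 2, 17, 23, 24], [63, 48, 55, 36, 26, 26, 2, 17, 17, 19, 10], [59, 44, 51, 48, 31, 34, 33, 16, 16, 19, 4]⟩, .loop 73 2 [63, 47, 52, 34, 31, 38, 2, 17, 17, 8] 2 3 [⟨[24], 737, true, [5, 3, 5, 6, 4, 5, 6, 2, 6, 2]⟩] [⟨[], 1415, true, [6, 2, 6, 5, 3, 6, 5, 6, 4]⟩, ⟨[24], 1250, false, [3, 4, 5, 6, 4, 5, 3, 5, 6]⟩]),
  (⟨false, 2, 2, [61, 52, 48, 31, 41, 28, 2, 23, 17, 19, 6], [44, 49, 28, 31, 33, 2, 17, 23], [58, 44, 33, 35, 28, 2, 23, 10, 23, 4]⟩, .loop 69 2 [67, 57, 55, 31, 29, 40, 16, 8, 17, 23, 8] 6 7 [⟨[23], 1420, false, [1, 4, 10, 5, 3]⟩, ⟨[24, 23], 213, true, [3, 5, 3, 6, 2, 6, 5, 10, 5, 6]⟩, ⟨[22, 50, 22, 21], 199, true, [2, 6, 5, 6, 2, 6, 4, 6, 5, 10]⟩] []),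
  (⟨false, 2, 2, [66, 44, 42, 48, 30, 27, 28, 17, 22, 6, 22], [63, 46, 42, 51, 41, 29, 40, 16, 16, 19, 6], [66, 47, 55, 34, 27, 38, 2, 17, 17, 18, 23]⟩, .loop 16 2 [63, 55, 42, 33, 29, 35, 2, 17, 17, 10, 17] 4 5 [⟨[23, 24], 1268, true, [1, 3, 4, 5, 6, 2, 5, 3, 6, 4]⟩, ⟨[24], 1112, true, [6, 10, 5, 6, 4, 6, 5, 3, 6]⟩] [⟨[23, 24], 1432, false, [1, 5, 3, 6, 5, 6, 4, 10]⟩]),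
  (⟨false, 2, 2, [67, 44, 42, 45, 30, 28, 41, 16, 4, 16, 2], [66, 55, 46, 28, 41, 33, 2, 17, 23, 18, 22], [63, 45, 42, 47, 40, 38, 16, 16, 8, 6]⟩, .loop 32 2 [61, 45, 42, 51, 41, 29, 40, 2, 23, 10, 23] 2 3 [⟨[24, 23], 583, true, [0, 2, 6, 2, 4, 5, 3, 6, 4, 5]⟩] [⟨[23], 214, true, [0, 3, 4, 6, 2, 5, 6, 2, 4, 5]⟩, ⟨[66, 37, 66], 825, true, [3, 5, 3, 6, 4, 6, 5, 6, 2]⟩]),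
  (⟨false, 2, 2, [60, 49, 44, 33, 30, 32, 16, 16, 24, 11], [66, 48, 43, 30, 26, 16, 2, 24], [60, 51, 53, 28, 36, 40, 36, 19, 6]⟩, .loop 70 2 [66, 49, 49, 31, 32, 16, 11, 16, 10] 6 7 [⟨[23, 24, 23], 577, false, [1, 4, 6, 5, 3, 6, 2]⟩, ⟨[24, 23], 1155, true, [1, 6, 2, 5, 6, 5, 6, 10, 5, 3]⟩, ⟨[23, 24], 577, true, [0, 4, 6, 5, 10, 5, 6, 5, 6, 10]⟩] []),
  (⟨false, 2, 2, [58, 45, 46, 33, 31, 33, 16, 11, 11, 16], [58, 51, 44, 41, 41, 16, 4, 16, 10, 21], [58, 44, 47, 44, 31, 28, 36, 2, 17, 17, 18, 10]⟩, .loop 19 2 [58, 44, 48, 33, 38, 37, 16, 16, 11, 25] 6 7 [⟨[24], 1341, true, [2, 3, 5, 6, 1, 2, 4, 10, 5, 6]⟩, ⟨[24], 1196, false, [2, 4, 6, 2, 10, 5, 6, 4, 5, 3]⟩, ⟨[66, 66, 37, 66, 37], 124, false, [2, 3, 5, 6, 4, 5, 6, 4, 10, 5]⟩] []),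
  (⟨false, 2, 2, [66, 45, 49, 30, 37, 33, 16, 16, 24, 6], [63, 45, 54, 56, 35, 37, 38, 16, 18, 16, 24], [58, 44, 55, 28, 40, 36, 17, 23]⟩, .loop 16 2 [60, 51, 30, 41, 27, 16, 4, 16, 20] 2 3 [⟨[23], 844, false, [3, 4, 6, 4, 5, 6, 2, 6, 10]⟩] [⟨[23], 614, false, [1, 6, 5, 10, 5, 6, 2, 5, 6]⟩, ⟨[24], 334, true, [3, 5, 3, 6, 5, 10, 5, 6, 4, 6]⟩]),
  (⟨false, 2, 2, [66, 51, 52, 30, 32, 30, 2, 17, 17, 23, 11], [62, 46, 38, 32, 36, 16, 16, 2, 24], [61, 47, 56, 38, 35, 16, 16, 22, 10]⟩, .loop 21 2 [62, 45, 46, 31, 36, 34, 16, 2, 10, 23] 2 3 [⟨[], 782, false, [1, 6, 2, 5, 6, 5, 6, 4, 6]⟩] [⟨[23], 745, false, [2, 6, 5, 3, 6, 2, 4, 5]⟩, ⟨[23, 24], 177, true, [1, 6, 4, 5, 10]⟩]),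
  (⟨false, 2, 2, [61, 44, 47, 34, 26, 29, 16, 4, 16, 11], [60, 50, 49, 40, 35, 26, 16, 16, 2, 21], [61, 50, 45, 35, 36, 29, 17, 23, 16, 10]⟩, .loop 70 2 [60, 50, 44, 31, 37, 37, 16, 16, 16, 4] 6 7 [⟨[], 762, true, [0, 3, 5, 3, 6, 4, 6, 2, 5]⟩, ⟨[], 1370, false, [4, 6, 1, 5, 3, 6, 4, 5, 10]⟩, ⟨[23, 24, 23], 1483, false, [2, 3, 4, 6, 5, 6, 2, 4, 10]⟩] []),
  (⟨false, 2, 2, [67, 54, 47, 34, 26, 29, 2, 17, 0, 23, 23], [60, 48, 53, 28, 31, 35, 2, 16, 16, 6, 18], [62, 48, 56, 28, 40, 37, 2, 17, 17, 0, 23]⟩, .loop 30 2 [62, 45, 50, 42, 28, 36, 34, 16, 19] 6 7 [⟨[], 987, false, [6, 2, 5, 3, 6, 4, 6, 5, 10]⟩, ⟨[], 979, true, [0, 6, 2, 10, 5, 6, 4, 5, 10, 5]⟩, ⟨[23, 24], 1155, true, [1, 4, 6, 4, 5, 6, 2, 6, 10]⟩] []),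
  (⟨false, 2, 2, [44, 42, 48, 35, 2, 16, 6, 23, 20], [45, 43, 31, 17, 17, 23, 20], [59, 48, 52, 41, 28, 32, 16, 24, 18]⟩, .loop 23 2 [58, 47, 30, 30, 35, 16, 18, 18, 22] 2 3 [⟨[23], 755, false, [4, 10, 5, 6, 2, 4, 10, 5]⟩] [⟨[], 860, false, [0, 2, 6, 5, 3, 6, 2, 6, 4, 5]⟩, ⟨[], 714, false, [1, 6, 4, 6, 4, 5]⟩]),
  (⟨false, 2, 2, [61, 50, 45, 28, 38, 36, 16, 16, 22, 17], [67, 44, 56, 28, 31, 28, 38, 16, 2, 21, 23], [58, 45, 42, 30, 30, 28, 16, 16, 2]⟩, .loop 34 2 [62, 44, 42, 57, 30, 29, 26, 16, 11, 16, 22] 4 5 [⟨[23, 24], 289, true, [0, 6, 2, 5, 6, 4, 10, 5, 6, 4, 5]⟩, ⟨[66, 66, 38, 37], 349, true, [0, 2, 6, 10, 5, 6, 4, 10]⟩] [⟨[23, 24, 23], 293, true, [2, 4, 6, 4, 6, 2, 5, 6, 10]⟩]),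
  (⟨false, 5, 2, [58, 51, 49, 28, 34, 31, 16, 11, 16, 24, 16], [58, 47, 49, 56, 30, 40, 29, 2, 23, 6, 19], [58, 44, 42, 48, 36, 29, 33, 16, 16, 18, 25]⟩, .loop 67 2 [61, 45, 50, 45, 28, 36, 34, 2, 16, 16, 6] 6 7 [⟨[], 1079, true, [2, 4, 6, 1, 5, 6, 4, 10, 5, 3]⟩, ⟨[23], 503, false, [1, 6, 4, 6, 5, 3, 6, 2, 4, 5]⟩, ⟨[24], 204, false, [0, 3, 4, 5, 6, 4, 6, 2, 4]⟩] []),
  (⟨false, 2, 2, [59, 52, 48, 28, 35, 35, 19, 6, 23, 23], [45, 48, 35, 31, 2, 17, 23, 4, 6], [46, 51, 55, 31, 29, 32, 2, 23, 23, 17, 6]⟩, .loop 48 2 [63, 49, 42, 31, 37, 35, 2, 17, 17, 25, 21] 4 5 [⟨[], 875, true, [6, 4, 5, 6, 4, 5]⟩, ⟨[23, 24], 340, true, [2, 3, 5, 6, 2, 4, 5, 6, 5]⟩] []),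
  (⟨false, 2, 2, [56, 53, 28, 30, 35, 16, 16, 22, 10], [62, 51, 42, 31, 41, 28, 18, 23, 17], [67, 48, 50, 28, 26, 40, 38, 16, 16, 24, 6]⟩, .loop 34 2 [63, 52, 55, 31, 28, 36, 16, 11, 18, 23] 4 5 [⟨[], 302, false, [6, 5, 6, 4, 6, 10, 5, 6, 5]⟩, ⟨[23], 1276, true, [2, 6, 2, 4, 5, 3, 6, 2, 5]⟩] [⟨[24, 23], 545, false, [6, 1, 2, 5, 6, 10, 5]⟩]),
  (⟨false, 5, 2, [61, 48, 35, 38, 35, 2, 23, 8], [50, 48, 38, 26, 33, 16, 16, 13, 16], [59, 47, 49, 35, 35, 31, 16, 16, 19, 20]⟩, .loop 17 2 [45, 49, 33, 27, 40, 2, 16, 16, 6, 18] 2 3 [⟨[23], 1300, true, [0, 4, 6, 2, 5, 6, 2, 4, 10, 5]⟩] [⟨[24, 23], 1185, false, [6, 2, 5, 3, 6, 2, 5, 10]⟩, ⟨[38, 66, 38], 1083, false, [1, 6, 5, 6, 4, 6, 2]⟩]),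
  (⟨false, 3, 2, [58, 45, 54, 41, 28, 33, 16, 16, 22, 8], [67, 48, 56, 30, 34, 34, 16, 16, 19, 11], [63, 46, 46, 34, 41, 41, 16, 16, 22, 8]⟩, .loop 48 2 [60, 57, 53, 34, 27, 41, 19, 6, 23, 20] 2 3 [⟨[], 854, false, [2, 4, 5, 6, 5, 3, 5, 6]⟩] [⟨[23], 1114, true, [2, 6, 1, 10, 5]⟩]),
  (⟨false, 2, 2, [44, 48, 52, 38, 28, 41, 2, 17, 17, 6, 24], [62, 54, 50, 35, 28, 17, 23, 4], [59, 49, 42, 35, 31, 32, 2, 17, 17, 6, 10]⟩, .loop 31 2 [59, 46, 48, 28, 31, 29, 2, 17, 17, 25] 2 3 [⟨[23], 1239, true, [1, 2, 4, 5, 6, 10, 5, 6, 2, 6]⟩] [⟨[23, 24, 23], 1485, false, [2, 6, 1, 5, 3, 6, 4, 6]⟩, ⟨[23], 297, true, [4, 5, 6, 5, 6, 2, 4]⟩]),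
  (⟨false, 2, 5, [62, 47, 55, 30, 41, 29, 16, 8, 17], [59, 45, 42, 51, 40, 2, 23, 23, 16], [60, 54, 44, 30, 35, 35, 2, 16]⟩, .loop 66 2 [63, 44, 51, 48, 41, 31, 16, 16, 20, 23] 2 3 [⟨[23], 1050, false, [0, 2, 3, 5, 6, 4, 6, 4, 6, 10]⟩] [⟨[23, 24, 23], 1090, false, [0, 3, 4, 6, 4, 6, 5, 6, 5]⟩, ⟨[23, 24, 23], 1442, true, [6, 4, 6, 2, 6, 4, 5, 10]⟩]),
  (⟨false, 5, 2, [62, 45, 49, 36, 26, 2, 23, 23, 23, 0], [62, 51, 42, 31, 32, 36, 16, 4, 16], [66, 46, 48, 28, 30, 34, 16, 21]⟩, .loop 31 2 [58, 44, 53, 56, 30, 28, 37, 2, 23, 19, 6] 4 5 [⟨[23], 1270, false, [0, 6, 2, 4, 5, 3, 6, 5, 10, 5]⟩, ⟨[23, 24, 23], 882, false, [2, 4, 6, 5, 6, 2, 4, 6, 5]⟩] [⟨[], 1331, false, [2, 3, 5, 6, 4, 6, 2, 6, 5]⟩]),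
  (⟨false, 2, 2, [58, 44, 42, 31, 35, 38, 2, 23, 13], [66, 45, 42, 45, 31, 29, 29, 16, 19, 6, 23], [49, 57, 31, 34, 28, 2, 23, 4, 6]⟩, .loop 22 2 [63, 45, 42, 49, 30, 30, 16, 19, 6, 18] 4 5 [⟨[23], 361, true, [3, 4, 5, 6, 2, 10, 5, 6]⟩, ⟨[66, 66, 37, 37, 66], 229, false, [6, 1, 5, 3, 5, 6, 2, 4]⟩] [⟨[24, 23], 1376, true, [2, 4, 6, 4, 10, 5, 10]⟩]),
  (⟨false, 2, 2, [48, 40, 35, 26, 2, 23, 8], [61, 44, 46, 48, 33, 34, 41, 2, 17, 22, 8], [66, 44, 46, 36, 40, 35, 16, 11, 18, 17]⟩, .loop 30 2 [67, 48, 48, 28, 30, 38, 16, 8, 17, 17, 22] 6 7 [⟨[24], 1364, true, [4, 5, 6, 4, 5, 6, 2, 5]⟩, ⟨[], 1090, true, [0, 4, 5, 6, 4, 6, 2, 10, 5, 6]⟩, ⟨[24], 286, true, [2, 10, 5, 3, 6, 2, 6, 5, 6, 2]⟩] []),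
  (⟨false, 2, 2, [58, 49, 47, 33, 38, 16, 11, 23, 16], [45, 50, 34, 31, 31, 16, 16, 13, 19], [61, 46, 51, 55, 28, 34, 31, 2, 23, 23, 23, 21]⟩, .loop 67 2 [66, 47, 49, 28, 31, 37, 16, 16, 4, 13] 4 5 [⟨[24], 994, false, [2, 4, 5, 3, 6, 5, 6, 2, 10, 5]⟩, ⟨[23, 24, 23], 1003, true, [1, 3, 4, 5, 3, 6, 5, 3, 6, 4]⟩] [⟨[24], 1415, false, [2, 5, 6, 4, 6, 2]⟩]),
  (⟨false, 2, 2, [60, 44, 48, 52, 31, 33, 17, 23, 16, 10], [61, 46, 44, 30, 30, 40, 16, 2, 19], [66, 47, 30, 26, 35, 17]⟩, .loop 70 2 [62, 47, 44, 51, 31, 35, 26, 2, 23, 10, 23, 4] 6 7 [⟨[], 368, true, [2, 5, 6, 2, 6, 4, 10, 5, 3, 6]⟩, ⟨[24], 1241, true, [2, 4, 5, 3, 6, 2, 5, 6, 5]⟩, ⟨[23], 1130, false, [6, 1, 5, 6, 10, 5, 3, 6, 5, 3, 6]⟩] []),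
  (⟨false, 2, 2, [61, 44, 42, 47, 28, 31, 40, 2, 23, 23, 23, 0], [61, 48, 46, 30, 29, 2, 16, 16, 22, 22], [67, 47, 47, 52, 41, 27, 2, 17, 17, 10, 22]⟩, .loop 67 2 [59, 45, 42, 45, 28, 34, 31, 2, 17, 23, 20, 24] 6 7 [⟨[], 499, true, [1, 2, 3, 6, 5, 6, 4, 6, 2, 6]⟩, ⟨[23], 249, true, [0, 4, 6, 4, 6, 10, 5, 3]⟩, ⟨[23], 281, true, [0, 2, 6, 2, 4, 10, 5, 6, 5]⟩] []),
  (⟨false, 2, 2, [62, 51, 52, 38, 37, 16, 18, 23, 6], [63, 51, 52, 33, 40, 16, 16, 8], [60, 45, 42, 28, 40, 2, 23, 17, 2, 6]⟩, .loop 16 2 [60, 45, 56, 38, 28, 41, 16, 22, 22, 4] 4 5 [⟨[], 793, true, [4, 10, 5, 6, 1, 10, 5, 6, 4, 10]⟩, ⟨[24, 23], 914, false, [0, 3, 4, 5, 6, 4, 5, 6, 2, 5]⟩] [⟨[23, 24], 738, false, [1, 10, 5, 3, 6, 4, 6, 2]⟩])]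

/-- facts 1504 and on -/
def facts47 : List (Fact × Why) := [
  (⟨false, 2, 2, [59, 44, 43, 36, 28, 38, 2, 16, 6, 23], [59, 49, 47, 28, 30, 41, 2, 23, 10, 23, 19], [61, 52, 50, 34, 37, 2, 17, 22, 18]⟩, .loop 28 2 [44, 42, 28, 38, 33, 16, 16, 11, 18, 23] 2 3 [⟨[23], 300, true, [6, 4, 10, 5, 6, 10, 5, 3]⟩] [⟨[23, 24], 1301, true, [6, 5, 3, 6, 5, 10, 5, 6, 2, 4]⟩, ⟨[23, 24, 23], 1148, false, [0, 5, 3, 6, 5, 3, 6, 4, 5, 3, 6]⟩]),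
  (⟨false, 2, 2, [66, 49, 28, 34, 40, 16, 16, 16, 20], [67, 44, 43, 51, 31, 36, 34, 2, 17, 18, 22, 11], [63, 47, 35, 36, 30, 16, 21, 23, 23]⟩, .loop 69 2 [61, 44, 57, 49, 31, 36, 34, 2, 23, 23, 17, 6] 4 5 [⟨[23, 24], 1004, true, [2, 6, 1, 2, 5, 6, 4, 6, 2]⟩, ⟨[23], 1146, false, [0, 4, 10, 5, 6, 5, 3, 6, 5, 10]⟩] [⟨[23, 24, 23], 939, true, [2, 5, 6, 4, 6, 2, 6, 4, 10, 5]⟩]),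
  (⟨false, 2, 2, [59, 44, 51, 48, 33, 35, 41, 2, 17, 17, 17, 8], [61, 47, 44, 30, 37, 33, 16, 16, 4, 11], [58, 51, 49, 30, 29, 35, 16, 24, 16]⟩, .loop 67 2 [62, 51, 57, 41, 30, 2, 23, 13, 23, 18] 4 5 [⟨[24], 561, false, [2, 3, 4, 6, 1, 4, 5, 6, 2]⟩, ⟨[23, 24, 23], 334, true, [0, 2, 5, 6, 2, 5]⟩] [⟨[24, 23], 1099, false, [1, 2, 3, 6, 4, 5, 6, 2]⟩]),
  (⟨false, 2, 2, [61, 49, 34, 38, 28, 2, 17, 17, 18, 16], [63, 46, 44, 54, 38, 30, 16, 16, 24, 23], [67, 48, 56, 28, 26, 30, 16, 18, 16, 4]⟩, .loop 73 5 [59, 51, 55, 30, 29, 16, 4, 17] 4 5 [⟨[37], 108, true, [0, 4, 5, 6, 4, 5, 3]⟩, ⟨[21, 22, 245, 22, 21], 674, true, [4, 6, 1, 5, 3, 6, 4, 5]⟩] [⟨[37, 66, 38, 37], 257, false, [3, 4, 6, 4, 5, 6, 4, 5, 3, 6]⟩]),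
  (⟨false, 2, 2, [67, 47, 44, 51, 30, 40, 31, 16, 16, 10, 16, 11], [63, 55, 43, 31, 32, 30, 16, 16, 21, 16], [58, 51, 44, 36, 35, 35, 2, 23, 17, 2, 6]⟩, .loop 19 2 [61, 50, 50, 36, 16, 16, 22, 10] 6 7 [⟨[23, 24, 23], 1102, true, [0, 6, 5, 6, 10, 5, 3, 6, 5, 3, 6]⟩, ⟨[24, 23], 833, false, [0, 6, 2, 10, 5, 6, 4, 6]⟩, ⟨[23], 902, false, [2, 6, 5, 6, 4, 6, 4, 5, 3]⟩] []),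
  (⟨false, 2, 2, [61, 52, 49, 31, 29, 35, 16, 21, 23, 23], [66, 44, 48, 43, 38, 2, 17, 17, 23, 11], [60, 46, 44, 28, 36, 32, 17, 23, 23, 16]⟩, .loop 66 2 [58, 52, 48, 33, 35, 29, 16, 16, 16, 4, 13] 2 3 [⟨[], 556, false, [1, 5, 6, 10, 5, 6, 2, 10]⟩] [⟨[24, 23], 930, false, [0, 10, 5, 6, 10, 5, 3]⟩, ⟨[23, 24, 23], 1395, false, [0, 4, 5, 3, 6, 2, 6, 2, 5]⟩]),
  (⟨false, 2, 2, [44, 38, 35, 36, 16, 10], [62, 49, 49, 30, 41, 36, 2, 23, 8, 17, 25], [60, 49, 46, 30, 26, 38, 16, 22, 22, 2]⟩, .loop 16 2 [66, 52, 49, 38, 27, 16, 18, 16, 24] 4 5 [⟨[23, 24, 23], 1116, true, [6, 1, 5, 3, 6, 4, 6, 2, 5]⟩, ⟨[24], 231, false, [1, 2, 6, 5, 6, 10, 5, 6, 5, 3]⟩] [⟨[23, 24], 435, true, [0, 4, 6, 4, 5, 3, 6, 2, 6]⟩]),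
  (⟨false, 2, 2, [54, 44, 28, 31, 35, 16, 16, 4, 20], [58, 45, 42, 49, 35, 40, 16, 16, 16, 24], [60, 48, 48, 38, 32, 36, 16, 4, 16]⟩, .loop 69 2 [44, 57, 31, 37, 37, 2, 16, 6, 17, 19] 6 7 [⟨[23], 1480, false, [3, 4, 5, 3, 6, 1, 5, 6, 4, 10]⟩, ⟨[23, 24], 1132, false, [6, 4, 6, 5, 3, 6, 4, 5, 10]⟩, ⟨[23, 24], 1145, true, [1, 3, 6, 5, 3, 6, 4, 5, 3]⟩] []),
  (⟨false, 2, 2, [62, 35, 38, 16, 11, 16, 4], [66, 48, 57, 34, 33, 16, 4, 16, 20], [58, 45, 50, 45, 36, 40, 30, 2, 17, 23, 12, 16]⟩, .loop 30 2 [60, 45, 52, 31, 33, 36, 17, 23, 4] 2 3 [⟨[], 946, true, [5, 6, 1, 2, 4, 5, 6, 4]⟩] [⟨[23, 24, 23], 589, true, [5, 3, 5, 6, 5, 6, 4, 6, 10, 5]⟩, ⟨[23, 24, 23], 546, true, [4, 6, 4, 6, 4, 5, 3, 5, 6]⟩]),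
  (⟨false, 2, 2, [44, 42, 47, 36, 30, 40, 17, 22, 21, 6], [59, 52, 55, 30, 34, 27, 16, 16, 16, 2], [67, 34, 40, 17, 17, 17, 24]⟩, .loop 45 2 [62, 44, 48, 43, 31, 34, 2, 17, 17, 6, 16] 2 3 [⟨[24], 1487, true, [0, 3, 4, 5, 3, 6, 2, 5, 6]⟩] [⟨[23], 1335, false, [0, 2, 6, 5, 6, 2, 4, 6, 5, 6, 10]⟩]),
  (⟨false, 5, 2, [58, 44, 47, 47, 33, 27, 34, 16, 10, 23, 17], [60, 49, 56, 30, 40, 30, 2, 17, 17, 0, 11], [59, 57, 55, 30, 41, 16, 4, 16, 11]⟩, .loop 16 2 [60, 47, 47, 34, 26, 34, 2, 17, 17, 25] 2 3 [⟨[], 343, true, [5, 6, 1, 4, 6, 2, 4, 5, 3]⟩] [⟨[23, 24], 1414, false, [2, 6, 4, 5, 6, 4, 10, 5, 6]⟩, ⟨[23, 24, 23], 462, false, [4, 6, 2, 6, 5, 3, 6, 5, 3]⟩]),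
  (⟨false, 2, 2, [61, 50, 44, 35, 31, 16, 16, 4, 24], [59, 44, 47, 44, 31, 41, 28, 2, 23, 23, 12], [58, 45, 42, 51, 33, 29, 30, 17, 23, 23, 0]⟩, .loop 69 2 [63, 52, 55, 40, 37, 16, 4, 16, 19, 6] 2 3 [⟨[], 314, false, [0, 2, 3, 6, 5, 6, 4, 6, 4, 10]⟩] [⟨[23], 1239, false, [6, 4, 10, 5, 6, 2, 6, 4, 6]⟩, ⟨[23], 978, false, [0, 2, 6, 5, 6, 2, 6]⟩]),
  (⟨false, 2, 2, [67, 50, 55, 30, 30, 30, 2, 23, 17, 19, 22], [60, 44, 47, 44, 35, 28, 40, 16, 24, 23, 16], [59, 50, 44, 38, 28, 16, 24, 6]⟩, .loop 32 2 [62, 44, 43, 53, 35, 31, 29, 16, 16, 2, 4, 23] 2 3 [⟨[23], 940, false, [0, 4, 6, 5, 10, 5, 6, 2, 5, 6]⟩] [⟨[], 1143, false, [1, 6, 10, 5, 3, 6, 2, 4, 5]⟩, ⟨[23, 24, 23], 1172, false, [10, 5, 6, 2, 6, 5, 6]⟩]),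
  (⟨false, 2, 2, [63, 54, 44, 35, 30, 16, 2, 19, 16], [60, 47, 54, 30, 26, 33, 2, 17, 17, 6, 24], [44, 51, 48, 33, 34, 38, 2, 23, 17, 8, 21]⟩, .loop 71 2 [59, 47, 56, 35, 35, 41, 16, 11, 16, 16] 6 7 [⟨[24, 23], 650, false, [0, 2, 4, 6, 5, 3, 6, 5, 6, 10]⟩, ⟨[66, 66, 38, 66, 38], 330, true, [0, 5, 3, 5, 6, 4, 5, 3, 5, 6, 2]⟩, ⟨[23, 24, 23], 1491, false, [0, 3, 6, 4, 5, 6, 10, 5, 6, 5]⟩] []),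
  (⟨false, 2, 2, [58, 54, 56, 41, 29, 40, 16, 16, 18, 24], [67, 46, 49, 36, 28, 16, 16, 19, 17], [44, 46, 33, 38, 36, 2, 23, 23, 10, 17]⟩, .loop 31 2 [66, 45, 42, 47, 28, 35, 2, 17, 0] 2 3 [⟨[24, 23], 1329, false, [10, 5, 6, 1, 5, 10, 5, 6, 2]⟩] [⟨[24, 23], 717, false, [4, 10, 5, 6, 5, 6, 4, 10, 5, 3]⟩, ⟨[], 365, false, [0, 2, 6, 5, 3, 5, 6, 2, 4]⟩]),
  (⟨false, 2, 2, [52, 44, 35, 29, 36, 2, 23, 23, 16, 8], [60, 44, 46, 30, 38, 40, 2, 17, 17, 13, 25], [67, 45, 56, 31, 28, 30, 16, 16, 24, 13]⟩, .loop 69 2 [58, 46, 38, 26, 2, 17, 22, 16, 10] 6 7 [⟨[23], 710, true, [6, 5, 6, 2, 6, 5, 3, 6, 5, 10]⟩, ⟨[], 575, false, [0, 5, 6, 2, 4, 6, 5, 3, 6, 2, 6]⟩, ⟨[24], 1259, false, [6, 2, 5, 6, 10, 5, 6, 4]⟩] []),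
  (⟨false, 2, 2, [54, 30, 35, 37, 2, 16, 16], [63, 56, 50, 30, 38, 32, 16, 16], [60, 46, 51, 41, 34, 16, 11, 16, 24, 16]⟩, .loop 29 2 [67, 51, 42, 31, 34, 30, 2, 17, 17, 8, 23] 2 3 [⟨[], 847, false, [6, 5, 3, 6, 5, 6, 2, 6]⟩] [⟨[24, 23], 1289, true, [1, 2, 5, 6, 4, 6, 5, 10]⟩, ⟨[23], 1334, true, [3, 6, 5, 6, 2, 4, 6, 5]⟩]),
  (⟨false, 2, 2, [49, 44, 28, 31, 29, 16, 4, 16, 16, 22], [59, 44, 53, 30, 26, 32, 2, 17, 23, 24, 21], [63, 45, 50, 36, 34, 16, 16, 20, 8]⟩, .loop 48 2 [66, 46, 48, 33, 31, 31, 16, 2, 19, 22] 4 5 [⟨[23, 24], 995, true, [1, 6, 4, 6, 10, 5, 3, 6, 2, 4]⟩, ⟨[23], 1499, false, [1, 2, 6, 2, 6, 4, 10, 5, 6, 2, 5]⟩] []),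
  (⟨false, 2, 2, [63, 44, 57, 49, 33, 33, 31, 2, 16, 16, 16, 4], [63, 44, 43, 53, 28, 35, 41, 2, 17, 17, 23, 11], [66, 44, 42, 45, 38, 40, 16, 16, 10, 8]⟩, .loop 18 2 [59, 48, 42, 31, 32, 29, 2, 17, 17, 25] 6 7 [⟨[], 537, true, [1, 2, 5, 6, 2, 4, 5, 6, 4]⟩, ⟨[38, 37], 166, false, [0, 3, 5, 6, 4, 6, 2, 5, 3]⟩, ⟨[], 691, true, [1, 3, 4, 5, 6, 10, 5, 6]⟩] []),
  (⟨false, 2, 2, [62, 44, 49, 34, 31, 35, 2, 23, 10, 23, 6], [66, 47, 47, 30, 30, 35, 16, 10, 25], [61, 51, 42, 31, 29, 16, 16, 2, 11]⟩, .loop 48 2 [62, 44, 43, 57, 35, 28, 28, 2, 17, 23, 11, 25] 2 3 [⟨[23, 24], 1004, false, [1, 3, 5, 6, 4, 5, 6, 4, 10]⟩] [⟨[23, 24, 23], 925, true, [2, 3, 6, 2, 6, 4, 5, 6]⟩]),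
  (⟨false, 2, 2, [63, 45, 31, 26, 34, 2, 17, 17, 11, 22], [59, 51, 47, 28, 34, 38, 2, 23, 17, 24, 11], [63, 56, 50, 33, 36, 41, 16, 22, 22, 22]⟩, .loop 48 2 [66, 44, 42, 47, 36, 33, 16, 16, 16, 18] 2 3 [⟨[24, 23], 1446, true, [3, 4, 6, 5, 3, 6, 5, 6, 10]⟩] [⟨[24, 23], 1121, true, [10, 5, 3, 6, 1, 5, 3]⟩]),
  (⟨false, 2, 2, [48, 45, 38, 31, 35, 16, 16, 25, 23], [58, 44, 42, 47, 41, 30, 37, 16, 16, 20, 13], [63, 56, 31, 28, 32, 16, 16, 8, 22, 22]⟩, .loop 69 2 [59, 44, 33, 40, 16, 16, 20, 19] 2 3 [⟨[23], 955, true, [2, 6, 2, 6, 5, 3, 6, 2, 4, 5]⟩] [⟨[], 273, true, [3, 4, 5, 6, 4, 6, 4, 10]⟩, ⟨[24], 536, false, [1, 6, 5, 6, 4, 6, 2, 6, 5, 10]⟩]),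
  (⟨false, 2, 2, [60, 44, 48, 43, 28, 26, 31, 33, 2, 23, 17, 25, 6], [58, 52, 50, 28, 40, 30, 16, 10, 18, 16], [67, 44, 55, 52, 28, 40, 33, 16, 16, 20, 19]⟩, .loop 69 2 [61, 46, 44, 54, 28, 26, 31, 2, 17, 23, 11, 25] 4 5 [⟨[], 1188, false, [0, 2, 4, 6, 2, 5, 6, 4, 6, 5]⟩, ⟨[23], 1111, false, [5, 6, 4, 6, 2, 6, 5, 3, 6]⟩] [⟨[23, 24, 23], 1249, false, [1, 4, 6, 5, 6, 2, 10, 5, 6, 2]⟩]),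
  (⟨false, 2, 2, [58, 44, 43, 53, 34, 41, 41, 16, 24], [58, 44, 56, 38, 29, 30, 16, 16, 22, 19], [60, 50, 49, 28, 41, 35, 2, 23, 4, 6, 17]⟩, .loop 46 2 [67, 47, 33, 34, 41, 17, 23, 18, 17] 4 5 [⟨[23], 1195, false, [1, 3, 6, 4, 6, 4]⟩, ⟨[66, 66, 38, 66], 1442, false, [1, 6, 10, 5, 6, 4, 5, 10]⟩] []),
  (⟨false, 2, 2, [62, 46, 44, 28, 41, 34, 2, 23, 17, 2], [60, 48, 52, 33, 34, 26, 16, 11, 11, 16], [60, 57, 55, 31, 34, 33, 2, 23, 6, 11]⟩, .loop 32 5 [62, 44, 42, 48, 30, 30, 37, 2, 17, 17, 6] 2 3 [⟨[37, 38], 1442, false, [3, 6, 1, 2, 6, 5, 6, 2]⟩] [⟨[38, 66, 38, 37], 470, true, [2, 6, 1, 4, 5, 3]⟩, ⟨[23, 24], 1183, true, [1, 2, 3, 5, 6, 2, 6, 4]⟩]),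
  (⟨false, 2, 2, [60, 47, 54, 31, 37, 16, 16, 10, 21, 17], [62, 44, 57, 49, 30, 32, 17, 17, 23, 23], [67, 48, 55, 31, 29, 40, 2, 17, 17, 25, 13]⟩, .loop 20 2 [59, 51, 57, 31, 36, 35, 16, 24, 16, 10] 2 3 [⟨[24], 620, false, [0, 5, 6, 4, 10, 5, 6, 10, 5, 6]⟩] [⟨[], 1284, false, [0, 4, 6, 5, 6, 2, 6, 5, 6, 10]⟩, ⟨[23], 620, false, [4, 6, 1, 4, 5, 6, 2, 6]⟩]),
  (⟨false, 2, 2, [46, 44, 54, 31, 29, 40, 2, 23, 23, 13, 17], [59, 45, 54, 56, 41, 33, 17, 22, 6, 17], [63, 45, 57, 28, 31, 27, 16, 8, 22, 6]⟩, .loop 70 2 [63, 56, 35, 40, 31, 16, 25] 2 3 [⟨[24], 877, true, [3, 5, 3, 6, 1, 2, 6, 5, 6]⟩] [⟨[24], 128, true, [3, 6, 1, 2, 4, 5, 6, 10, 5]⟩, ⟨[24, 23], 1132, false, [3, 5, 6, 2, 5, 6, 4, 6, 2, 10]⟩]),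
  (⟨false, 2, 5, [58, 44, 42, 57, 33, 35, 26, 2, 23, 10, 23, 23], [63, 45, 43, 28, 41, 35, 16, 25, 22], [63, 50, 31, 35, 27, 16, 16, 18, 11]⟩, .loop 29 2 [58, 49, 57, 40, 30, 16, 16, 19, 11] 4 5 [⟨[23], 982, false, [6, 10, 5, 6, 2, 6, 4, 5]⟩, ⟨[24], 1194, true, [4, 6, 5, 6, 5, 3, 5, 6]⟩] [⟨[24], 296, false, [6, 5, 6, 10, 5, 6, 10]⟩]),
  (⟨false, 2, 5, [67, 49, 56, 28, 30, 38, 16, 11, 16, 22], [67, 55, 38, 31, 2, 17, 23, 11, 17], [58, 47, 49, 56, 34, 29, 41, 16, 18, 16, 11]⟩, .loop 21 2 [67, 48, 47, 38, 26, 33, 16, 10, 18] 2 3 [⟨[], 991, true, [0, 4, 6, 5, 3, 6, 4, 5, 3, 6]⟩] [⟨[24], 1085, true, [6, 1, 2, 6, 10, 5, 6, 2, 10]⟩, ⟨[], 254, true, [1, 6, 2, 4, 6, 10, 5, 6]⟩]),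
  (⟨false, 2, 2, [59, 57, 53, 33, 34, 26, 2, 17, 25, 17], [58, 48, 57, 28, 34, 30, 16, 16, 4, 20], [59, 47, 47, 28, 38, 36, 2, 16, 16, 6, 16]⟩, .loop 31 2 [66, 50, 42, 33, 29, 31, 2, 23, 10, 23, 23] 6 7 [⟨[24, 23], 1049, false, [3, 4, 6, 2, 6, 4, 5, 6, 2, 6, 2]⟩, ⟨[23], 317, true, [0, 5, 6, 4, 5, 3, 6, 4, 5]⟩, ⟨[], 1014, true, [2, 3, 6, 1, 4, 5, 6]⟩] []),
  (⟨false, 5, 5, [58, 48, 52, 31, 32, 29, 16, 11, 16, 25], [60, 44, 42, 48, 28, 26, 40, 2, 16, 6, 17, 19], [46, 48, 30, 26, 28, 2, 17, 17, 22, 24]⟩, .loop 47 2 [59, 44, 42, 45, 30, 27, 28, 2, 17, 0, 23, 20] 2 3 [⟨[], 1412, false, [1, 2, 5, 3, 6, 5, 3]⟩] [⟨[], 1514, true, [4, 10, 5, 3, 6, 1, 2, 5]⟩]),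
  (⟨false, 2, 7, [66, 50, 49, 28, 16, 4, 16, 19, 6], [], []⟩, .defn)]

/-- facts 1536 and on -/
def facts48 : List (Fact × Why) := [
  (⟨false, 2, 7, [59, 44, 46, 31, 41, 16, 11, 16, 18], [63, 45, 43, 28, 40, 16, 25], [66, 47, 44, 28, 40, 2, 23, 17, 24]⟩, .loop 17 2 [59, 44, 46, 44, 31, 29, 37, 2, 17, 23, 17, 24] 4 5 [⟨[24], 1132, false, [0, 2, 3, 6, 5, 6, 2, 4, 6, 10]⟩, ⟨[23, 24, 23], 865, true, [0, 4, 5, 6, 4, 6, 2, 10]⟩] [⟨[24], 1535, false, [0, 2, 5, 3, 6, 4, 5, 10]⟩]),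
  (⟨false, 7, 2, [58, 52, 49, 30, 29, 27, 16, 21, 17], [58, 51, 34, 26, 35, 16, 16, 22, 19], [66, 48, 43, 35, 36, 29, 2, 17, 6]⟩, .loop 45 2 [58, 52, 49, 30, 26, 41, 17, 23, 18, 17] 4 5 [⟨[24, 23], 177, true, [0, 2, 5, 6, 2, 4, 5]⟩, ⟨[], 1536, false, [2, 4, 5, 6, 10, 5, 6, 10]⟩] []),
  (⟨false, 7, 2, [63, 45, 56, 30, 28, 41, 18, 23, 17, 6], [44, 43, 53, 36, 40, 37, 16, 8, 22, 19], [62, 51, 55, 30, 40, 33, 16, 21, 16, 21]⟩, .loop 20 2 [58, 44, 31, 36, 16, 16, 16, 19] 2 3 [⟨[24], 1536, false, [0, 5, 10, 5, 6, 2, 5, 6, 4]⟩] [⟨[24], 845, true, [1, 3, 6, 4, 6, 2, 5, 6]⟩, ⟨[], 803, false, [0, 2, 6, 4, 5, 3, 5, 6, 5, 3, 5]⟩]),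
  (⟨false, 7, 2, [59, 48, 56, 35, 31, 26, 16, 4, 23], [63, 50, 45, 36, 31, 31, 16, 24, 18], [58, 52, 50, 40, 32, 2, 23, 23, 25]⟩, .loop 63 2 [61, 28, 34, 31, 18, 23, 17, 6] 10 11 [⟨[], 225, false, [0, 3, 4, 6, 4, 5, 6, 4]⟩, ⟨[], 272, true, [6, 1, 5, 6, 4]⟩, ⟨[24], 358, false, [6, 4, 5, 3, 6, 2, 5, 6]⟩, ⟨[], 373, false, [1, 6, 4, 6, 5, 6, 10, 5, 6, 4]⟩, ⟨[], 1536, false, [2, 3, 5, 6, 4, 5, 3, 6, 2]⟩] [⟨[], 260, true, [1, 2, 3, 6, 5, 6, 4, 10, 5]⟩, ⟨[], 423, false, [3, 4, 6, 4, 6, 4]⟩]),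
  (⟨false, 2, 7, [62, 45, 42, 49, 31, 28, 19, 6, 17, 0], [54, 46, 38, 28, 41, 16, 2, 16, 2], [61, 47, 50, 28, 38, 36, 16, 16, 20, 19]⟩, .loop 62 2 [58, 46, 34, 36, 30, 2, 23, 23, 4, 23] 2 3 [⟨[23, 24], 414, true, [6, 4, 10, 5, 6, 4, 5, 6, 10]⟩] [⟨[23, 24, 23], 225, true, [6, 10, 5, 3, 6, 2, 6, 5, 3, 6]⟩, ⟨[24], 258, true, [3, 6, 5, 3, 6, 4, 6, 5]⟩, ⟨[24], 291, true, [2, 6, 1, 4, 10, 5, 6, 10, 5, 10]⟩, ⟨[], 308, false, [2, 3, 6, 4, 5, 10, 5, 6]⟩, ⟨[24], 390, true, [3, 5, 3, 6, 1, 5, 10, 5]⟩, ⟨[], 1539, true, [1, 5, 3, 6, 2]⟩]),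
  (⟨false, 7, 2, [58, 49, 46, 41, 30, 37, 16, 16, 8, 6], [60, 52, 48, 35, 29, 31, 2, 17, 23, 18, 20], [61, 50, 28, 30, 27, 2, 23, 23, 18, 16]⟩, .loop 56 2 [60, 44, 42, 45, 41, 2, 23, 17, 24, 6] 2 3 [⟨[], 1539, true, [10, 5, 6, 5, 6, 4, 6, 2, 6]⟩] [⟨[], 1410, true, [1, 4, 5, 3, 6, 2, 6]⟩, ⟨[], 414, true, [4, 5, 6, 1, 4, 10]⟩, ⟨[24], 358, true, [2, 3, 6, 5, 6, 2, 6, 5, 3, 5]⟩, ⟨[], 177, true, [0, 5, 6, 4, 5, 6, 5, 10, 5]⟩, ⟨[24], 291, true, [1, 2, 3, 4, 6, 5, 6, 4, 6, 2, 10]⟩, ⟨[], 260, false, [2, 5, 6, 2, 6, 10, 5]⟩]),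
  (⟨false, 2, 7, [58, 44, 46, 48, 28, 31, 27, 31, 16, 11, 11], [48, 44, 28, 36, 16, 24, 17], [58, 47, 50, 34, 36, 30, 2, 17, 19]⟩, .loop 61 2 [52, 50, 35, 30, 26, 16, 16, 8, 16] 8 9 [⟨[24], 358, false, [1, 3, 6, 4, 5, 10, 5, 6]⟩, ⟨[24], 344, true, [0, 2, 4, 6, 5, 3, 6, 4]⟩, ⟨[23, 24], 291, false, [6, 1, 4, 6, 5, 3, 6, 5, 6]⟩, ⟨[], 429, false, [1, 4, 10, 5, 3, 6, 5, 6]⟩] [⟨[], 223, true, [4, 6, 2, 6, 10, 5, 6, 4, 10]⟩, ⟨[23, 24], 378, true, [5, 6, 4, 5, 6, 2, 4, 10, 5]⟩, ⟨[], 1539, true, [1, 2, 3, 6, 5, 3, 6, 2, 6]⟩]),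
  (⟨false, 2, 7, [59, 52, 55, 28, 30, 26, 34, 16, 16, 13, 19], [67, 45, 50, 42, 30, 37, 27, 16, 10, 8], [45, 43, 28, 36, 40, 36, 16, 18, 16]⟩, .loop 55 2 [59, 50, 55, 40, 35, 2, 17, 17, 20] 6 7 [⟨[24], 367, false, [1, 4, 6, 2, 6, 4, 5, 3, 6, 2, 6]⟩, ⟨[23], 378, true, [2, 6, 5, 3, 5, 6, 5, 6, 4]⟩, ⟨[], 423, true, [1, 2, 4, 10, 5, 6, 5]⟩] [⟨[24], 373, false, [1, 2, 6, 2, 10, 5, 6, 5, 6, 10, 5]⟩, ⟨[24], 429, false, [4, 6, 1, 2, 6, 4, 5, 10, 5, 6]⟩, ⟨[23], 272, true, [2, 3, 5, 6, 5, 6, 2, 6, 4]⟩, ⟨[23, 24, 23], 1537, true, [4, 5, 3, 6, 2, 6, 2, 5]⟩]),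
  (⟨false, 7, 2, [66, 44, 53, 31, 34, 33, 2, 17, 19], [60, 54, 50, 28, 41, 29, 16, 2, 11, 11], [58, 44, 47, 28, 30, 41, 16, 18, 18, 6]⟩, .loop 21 2 [62, 57, 55, 34, 26, 2, 23, 23, 23, 24] 4 5 [⟨[23], 1304, true, [1, 3, 6, 5, 6, 2, 4, 10]⟩, ⟨[23, 24], 1540, false, [4, 6, 1, 5, 3, 6, 2, 6, 4, 5]⟩] [⟨[24, 23], 1119, false, [5, 10, 5, 6, 4, 6, 5]⟩]),
  (⟨false, 7, 2, [61, 44, 42, 46, 34, 26, 29, 16, 16, 8, 21], [58, 56, 53, 30, 26, 35, 19, 6, 23], [66, 50, 49, 36, 32, 2, 17, 19]⟩, .loop 31 2 [59, 44, 55, 50, 28, 40, 33, 16, 19, 22, 11] 2 3 [⟨[24], 1542, false, [3, 5, 6, 2, 6, 2, 10, 5, 6]⟩] [⟨[24, 23], 839, true, [5, 6, 4, 10, 5, 3, 6, 2, 6, 2]⟩, ⟨[24], 1213, false, [6, 4, 6, 4, 5, 6, 10, 5, 6]⟩]),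
  (⟨false, 7, 2, [60, 44, 48, 43, 33, 36, 16, 4], [59, 44, 42, 46, 28, 40, 36, 2, 17, 17, 10, 17], [58, 55, 47, 35, 38, 16, 24, 23, 23]⟩, .loop 23 2 [62, 50, 40, 32, 2, 23, 23, 13, 17] 4 5 [⟨[23, 24, 23], 969, false, [2, 4, 5, 6, 1, 4, 6, 5, 3]⟩, ⟨[23], 1540, false, [0, 6, 2, 10, 5, 6, 4, 6, 5]⟩] [⟨[23, 24], 1524, true, [0, 3, 5, 6, 4, 5, 6, 2, 6, 10]⟩]),
  (⟨false, 2, 7, [61, 51, 53, 30, 34, 31, 2, 23, 23, 17, 2], [59, 50, 45, 34, 26, 35, 2, 16, 16, 22], [51, 51, 33, 27, 30, 2, 17, 23, 11, 11]⟩, .loop 69 2 [62, 48, 45, 28, 31, 28, 16, 4, 16, 13, 10] 2 3 [⟨[24], 949, true, [2, 3, 5, 6, 4, 5, 3]⟩] [⟨[24], 509, false, [0, 4, 6, 2, 6, 2, 10, 5]⟩, ⟨[24, 23], 1543, false, [0, 2, 10, 5, 6, 4, 5, 3, 6, 2]⟩]),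
  (⟨false, 7, 2, [51, 55, 31, 33, 34, 16, 16, 25], [66, 44, 47, 47, 28, 35, 36, 17, 23, 17, 22, 24], [62, 46, 28, 38, 31, 2, 23, 10, 17, 19]⟩, .loop 70 2 [59, 44, 47, 47, 35, 40, 31, 2, 23, 8, 17, 17] 4 5 [⟨[23], 821, true, [2, 6, 5, 6, 10, 5, 6, 5, 10]⟩, ⟨[23, 24, 23], 1543, false, [2, 3, 6, 1, 2, 4, 5, 10]⟩] [⟨[], 591, true, [3, 5, 6, 5, 10, 5, 6, 2, 6]⟩]),
  (⟨true, 7, 7, [184], [], [186]⟩, .coinc 2 [66, 44, 47, 47, 28, 35, 36, 17, 23, 17, 22, 24] ⟨[23, 24, 23], 1537, true, [0, 6, 10, 5, 3, 6, 5, 6, 4]⟩ ⟨[], 1548, true, []⟩),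
  (⟨false, 7, 2, [67, 46, 51, 55, 34, 16, 4, 16, 25], [62, 48, 50, 28, 40, 37, 16, 16, 4, 23], [59, 50, 45, 41, 36, 16, 19, 16]⟩, .loop 20 2 [61, 45, 42, 45, 38, 29, 17, 23, 23, 8] 2 3 [⟨[24], 1536, false, [4, 6, 1, 2, 6, 10, 5]⟩] [⟨[24, 23], 281, false, [0, 4, 10, 5, 6, 2, 6, 5, 6, 4]⟩, ⟨[23], 1414, false, [0, 3, 5, 6, 4, 5, 6, 2, 6, 10]⟩]),
  (⟨false, 7, 5, [58, 54, 50, 34, 36, 16, 10], [62, 57, 55, 31, 29, 40, 2, 17, 22, 16, 16], [61, 44, 51, 48, 28, 34, 40, 16, 16, 24, 6]⟩, .loop 46 5 [67, 45, 46, 35, 37, 17, 23, 17, 22] 4 5 [⟨[], 1129, true, [2, 6, 2, 5, 3, 6, 5]⟩, ⟨[23, 24], 1546, true, [1, 3, 5, 6, 10, 5, 6, 5, 10]⟩] []),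
  (⟨false, 7, 2, [60, 54, 50, 30, 38, 16, 2, 16, 2], [56, 28, 38, 30, 16, 8, 17, 23, 8], [63, 51, 57, 30, 29, 41, 16, 16, 21, 18]⟩, .loop 48 2 [67, 48, 43, 31, 33, 33, 16, 16, 20, 23] 4 5 [⟨[23], 1254, true, [1, 2, 10, 5, 6, 5, 10]⟩, ⟨[38, 37], 1551, true, [1, 2, 6, 4, 5, 6, 10, 5, 6]⟩] []),
  (⟨false, 2, 7, [60, 48, 48, 30, 27, 32, 2, 17, 17, 22, 6], [59, 51, 46, 30, 29, 40, 16, 16, 22, 19], [62, 54, 31, 28, 40, 2, 23, 17, 0, 25]⟩, .loop 59 2 [61, 45, 49, 33, 34, 31, 2, 17, 22, 22, 16] 8 9 [⟨[], 824, true, [2, 6, 2, 10, 5, 6, 4, 5]⟩, ⟨[23], 1433, true, [5, 3, 5, 6, 2, 6, 5, 10]⟩, ⟨[23, 24, 23], 1013, false, [1, 3, 4, 6, 2, 6]⟩, ⟨[24], 1186, true, [0, 6, 4, 6, 4, 5, 3, 6]⟩] [⟨[], 842, true, [1, 5, 6, 5, 3, 6, 4, 5, 10]⟩, ⟨[23, 24],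 1159, false, [0, 4, 5, 6, 5]⟩, ⟨[23, 24], 1547, false, [2, 3, 4, 6, 5, 6, 10]⟩]),
  (⟨false, 2, 7, [60, 48, 42, 30, 40, 28, 2, 23, 4, 6, 23], [62, 49, 47, 40, 38, 2, 16, 16, 22], [62, 44, 46, 57, 28, 35, 31, 2, 23, 17, 0]⟩, .loop 67 2 [59, 51, 47, 31, 33, 31, 16, 2, 11] 4 5 [⟨[], 661, true, [1, 5, 3, 6, 2, 5, 6, 10, 5, 10]⟩, ⟨[24, 23], 875, false, [2, 3, 4, 5, 6, 5, 3, 6, 4, 6]⟩] [⟨[23, 24, 23], 1543, false, [2, 3, 4, 6, 1, 4, 5, 3, 6]⟩]),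
  (⟨false, 7, 2, [62, 44, 49, 28, 38, 29, 2, 17, 17, 2, 22], [61, 50, 44, 16, 4, 16, 19, 11], [62, 55, 47, 30, 27, 32, 16, 25]⟩, .loop 64 2 [58, 49, 51, 41, 26, 16, 11, 16, 24, 16] 8 9 [⟨[24, 23], 1013, false, [0, 2, 3, 5, 6, 4, 5]⟩, ⟨[23, 24], 202, false, [0, 6, 5, 6, 4]⟩, ⟨[], 844, true, [4, 6, 1, 2, 4, 5, 6, 4, 10, 5]⟩, ⟨[24], 1547, false, [6, 4, 5, 10, 5, 6, 2, 5, 6]⟩] [⟨[24, 23], 619, true, [10, 5, 6, 4, 5, 3, 5, 6, 5, 3]⟩, ⟨[23, 24, 23], 766, true, [6, 1, 5, 6, 10, 5, 6, 4]⟩, ⟨[23], 842, false, [0, 5, 6, 4, 6, 5, 10, 5, 6]⟩]),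
  (⟨false, 7, 2, [60, 46, 49, 35, 36, 29, 2, 23, 23, 4, 19], [59, 55, 38, 32, 16, 18, 24, 6], [66, 44, 48, 43, 36, 35, 35, 17, 17, 17]⟩, .loop 31 2 [60, 45, 56, 30, 26, 32, 2, 17, 23, 17, 24] 6 7 [⟨[23, 24], 1361, false, [1, 6, 10, 5, 6, 4, 6]⟩, ⟨[23, 24, 23], 1088, true, [2, 4, 5, 6, 5, 3, 6, 2, 4]⟩, ⟨[24, 23], 1540, false, [2, 3, 5, 6, 1, 2, 4, 10, 5]⟩] []),
  (⟨false, 2, 7, [59, 45, 54, 40, 35, 26, 19, 6, 17, 19], [63, 45, 56, 31, 26, 26, 2, 23, 10, 17, 0], [63, 45, 30, 40, 30, 16, 4, 16, 13]⟩, .loop 22 7 [54, 31, 32, 38, 16, 10, 17, 6, 23] 6 7 [⟨[1549], 1554, true, [4, 5, 6, 2, 5, 3, 6, 5, 10]⟩, ⟨[23, 24], 586, false, [0, 2, 4, 6, 5, 6, 5, 3, 5, 6, 2]⟩, ⟨[], 665, false, [5, 3, 6, 5, 3, 6, 2, 4, 6, 5]⟩] []),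
  (⟨false, 7, 2, [58, 52, 55, 41, 41, 2, 17, 23, 12, 18], [58, 45, 54, 45, 41, 29, 40, 16, 16, 20, 19], [60, 56, 28, 26, 31, 16, 10, 19]⟩, .loop 69 2 [67, 44, 57, 49, 36, 32, 30, 16, 16, 2, 4, 24] 6 7 [⟨[23, 24, 23], 548, true, [0, 6, 4, 10, 5, 6, 2, 6, 4, 10]⟩, ⟨[24, 23], 1343, true, [1, 6, 5, 6, 2, 6, 5, 3, 5]⟩, ⟨[24, 23], 1547, false, [6, 1, 4, 10, 5, 6, 2, 5, 3]⟩] []),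
  (⟨false, 2, 7, [60, 45, 56, 50, 28, 35, 41, 17, 23, 17, 22], [59, 44, 47, 44, 33, 27, 27, 16, 11, 18, 23], [58, 54, 46, 36, 32, 16, 4, 16, 19, 11]⟩, .loop 18 7 [67, 44, 57, 49, 33, 33, 2, 23, 18] 6 7 [⟨[], 1554, true, [6, 2, 5, 3, 6, 5, 6, 10, 5]⟩, ⟨[23, 24, 23], 1164, true, [2, 6, 4, 5, 6, 2, 6, 5, 10]⟩, ⟨[23, 24], 1050, false, [1, 4, 5, 3, 6, 4, 5, 6, 2, 5]⟩] []),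
  (⟨false, 7, 2, [66, 44, 48, 41, 36, 2, 23, 18, 6], [62, 45, 56, 33, 41, 28, 16, 16, 19, 16], [67, 48, 35, 31, 26, 2, 23, 23, 17, 2]⟩, .loop 28 2 [67, 44, 46, 57, 30, 32, 36, 17, 23, 17, 8] 2 3 [⟨[], 1545, true, [2, 3, 4, 6, 4, 6, 5, 6, 2]⟩] [⟨[], 1473, false, [0, 5, 6, 2, 6, 4, 10, 5, 6]⟩, ⟨[23], 780, true, [5, 6, 4, 6, 2, 6, 5, 6, 5]⟩]),
  (⟨false, 2, 7, [58, 44, 42, 45, 31, 37, 37, 16, 16, 24, 23], [67, 45, 54, 31, 28, 16, 16, 4, 13], [61, 44, 43, 57, 33, 31, 32, 2, 23, 17, 19]⟩, .loop 31 2 [59, 50, 49, 34, 26, 32, 17, 23] 4 5 [⟨[23], 1466, false, [3, 6, 4, 5, 6, 5, 6, 10, 5]⟩, ⟨[23, 24, 23], 805, true, [0, 2, 3, 6, 4, 5, 6, 4, 6]⟩] [⟨[24], 1556, true, [4, 6, 1, 2, 6, 4, 10, 5, 6]⟩]),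
  (⟨false, 2, 7, [62, 44, 51, 46, 38, 28, 2, 23, 23, 8, 18], [62, 47, 47, 33, 29, 37, 16, 24, 6], [49, 42, 28, 36, 34, 16, 16, 8, 6]⟩, .loop 16 7 [62, 47, 47, 33, 29, 37, 16, 4, 11] 6 7 [⟨[], 1540, true, [0, 6, 5, 6, 2, 4, 6, 5, 3]⟩, ⟨[23], 1377, false, [6, 1, 2, 6, 5, 3, 6, 5, 10]⟩, ⟨[23, 24], 1421, false, [6, 5, 3, 5, 6, 2, 5]⟩] []),
  (⟨false, 7, 2, [67, 51, 30, 16, 22, 22], [59, 54, 44, 30, 30, 38, 16, 16, 10], [62, 47, 50, 30, 32, 34, 16, 16, 24, 22]⟩, .loop 57 2 [66, 44, 42, 54, 35, 28, 32, 2, 17, 22] 12 13 [⟨[], 1433, true, [0, 10, 5, 6, 2, 6, 4]⟩, ⟨[24], 428, false, [3, 4, 6, 5, 3, 6, 5, 3]⟩, ⟨[24], 918, false, [4, 6, 5, 3, 6, 5, 6, 4]⟩, ⟨[24], 416, false, [5, 3, 6, 4, 5, 6, 2, 4, 10]⟩, ⟨[23, 24, 23], 1476, true, [5, 3, 6, 2,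 6, 2, 4, 5, 10]⟩, ⟨[], 1553, false, [0, 1, 2, 4, 5, 3]⟩] [⟨[], 713, false, [10, 5, 6, 1, 4, 5, 6, 4, 5]⟩]),
  (⟨false, 2, 7, [67, 54, 52, 28, 34, 37, 16, 16, 16, 16], [62, 48, 43, 34, 41, 2, 17, 23, 11, 24], [67, 48, 53, 34, 31, 35, 16, 16, 25, 17]⟩, .loop 30 2 [66, 51, 44, 33, 28, 35, 16, 16, 2, 4, 23] 2 3 [⟨[], 207, true, [1, 6, 4, 5, 6, 10]⟩] [⟨[23], 793, true, [3, 5, 6, 5, 6, 10, 5, 3]⟩, ⟨[23], 1545, true, [4, 10, 5, 3, 6, 1, 2, 4]⟩]),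
  (⟨false, 2, 7, [58, 49, 51, 28, 31, 37, 2, 17, 17, 13, 22], [67, 46, 33, 27, 27, 2, 17, 17, 2], [61, 44, 48, 43, 34, 28, 40, 16, 11, 16, 21, 22]⟩, .loop 20 2 [66, 44, 43, 30, 32, 36, 2, 23, 4] 4 5 [⟨[], 1168, true, [2, 4, 6, 2, 6, 4, 5, 6, 5]⟩, ⟨[], 750, true, [1, 2, 3, 6, 4, 6, 2, 5, 6, 5]⟩] [⟨[23, 24, 23], 1541, true, [6, 10, 5, 3, 6, 2, 6, 5]⟩]),
  (⟨false, 2, 7, [62, 44, 48, 41, 36, 18, 23, 17, 22], [67, 52, 55, 31, 28, 27, 2, 23, 13, 23, 6], [62, 50, 42, 35, 28, 40, 2, 17, 18]⟩, .loop 50 2 [62, 44, 55, 52, 41, 30, 37, 2, 23, 17, 18] 2 3 [⟨[24], 1076, true, [2, 6, 1, 5, 6, 4, 6]⟩] [⟨[23, 24, 23], 1349, true, [4, 6, 10, 5, 6, 2, 4, 10]⟩, ⟨[23], 1407, true, [4, 6, 2, 6, 5, 6]⟩, ⟨[24], 846, false, [4, 10, 5, 6, 4, 6, 4, 10, 5]⟩,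 ⟨[23], 1444, true, [1, 4, 5, 6, 4, 5, 3, 6, 4]⟩, ⟨[23, 24, 23], 1112, true, [0, 4, 6, 2, 5, 6, 10, 5, 3]⟩, ⟨[23, 24], 1564, false, [2, 5, 6, 1, 4, 6, 5, 6, 10]⟩]),
  (⟨false, 7, 2, [58, 51, 57, 30, 34, 31, 18, 23], [62, 45, 57, 30, 40, 34, 16, 10, 16, 25], [59, 47, 51, 30, 27, 32, 16, 16, 18]⟩, .loop 68 2 [63, 50, 34, 28, 40, 2, 23, 25, 19] 6 7 [⟨[23, 24, 23], 1350, false, [2, 10, 5, 6, 2, 4]⟩, ⟨[24, 23], 1041, false, [1, 3, 4, 6, 2, 6, 5]⟩, ⟨[23, 24, 23], 1540, false, [0, 3, 5, 3, 6, 4, 6, 4, 5, 6]⟩] [])]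

/-- facts 1568 and on -/
def facts49 : List (Fact × Why) := [
  (⟨false, 7, 2, [63, 55, 46, 30, 29, 27, 2, 23, 4, 6, 17], [58, 46, 51, 28, 38, 37, 2, 23, 17, 6, 22], [66, 54, 56, 28, 30, 37, 16, 2, 0, 16]⟩, .loop 72 2 [67, 48, 33, 34, 31, 2, 23, 23, 25, 19] 2 3 [⟨[23, 24], 1566, false, [0, 2, 4, 6, 4, 6, 4, 5, 6]⟩] [⟨[24], 1210, true, [2, 6, 5, 6, 2, 6, 4, 5]⟩, ⟨[24], 1219, false, [1, 2, 3, 4, 5, 6, 2, 10, 5, 6]⟩]),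
  (⟨false, 7, 2, [61, 46, 49, 33, 33, 2, 23, 17, 23], [62, 44, 42, 46, 33, 34, 38, 16, 16, 16, 11], [60, 56, 50, 28, 34, 2, 23, 17, 17, 6]⟩, .loop 30 2 [66, 46, 53, 30, 27, 32, 2, 23, 17, 22] 2 3 [⟨[23], 1563, true, [2, 6, 10, 5, 6, 4, 6, 5, 10]⟩] [⟨[24], 1264, false, [2, 6, 1, 5, 3, 6, 4, 6, 2, 6]⟩, ⟨[23, 24], 569, true, [1, 2, 6, 5, 3, 6, 4, 6]⟩]),
  (⟨false, 2, 7, [66, 52, 28, 30, 29, 16, 11, 18, 23, 23], [60, 48, 36, 35, 35, 2, 17, 23, 12, 16], [63, 49, 47, 31, 35, 27, 16, 11, 23]⟩, .loop 52 2 [62, 48, 50, 34, 27, 28, 2, 17, 22, 22, 11] 6 7 [⟨[23, 24, 23], 1399, false, [2, 3, 6, 4, 5, 6, 4, 6]⟩, ⟨[24, 23], 1426, false, [1, 2, 6, 2, 4, 5, 6, 5, 3, 5]⟩, ⟨[23], 1088, true, [0, 5, 6, 4, 6, 2, 6, 10, 5, 6]⟩] [⟨[23], 1455, true, [2, 3,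 4, 5, 6, 5, 3, 6, 5, 10]⟩, ⟨[24], 458, true, [2, 3, 6, 2, 6, 4, 5, 6, 2, 5]⟩, ⟨[24], 536, false, [3, 5, 6, 2, 4, 6, 5, 6, 2, 10]⟩, ⟨[23, 24], 1561, false, [0, 2, 5, 6, 4, 10, 5, 6, 10, 5]⟩]),
  (⟨false, 7, 2, [61, 52, 48, 28, 31, 16, 18, 18, 6], [63, 45, 42, 49, 31, 29, 40, 16, 16, 10, 16, 2], [66, 38, 32, 35, 2, 17, 23, 23]⟩, .loop 32 2 [62, 44, 57, 49, 34, 36, 31, 2, 23, 17, 22, 4] 6 7 [⟨[24], 304, false, [5, 6, 4, 5, 3, 6, 2, 4, 5]⟩, ⟨[23, 24], 620, true, [3, 6, 2, 4, 5, 6, 4, 10, 5]⟩, ⟨[], 1540, false, [10, 5, 6, 5, 6, 4]⟩] []),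
  (⟨false, 2, 7, [61, 48, 48, 36, 40, 2, 23, 17, 24, 11], [62, 44, 47, 52, 30, 38, 40, 16, 16, 10, 16, 2], [59, 56, 50, 28, 35, 36, 2, 17, 17, 19]⟩, .loop 56 2 [67, 47, 44, 51, 28, 31, 27, 31, 16, 19] 10 11 [⟨[23, 24], 868, true, [0, 2, 3, 6, 4, 5, 10, 5, 6]⟩, ⟨[24], 1186, true, [1, 2, 5, 6, 4, 5, 6, 10, 5]⟩, ⟨[24, 23], 815, true, [2, 3, 6, 1, 4, 6, 2, 5, 6, 5]⟩, ⟨[24], 332, true, [6, 2, 5, 6, 2, 6, 10, 5]⟩, ⟨[23, 24], 824, true, [0, 2, 5, 3, 6, 4, 5, 6, 5]⟩] [⟨[23, 24, 23], 1221, false, [0, 6, 5, 3, 5, 6, 4, 5]⟩, ⟨[24, 23], 1545, true, [3, 6, 1, 5, 6, 4, 6]⟩]),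
  (⟨false, 2, 7, [66, 49, 42, 35, 35, 35, 16, 16, 19, 17], [58, 55, 46, 33, 34, 41, 17, 17, 17], [61, 51, 53, 31, 16, 19, 6, 10]⟩, .loop 48 2 [60, 46, 51, 55, 30, 32, 32, 16, 11, 16, 8] 2 3 [⟨[], 995, true, [4, 10, 5, 6, 2, 6, 4]⟩] [⟨[23, 24], 1560, true, [5, 3, 5, 6, 2, 5, 6, 4]⟩]),
  (⟨false, 7, 2, [62, 45, 53, 48, 33, 29, 35, 16, 11, 18, 23, 23], [58, 45, 43, 31, 29, 37, 16, 2, 19, 16], [67, 46, 49, 38, 27, 16, 16, 20, 22]⟩, .loop 57 2 [58, 54, 43, 33, 35, 32, 16, 16, 22, 17] 4 5 [⟨[23, 24], 507, true, [4, 10, 5, 3, 6, 2, 6, 2, 5, 6]⟩, ⟨[24, 23], 1558, true, [0, 5, 3, 6, 2, 6]⟩] [⟨[23, 24, 23], 1123, true, [6, 1, 4, 5, 6, 2, 6, 10, 5]⟩, ⟨[23], 1377, true, [5, 6, 5, 6, 4, 6]⟩, ⟨[24], 1243, true, [1, 4, 5, 6, 4, 10, 5, 6, 2]⟩, ⟨[61,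 28, 61], 1142, true, [2, 4, 6, 1, 2, 5, 3, 6, 4, 6]⟩, ⟨[24], 973, false, [0, 2, 4, 5, 6, 4, 6, 10, 5, 6]⟩]),
  (⟨false, 2, 7, [61, 46, 51, 33, 31, 16, 18, 24, 6], [66, 49, 44, 31, 34, 41, 16, 8, 22, 6], [62, 44, 51, 28, 26, 40, 38, 16, 4, 17]⟩, .loop 57 2 [61, 54, 52, 30, 27, 30, 16, 8, 17, 6] 2 3 [⟨[24], 1270, false, [1, 6, 2, 10, 5, 6, 4, 5, 6, 10]⟩] [⟨[24, 23], 1349, false, [0, 5, 10, 5, 6, 5, 10, 5, 6, 2]⟩, ⟨[24, 23], 1046, false, [1, 6, 4, 6, 2, 5, 3]⟩, ⟨[24], 846, true, [0, 6, 4, 5, 6, 5, 6, 4]⟩, ⟨[24], 858, true, [6, 4, 6, 5, 6, 4, 5, 6, 10]⟩, ⟨[24], 1414, true, [4, 10, 5, 3, 6, 1, 2, 4]⟩, ⟨[23, 24, 23], 1564, false, [6, 4, 6, 10, 5, 6, 2]⟩]),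
  (⟨false, 7, 2, [66, 48, 52, 31, 27, 34, 16, 25], [62, 48, 53, 33, 41, 29, 16, 16, 18, 11, 16], [62, 45, 42, 49, 36, 31, 31, 16, 16, 16, 13]⟩, .loop 22 2 [60, 44, 55, 38, 32, 16, 16, 22, 8] 6 7 [⟨[24], 936, false, [5, 3, 6, 2, 5, 6, 2, 10]⟩, ⟨[66, 66, 37, 66, 38], 218, false, [1, 6, 2, 6, 2, 10, 5, 6]⟩, ⟨[24, 23], 1535, false, [6, 5, 6, 10, 5, 3, 6, 2, 4, 5]⟩] []),
  (⟨false, 7, 2, [63, 44, 43, 35, 28, 32, 17, 23, 23, 18], [62, 44, 42, 34, 36, 30, 2, 23, 17, 25], [66, 47, 56, 36, 2, 16, 16, 16, 6]⟩, .loop 56 2 [67, 52, 28, 36, 28, 17, 23, 17, 8] 14 15 [⟨[], 918, true, [0, 6, 2, 10, 5, 6, 5, 10, 5]⟩, ⟨[24], 815, false, [1, 4, 5, 6, 4, 6, 10, 5]⟩, ⟨[23, 24], 1476, false, [1, 2, 3, 4, 5, 6, 4, 5, 6]⟩, ⟨[24], 463, false, [6, 1, 5, 3, 6,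 4]⟩, ⟨[23], 1221, true, [1, 2, 6, 2, 4, 5, 3, 6, 4, 6]⟩, ⟨[23], 713, true, [2, 6, 5, 3, 6, 2, 5, 6, 2]⟩, ⟨[23], 1572, false, [0, 4, 5, 10, 5, 6, 2, 6, 4, 5, 10]⟩] []),
  (⟨false, 7, 5, [59, 44, 42, 57, 36, 34, 16, 11, 25], [61, 50, 50, 38, 32, 35, 2, 17, 17, 22, 11], [60, 51, 47, 28, 41, 29, 16, 19, 6, 10]⟩, .loop 71 5 [61, 47, 47, 52, 30, 28, 35, 2, 23, 8, 17, 25] 6 7 [⟨[66, 66], 887, false, [0, 4, 6, 4, 6, 4, 10, 5, 6, 10]⟩, ⟨[23, 24, 23], 808, true, [1, 2, 3, 5, 6, 4, 5, 3]⟩, ⟨[23], 1536, false, [0, 5, 6, 2, 6, 5, 6]⟩] []),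
  (⟨false, 7, 2, [61, 45, 56, 28, 31, 28, 38, 19, 6, 17], [54, 44, 30, 27, 28, 2, 17, 17, 23, 16], [67, 46, 42, 51, 28, 35, 31, 41, 16, 10, 16]⟩, .loop 22 2 [61, 46, 38, 34, 2, 16, 6, 23, 20] 6 7 [⟨[23, 24], 1328, true, [0, 6, 2, 6, 5, 6, 4, 10, 5]⟩, ⟨[37, 66, 66], 204, true, [4, 10, 5, 6, 4, 6, 5, 3, 6]⟩, ⟨[23, 24], 1573, false, [2, 4, 6, 2, 5, 6, 4, 5, 10]⟩] []),
  (⟨false, 7, 2, [62, 48, 50, 28, 31, 29, 2, 17, 17, 25, 8], [62, 45, 50, 42, 36, 32, 37, 16, 16, 18, 20], [66, 30, 40, 29, 17, 23, 18, 17]⟩, .loop 19 2 [49, 57, 35, 31, 34, 2, 23, 23, 10] 4 5 [⟨[], 1227, true, [6, 5, 6, 10, 5, 3, 6, 2, 5]⟩, ⟨[23, 24], 1571, true, [2, 4, 5, 6, 5, 6, 10]⟩] [⟨[23], 865, false, [0, 2, 6, 4, 6, 10, 5, 6, 10, 5, 6]⟩]),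
  (⟨false, 3, 7, [61, 44, 46, 48, 31, 35, 2, 17, 19], [66, 51, 51, 30, 29, 34, 2, 17, 17, 2], [58, 51, 43, 28, 38, 16, 11, 16, 22]⟩, .loop 32 2 [63, 47, 55, 41, 27, 17] 4 5 [⟨[], 105, true, [0, 2, 4, 10, 5, 3, 6, 5, 6, 2]⟩, ⟨[], 108, true, [1, 4, 5, 3, 6, 5, 3, 6, 4, 5]⟩] [⟨[24], 1537, true, [0, 4, 10, 5, 6, 5]⟩]),
  (⟨false, 7, 2, [62, 51, 42, 34, 28, 2, 17, 23, 12, 16], [59, 57, 53, 28, 38, 36, 2, 17, 22, 6], [44, 57, 55, 33, 35, 29, 2, 17, 17, 8]⟩, .loop 34 2 [59, 46, 44, 31, 26, 34, 2, 17, 23, 8] 6 7 [⟨[], 1347, true, [3, 4, 5, 6, 2, 6, 2, 4, 10, 5]⟩, ⟨[24], 792, false, [3, 6, 5, 6, 4, 10]⟩, ⟨[], 1565, false, [4, 6, 2, 10, 5, 6, 2, 4, 5]⟩] []),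
  (⟨true, 7, 7, [188], [], [190]⟩, .coinc 2 [59, 57, 53, 28, 38, 36, 2, 17, 22, 6] ⟨[23, 24], 1570, false, [3, 4, 5, 6, 1, 2, 6, 4, 5, 3]⟩ ⟨[], 1582, true, []⟩),
  (⟨false, 7, 2, [44, 47, 52, 35, 37, 2, 17, 17, 23], [67, 47, 44, 51, 38, 26, 16, 16, 10, 16], [67, 54, 31, 34, 33, 16, 16, 2, 0]⟩, .loop 67 2 [62, 57, 53, 33, 31, 31, 16, 16, 16, 16] 2 3 [⟨[23], 1550, true, [6, 1, 4, 6, 4, 6, 10]⟩] [⟨[23, 24, 23], 207, true, [1, 3, 5, 6, 4, 6, 2, 4, 5, 6]⟩, ⟨[24], 667, false, [0, 5, 6, 2, 4, 5, 6, 4, 10, 5]⟩]),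
  (⟨false, 2, 7, [58, 45, 56, 50, 40, 38, 2, 23, 17, 6, 24], [63, 45, 42, 28, 30, 37, 2, 17, 0, 23], [62, 44, 42, 46, 31, 26, 36, 16, 11, 19, 6]⟩, .loop 67 2 [61, 50, 50, 30, 28, 37, 16, 11, 16, 18] 4 5 [⟨[23], 668, false, [2, 5, 6, 10, 5, 3, 6, 4, 5, 6]⟩, ⟨[23, 24], 1069, true, [1, 6, 10, 5, 6, 5, 10, 5, 6, 2]⟩] [⟨[24], 1580, true, [2, 3, 4, 6, 2, 5, 6, 5, 6]⟩]),
  (⟨false, 7, 2, [62, 46, 51, 31, 36, 2, 17, 17, 24, 22], [63, 45, 42, 45, 36, 40, 35, 16, 16, 22, 25], [62, 49, 45, 28, 41, 31, 2, 17, 17, 10, 21]⟩, .loop 63 2 [58, 44, 48, 43, 30, 28, 28, 2, 23, 8, 17, 6] 2 3 [⟨[23], 1550, true, [0, 4, 10, 5, 6, 2, 4, 5, 6, 2]⟩] [⟨[], 1269, true, [1, 2, 5, 6, 10, 5, 6, 4, 6, 2]⟩, ⟨[23], 1455, false, [0, 4, 5, 6, 4, 10]⟩, ⟨[23, 24], 1456,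 true, [6, 1, 4, 5, 6, 4, 5, 6, 10]⟩, ⟨[23, 24], 1113, false, [1, 6, 5, 3, 6, 2, 6]⟩, ⟨[24], 1088, false, [0, 3, 4, 6, 4, 6, 2, 4, 5, 10]⟩, ⟨[23], 922, true, [0, 6, 5, 3, 5, 6, 4, 6, 2]⟩]),
  (⟨true, 7, 7, [192], [], [194]⟩, .coinc 2 [63, 45, 42, 45, 36, 40, 35, 16, 16, 22, 25] ⟨[24], 1561, false, [2, 4, 6, 2, 5, 6, 4, 6, 2, 5, 10]⟩ ⟨[], 1586, true, []⟩),
  (⟨false, 7, 2, [62, 49, 28, 35, 26, 16, 16, 16, 4, 13], [66, 50, 42, 34, 26, 29, 2, 17, 17, 22, 24], [62, 44, 55, 52, 30, 2, 23, 17, 24]⟩, .loop 44 2 [47, 47, 30, 41, 26, 16, 19, 22, 25] 2 3 [⟨[23], 1573, false, [1, 3, 6, 2, 5, 6, 10, 5]⟩] [⟨[], 1499, false, [0, 6, 4, 10, 5, 6, 4, 5, 3, 6]⟩]),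
  (⟨false, 7, 2, [59, 45, 43, 45, 34, 36, 2, 17, 17, 2], [62, 45, 57, 28, 35, 40, 2, 23, 8, 17, 17], [59, 44, 57, 49, 35, 30, 36, 16, 16, 11]⟩, .loop 73 2 [58, 47, 48, 33, 27, 27, 16, 16, 4, 6] 6 7 [⟨[23, 24], 458, false, [0, 6, 10, 5, 6, 2, 6]⟩, ⟨[24, 23], 1250, true, [6, 10, 5, 6, 4, 6, 2, 5]⟩, ⟨[24, 23], 1562, false, [0, 3, 6, 2, 5, 6, 4, 6, 10]⟩] []),
  (⟨false, 2, 7, [61, 44, 42, 48, 30, 26, 34, 2, 17, 17, 22, 25], [60, 46, 46, 36, 31, 16, 16, 8], [63, 45, 56, 50, 35, 38, 2, 16, 16, 16]⟩, .loop 63 2 [59, 54, 46, 30, 29, 2, 23, 23, 21] 2 3 [⟨[23, 24, 23], 1046, true, [0, 5, 3, 6, 4, 6, 5, 6, 5, 10]⟩] [⟨[24], 1444, true, [4, 6, 4, 6, 4, 6, 10, 5, 3]⟩, ⟨[23, 24, 23], 1270, true, [0, 2, 10, 5, 6, 5, 3, 5, 6, 4]⟩, ⟨[], 1407, true, [4,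 10, 5, 6, 5, 6, 10]⟩, ⟨[23], 1126, true, [4, 10, 5, 6, 4, 5, 3, 6, 4, 5, 10]⟩, ⟨[23, 24, 23], 1414, false, [0, 2, 10, 5, 3, 6, 2, 4, 5]⟩, ⟨[], 1566, false, [1, 2, 3, 6, 2, 6, 5, 6, 5, 10, 5]⟩]),
  (⟨false, 7, 2, [44, 46, 28, 36, 17, 17, 23], [60, 44, 53, 41, 27, 34, 2, 23, 13, 23], [62, 47, 49, 35, 28, 32, 16, 16, 2, 24]⟩, .loop 47 2 [63, 52, 48, 34, 27, 16, 10, 16, 24, 24] 4 5 [⟨[24], 1088, true, [2, 3, 4, 6, 1, 4, 5, 3]⟩, ⟨[], 1570, false, [1, 5, 3, 5, 6, 2, 6, 5, 10]⟩] []),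
  (⟨false, 2, 7, [59, 45, 42, 45, 31, 41, 36, 16, 16, 20, 13], [63, 50, 48, 28, 31, 28, 38, 16, 2, 19, 6], [63, 44, 49, 30, 34, 28, 2]⟩, .loop 30 2 [66, 48, 57, 34, 36, 35, 2, 17, 17, 10] 4 5 [⟨[], 1383, false, [6, 4, 6, 2, 6, 5, 3, 6, 5]⟩, ⟨[23, 24, 23], 1468, true, [6, 2, 4, 6, 10, 5, 3, 6, 4, 6]⟩] [⟨[24, 23], 1558, true, [2, 3, 4, 5, 6, 4, 5, 6]⟩]),
  (⟨false, 7, 2, [47, 49, 56, 34, 33, 40, 16, 11, 16, 11, 19], [60, 48, 45, 28, 41, 34, 2, 23, 23, 18, 16], [63, 44, 46, 44, 34, 33, 2, 17, 22, 22]⟩, .loop 54 2 [61, 57, 53, 36, 29, 31, 2, 17, 17, 0, 8] 8 9 [⟨[], 1455, false, [2, 6, 5, 10, 5, 6, 4, 5, 3]⟩, ⟨[24, 23], 1203, true, [0, 3, 4, 5, 3, 6, 4, 6, 4]⟩, ⟨[24, 23], 1287, false, [2, 3, 6, 5, 3, 6, 2, 4, 6, 5]⟩, ⟨[23, 24], 1561, false,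 [0, 6, 4, 5, 6, 10, 5, 10]⟩] [⟨[23, 24], 869, true, [6, 10, 5, 6, 10, 5, 3, 6, 5, 3]⟩, ⟨[23, 24, 23], 1426, true, [0, 2, 3, 5, 6, 4, 10, 5, 6, 2]⟩, ⟨[23, 24], 1478, true, [0, 2, 4, 6, 2, 6, 4, 5, 6, 2, 10]⟩]),
  (⟨false, 7, 2, [63, 54, 44, 33, 36, 16, 8], [59, 45, 45, 35, 38, 17, 23, 17, 17], [60, 56, 50, 30, 29, 34, 18, 23, 17]⟩, .loop 72 2 [63, 51, 53, 28, 40, 37, 16, 16, 24, 17] 4 5 [⟨[24], 1017, false, [1, 2, 4, 5, 6, 5, 3]⟩, ⟨[23, 24, 23], 1535, false, [3, 5, 3, 6, 4, 6, 2, 6]⟩] [⟨[24], 308, false, [2, 4, 6, 2, 6, 5, 3, 6]⟩]),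
  (⟨false, 7, 2, [66, 44, 56, 46, 30, 41, 29, 2, 23, 23, 23, 21], [63, 44, 42, 47, 28, 41, 34, 16, 21, 16], [66, 48, 48, 38, 2, 17, 17, 13, 17]⟩, .loop 19 2 [63, 55, 49, 28, 41, 33, 2, 17, 23, 24, 23] 6 7 [⟨[], 1435, true, [0, 2, 5, 6, 4, 5, 6, 5, 3]⟩, ⟨[], 1215, true, [3, 4, 5, 3, 6, 5, 6, 2, 4, 10]⟩, ⟨[23, 24, 23], 1538, true, [5, 3, 5, 6, 5, 3, 5, 6, 2, 4]⟩] []),
  (⟨false, 7, 2, [60, 44, 56, 28, 30, 41, 41, 2, 16, 16, 22], [62, 44, 55, 35, 38, 35, 2, 23, 11], [60, 44, 57, 49, 34, 41, 16, 11, 16]⟩, .loop 34 2 [66, 50, 44, 31, 27, 41, 16, 24, 16, 19] 4 5 [⟨[23], 380, true, [0, 5, 6, 2, 4, 10, 5, 6, 4]⟩, ⟨[], 1594, true, [3, 4, 5, 6, 10, 5, 3, 6, 5, 6]⟩] [⟨[23], 342, true, [2, 5, 3, 6, 4, 5, 3, 6, 4]⟩]),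
  (⟨false, 2, 7, [60, 45, 53, 31, 41, 26, 2, 23, 11], [63, 48, 44, 41, 26, 16, 16, 4, 13, 17], [63, 44, 42, 54, 38, 32, 34, 16, 16, 24]⟩, .loop 44 2 [67, 44, 48, 52, 31, 33, 2, 17, 23, 23, 13] 2 3 [⟨[23], 1430, true, [1, 3, 6, 4, 5, 6, 4]⟩] [⟨[23], 1552, true, [1, 4, 6, 4, 5, 10, 5, 6]⟩]),
  (⟨false, 2, 7, [60, 44, 48, 52, 28, 30, 27, 31, 16, 24, 17, 6], [66, 46, 44, 54, 28, 30, 34, 16, 21, 16, 20], [67, 51, 43, 28, 40, 36, 2, 17, 22, 22, 21]⟩, .loop 32 2 [58, 45, 48, 36, 32, 2, 23, 25, 19] 4 5 [⟨[], 1542, false, [4, 5, 6, 2, 6, 5, 3, 5]⟩, ⟨[1549], 1542, true, [0, 2, 4, 10, 5, 3, 6, 5, 6, 4]⟩] [⟨[], 1558, true, [5, 6, 4, 6, 5, 6, 5, 10]⟩]),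
  (⟨false, 2, 7, [60, 51, 53, 41, 33, 2, 16, 6, 23, 23], [44, 57, 49, 28, 36, 33, 16, 19, 22, 25], [66, 46, 43, 35, 35, 17, 17, 17, 19]⟩, .loop 65 2 [58, 55, 49, 38, 28, 41, 2, 17, 17, 13, 17] 6 7 [⟨[23], 1269, false, [5, 3, 6, 5, 3, 6, 4, 5, 3, 6]⟩, ⟨[23, 24, 23], 1478, true, [6, 2, 6, 4, 5, 3, 5, 6, 2, 6]⟩, ⟨[23, 24, 23], 1456, false, [1, 3, 5, 3, 6, 5, 6, 4]⟩] [⟨[23, 24], 1351, true, [2, 3, 4, 6, 5, 6, 4, 6, 5]⟩, ⟨[], 1287, false, [2, 3, 4, 6, 4, 6, 4, 5, 6, 2, 5]⟩, ⟨[23], 922, false, [0, 2, 4, 6, 5, 6, 2, 6, 10, 5]⟩, ⟨[23, 24], 1591, true, [0, 4, 6, 2, 4, 5, 6, 5, 3, 5]⟩])]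

/-- facts 1600 and on -/
def facts50 : List (Fact × Why) := [
  (⟨false, 7, 5, [46, 42, 30, 35, 35, 16, 22, 19], [67, 47, 55, 31, 33, 2, 17, 17, 11, 19], [44, 43, 57, 31, 32, 30, 16, 16, 8, 16, 20]⟩, .loop 34 5 [62, 52, 50, 30, 38, 29, 16, 19, 22] 6 7 [⟨[], 631, true, [3, 6, 2, 6, 4, 5, 6, 5, 10]⟩, ⟨[23, 24], 1203, true, [1, 3, 5, 6, 2, 5, 3, 6, 5, 10]⟩, ⟨[23, 24], 1591, true, [2, 3, 6, 5, 3, 6, 5, 6, 2, 10]⟩] []),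
  (⟨false, 2, 7, [67, 54, 43, 28, 34, 31, 16, 19, 22, 16], [59, 46, 46, 41, 34, 2, 16], [62, 47, 51, 28, 41, 2, 16, 6, 17, 17]⟩, .loop 18 2 [62, 44, 43, 35, 40, 31, 16, 4, 16] 4 5 [⟨[23], 1524, true, [0, 2, 4, 6, 2, 5, 3, 6, 4, 5, 10]⟩, ⟨[24], 1523, true, [4, 6, 4, 6, 5, 3, 5, 6, 2]⟩] [⟨[24, 23], 1572, false, [5, 6, 4, 5, 3, 6, 4, 6]⟩]),
  (⟨false, 2, 7, [63, 44, 43, 53, 28, 31, 34, 16, 16, 8, 16], [59, 49, 46, 38, 33, 2, 17, 0, 17, 22], [66, 46, 44, 54, 30, 38, 31, 16, 16, 19, 16]⟩, .loop 33 7 [59, 44, 46, 48, 34, 26, 35, 2, 16, 6, 23, 17] 6 7 [⟨[1583, 1583, 1549], 1570, true, [1, 3, 5, 3, 6, 5, 6]⟩, ⟨[23], 1011, true, [0, 4, 10, 5, 6, 4, 6, 4, 6, 10]⟩, ⟨[23], 1137, false, [0, 2, 4, 6, 5, 3, 6, 2, 4, 5, 10]⟩] []),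
  (⟨false, 2, 7, [66, 51, 42, 40, 38, 16, 2, 16, 6], [60, 49, 51, 36, 31, 16, 16, 25, 25], [61, 45, 42, 47, 33, 41, 16, 10, 16, 10]⟩, .loop 71 7 [67, 55, 49, 38, 32, 36, 16, 2, 19] 2 3 [⟨[1549], 1599, true, [0, 2, 3, 6, 5, 3, 6, 4, 6, 2]⟩] [⟨[1587, 1583, 1587, 1583, 1549, 1549], 1538, false, [1, 6, 10, 5, 3, 6, 2, 5]⟩, ⟨[], 1602, false, [4, 5, 10, 5, 6, 1, 2, 5, 6, 10]⟩]),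
  (⟨false, 2, 7, [55, 42, 35, 29, 31, 2, 17, 17, 17, 20], [63, 51, 46, 30, 40, 17, 23, 17, 19], [58, 47, 55, 30, 29, 35, 2, 23, 17, 22, 4]⟩, .loop 17 2 [62, 46, 36, 33, 17, 23, 18, 17] 4 5 [⟨[], 838, true, [1, 2, 3, 5, 6, 4, 6, 10, 5, 6]⟩, ⟨[23, 24], 1515, true, [1, 3, 4, 5, 3, 6, 5, 10, 5, 6]⟩] [⟨[24], 1571, true, [0, 6, 2, 6, 10, 5, 3, 6, 4]⟩]),
  (⟨false, 7, 2, [61, 54, 43, 30, 38, 40, 16, 16, 2, 20], [63, 45, 50, 42, 28, 36, 40, 36, 16, 11, 25, 16], [60, 49, 31, 27, 34, 16, 16, 4, 6]⟩, .loop 58 2 [62, 46, 33, 27, 31, 16, 2, 0, 16] 4 5 [⟨[23], 1088, false, [5, 6, 2, 6, 4, 5, 3, 6, 2, 6]⟩, ⟨[24], 1591, true, [0, 4, 10, 5, 6, 2, 6, 5, 3, 6]⟩] [⟨[], 613, true, [5, 6, 2, 4, 5, 6, 2, 5, 6, 4]⟩, ⟨[], 1478, true, [6, 5, 6, 4, 6, 2, 4]⟩,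 ⟨[23, 24, 23], 536, false, [3, 6, 5, 3, 6, 2, 6, 5, 6]⟩, ⟨[23, 24, 23], 1386, true, [1, 2, 6, 10, 5, 6, 2, 6, 4]⟩, ⟨[24, 23], 1455, true, [6, 5, 3, 5, 6, 2, 6, 5, 3]⟩]),
  (⟨false, 2, 7, [61, 52, 55, 28, 36, 29, 27, 16, 16, 13, 16], [66, 44, 51, 35, 28, 16, 19, 11], [59, 46, 48, 54, 35, 29, 31, 2, 23, 17, 23, 8]⟩, .loop 21 2 [60, 49, 46, 33, 41, 2, 16, 16, 16, 4] 2 3 [⟨[24], 1486, true, [0, 4, 5, 6, 4, 6]⟩] [⟨[23, 24, 23], 1417, true, [1, 3, 5, 3, 6, 5, 6, 4, 6, 10]⟩, ⟨[23, 24], 1573, false, [4, 10, 5, 3, 6, 1, 2, 6, 5]⟩]),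
  (⟨false, 7, 2, [58, 45, 43, 41, 31, 16, 10, 16, 25], [52, 49, 34, 38, 28, 16, 4, 16, 10, 21], [63, 50, 44, 33, 34, 31, 16, 16, 18, 17]⟩, .loop 28 2 [67, 50, 49, 34, 40, 16, 4, 16, 8] 2 3 [⟨[], 1567, true, [1, 3, 4, 5, 6, 2, 6, 4, 6, 5, 10]⟩] [⟨[24, 23], 268, false, [2, 4, 10, 5, 6, 2]⟩, ⟨[66, 37, 66, 38], 1220, true, [5, 3, 6, 1, 2, 5, 6, 4, 10]⟩]),
  (⟨false, 2, 7, [66, 48, 55, 35, 28, 2, 23, 23, 18, 11], [66, 44, 51, 46, 30, 28, 30, 16, 16, 22, 6], [61, 49, 53, 35, 30, 2, 17, 23, 12, 10]⟩, .loop 47 7 [67, 44, 46, 57, 36, 31, 31, 2, 17, 17, 19, 6] 4 5 [⟨[1587, 1583, 1583], 1544, false, [2, 4, 6, 4, 5, 6, 5, 6, 10]⟩, ⟨[24, 23], 480, true, [2, 3, 4, 5, 6, 1, 2, 10, 5, 6]⟩] []),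
  (⟨false, 7, 2, [66, 47, 48, 28, 31, 27, 2, 16, 6, 17, 17], [67, 54, 47, 28, 41, 38, 2, 23, 13, 23, 23], [67, 52, 50, 28, 35, 32, 2, 17, 23, 17, 25]⟩, .loop 54 2 [63, 45, 48, 30, 30, 35, 16, 16, 19, 11] 6 7 [⟨[], 1372, false, [2, 6, 4, 5, 6, 5, 6]⟩, ⟨[23], 1368, false, [1, 4, 5, 3, 6, 2, 6, 5, 10]⟩, ⟨[24, 23], 1575, false, [3, 6, 2, 5, 6, 2, 5, 3]⟩] [⟨[], 858, true, [4, 6, 1, 2, 5, 6, 4, 5, 3]⟩, ⟨[], 1344, false, [0, 3, 4, 5, 3, 6, 2, 6]⟩, ⟨[], 249, true, [1, 5, 3, 6, 4, 5, 3, 6, 2, 5]⟩, ⟨[23, 24], 876, true, [0, 3, 6, 2, 4, 6, 5, 10]⟩]),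
  (⟨false, 2, 7, [63, 45, 57, 30, 38, 26, 2, 17, 17, 22, 11], [52, 50, 30, 27, 16, 10, 16, 24], [66, 46, 57, 28, 30, 36, 16, 16, 24, 17]⟩, .loop 73 2 [58, 45, 45, 31, 34, 33, 16, 18, 16, 22] 4 5 [⟨[], 373, false, [3, 4, 5, 6, 2, 4, 5, 6, 2, 10]⟩, ⟨[23, 24, 23], 1123, false, [2, 3, 4, 6, 2, 5, 6, 4, 5, 10]⟩] [⟨[24], 1538, true, [1, 6, 5, 3, 6, 2, 6, 5, 6, 2]⟩]),
  (⟨false, 7, 2, [46, 48, 36, 32, 16, 16, 2, 23], [58, 47, 56, 34, 31, 31, 2, 17, 17, 18, 16], [62, 44, 47, 44, 28, 35, 38, 2, 23, 17, 23, 25]⟩, .loop 34 5 [62, 44, 47, 30, 37, 2, 16, 16, 22, 24] 4 5 [⟨[66, 66], 962, true, [0, 3, 5, 6, 10, 5, 6, 4, 6, 5]⟩, ⟨[24], 1568, true, [6, 5, 6, 4, 5, 3]⟩] [⟨[38, 66, 66], 384, true, [2, 3, 6, 2, 5, 6, 2, 10, 5]⟩]),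
  (⟨false, 7, 4, [63, 47, 55, 30, 26, 2, 17, 17, 25, 8], [67, 50, 55, 28, 31, 16, 16, 10, 21, 17], [67, 47, 49, 56, 35, 37, 2, 23, 8, 23, 6]⟩, .loop 53 2 [63, 51, 52, 28, 40, 33, 2, 17, 17, 22, 22] 12 13 [⟨[24], 507, false, [6, 2, 5, 6, 4, 5, 3, 6]⟩, ⟨[], 973, false, [6, 4, 10, 5, 3, 6, 2, 5]⟩, ⟨[24], 1123, false, [5, 3, 5, 6, 4, 5]⟩, ⟨[23], 973, false, [5, 3, 6, 2, 6, 4, 5, 6, 2, 4]⟩, ⟨[24, 23], 1377, true, [4, 6, 1, 5, 6, 10, 5, 6]⟩, ⟨[23, 24], 1574, true, [1, 2, 3, 6, 2, 5, 6, 5, 3, 5]⟩] [⟨[], 1142, false, [0, 3, 6, 5, 3, 6, 5, 6, 2, 10]⟩]),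
  (⟨false, 2, 7, [67, 44, 49, 41, 30, 37, 2, 17, 22, 22, 6], [66, 45, 52, 28, 31, 33, 16, 18, 16, 19], [50, 48, 34, 41, 16, 16, 25, 25]⟩, .loop 29 2 [67, 55, 33, 27, 40, 2, 23, 24] 2 3 [⟨[23], 379, false, [2, 3, 4, 6, 1, 5, 6, 2]⟩] [⟨[24, 23], 689, false, [2, 3, 4, 6, 2, 5, 6]⟩, ⟨[23, 24, 23], 1592, false, [0, 2, 10, 5, 3, 6, 4, 6, 4, 5]⟩]),
  (⟨false, 2, 7, [61, 50, 47, 41, 29, 2, 23, 13, 23, 23], [60, 45, 54, 33, 29, 37, 2, 17, 22, 12], [63, 44, 57, 55, 34, 33, 28, 2, 17, 23, 12, 10]⟩, .loop 71 2 [44, 55, 30, 26, 33, 18] 2 3 [⟨[], 1068, true, [6, 1, 2, 4, 6, 5, 3, 6, 2]⟩] [⟨[24], 235, true, [0, 6, 2, 4, 6, 5]⟩, ⟨[23, 24, 23], 1585, false, [4, 10, 5, 3, 6, 2, 6, 2, 4, 5]⟩]),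
  (⟨false, 7, 2, [67, 44, 56, 46, 41, 41, 2, 17, 22, 16], [66, 47, 52, 35, 29, 2, 17, 17, 6, 16], [58, 52, 49, 28, 34, 30, 16, 16, 11, 18, 23]⟩, .loop 56 2 [63, 49, 46, 28, 26, 40, 38, 16, 16, 16, 2, 13] 2 3 [⟨[23, 24, 23], 1602, false, [2, 4, 5, 6, 4, 6, 10, 5, 3]⟩] [⟨[23, 24, 23], 732, false, [1, 6, 5, 3, 6, 4, 5]⟩, ⟨[24], 775, false, [1, 10, 5, 3, 6, 5, 6, 2, 5, 3, 6]⟩, ⟨[23], 1276, false, [2, 6, 2, 5, 6, 4, 6, 2, 10]⟩, ⟨[24], 1459, true, [3, 5, 6, 4, 5, 6, 10, 5, 6, 4]⟩, ⟨[23], 150, true, [1, 2, 3, 5, 6, 2, 5, 6, 10]⟩, ⟨[], 1502, false, [1, 2, 5, 6, 4, 5, 6, 5, 3]⟩]),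
  (⟨false, 2, 7, [63, 45, 49, 35, 40, 31, 2, 23, 25, 19, 17], [66, 44, 47, 28, 38, 31, 16, 2, 19], [61, 50, 42, 35, 36, 38, 2, 23, 13, 23, 6]⟩, .loop 69 3 [58, 54, 56, 28, 41, 38, 2, 16, 6, 23, 17] 4 5 [⟨[], 197, false, [0, 10, 5, 3, 6, 4, 5, 6, 5, 10]⟩, ⟨[23, 24, 23], 275, true, [3, 6, 4, 6, 2, 5, 10]⟩] [⟨[21, 245, 50, 245, 21], 1581, false, [6, 10, 5, 3, 6, 2, 6, 5, 6]⟩]),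
  (⟨false, 2, 7, [60, 51, 55, 35, 31, 29, 17, 22, 21], [58, 55, 46, 34, 31, 35, 16, 16, 8, 17], [67, 44, 48, 43, 31, 34, 27, 2, 17, 22, 22, 24]⟩, .loop 73 2 [66, 52, 50, 31, 28, 41, 2, 17, 23, 24, 17] 2 3 [⟨[23], 914, false, [1, 6, 2, 6, 2, 4, 5, 6, 2, 5]⟩] [⟨[24], 225, true, [1, 3, 5, 3, 6, 4, 5, 6]⟩, ⟨[23, 24, 23], 1545, true, [6, 10, 5, 6, 4, 6, 5, 10]⟩]),
  (⟨false, 7, 2, [61, 50, 49, 28, 26, 36, 16, 18, 16, 4], [62, 49, 56, 30, 27, 27, 2, 17, 23, 6, 20], [59, 45, 54, 45, 35, 29, 34, 16, 19, 22, 11]⟩, .loop 61 2 [63, 54, 30, 40, 29, 16, 16, 16, 18, 24] 10 11 [⟨[24], 1368, true, [0, 5, 6, 5, 3, 5, 6, 4, 5]⟩, ⟨[24], 1349, true, [1, 2, 6, 5, 6, 2, 5, 10]⟩, ⟨[23], 1471, false, [2, 3, 6, 4, 5, 3, 6, 2, 4, 5]⟩, ⟨[24, 23], 876, false,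 [2, 5, 6, 1, 2, 4, 5, 6, 2]⟩, ⟨[23], 1564, false, [5, 6, 4, 10, 5, 6, 5, 6, 10]⟩] [⟨[], 1250, false, [6, 5, 6, 2, 5, 6, 4, 6, 10]⟩, ⟨[23], 858, false, [1, 2, 4, 6, 10, 5, 3, 6, 4, 5]⟩]),
  (⟨false, 2, 7, [61, 49, 46, 35, 28, 37, 16, 8, 22, 19], [61, 50, 44, 40, 35, 2, 17, 17, 23], [51, 43, 38, 28, 16, 16, 22, 25]⟩, .loop 17 7 [58, 44, 42, 33, 30, 36, 16, 16, 13, 19] 6 7 [⟨[1583, 1587], 1569, false, [0, 4, 10, 5, 6, 10, 5, 6, 4]⟩, ⟨[23, 24, 23], 845, true, [1, 4, 5, 3, 5, 6, 2, 6, 4, 5]⟩, ⟨[24], 933, false, [6, 1, 4, 6, 4, 5, 10, 5, 6]⟩] []),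
  (⟨false, 7, 5, [44, 42, 57, 31, 36, 35, 16, 16, 20, 8], [61, 46, 43, 28, 31, 35, 2, 23, 17, 24, 6], [60, 48, 52, 38, 28, 16, 18, 23, 6]⟩, .loop 29 2 [66, 55, 49, 30, 29, 30, 16, 4, 16, 16, 10] 2 3 [⟨[23], 1554, false, [2, 5, 6, 2, 4, 10, 5]⟩] [⟨[], 1350, true, [0, 3, 4, 6, 4, 6, 5, 6]⟩, ⟨[23, 24], 1067, true, [2, 6, 4, 5, 6, 4, 10, 5, 10]⟩]),
  (⟨false, 2, 7, [66, 44, 51, 46, 31, 29, 32, 16, 21, 16, 21], [59, 44, 47, 33, 36, 38, 2, 23, 17, 2], [66, 44, 43, 30, 28, 33, 2, 17, 17, 0, 23]⟩, .loop 52 2 [66, 44, 49, 31, 37, 29, 16, 24, 6] 4 5 [⟨[23], 161, true, [5, 3, 6, 4, 6, 4, 5]⟩, ⟨[], 118, true, [1, 2, 6, 5, 6, 4, 6, 5, 3, 6, 5]⟩] [⟨[23], 155, false, [5, 3, 6, 4, 5, 10, 5, 6, 2]⟩, ⟨[], 149, true, [0, 6, 4, 5, 3, 6, 2, 5, 6, 4, 5]⟩,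 ⟨[30, 63], 116, true, [3, 6, 4, 5, 6, 2, 6, 2, 4, 10]⟩, ⟨[], 175, false, [10, 5, 3, 6, 2, 4, 5, 6, 2]⟩, ⟨[23], 1619, false, [3, 5, 6, 4, 6, 4, 5, 10, 5]⟩]),
  (⟨false, 7, 2, [62, 46, 44, 28, 34, 33, 2, 23, 23, 17, 6], [59, 45, 50, 45, 30, 40, 29, 2, 23, 4, 6, 23], [67, 49, 56, 31, 28, 30, 16, 16, 2, 19]⟩, .loop 63 2 [63, 44, 43, 33, 31, 2, 23, 23, 18] 12 13 [⟨[], 150, true, [4, 5, 6, 1, 2, 6, 10, 5, 6]⟩, ⟨[], 1096, false, [1, 10, 5, 3, 6, 4, 6, 2, 4]⟩, ⟨[23, 24, 23], 1276, false, [0, 2, 3, 6, 4, 6, 5, 6, 10, 5]⟩, ⟨[24, 23], 987, true, [10, 5, 6, 1, 2, 6, 5, 10]⟩, ⟨[23, 24, 23], 574, false, [0, 6, 5, 6, 10, 5, 3, 6, 5, 10]⟩, ⟨[], 1602, false, [0, 5, 6, 10, 5, 3, 6, 5]⟩] [⟨[24, 23], 1485, false, [6, 4, 6, 5, 10, 5, 6, 5, 3]⟩]),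
  (⟨false, 7, 2, [45, 56, 50, 31, 37, 2, 17, 23, 11, 25], [61, 44, 48, 43, 31, 26, 26, 2, 17, 22, 22], [67, 44, 48, 52, 30, 35, 40, 16, 22, 19, 22]⟩, .loop 69 2 [67, 45, 56, 55, 33, 34, 33, 2, 17, 18, 22, 22] 4 5 [⟨[24], 222, true, [2, 10, 5, 3, 6, 4, 5, 3, 6]⟩, ⟨[24, 23], 1601, false, [4, 10, 5, 3, 6, 2, 6]⟩] [⟨[24, 23], 849, true, [5, 3, 6, 2, 4, 5, 6, 4, 5, 6, 4]⟩]),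
  (⟨false, 7, 7, [63, 44, 48, 43, 41, 2, 23, 4, 6], [45, 54, 56, 31, 33, 38, 2, 17, 17, 20, 22], [60, 45, 56, 30, 37, 30, 2, 23, 17, 0, 23]⟩, .loop 53 2 [62, 45, 56, 31, 32, 29, 2, 17, 17, 17, 0] 8 9 [⟨[23], 1522, false, [0, 6, 5, 6, 2, 6, 4, 5]⟩, ⟨[], 1513, true, [0, 3, 6, 5, 6, 2, 4, 6, 5, 6]⟩, ⟨[23, 24], 1361, false, [1, 3, 6, 2, 4, 5, 6, 2, 10, 5]⟩, ⟨[], 1568, true, [2, 5, 6, 4, 5, 3, 6]⟩] [⟨[], 1513, true, [6, 2, 6, 5, 3, 6, 5, 6, 4]⟩, ⟨[23, 24], 1361, false, [5, 3, 6, 2, 4, 5, 6, 10]⟩, ⟨[], 1568, true, [3, 4, 5, 6, 1, 4]⟩]),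
  (⟨false, 2, 7, [58, 55, 42, 31, 26, 36, 16, 11, 18, 23], [61, 51, 46, 30, 38, 37, 18, 23, 17, 6], [60, 44, 51, 46, 30, 26, 36, 16, 16, 4, 20]⟩, .loop 30 2 [59, 46, 51, 28, 26, 31, 33, 2, 23, 17, 17, 10] 2 3 [⟨[24, 23], 965, true, [2, 3, 6, 2, 5, 6, 5, 3, 6, 4]⟩] [⟨[24], 754, false, [10, 5, 6, 2, 6, 2, 5, 10]⟩, ⟨[66, 66, 38], 1578, true, [1, 2, 6, 2, 4, 10, 5, 6, 4]⟩]),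
  (⟨false, 2, 7, [59, 44, 48, 52, 36, 35, 35, 2, 17, 23, 10, 16], [63, 47, 47, 52, 31, 41, 28, 16, 8, 17, 17, 22], [61, 48, 50, 31, 36, 33, 16, 21]⟩, .loop 72 2 [63, 49, 44, 30, 28, 33, 17, 23, 16, 22] 2 3 [⟨[], 1014, true, [4, 6, 1, 5, 3, 6, 2, 4, 6]⟩] [⟨[23, 24], 1038, false, [0, 6, 2, 4, 10]⟩, ⟨[24], 1602, false, [0, 10, 5, 3, 6, 5, 6, 10, 5]⟩]),
  (⟨false, 2, 7, [58, 51, 44, 31, 36, 35, 16, 16, 11, 24], [63, 54, 36, 34, 16, 11, 16, 24, 16], [58, 45, 56, 28, 40, 16, 16]⟩, .loop 31 2 [62, 55, 47, 36, 27, 40, 17, 23, 23, 8] 4 5 [⟨[24], 1460, false, [0, 2, 6, 5, 6, 10, 5, 3, 6]⟩, ⟨[245, 22, 21, 50, 21], 674, true, [1, 3, 5, 6, 4, 5, 6, 4, 10]⟩] [⟨[23], 1536, false, [3, 5, 3, 6, 4, 6]⟩]),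
  (⟨false, 2, 7, [61, 49, 47, 38, 34, 2, 17, 23, 24, 21], [44, 42, 48, 36, 27, 2, 23, 4, 6], [60, 55, 31, 41, 36, 2, 23, 17, 17, 19]⟩, .loop 73 2 [62, 44, 42, 45, 28, 35, 28, 16, 11, 16, 22, 22] 2 3 [⟨[24], 730, true, [4, 5, 6, 2, 6, 5, 3, 6, 2]⟩] [⟨[24, 23], 423, false, [2, 5, 6, 4, 5, 6, 4, 10, 5]⟩, ⟨[23, 24], 1603, false, [0, 4, 6, 2, 6, 5, 6, 5, 10, 5]⟩]),
  (⟨false, 7, 2, [58, 51, 33, 38, 37, 16, 8, 17, 17], [60, 54, 52, 33, 29, 30, 17, 17, 23, 20], [67, 52, 50, 36, 27, 36, 2, 16, 16, 22, 22]⟩, .loop 56 2 [61, 52, 55, 34, 27, 41, 17, 17, 17, 25] 8 9 [⟨[], 499, true, [2, 3, 6, 1, 2, 5, 6, 4, 6]⟩, ⟨[24, 23], 1421, false, [4, 6, 4, 5, 3, 5, 6, 2, 6]⟩, ⟨[23, 24], 543, true, [2, 6, 5, 6, 2, 6, 10, 5]⟩, ⟨[], 1617, false, [0, 6, 2, 5,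 3, 6, 2, 5, 10]⟩] [⟨[24], 148, false, [2, 5, 6, 4, 5, 10, 5, 6, 5]⟩, ⟨[23, 24], 1175, false, [2, 3, 4, 6, 5, 6, 10, 5]⟩, ⟨[23], 1029, false, [2, 3, 6, 1, 4, 6, 5, 3, 6, 5]⟩]),
  (⟨false, 7, 2, [44, 56, 30, 28, 30, 16, 11, 11, 16], [67, 47, 55, 30, 28, 34, 16, 2, 21, 23], [58, 48, 57, 35, 28, 28, 16, 16, 20, 24]⟩, .loop 51 2 [63, 49, 46, 33, 35, 29, 2, 23, 8, 23, 17] 2 3 [⟨[], 1606, false, [1, 4, 6, 2, 5, 3, 6, 2, 4]⟩] [⟨[24, 23], 1181, false, [3, 4, 5, 6, 4, 6, 2, 4, 5]⟩, ⟨[24, 23], 1560, true, [4, 6, 1, 4, 6, 4, 5]⟩, ⟨[1583, 1587, 1587], 1538, false, [4, 6, 2, 6, 4, 5, 3, 6, 2]⟩, ⟨[24], 573, false, [5, 6, 2, 6, 10, 5, 3, 6, 2, 6]⟩, ⟨[23, 24], 533, false, [0, 5, 6, 2, 6, 4, 5, 6, 2, 6, 10]⟩, ⟨[], 979, true, [3, 5, 6, 5, 10, 5, 6, 5]⟩]),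
  (⟨false, 2, 7, [66, 50, 45, 16, 16, 25, 16], [62, 51, 43, 30, 38, 31, 2, 17, 23, 24, 23], [66, 47, 54, 28, 31, 41, 16, 2, 19, 6]⟩, .loop 21 2 [62, 44, 48, 52, 28, 30, 32, 16, 11, 16, 25] 4 5 [⟨[24], 933, true, [3, 5, 6, 5, 6, 10, 5, 6, 2]⟩, ⟨[23], 1481, true, [4, 6, 1, 5, 3, 6, 4, 5, 10]⟩] [⟨[24], 1537, true, [1, 3, 4, 5, 6, 2, 6, 4, 10]⟩])]

/-- facts 1632 and on -/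
def facts51 : List (Fact × Why) := [
  (⟨false, 7, 2, [66, 50, 34, 31, 35, 16, 16, 16, 2, 13], [61, 44, 46, 57, 30, 28, 35, 17, 22], [61, 52, 55, 30, 28, 30, 16, 16, 2]⟩, .loop 32 2 [61, 44, 46, 57, 30, 28, 35, 17, 22, 6] 6 7 [⟨[24], 597, false, [0, 6, 4, 6, 4, 5, 3, 5]⟩, ⟨[24, 23], 1528, true, [2, 10, 5, 3, 6, 2, 4, 5, 6, 4]⟩, ⟨[23, 24], 1584, true, [0, 2, 4, 5, 6, 10, 5, 3, 6, 4, 5]⟩] []),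
  (⟨false, 7, 5, [67, 50, 49, 28, 30, 28, 16, 4, 17], [45, 46, 30, 30, 40, 2, 23, 10, 23, 19], [66, 45, 49, 41, 31, 2, 23, 17, 17, 6]⟩, .loop 67 2 [60, 46, 46, 31, 33, 36, 17, 23, 16, 10] 2 3 [⟨[24], 1597, false, [0, 4, 10, 5, 3, 6, 4, 5, 6]⟩] [⟨[], 1474, false, [6, 4, 6, 4, 10, 5, 6]⟩, ⟨[24, 23], 1191, false, [6, 2, 6, 2, 4, 5, 6, 2, 5]⟩]),
  (⟨false, 2, 7, [58, 48, 38, 33, 16, 19, 16], [45, 50, 42, 28, 26, 40, 38, 16, 19, 16], [62, 44, 47, 33, 31, 33, 2, 23, 4, 6, 23]⟩, .loop 18 2 [60, 45, 57, 40, 30, 16, 16, 16, 24] 4 5 [⟨[], 1106, true, [1, 3, 4, 5, 6, 2, 6, 10, 5, 10]⟩, ⟨[23, 24, 23], 1476, false, [0, 3, 5, 6, 2, 4, 10, 5]⟩] [⟨[23], 1565, false, [1, 2, 6, 2, 5, 3, 6, 2, 4, 5]⟩]),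
  (⟨false, 7, 2, [60, 51, 43, 28, 38, 33, 16, 10, 23, 17], [61, 49, 57, 38, 26, 16, 8, 17, 23, 8], [67, 44, 57, 28, 35, 35, 16, 16, 22, 17]⟩, .loop 51 2 [52, 48, 36, 33, 17, 23, 23, 19] 14 15 [⟨[], 1343, true, [4, 6, 4, 10, 5, 6, 10, 5, 6, 4]⟩, ⟨[24, 23], 1513, true, [0, 4, 6, 5, 6, 2, 4]⟩, ⟨[], 1487, false, [6, 5, 3, 6, 4]⟩, ⟨[23], 1511, false, [0, 2, 3, 5, 6, 4, 6, 10]⟩, ⟨[23], 1335, false, [1, 4, 5, 3, 6, 2, 5, 6, 5]⟩, ⟨[23], 1631, false, [0, 2, 6, 4, 10, 5, 6, 2, 4, 5, 3]⟩, ⟨[1583, 1583, 1587, 1587, 1549, 1549], 1624, false, [1, 2, 6, 2, 5, 6, 4, 5, 3, 5]⟩] []),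
  (⟨false, 7, 7, [61, 50, 47, 30, 35, 41, 16, 24, 16, 25], [60, 45, 56, 33, 31, 38, 18, 23, 17, 23], [57, 30, 32, 40, 2, 17, 0, 17]⟩, .loop 59 2 [62, 45, 50, 28, 40, 33, 2, 23, 17, 24, 17] 8 9 [⟨[], 1519, false, [2, 6, 5, 6, 10, 5, 6, 4]⟩, ⟨[23, 24], 1530, false, [0, 5, 6, 4, 5, 6, 4, 10, 5]⟩, ⟨[23], 1064, false, [0, 6, 4, 10, 5, 6, 10, 5, 3, 6, 5]⟩, ⟨[], 1580, true, [2, 6, 5, 6, 4, 5, 6, 10]⟩] [⟨[23, 24], 1530, false, [1, 6, 4, 5, 10, 5, 6, 4]⟩, ⟨[23], 1064, false, [0, 10, 5, 6, 4, 6, 2, 5, 6, 5]⟩, ⟨[], 1580, true, [6, 1, 5, 6, 4, 10, 5, 6]⟩]),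
  (⟨false, 2, 7, [58, 47, 52, 33, 34, 33, 2, 17, 17, 25, 8], [59, 49, 44, 28, 40, 31, 16, 16, 24, 19], [66, 46, 56, 36, 26, 26, 16, 16, 22, 25]⟩, .loop 17 7 [66, 52, 34, 36, 31, 2, 23, 17, 23, 25] 6 7 [⟨[1583, 1587, 1549], 1557, true, [1, 2, 3, 6, 5, 6, 4, 10]⟩, ⟨[24], 171, false, [0, 3, 4, 6, 2, 4, 5, 10]⟩, ⟨[24, 23], 1486, true, [0, 3, 6, 2, 6, 4, 5, 6, 2, 5]⟩] []),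
  (⟨false, 7, 2, [66, 51, 49, 30, 32, 34, 16, 25], [61, 51, 51, 30, 27, 31, 17, 23, 23, 0], [66, 52, 50, 38, 30, 35, 2, 23]⟩, .loop 22 5 [47, 52, 30, 34, 34, 16, 19, 6, 17] 4 5 [⟨[], 168, false, [1, 2, 5, 6, 10, 5, 6, 4, 6]⟩, ⟨[24, 23], 1535, false, [2, 5, 6, 1, 4, 6, 10, 5, 6, 2]⟩] [⟨[66, 38], 1497, false, [3, 5, 3, 6, 2, 6]⟩]),
  (⟨false, 2, 7, [59, 44, 55, 52, 28, 34, 31, 2, 17, 23, 21], [58, 57, 55, 30, 40, 33, 17, 23, 23, 18], [44, 43, 51, 38, 2, 23, 10, 17, 0]⟩, .loop 62 2 [62, 44, 48, 30, 34, 28, 16, 16, 11, 23] 2 3 [⟨[23], 1096, false, [10, 5, 6, 4, 5, 3, 6, 4, 5, 10]⟩] [⟨[24, 23], 660, true, [0, 2, 6, 4, 10, 5, 6, 4, 6, 5]⟩, ⟨[], 732, true, [2, 6, 5, 6, 10, 5, 3, 6, 2]⟩, ⟨[], 574, true, [0, 2, 4, 10, 5, 3, 6, 4, 6, 4]⟩, ⟨[23],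 610, false, [2, 4, 6, 2, 5, 3, 6, 4, 5, 10]⟩, ⟨[24, 23], 1459, false, [0, 6, 5, 6, 4, 10, 5, 6, 2, 4]⟩, ⟨[24], 1634, false, [0, 2, 5, 6, 4, 6, 10, 5, 3, 6]⟩]),
  (⟨false, 2, 7, [62, 44, 46, 33, 34, 17, 23, 23, 0], [67, 47, 44, 51, 33, 38, 37, 16, 18, 24], [66, 44, 46, 48, 30, 30, 30, 16, 16, 22]⟩, .loop 60 2 [62, 44, 48, 43, 28, 35, 28, 16, 16, 20, 19] 8 9 [⟨[], 1161, false, [1, 6, 5, 6, 4, 5, 6, 5, 10]⟩, ⟨[24], 1187, false, [3, 6, 5, 6, 10, 5, 3, 6, 2, 5]⟩, ⟨[], 499, true, [1, 3, 5, 6, 5, 3, 6, 2, 6, 5, 10]⟩, ⟨[23, 24], 1403, true, [3, 6, 4, 6, 5, 6, 2, 5, 3]⟩] [⟨[24], 1029, true, [2, 4, 6, 2, 10, 5, 6, 5, 3]⟩, ⟨[23], 1006, true, [3, 6, 1, 2, 5, 6, 4, 5]⟩, ⟨[23, 24, 23], 1617, false, [4, 6, 5, 3, 6, 2, 5, 6, 4, 5]⟩]),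
  (⟨false, 7, 7, [62, 46, 44, 54, 28, 31, 27, 31, 16, 8, 22, 19], [67, 44, 42, 51, 33, 31, 31, 16, 24, 16, 10], [67, 45, 42, 47, 31, 28, 30, 2, 17, 17, 17, 2]⟩, .loop 28 7 [66, 45, 53, 28, 26, 36, 16, 16, 4, 20] 6 7 [⟨[], 1625, true, [2, 5, 3, 6, 1, 5, 6, 10, 5, 6, 2]⟩, ⟨[24], 682, true, [6, 2, 6, 2, 5, 6, 4]⟩, ⟨[66, 66, 37, 37], 1600, true, [0, 2, 4, 6, 5, 3, 5, 6, 5, 10]⟩] []),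
  (⟨false, 7, 2, [60, 47, 42, 33, 31, 31, 16, 16, 19], [67, 46, 57, 35, 30, 26, 16, 16, 24, 17], [58, 48, 53, 33, 35, 41, 16, 2, 19, 22]⟩, .loop 51 7 [59, 54, 50, 38, 36, 16, 16, 18] 12 13 [⟨[], 1538, false, [3, 6, 4, 5, 3, 6, 4, 5, 10]⟩, ⟨[], 812, false, [2, 3, 4, 6, 1, 5, 10]⟩, ⟨[24], 1521, true, [0, 3, 4, 6, 2, 5, 6, 4, 5]⟩, ⟨[23, 24], 979, false, [1, 5, 6, 2, 4, 10, 5, 6]⟩, ⟨[23, 24, 23], 446, false, [2, 6, 1, 4, 5, 3, 6, 2]⟩, ⟨[23, 24], 1606, false, [0, 4, 6, 4, 6, 10, 5, 6, 2]⟩] [⟨[1549, 1583, 1587], 1573, true, [0, 3, 6, 5, 6, 10, 5, 3, 6, 2]⟩]),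
  (⟨false, 2, 7, [67, 44, 55, 50, 33, 28, 16, 16, 11], [66, 49, 51, 33, 36, 30, 16, 16, 10, 8], [63, 45, 43, 30, 27, 30, 16, 16, 13, 24]⟩, .loop 70 2 [67, 48, 55, 28, 36, 28, 2, 17, 18] 2 3 [⟨[], 932, false, [0, 3, 6, 5, 10, 5, 6, 2, 4]⟩] [⟨[23, 24, 23], 1237, true, [2, 3, 5, 6, 10]⟩, ⟨[23, 24], 1610, false, [1, 2, 6, 10, 5, 6, 2]⟩]),
  (⟨false, 7, 2, [60, 54, 52, 28, 35, 38, 2, 23, 19], [61, 49, 42, 31, 36, 28, 2, 17, 17, 25, 12], [44, 48, 52, 36, 28, 38, 16, 16, 18, 20]⟩, .loop 60 2 [49, 49, 31, 34, 30, 2, 16, 6, 17, 22] 8 9 [⟨[24], 1006, false, [5, 6, 2, 6, 4, 5, 3, 6, 2, 6]⟩, ⟨[23, 24], 1480, false, [10, 5, 6, 4, 6, 4, 5, 3, 5]⟩, ⟨[23], 1041, true, [0, 2, 10, 5, 3, 6, 2, 5, 6, 4]⟩, ⟨[24, 23], 1629, true, [1, 4, 6, 5, 3, 6, 2, 6,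 4, 5]⟩] [⟨[24, 23], 262, false, [0, 3, 5, 6, 2, 6, 5, 10]⟩, ⟨[23, 24, 23], 148, true, [1, 4, 5, 6, 2, 5, 6, 4, 10, 5]⟩, ⟨[24], 1187, true, [2, 6, 5, 6, 5, 3, 5, 6]⟩]),
  (⟨false, 2, 7, [66, 44, 42, 30, 37, 35, 18, 23, 17, 17], [58, 46, 46, 31, 36, 34, 16, 11, 16, 11, 19], [62, 44, 46, 34, 26, 30, 16, 16, 24, 12]⟩, .loop 66 5 [62, 44, 47, 47, 34, 28, 40, 2, 23, 4] 2 3 [⟨[38, 37], 243, true, [2, 10, 5, 6, 4, 6, 5, 3]⟩] [⟨[37, 66, 37], 957, false, [0, 6, 2, 6, 4, 6, 10, 5, 6]⟩, ⟨[23], 1595, true, [4, 6, 5, 6, 2, 4, 5, 3]⟩]),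
  (⟨false, 2, 7, [66, 49, 38, 29, 2, 23, 6, 23, 8], [58, 47, 49, 56, 33, 41, 30, 16, 25], [60, 46, 42, 51, 33, 28, 37, 2, 23, 17, 18]⟩, .loop 28 2 [63, 49, 57, 34, 28, 2, 17, 17, 13, 19] 2 3 [⟨[23], 1250, true, [5, 6, 1, 5, 10, 5, 6, 2, 5]⟩] [⟨[23], 406, true, [5, 6, 1, 4, 5, 3, 5]⟩, ⟨[66, 37, 37, 66], 1633, true, [0, 2, 5, 3, 6, 2, 4]⟩]),
  (⟨false, 7, 2, [63, 48, 45, 33, 41, 26, 2, 23, 8, 23, 25], [67, 45, 48, 31, 26, 30, 18, 23, 17, 17], [45, 42, 45, 30, 32, 32, 16, 24, 6]⟩, .loop 16 2 [48, 42, 36, 32, 30, 2, 23, 10, 23, 6] 2 3 [⟨[23], 1595, true, [0, 2, 3, 4, 6, 5, 10]⟩] [⟨[23, 24, 23], 295, true, [4, 6, 4, 5, 3, 6, 4, 6, 5, 6]⟩, ⟨[24], 893, false, [3, 6, 1, 5, 6, 4, 10, 5]⟩]),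
  (⟨false, 7, 2, [66, 55, 46, 28, 38, 17, 23], [61, 56, 50, 33, 28, 37, 16, 16, 19, 10], [60, 45, 56, 50, 31, 36, 41, 2, 23, 23, 18, 17]⟩, .loop 47 2 [59, 46, 51, 30, 32, 26, 17, 23, 23, 18] 4 5 [⟨[23, 24, 23], 1398, false, [0, 5, 6, 2, 4, 6, 5, 3, 6, 2]⟩, ⟨[24], 1585, false, [3, 6, 5, 10, 5, 6, 2, 4, 5]⟩] []),
  (⟨false, 7, 7, [63, 44, 46, 44, 28, 34, 28, 16, 18, 16, 22], [63, 50, 49, 31, 28, 30, 2, 17, 0, 23, 17], [47, 51, 34, 27, 28, 2, 17, 17, 18, 18]⟩, .loop 33 2 [54, 31, 35, 29, 16, 24, 16, 25] 4 5 [⟨[24, 23], 737, false, [4, 10, 5, 3, 6, 2, 5, 6, 10]⟩, ⟨[23], 1554, false, [1, 2, 4, 6, 5, 3, 6, 2, 4, 5]⟩] [⟨[24, 23], 1640, false, [2, 3, 6, 1, 5, 3, 6, 5]⟩]),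
  (⟨false, 7, 2, [67, 47, 56, 28, 40, 36, 16, 16, 25, 17], [44, 43, 53, 36, 28, 38, 2, 23, 24], [61, 45, 49, 28, 38, 26, 2, 17, 23, 4, 20]⟩, .loop 47 2 [66, 49, 53, 40, 28, 16, 16, 2, 11, 12] 2 3 [⟨[], 1544, true, [5, 6, 5, 3, 6, 4, 6, 5, 6]⟩] [⟨[24, 23], 675, false, [2, 3, 5, 6, 5, 6, 2, 6, 4]⟩]),
  (⟨false, 2, 7, [61, 44, 51, 30, 29, 16, 4, 16, 22, 22], [59, 55, 42, 38, 35, 36, 17, 22, 6, 17], [60, 45, 42, 28, 26, 40, 16, 4, 16, 20, 22]⟩, .loop 33 2 [61, 44, 48, 30, 30, 36, 17, 17, 23, 18] 2 3 [⟨[], 1266, false, [5, 6, 2, 4, 10, 5, 6, 2, 6]⟩] [⟨[24, 23], 1029, true, [0, 2, 4, 5, 6, 4, 10, 5, 6, 5]⟩, ⟨[], 1539, true, [0, 3, 5, 6, 4, 6, 4, 5, 3, 5]⟩]),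
  (⟨false, 7, 7, [63, 44, 42, 54, 30, 37, 33, 2, 17, 22, 16, 21], [60, 51, 46, 31, 32, 30, 2, 17, 17, 6, 23], [59, 47, 49, 31, 26, 40, 2, 16, 6, 17, 22]⟩, .loop 21 7 [61, 46, 43, 28, 40, 33, 2, 17, 17, 25, 8] 6 7 [⟨[1549], 1639, true, [0, 4, 5, 6, 5, 3, 6, 5]⟩, ⟨[23, 24, 23], 380, false, [4, 10, 5, 6, 4, 6, 2, 4, 5, 3]⟩, ⟨[23, 24, 23], 1608, false, [6, 4, 6, 2, 10, 5, 6, 5, 3, 6]⟩] []),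
  (⟨false, 2, 7, [67, 57, 53, 31, 33, 31, 2, 23, 4], [60, 45, 54, 56, 30, 35, 29, 2, 17, 19, 22], [62, 45, 42, 49, 33, 35, 26, 16, 16, 4, 17]⟩, .loop 65 2 [58, 57, 53, 30, 40, 33, 16, 16, 2, 21] 2 3 [⟨[], 1041, false, [0, 3, 5, 6, 2, 6, 4, 6, 10, 5]⟩] [⟨[24, 23], 1029, true, [6, 10, 5, 6, 4, 6, 2]⟩, ⟨[23, 24], 1416, true, [1, 4, 6, 5, 3, 6, 4, 6]⟩, ⟨[24], 1187, true, [2, 3, 4, 6, 1, 5, 6, 2, 4, 10]⟩, ⟨[23, 24], 543, true, [1, 6, 2, 5, 3, 6, 4, 5]⟩, ⟨[23, 24], 262, false, [3, 5, 6, 10, 5, 3, 6, 5, 6]⟩, ⟨[23], 1640, false, [1, 4, 6, 5, 3, 6, 4, 6, 5, 10]⟩]),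
  (⟨false, 7, 2, [62, 44, 56, 46, 38, 32, 36, 16, 4], [62, 49, 47, 28, 31, 34, 2, 23, 8], [62, 44, 38, 28, 16, 4, 16, 22, 22]⟩, .loop 70 2 [48, 50, 31, 28, 40, 2, 23, 6, 19] 2 3 [⟨[23, 24], 1552, true, [0, 3, 4, 6, 5, 10, 5, 6, 5, 10]⟩] [⟨[23, 24], 744, false, [4, 6, 1, 5, 6, 10, 5, 3, 6, 5]⟩, ⟨[], 1415, true, [0, 6, 4, 5, 6, 2, 6, 5, 10]⟩]),
  (⟨false, 7, 2, [59, 44, 42, 47, 28, 36, 34, 2, 23, 17, 24, 17], [67, 50, 46, 41, 32, 29, 16, 4, 16, 2, 20], [58, 47, 50, 30, 40, 31, 16, 16, 22]⟩, .loop 71 2 [62, 44, 56, 30, 34, 27, 16, 10, 16, 16, 11] 4 5 [⟨[], 1033, true, [1, 2, 5, 3, 6, 5, 6, 10, 5, 6, 2]⟩, ⟨[], 1570, false, [2, 3, 6, 4, 5, 6, 5, 6, 4]⟩] [⟨[23, 24], 1414, true, [1, 3, 6, 4, 5, 3, 6, 2, 6]⟩]),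
  (⟨false, 7, 5, [60, 51, 43, 35, 31, 2, 23, 17, 0], [63, 44, 42, 47, 30, 29, 41, 2, 17, 0, 23, 23], [58, 51, 49, 41, 28, 2, 17, 17, 13, 17]⟩, .loop 20 5 [59, 44, 55, 52, 33, 35, 26, 16, 16, 16, 19] 4 5 [⟨[38, 37], 809, false, [10, 5, 3, 6, 2, 5, 6, 2, 10]⟩, ⟨[23], 1604, false, [0, 4, 5, 6, 4, 5, 6, 5, 10, 5]⟩] [⟨[66, 38, 37], 441, false, [0, 4, 5, 6, 5, 6, 2, 6, 5, 10]⟩]),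
  (⟨false, 2, 7, [63, 44, 43, 57, 33, 33, 31, 16, 16, 22], [62, 54, 44, 28, 34, 2, 17, 23, 13], [67, 49, 44, 28, 31, 33, 2]⟩, .loop 30 2 [62, 45, 48, 34, 26, 31, 2, 23, 17, 23, 8] 2 3 [⟨[], 1094, true, [3, 6, 1, 4, 5, 6, 4, 10]⟩] [⟨[], 644, true, [3, 6, 4, 5, 6, 10, 5, 3, 6]⟩, ⟨[23, 24], 1640, false, [2, 4, 5, 6, 4, 6, 4, 5, 6]⟩]),
  (⟨false, 2, 7, [66, 54, 30, 27, 31, 17, 17, 17, 24], [66, 45, 42, 51, 31, 34, 30, 16, 4, 16, 22, 22], [61, 44, 47, 34, 28, 40, 16, 11, 16, 25, 22]⟩, .loop 28 5 [66, 44, 56, 30, 40, 28, 19, 6, 17, 0] 2 3 [⟨[66, 66, 37], 927, true, [1, 2, 3, 6, 5, 6, 4, 5, 6, 2]⟩] [⟨[66, 66, 38, 66, 37], 506, true, [0, 2, 4, 6, 2, 6, 10, 5, 3, 6]⟩, ⟨[23, 24], 1550, true, [2, 10, 5, 6, 1, 4, 6, 4]⟩]),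
  (⟨false, 2, 7, [62, 46, 44, 28, 35, 40, 2, 17, 17, 25, 10], [66, 44, 56, 41, 29, 40, 16, 16, 19, 21], [48, 46, 35, 29, 31, 16, 11, 23, 16]⟩, .loop 29 2 [59, 45, 42, 47, 33, 34, 40, 2, 17, 17, 25, 8] 2 3 [⟨[], 1452, true, [1, 2, 6, 10, 5, 6, 2, 5, 3]⟩] [⟨[24], 1408, false, [2, 3, 4, 6, 2, 5]⟩, ⟨[23, 24], 1639, false, [3, 6, 2, 5, 6, 4, 5, 10, 5]⟩]),
  (⟨false, 7, 2, [67, 44, 42, 51, 31, 32, 38, 2, 23, 10, 17, 19], [59, 54, 36, 31, 26, 2, 17, 17, 10, 17], [63, 51, 38, 33, 40, 2, 17, 17, 24, 22]⟩, .loop 61 2 [60, 44, 47, 52, 36, 31, 26, 16, 16, 25, 16] 10 11 [⟨[], 1403, true, [0, 2, 3, 6, 4, 6, 5, 6, 5, 10]⟩, ⟨[23], 262, true, [10, 5, 6, 5, 6, 10]⟩, ⟨[23, 24, 23], 762, false, [6, 2, 6, 5, 10, 5, 6, 2, 4]⟩, ⟨[23, 24, 23], 1161, false,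 [4, 6, 1, 2, 6, 5, 3, 6, 2]⟩, ⟨[24], 1644, true, [5, 3, 6, 1, 5, 10, 5, 6, 2, 5]⟩] [⟨[24], 1480, true, [3, 5, 6, 4, 10, 5, 6, 4, 5, 3]⟩, ⟨[23, 24, 23], 1416, true, [1, 5, 3, 6, 2, 5, 6, 5, 10, 5]⟩]),
  (⟨false, 2, 7, [66, 46, 53, 30, 38, 37, 16, 2, 11, 23], [63, 44, 42, 51, 33, 36, 41, 2, 23, 4, 6, 17], [59, 50, 50, 28, 30, 27, 2, 23, 23, 13]⟩, .loop 66 7 [58, 49, 45, 38, 35, 36, 16, 4, 16, 13] 6 7 [⟨[1587, 1549], 1566, true, [0, 3, 5, 6, 4, 6, 4, 5, 3]⟩, ⟨[], 1000, false, [2, 10, 5, 6, 4, 5, 6, 10]⟩, ⟨[], 1357, false, [0, 2, 4, 5, 6, 4, 6, 4, 10, 5, 3]⟩] []),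
  (⟨false, 2, 7, [63, 47, 44, 51, 40, 40, 32, 16, 16, 19, 20], [61, 44, 55, 52, 33, 29, 17, 23, 23, 17], [60, 49, 44, 38, 33, 40, 16, 2, 21, 23]⟩, .loop 69 7 [51, 28, 34, 31, 32, 2, 23, 23, 25, 19] 6 7 [⟨[1549], 1623, false, [0, 4, 10, 5, 3, 6, 4, 5, 6, 2, 5]⟩, ⟨[], 1413, true, [3, 4, 6, 2, 5, 6, 5, 3, 5]⟩, ⟨[24, 23], 228, false, [6, 2, 5, 3, 6, 2, 4, 5]⟩] []),
  (⟨false, 7, 2, [62, 44, 55, 28, 34, 30, 29, 16, 16, 24, 13], [59, 44, 51, 38, 28, 31, 2, 23, 8, 23, 23], [67, 51, 49, 34, 29, 36, 16, 19, 6, 17]⟩, .loop 21 2 [67, 50, 44, 33, 33, 2, 23, 17, 22, 4] 4 5 [⟨[23, 24, 23], 961, false, [4, 10, 5, 6, 2, 6, 5, 3]⟩, ⟨[], 1569, true, [1, 2, 5, 3, 6, 5, 6, 10, 5]⟩] [⟨[23, 24], 596, true, [0, 5, 6, 2, 6, 5, 6, 4, 6]⟩])]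

/-- facts 1664 and on -/
def facts52 : List (Fact × Why) := [
  (⟨false, 7, 2, [63, 44, 46, 48, 28, 36, 2, 17, 17, 22, 16], [58, 52, 49, 38, 35, 16, 16, 22, 19], [66, 50, 42, 30, 27, 30, 18, 23]⟩, .loop 73 2 [67, 47, 51, 28, 30, 34, 2, 17, 23, 25] 2 3 [⟨[23, 24, 23], 1609, true, [3, 4, 5, 3, 6, 4, 6, 4]⟩] [⟨[23], 1273, true, [1, 2, 6, 4, 10, 5, 3, 6]⟩, ⟨[24], 686, true, [1, 2, 10, 5, 3, 6, 4, 6, 5]⟩]),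
  (⟨false, 2, 7, [58, 44, 57, 55, 40, 30, 2, 17, 0, 17, 22], [63, 46, 44, 28, 35, 40, 16, 10, 17, 6, 23], [58, 44, 51, 46, 28, 35, 41, 16, 16, 4, 24]⟩, .loop 53 2 [51, 57, 38, 30, 26, 16, 22, 22, 8] 8 9 [⟨[24], 543, false, [0, 6, 2, 6, 4, 10, 5, 6]⟩, ⟨[23], 1304, false, [1, 4, 10, 5, 6, 2, 6, 4, 6]⟩, ⟨[23, 24, 23], 583, false, [1, 4, 5, 3, 5, 6, 2, 6, 4]⟩, ⟨[23, 24, 23], 1029, true, [1, 2, 6, 5, 6, 4, 6, 5, 3, 6]⟩] [⟨[23, 24, 23], 295, true, [1, 4, 5, 3, 6, 2, 6, 4]⟩, ⟨[24], 499, true, [1, 6, 4, 5, 6, 2, 10, 5, 6, 4]⟩, ⟨[], 1653, false, [1, 5, 10, 5, 6, 2]⟩]),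
  (⟨false, 2, 7, [66, 50, 47, 36, 35, 16, 19, 16, 6], [63, 45, 54, 56, 35, 29, 31, 16, 16, 4, 17], [59, 45, 34, 2, 17, 22, 22, 24]⟩, .loop 45 7 [61, 49, 44, 31, 33, 36, 16, 16, 19, 23] 4 5 [⟨[1549], 1556, false, [0, 2, 5, 3, 6, 5, 6, 4, 6, 5, 6]⟩, ⟨[23, 24, 23], 1466, false, [1, 2, 3, 6, 2, 5, 6, 2, 4, 10]⟩] []),
  (⟨false, 2, 7, [61, 45, 54, 40, 37, 16, 16, 25, 22], [63, 51, 30, 27, 27, 16, 10, 17, 6], [58, 47, 56, 28, 41, 31, 19, 6, 23, 23]⟩, .loop 29 2 [44, 51, 34, 27, 28, 2, 23, 23, 8, 24] 4 5 [⟨[24, 23], 1352, true, [0, 2, 3, 6, 5, 6, 4, 10, 5]⟩, ⟨[23, 24, 23], 877, false, [3, 6, 2, 6, 4, 5, 6, 4, 10]⟩] [⟨[23, 24], 1537, true, [2, 3, 5, 6, 4, 10, 5, 3]⟩]),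
  (⟨false, 7, 2, [63, 51, 53, 34, 31, 38, 16, 10, 16, 16, 11], [66, 55, 43, 33, 35, 41, 2, 23, 17, 6], [46, 48, 54, 41, 37, 2, 23, 23, 19]⟩, .loop 47 2 [58, 50, 47, 28, 34, 33, 2, 17, 17, 6, 11] 4 5 [⟨[], 900, false, [0, 4, 5, 6, 5, 3]⟩, ⟨[66], 1656, true, [6, 2, 6, 4, 6, 5, 10]⟩] []),
  (⟨false, 7, 5, [58, 44, 55, 50, 30, 26, 40, 16, 11, 16, 11], [49, 46, 28, 31, 41, 2, 17, 22, 12], [62, 44, 43, 31, 28, 2, 17, 19, 22]⟩, .loop 31 5 [63, 47, 50, 38, 28, 41, 16, 16, 10, 16, 24] 2 3 [⟨[66], 1656, true, [5, 6, 10, 5, 6, 4, 6, 4, 10, 5]⟩] [⟨[66, 38, 66], 406, false, [1, 4, 5, 6, 4, 5, 6, 2, 5, 10]⟩, ⟨[23], 274, false, [1, 3, 5, 3, 6, 4, 6, 5, 6, 10]⟩]),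
  (⟨false, 7, 2, [60, 45, 53, 48, 33, 41, 17, 23, 23, 16], [59, 46, 57, 36, 29, 31, 2, 17, 17, 18, 10], [59, 55, 47, 35, 40, 16, 10, 17, 6]⟩, .loop 28 2 [67, 45, 42, 49, 30, 26, 2, 17, 23, 18, 20] 2 3 [⟨[23], 1566, false, [0, 2, 4, 6, 10, 5, 6, 2, 4, 10, 5]⟩] [⟨[23, 24, 23], 613, false, [1, 6, 5, 6, 4, 6, 2, 10, 5]⟩, ⟨[], 1362, false, [2, 6, 1, 4, 10, 5, 3, 6, 2, 5]⟩]),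
  (⟨false, 2, 7, [66, 46, 43, 30, 37, 33, 16, 4, 16, 18], [58, 45, 56, 50, 31, 26, 40, 2, 23, 23, 18, 18], [51, 57, 33, 28, 35, 17, 23, 18]⟩, .loop 55 7 [63, 44, 47, 47, 35, 16, 11, 16, 24] 8 9 [⟨[1587, 1587, 1587], 1560, false, [0, 2, 6, 10, 5, 3, 6, 4, 5, 10]⟩, ⟨[23, 24], 596, false, [3, 4, 6, 1, 4, 5, 10, 5, 6]⟩, ⟨[23, 24, 23], 446, false, [0, 2, 4, 5, 6, 4, 10, 5, 6, 5, 3]⟩, ⟨[24], 877, false, [6, 5, 6, 2, 6, 10, 5, 6]⟩] [⟨[1587, 1587, 1587], 1573, true, [3, 6, 5, 3, 6, 5, 3]⟩, ⟨[23], 1499, false, [1, 2, 3, 6, 5, 3, 6, 4, 5, 3]⟩, ⟨[23, 24], 1630, true, [0, 4, 6, 2, 4, 5, 6, 5, 10, 5]⟩]),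
  (⟨false, 7, 4, [58, 50, 55, 34, 31, 41, 16, 16, 18, 25], [44, 55, 52, 30, 29, 26, 16, 11, 16, 22, 22], [63, 44, 53, 33, 34, 16, 10, 19]⟩, .loop 63 2 [59, 55, 43, 33, 34, 40, 2, 23, 10, 17] 4 5 [⟨[], 118, false, [0, 10, 5, 3, 6, 4, 5, 10]⟩, ⟨[], 1621, false, [3, 5, 3, 6, 4, 5, 6, 10]⟩] [⟨[], 175, false, [3, 4, 5, 6, 1, 2, 5, 6]⟩, ⟨[], 154, false, [0, 3, 6, 4, 5, 3, 6, 4, 5, 6]⟩, ⟨[], 175, false, [4, 5, 6, 1, 2, 6, 4, 5, 10, 5]⟩, ⟨[], 155, true, [4, 6, 2, 5, 6, 2, 4, 5]⟩, ⟨[], 149, true, [6, 2, 5, 6, 4, 10, 5, 6]⟩]),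
  (⟨false, 7, 7, [66, 45, 49, 28, 38, 37, 16, 11, 16, 22], [44, 42, 46, 35, 31, 16, 16, 11, 19], [67, 48, 42, 33, 31, 31, 16, 4, 16, 10]⟩, .loop 28 2 [62, 44, 56, 46, 28, 40, 36, 2, 23, 17, 8] 2 3 [⟨[24], 1646, false, [2, 4, 6, 10, 5, 6, 5, 10, 5]⟩] [⟨[24], 931, true, [4, 6, 10, 5, 6, 4, 6, 5, 6, 10]⟩, ⟨[23, 24, 23], 1661, false, [0, 2, 4, 6, 4, 6, 4, 10, 5, 6]⟩]),
  (⟨false, 7, 2, [62, 49, 56, 33, 27, 34, 16, 16, 8, 22], [60, 44, 43, 51, 35, 35, 29, 16, 10, 16, 21], [66, 44, 47, 52, 30, 28, 35, 16, 16, 2, 10]⟩, .loop 23 2 [54, 34, 26, 31, 2, 16, 16, 16] 4 5 [⟨[23], 1029, false, [1, 3, 6, 4, 6, 4, 5, 3]⟩, ⟨[23], 1560, true, [0, 3, 5, 6, 4, 6, 4, 6]⟩] [⟨[24], 1420, false, [0, 4, 10, 5, 6, 5, 3, 5, 6, 4]⟩]),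
  (⟨false, 7, 2, [60, 54, 50, 31, 28, 30, 2, 17, 23, 17, 8], [66, 45, 30, 40, 26, 16, 19, 16], [62, 48, 46, 31, 36, 41, 2, 23, 23, 18, 16]⟩, .loop 47 2 [58, 44, 46, 31, 33, 34, 16, 18] 4 5 [⟨[24, 23], 1325, false, [0, 5, 6, 2, 4, 5, 3, 6, 2, 6, 4]⟩, ⟨[], 1625, false, [5, 6, 4, 6, 4, 10, 5, 10]⟩] []),
  (⟨false, 5, 7, [66, 49, 46, 34, 33, 40, 2, 17, 22, 18, 23], [61, 47, 56, 38, 35, 36, 2, 23, 17, 8, 21], [45, 42, 51, 30, 37, 27, 2, 17, 17, 17, 13]⟩, .loop 72 2 [62, 44, 47, 47, 33, 31, 2, 23, 8, 23, 6] 2 3 [⟨[23, 24, 23], 735, true, [5, 6, 2, 5, 3, 6, 2, 4]⟩] [⟨[24], 504, false, [2, 6, 1, 2, 4, 5, 3, 6, 2, 5, 10]⟩, ⟨[23, 24, 23], 1675, true, [1, 4, 6, 4, 10, 5, 6, 4, 10]⟩]),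
  (⟨false, 2, 7, [59, 44, 51, 48, 31, 41, 28, 2, 17, 22, 22], [59, 44, 48, 52, 30, 30, 34, 16, 16, 18, 21], [59, 54, 46, 34, 33, 2, 17, 23, 11, 24]⟩, .loop 67 2 [62, 55, 47, 34, 31, 2, 17, 17, 10] 2 3 [⟨[], 262, false, [3, 6, 1, 4, 5, 6, 2, 6, 10]⟩] [⟨[24], 669, true, [0, 6, 4, 6, 2, 10, 5, 6, 5]⟩, ⟨[24, 23], 1651, false, [6, 1, 4, 6, 4, 5, 6]⟩]),
  (⟨false, 7, 2, [61, 45, 45, 36, 28, 34, 16, 2, 10], [59, 44, 43, 38, 30, 35, 16, 16, 8, 22, 21], [44, 42, 54, 33, 31, 38, 2, 17, 17, 24, 23]⟩, .loop 71 2 [66, 44, 42, 48, 33, 27, 30, 17, 23, 17] 2 3 [⟨[], 1557, false, [2, 6, 4, 5, 6, 5, 3, 6]⟩] [⟨[23, 24, 23], 906, true, [0, 5, 6, 2, 4, 6, 5, 3, 6, 5]⟩, ⟨[23, 24, 23], 826, false, [10, 5, 6, 4, 6, 5, 3, 6, 2, 5]⟩]),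
  (⟨false, 2, 7, [61, 46, 49, 31, 27, 2, 23, 23, 25], [59, 49, 47, 31, 36, 28, 2, 23, 23, 25, 19], [58, 51, 46, 35, 40, 31, 2, 17, 17, 8]⟩, .loop 19 2 [50, 50, 36, 26, 2, 17, 23, 23, 19] 4 5 [⟨[23], 877, true, [3, 6, 1, 4, 5, 6, 2]⟩, ⟨[24], 877, true, [1, 4, 5, 6, 2, 4, 5, 10]⟩] [⟨[23, 24], 1560, true, [1, 2, 6, 4, 5, 3, 6, 2, 6]⟩]),
  (⟨false, 2, 7, [59, 44, 42, 33, 29, 35, 2, 16, 6, 17, 17], [61, 55, 49, 30, 40, 29, 16, 10, 23, 17], [61, 49, 49, 35, 29, 35, 2, 17, 17, 6, 11]⟩, .loop 46 5 [62, 45, 49, 36, 31, 2, 23, 17, 19, 6] 2 3 [⟨[38, 66], 250, true, [6, 5, 3, 6, 2, 4, 5, 6, 2]⟩] [⟨[66, 66, 38, 66, 37], 1676, false, [6, 4, 6, 4, 10, 5, 6, 2, 10]⟩]),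
  (⟨false, 2, 7, [62, 51, 43, 28, 38, 26, 16, 10, 18], [52, 44, 35, 37, 16, 4, 16, 2], [67, 55, 47, 30, 28, 17, 23, 17, 22, 24]⟩, .loop 51 7 [63, 45, 54, 38, 33, 40, 2, 17, 17, 17, 13] 14 15 [⟨[1587, 1587], 1673, true, [5, 6, 4, 10, 5, 6, 4, 5, 3]⟩, ⟨[1583, 1549], 1650, false, [1, 2, 5, 3, 6, 4, 5, 6, 4, 10]⟩, ⟨[], 675, true, [0, 2, 4, 5, 6, 5, 6, 4, 10]⟩, ⟨[], 1325, false, [0, 2, 4, 10, 5, 6, 4, 5]⟩, ⟨[24, 23], 971, false, [0, 5, 6, 2, 10, 5, 6, 5, 10, 5]⟩, ⟨[24, 23], 1205, false, [10, 5, 3, 6, 4, 5, 10, 5, 6, 5]⟩, ⟨[24, 23], 302, true, [1, 2, 5, 6, 5, 6, 10, 5, 6, 2, 6]⟩] []),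
  (⟨false, 2, 7, [55, 49, 36, 40, 26, 17, 17, 17, 10], [52, 44, 36, 31, 16, 2, 24], [67, 45, 57, 30, 27, 38, 16, 24, 16]⟩, .loop 18 2 [67, 45, 52, 31, 26, 34, 2, 17, 0, 17, 22] 4 5 [⟨[24, 23], 528, false, [2, 4, 6, 4, 5, 10, 5, 6, 5, 10]⟩, ⟨[24], 277, true, [4, 10, 5, 6, 5, 6, 4, 10, 5, 3]⟩] [⟨[23], 1592, false, [5, 6, 1, 2, 5, 6, 10, 5, 6]⟩]),
  (⟨false, 2, 7, [44, 42, 51, 35, 29, 31, 2, 17, 22, 16, 2], [60, 50, 44, 31, 37, 35, 2, 17, 17, 17, 20], [66, 44, 53, 56, 35, 35, 41, 16, 18, 16, 11]⟩, .loop 17 7 [59, 46, 46, 34, 40, 29, 16, 4, 16, 2] 6 7 [⟨[1587, 1587, 1549], 1591, false, [0, 4, 6, 10, 5, 6, 10, 5, 6]⟩, ⟨[23], 350, true, [6, 5, 3, 6, 5, 6, 4, 5]⟩, ⟨[], 911, true, [4, 10, 5, 6, 1, 2, 4, 5, 6, 2]⟩] []),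
  (⟨false, 7, 2, [60, 56, 50, 30, 32, 30, 16, 24, 16, 8], [46, 42, 40, 35, 26, 2, 17, 17, 17, 12], [67, 44, 57, 55, 36, 30, 2, 23, 18, 6]⟩, .loop 47 2 [66, 46, 57, 30, 35, 40, 28, 16, 11, 18, 23] 2 3 [⟨[24], 1637, false, [0, 5, 3, 6, 4, 5, 6, 2, 6, 4]⟩] [⟨[24], 1466, false, [6, 4, 10, 5, 6, 4, 6, 2, 5]⟩]),
  (⟨false, 7, 2, [61, 48, 57, 38, 30, 35, 17, 23, 23, 13], [61, 44, 48, 43, 30, 41, 26, 16, 21, 16, 21], [59, 47, 55, 34, 38, 16, 10, 16]⟩, .loop 58 2 [59, 44, 56, 46, 28, 31, 37, 17, 23, 16, 11] 12 13 [⟨[23], 1499, false, [2, 6, 4, 5, 3, 6, 2, 5, 6, 2]⟩, ⟨[23, 24, 23], 206, true, [6, 1, 4, 5, 3, 5, 6]⟩, ⟨[24], 1454, false, [1, 5, 6, 4, 5, 6, 4, 10, 5, 10]⟩, ⟨[], 596, true, [6, 1, 2, 6, 4, 6, 5, 6, 10]⟩, ⟨[23], 1603, false, [2, 3,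 5, 6, 4, 6, 5, 6, 10]⟩, ⟨[1587, 1587, 1587, 1549], 1652, true, [0, 2, 5, 6, 4, 6, 5, 3, 6, 2, 5]⟩] [⟨[24], 520, false, [0, 5, 6, 2, 4, 6, 5, 6, 2, 6, 10]⟩]),
  (⟨false, 7, 2, [62, 51, 52, 36, 34, 2, 23, 23, 18], [61, 44, 48, 43, 31, 37, 2, 23, 17, 24, 17], [59, 45, 30, 30, 28, 2, 23, 23, 12]⟩, .loop 32 2 [61, 49, 44, 30, 38, 29, 2, 17, 17, 23] 4 5 [⟨[], 1181, true, [0, 2, 4, 6, 2, 5, 6, 5]⟩, ⟨[24, 23], 1566, false, [2, 6, 4, 10, 5, 6, 2, 6, 4, 10]⟩] [⟨[23], 501, false, [1, 2, 10, 5, 6, 4, 6, 4, 5, 3]⟩]),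
  (⟨false, 2, 7, [61, 44, 49, 30, 37, 31, 2, 17, 0, 17, 19], [45, 52, 30, 30, 41, 16, 4, 16, 13], [62, 44, 48, 30, 28, 34, 16, 16, 4, 23]⟩, .loop 61 2 [61, 50, 50, 30, 26, 38, 16, 16, 4, 25] 8 9 [⟨[], 1544, true, [0, 4, 6, 5, 6, 4, 5, 6]⟩, ⟨[], 1643, true, [4, 5, 6, 2, 6, 4, 6, 5, 3]⟩, ⟨[24, 23], 1378, false, [1, 6, 5, 3, 6, 4, 6]⟩, ⟨[23, 24], 484, true, [0, 3, 4, 5, 3, 6, 5, 6, 4, 10]⟩] [⟨[24, 23], 641, false, [1, 2, 6, 5, 6, 2, 4, 6, 10]⟩, ⟨[], 1232, true, [3, 6, 4, 5, 6, 2, 5, 3, 6]⟩, ⟨[], 1613, false, [0, 4, 10, 5, 3, 6, 5]⟩]),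
  (⟨false, 7, 2, [59, 45, 56, 55, 33, 38, 37, 2, 23, 17, 22, 6], [63, 54, 43, 33, 31, 32, 16, 16, 24, 11], [58, 46, 49, 31, 28, 32, 2, 16, 6, 17, 19]⟩, .loop 65 2 [59, 44, 48, 33, 35, 29, 16, 21, 16, 10] 2 3 [⟨[23], 1685, true, [0, 10, 5, 6, 4, 6, 2, 10, 5, 6]⟩] [⟨[23, 24], 1181, false, [0, 3, 6, 5, 3, 6, 4, 5, 6, 10]⟩, ⟨[23], 1603, false, [0, 5, 3, 6, 4, 6, 4, 5]⟩, ⟨[1549, 1549], 1642, false, [6, 5, 3, 6, 2, 6, 5, 6, 2]⟩, ⟨[23], 573, true, [2, 5, 6, 2, 4, 5, 6, 2, 10]⟩, ⟨[24, 23], 206, false, [2, 5, 6, 5, 10]⟩, ⟨[23], 979, false, [1, 6, 4, 6, 5, 6, 10, 5, 6, 10]⟩]),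
  (⟨false, 7, 4, [63, 49, 30, 16, 18, 16, 22], [58, 49, 49, 31, 35, 26, 2, 17, 18], [59, 48, 46, 36, 35, 2, 17, 17, 23, 11]⟩, .loop 17 2 [66, 45, 50, 30, 32, 35, 16, 16, 8] 2 3 [⟨[24, 23], 1538, true, [10, 5, 6, 4, 5, 6, 4, 5, 10, 5]⟩] [⟨[23, 24], 121, true, [1, 6, 5, 3, 6, 2, 4, 6, 5, 10]⟩, ⟨[24], 1324, true, [6, 1, 2, 10, 5]⟩]),
  (⟨false, 2, 7, [60, 46, 48, 28, 40, 33, 16, 4, 16, 16, 12], [58, 46, 53, 30, 27, 27, 16, 16, 22, 11], [62, 50, 47, 31, 41, 26, 18, 23, 17, 22]⟩, .loop 18 2 [66, 45, 56, 31, 28, 40, 16, 16, 25, 22] 4 5 [⟨[], 668, false, [5, 6, 2, 6, 4, 6, 5, 3]⟩, ⟨[], 1501, false, [3, 5, 3, 6, 2, 4, 5, 6, 4]⟩] [⟨[], 1559, false, [2, 3, 4, 5, 6, 4, 5, 6, 2, 6, 10]⟩]),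
  (⟨false, 2, 7, [62, 44, 55, 52, 35, 28, 40, 19, 6, 23, 23], [66, 47, 56, 33, 34, 41, 16, 18, 18, 22], [63, 54, 56, 28, 30, 41, 2, 17, 17, 6, 4]⟩, .loop 29 7 [63, 45, 45, 35, 38, 35, 16, 2, 19, 6] 6 7 [⟨[], 1574, false, [1, 10, 5, 6, 5, 6, 4, 6, 2]⟩, ⟨[24], 1459, false, [4, 6, 2, 4]⟩, ⟨[], 340, false, [5, 6, 2, 6, 4, 5, 3, 5, 6]⟩] []),
  (⟨false, 7, 2, [60, 44, 46, 44, 35, 29, 35, 17, 22, 21, 6], [60, 45, 42, 31, 32, 36, 2, 17, 22, 22, 6], [60, 57, 35, 30, 36, 2, 17, 22, 6, 16]⟩, .loop 73 2 [66, 44, 47, 41, 32, 2, 17, 0, 17, 25] 6 7 [⟨[], 1178, false, [2, 5, 3, 6, 4, 5, 6, 5, 3]⟩, ⟨[23, 24], 1303, true, [4, 5, 6, 1, 10, 5, 6, 2, 6]⟩, ⟨[24, 23], 1622, true, [0, 5, 6, 10, 5, 3, 6, 5, 10]⟩] []),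
  (⟨false, 5, 7, [61, 48, 52, 30, 32, 40, 16, 8, 17, 17], [63, 45, 42, 51, 28, 31, 27, 16, 4, 16, 10, 21], [62, 54, 50, 36, 27, 16, 11, 25, 16]⟩, .loop 17 7 [60, 44, 46, 48, 38, 28, 31, 16, 16, 11, 25] 6 7 [⟨[1583, 1587, 1583], 1683, true, [2, 3, 5, 6, 5, 6, 2, 4, 6]⟩, ⟨[], 1000, true, [1, 5, 3, 6, 5, 6, 4, 5, 6, 10]⟩, ⟨[24, 23], 1220, false, [1, 2, 10, 5, 6, 2, 6, 4, 5, 6]⟩] []),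
  (⟨false, 2, 7, [63, 44, 47, 52, 40, 30, 17, 23, 16], [67, 45, 42, 45, 31, 28, 38, 16, 22, 22, 22], [59, 44, 43, 51, 31, 32, 36, 16, 19, 6, 17]⟩, .loop 69 7 [60, 49, 47, 38, 33, 16, 22, 19, 17] 6 7 [⟨[1583, 1587, 1587], 1636, false, [3, 5, 3, 6, 4, 5, 6]⟩, ⟨[1587, 1583, 1549], 1574, false, [0, 3, 5, 6, 4, 5, 10, 5, 6, 2]⟩, ⟨[23, 24], 1047, true, [3, 6, 1, 5, 6, 2, 6]⟩] []),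
  (⟨false, 7, 7, [66, 44, 43, 53, 31, 29, 29, 16, 16, 8, 18], [59, 46, 49, 33, 29, 37, 16, 21, 17], [66, 48, 53, 30, 41, 2, 17, 17]⟩, .loop 22 2 [67, 50, 55, 31, 41, 36, 18, 23, 17, 6] 2 3 [⟨[24], 1625, false, [0, 2, 4, 5, 6, 10, 5, 6]⟩] [⟨[24, 23], 150, true, [2, 6, 5, 6, 4, 6, 5, 3, 6]⟩, ⟨[24, 23], 1627, false, [0, 2, 4, 5, 3, 6, 2, 5, 10]⟩])]

/-- facts 1696 and on -/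
def facts53 : List (Fact × Why) := [
  (⟨false, 2, 7, [58, 55, 46, 30, 37, 35, 17, 17, 22, 11], [66, 44, 42, 47, 33, 41, 29, 16, 10, 16, 2], [59, 44, 56, 46, 33, 28, 37, 18, 23]⟩, .loop 21 7 [59, 44, 31, 29, 41, 2, 16, 16, 6, 18] 6 7 [⟨[], 1672, false, [2, 6, 1, 5, 3]⟩, ⟨[61, 30, 27], 404, false, [0, 5, 6, 2, 4, 5, 3, 6, 2]⟩, ⟨[23, 24, 23], 954, false, [5, 3, 6, 1, 2, 5, 6, 2, 4]⟩] []),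
  (⟨false, 2, 7, [62, 44, 48, 38, 34, 16, 16, 20, 22], [61, 45, 50, 42, 28, 30, 28, 17, 17, 22], [62, 45, 49, 30, 30, 2, 17, 23, 23]⟩, .loop 18 2 [61, 50, 55, 31, 36, 28, 2, 17, 17, 17, 13] 4 5 [⟨[23], 1161, true, [1, 6, 2, 5, 3, 6, 4, 5, 6, 10]⟩, ⟨[], 1181, true, [2, 6, 1, 10, 5, 3, 6, 2, 4, 5]⟩] [⟨[23], 1625, false, [0, 6, 4, 5, 6, 4, 6, 4, 10, 5]⟩]),
  (⟨false, 2, 7, [66, 47, 50, 34, 31, 38, 2, 17, 22, 6, 23], [47, 30, 40, 27, 2, 23, 17, 22], [63, 50, 42, 30, 28, 41, 16, 11, 16, 25]⟩, .loop 16 7 [58, 44, 47, 47, 30, 40, 28, 16, 16, 8, 17, 25] 6 7 [⟨[], 1593, false, [5, 6, 10, 5, 6, 4, 6, 2, 10]⟩, ⟨[23, 24, 23], 975, true, [3, 4, 5, 3, 6, 4, 5, 6, 2, 4]⟩, ⟨[23, 24], 723, false, [3, 5, 6, 4, 5, 10, 5, 6, 5, 6]⟩] []),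
  (⟨false, 7, 7, [58, 56, 33, 34, 26, 2, 23, 6, 17, 17], [60, 47, 47, 31, 27, 31, 2, 23, 17, 18], [60, 45, 56, 55, 28, 30, 27, 31, 2, 17, 19, 22, 20]⟩, .loop 65 7 [67, 47, 51, 34, 38, 28, 2, 23, 18, 6] 14 15 [⟨[1587, 1587], 1637, true, [6, 5, 6, 4, 6, 10, 5, 3]⟩, ⟨[23, 24, 23], 1684, true, [1, 6, 5, 3, 6, 2, 6, 4, 5, 6]⟩, ⟨[1583, 1583, 1587, 1587], 1666, true, [3, 6, 4, 5, 3, 6, 2, 6, 2]⟩, ⟨[], 1684, true, [1, 4, 10, 5, 3, 6, 4, 5, 6, 2]⟩, ⟨[], 1637, true, [0, 5, 6, 4, 10, 5, 6, 4, 6, 5]⟩, ⟨[23, 24, 23], 617, true, [3, 6, 5, 6, 10, 5, 6, 2]⟩, ⟨[23, 24], 1556, true, [2, 4, 6, 1, 4, 5, 6, 5, 3]⟩] []),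
  (⟨false, 2, 7, [67, 54, 46, 28, 31, 40, 2, 17, 22, 6, 17], [59, 50, 50, 28, 35, 36, 16, 11, 19, 6], [60, 54, 35, 36, 2, 23, 23, 21, 16]⟩, .loop 46 7 [44, 47, 44, 33, 35, 17, 23, 17, 2] 4 5 [⟨[1549, 1583, 1549], 1626, true, [1, 4, 5, 6, 4, 10, 5, 6, 5, 3]⟩, ⟨[], 227, false, [4, 6, 5, 6, 2, 6, 10]⟩] []),
  (⟨false, 7, 7, [66, 47, 49, 35, 35, 31, 2, 23, 19], [58, 31, 33, 31, 16, 21, 17, 17], [66, 55, 35, 28, 37, 17, 22, 21]⟩, .loop 61 2 [66, 44, 47, 47, 35, 35, 26, 2, 17, 0, 23, 16] 12 13 [⟨[24, 23], 1341, true, [0, 5, 10, 5, 6, 4, 5, 6, 4, 5]⟩, ⟨[24], 1486, false, [0, 2, 4, 10, 5, 6, 2, 6, 5, 10]⟩, ⟨[23, 24], 730, false, [5, 3, 6, 5, 10, 5, 6, 5, 3]⟩, ⟨[], 1486, false, [1, 6, 2, 6, 4, 6, 10, 5, 6]⟩, ⟨[23, 24], 1405, true, [3, 5, 6,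 4, 5]⟩, ⟨[23], 1663, true, [0, 4, 6, 4, 10, 5, 6, 10]⟩] [⟨[24, 23], 1679, false, [0, 4, 10, 5, 6, 2, 5, 6, 4, 5, 3]⟩]),
  (⟨false, 2, 7, [58, 50, 49, 31, 26, 2, 17, 17, 17, 13], [62, 47, 54, 31, 41, 26, 16, 11, 16, 21], [67, 44, 48, 43, 30, 40, 30, 2, 17, 0, 17, 25]⟩, .loop 68 5 [66, 57, 31, 27, 34, 2, 17, 22, 6, 22] 2 3 [⟨[], 1311, false, [0, 6, 10, 5, 6, 2, 6, 5, 6]⟩] [⟨[37, 37, 66], 313, false, [4, 5, 6, 2, 6, 4, 6]⟩, ⟨[23, 24, 23], 1599, false, [6, 2, 4, 5, 6, 10, 5, 6, 4, 6]⟩]),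
  (⟨false, 7, 2, [59, 48, 43, 33, 34, 30, 2, 23, 17, 25, 21], [58, 50, 55, 41, 38, 19, 6, 23, 23], [61, 54, 44, 34, 41, 41, 16, 11, 23]⟩, .loop 50 2 [59, 48, 56, 28, 34, 28, 2, 17, 17, 24] 2 3 [⟨[24], 1650, true, [0, 5, 3, 5, 6, 2]⟩] [⟨[24, 23], 484, true, [0, 6, 5, 3, 6, 4, 5, 6, 4, 10]⟩, ⟨[24, 23], 480, false, [0, 6, 2, 6, 5, 3]⟩, ⟨[23, 24], 1675, true, [0, 6, 4, 10, 5, 6, 10, 5, 6, 4, 10]⟩, ⟨[], 1625, true, [6, 1, 10, 5, 6, 4]⟩, ⟨[24, 23], 971, false, [0, 6, 2, 4, 6, 10]⟩, ⟨[24, 23], 1232, false, [0, 2, 3, 4, 6, 5, 3, 6, 2, 5]⟩]),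
  (⟨false, 2, 7, [59, 46, 53, 35, 31, 32, 2, 23, 17, 6], [62, 45, 54, 56, 33, 30, 36, 16, 16, 20, 18], [51, 57, 28, 31, 33, 2, 23, 17, 12]⟩, .loop 29 7 [62, 45, 48, 28, 35, 35, 16, 21, 16, 24] 6 7 [⟨[1583, 1587, 1549], 1555, false, [6, 2, 4, 6, 5, 6, 2, 6, 4, 10]⟩, ⟨[24], 1130, true, [4, 5, 6, 1, 2, 5, 6, 4, 6, 10]⟩, ⟨[24, 23], 1190, false, [3, 5, 6, 1, 4, 5, 10, 5]⟩] []),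
  (⟨false, 7, 7, [63, 45, 56, 55, 41, 27, 16, 19, 22, 11], [59, 50, 49, 28, 34, 34, 16, 11, 18, 23, 23], [62, 49, 56, 34, 26, 30, 2, 17, 17, 11, 19]⟩, .loop 28 2 [63, 51, 46, 31, 28, 36, 16, 4, 16, 20] 2 3 [⟨[], 1614, false, [1, 3, 6, 5, 3, 6, 2, 4]⟩] [⟨[23, 24], 164, true, [1, 5, 6, 5, 6, 10, 5, 3, 6, 2]⟩, ⟨[245, 22, 21, 50], 1581, false, [0, 6, 2, 4, 5, 3, 6, 2]⟩]),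
  (⟨false, 2, 7, [59, 51, 53, 35, 31, 27, 2, 17, 17, 13, 23], [58, 54, 43, 30, 40, 28, 16, 16, 11, 23, 23], [63, 47, 49, 56, 30, 30, 30, 2, 23, 17, 24, 23]⟩, .loop 47 2 [67, 44, 46, 48, 38, 30, 26, 2, 17, 22, 16] 2 3 [⟨[], 546, true, [0, 6, 4, 6, 4, 6, 10, 5]⟩] [⟨[23, 24, 23], 1602, false, [0, 2, 6, 5, 6, 10, 5, 6, 10]⟩]),
  (⟨false, 2, 7, [60, 51, 49, 30, 30, 35, 16, 24, 23], [44, 57, 49, 31, 27, 35, 16, 2, 0, 16], [61, 48, 46, 36, 29, 33, 2, 23, 23, 18, 18]⟩, .loop 71 2 [62, 44, 55, 50, 33, 28, 2, 23, 13, 23] 2 3 [⟨[24], 1161, false, [2, 3, 4, 5, 6, 2, 6]⟩] [⟨[24, 23], 1628, false, [6, 5, 3, 6, 5, 3, 6, 2]⟩, ⟨[1583, 1587, 1549, 1549], 1649, true, [0, 2, 5, 6, 2, 4, 5, 6, 2, 6, 10]⟩]),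
  (⟨false, 2, 7, [59, 46, 48, 36, 27, 2, 23, 8, 23, 23], [60, 54, 56, 31, 29, 41, 19, 6, 23], [58, 44, 42, 54, 30, 26, 35, 16, 16, 20, 24]⟩, .loop 21 7 [59, 44, 43, 53, 28, 31, 27, 31, 16, 16, 11] 6 7 [⟨[1583], 1687, true, [1, 4, 6, 10, 5, 6, 2, 4, 10, 5]⟩, ⟨[24], 702, true, [1, 6, 5, 6, 2, 6, 2, 10, 5]⟩, ⟨[24], 1304, false, [6, 10, 5, 3, 6, 4, 5, 3, 6]⟩] []),
  (⟨false, 2, 7, [67, 50, 45, 31, 34, 27, 2, 17, 17, 25, 21], [59, 44, 51, 30, 27, 31, 16, 2, 24], [63, 50, 42, 31, 29, 41, 2, 17, 23, 23, 13]⟩, .loop 28 7 [66, 45, 52, 38, 32, 35, 2, 17, 22, 4] 6 7 [⟨[], 1682, true, [0, 2, 3, 4, 6, 2, 5, 6, 4]⟩, ⟨[23], 1553, false, [2, 3, 6, 1, 5, 6, 2, 4, 6, 5]⟩, ⟨[1587, 1587, 1549], 1606, true, [0, 3, 4, 5, 6, 2, 5, 6, 5]⟩] []),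
  (⟨false, 7, 2, [62, 48, 44, 30, 40, 29, 16, 16, 10, 20], [63, 49, 44, 30, 27, 32, 16, 16, 24, 23], [61, 52, 48, 35, 30, 32, 19, 6]⟩, .loop 46 2 [62, 44, 48, 30, 28, 33, 16, 8, 17, 23] 2 3 [⟨[], 1659, false, [1, 2, 6, 2, 4]⟩] [⟨[23, 24, 23], 1384, false, [1, 6, 4, 5, 6, 10, 5, 6, 2]⟩]),
  (⟨false, 5, 7, [66, 47, 48, 33, 29, 31, 16, 16, 10, 20, 16], [60, 44, 53, 33, 31, 33, 2, 17, 17, 20, 22], [62, 55, 43, 28, 35, 31, 16, 18, 16, 24]⟩, .loop 17 2 [45, 45, 31, 27, 41, 16, 4, 16, 22] 2 3 [⟨[], 301, true, [2, 6, 2, 6, 5, 6, 5, 10, 5, 6]⟩] [⟨[24], 498, false, [0, 1, 5, 10]⟩, ⟨[23, 24, 23], 1571, true, [6, 4, 5, 3, 6, 5, 6, 5]⟩]),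
  (⟨false, 7, 2, [63, 44, 42, 46, 30, 27, 36, 16], [47, 42, 41, 37, 16, 10, 18], [61, 44, 55, 50, 38, 17, 23, 23, 13]⟩, .loop 31 7 [60, 50, 44, 38, 28, 31, 16, 25, 22, 6] 2 3 [⟨[1583], 1695, false, [0, 3, 6, 2, 4, 5, 6, 4, 6, 10, 5]⟩] [⟨[1587, 1549, 1549], 1627, true, [2, 3, 6, 5, 3, 6, 2, 6, 4]⟩, ⟨[23], 864, false, [5, 3, 6, 5, 6, 2, 4, 5, 10]⟩]),
  (⟨false, 7, 2, [59, 47, 54, 33, 36, 30, 16, 24, 16, 19], [61, 46, 51, 38, 28, 31, 2, 16, 16, 16, 4], [60, 49, 47, 28, 40, 30, 16, 16, 22, 11]⟩, .loop 35 2 [58, 44, 43, 51, 34, 27, 16, 10, 18, 23] 4 5 [⟨[], 1152, false, [4, 10, 5, 3, 6, 4, 6]⟩, ⟨[23], 1574, true, [3, 6, 1, 5, 6, 4, 6, 2, 10, 5]⟩] [⟨[23], 1378, true, [0, 6, 4, 10, 5, 6, 4, 5, 3, 6]⟩]),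
  (⟨false, 7, 7, [61, 45, 54, 34, 28, 40, 2, 17, 17, 17, 10], [66, 45, 42, 33, 30, 36, 16, 18, 18, 6], [60, 49, 42, 34, 28, 37, 2, 17, 17, 10, 21]⟩, .loop 71 2 [63, 54, 43, 33, 40, 38, 16, 18, 16] 2 3 [⟨[24], 1635, true, [2, 3, 6, 5, 6, 2, 6, 5, 3, 5]⟩] [⟨[23, 24], 1277, true, [3, 4, 5, 6, 10, 5, 3, 6]⟩, ⟨[66, 66, 37, 66, 37], 1578, true, [6, 5, 3, 5, 6, 4, 5, 6, 4]⟩]),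
  (⟨false, 5, 7, [60, 45, 57, 31, 35, 27, 16, 16, 22, 11], [67, 44, 55, 31, 33, 2, 17, 17, 13, 17], [66, 44, 42, 45, 28, 34, 31, 32, 16, 16, 16, 18, 24]⟩, .loop 34 2 [61, 54, 47, 30, 30, 16, 16, 19, 11] 4 5 [⟨[23], 740, true, [1, 2, 6, 10, 5, 6, 5, 3, 5, 6]⟩, ⟨[23], 1036, false, [0, 3, 5, 6, 2, 4, 10, 5, 6]⟩] [⟨[24, 23], 1700, false, [2, 6, 1, 4, 10, 5, 10]⟩]),
  (⟨false, 7, 2, [58, 45, 54, 30, 28, 16, 16, 2, 20], [60, 44, 47, 47, 30, 26, 38, 16, 10, 18, 16], [61, 45, 46, 40, 37, 16, 21, 16, 11]⟩, .loop 57 2 [44, 43, 30, 32, 26, 2, 16, 16, 6, 18] 2 3 [⟨[24, 23], 1663, true, [6, 4, 5, 3, 5, 6, 5, 3, 6]⟩] [⟨[24], 730, false, [3, 5, 3, 6, 2, 5, 6]⟩, ⟨[24], 1285, true, [1, 2, 6, 5, 6, 2, 5, 3, 6]⟩, ⟨[23, 24], 1694, false, [0, 3, 4, 5, 6,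 10, 5, 6, 2]⟩, ⟨[1587, 1587, 1549], 1679, true, [0, 2, 4, 6, 5, 10, 5, 6, 4, 5]⟩, ⟨[24], 730, true, [5, 6, 5, 3, 6, 5, 6, 10, 5, 6, 2]⟩, ⟨[], 1285, false, [1, 2, 6, 2, 5]⟩]),
  (⟨false, 2, 7, [62, 49, 42, 34, 27, 38, 2, 17, 22, 8], [47, 51, 28, 30, 32, 16, 2, 16], [47, 42, 33, 35, 16, 16, 8, 17, 12]⟩, .loop 29 7 [58, 54, 44, 16, 2, 11] 6 7 [⟨[1587, 1587], 1599, true, [0, 10, 5, 3, 6, 2, 4, 5]⟩, ⟨[], 1691, false, [5, 10, 5, 6, 4, 6, 2, 5]⟩, ⟨[1587, 1583, 1587, 1549], 1616, true, [6, 5, 6, 2, 4, 6, 5, 10]⟩] []),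
  (⟨false, 7, 2, [58, 48, 50, 38, 34, 2, 17, 17, 0, 23], [45, 56, 38, 28, 41, 16, 16, 4, 17], [60, 44, 42, 51, 28, 34, 37, 17, 22, 6, 17]⟩, .loop 35 4 [56, 33, 31, 2, 23, 17, 0] 2 3 [⟨[], 1672, true, [2, 3, 4, 6, 5, 6, 5]⟩] [⟨[28, 61, 63, 61], 89, true, [0, 5, 3, 6, 5, 6, 2, 4, 10]⟩, ⟨[23], 889, true, [2, 4, 6, 4, 5, 3, 5, 6, 4, 5]⟩]),
  (⟨false, 2, 7, [59, 44, 42, 54, 41, 2, 17, 22, 6, 23], [58, 46, 46, 30, 34, 27, 2, 17, 17, 2], [58, 44, 46, 48, 31, 36, 28, 17, 23, 17, 2]⟩, .loop 21 2 [62, 51, 28, 31, 29, 16, 16, 10, 21, 17] 2 3 [⟨[23], 1073, true, [1, 10, 5, 6]⟩] [⟨[23], 709, false, [1, 3, 5, 6, 4, 6, 2, 6, 5, 3]⟩, ⟨[], 1567, true, [6, 2, 4, 5, 6, 10, 5, 3, 6]⟩]),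
  (⟨false, 7, 7, [61, 46, 51, 30, 34, 2, 23, 6, 17, 17], [63, 47, 31, 32, 36, 16, 2, 19, 22], [62, 47, 56, 31, 36, 33, 18, 23, 18]⟩, .loop 29 7 [67, 55, 43, 30, 28, 41, 16, 2, 0] 6 7 [⟨[1587, 1587], 1594, false, [0, 3, 4, 6, 4, 6, 4, 6]⟩, ⟨[23, 24, 23], 1006, false, [1, 2, 3, 4, 5, 6, 4, 5, 3]⟩, ⟨[24, 23], 1564, false, [5, 6, 5, 3, 6, 4, 6, 2, 5]⟩] []),
  (⟨false, 7, 2, [67, 50, 50, 34, 37, 34, 16, 4, 23], [62, 44, 48, 28, 34, 31, 16, 4, 16, 19], [58, 50, 50, 34, 36, 17, 22, 6, 16]⟩, .loop 72 2 [67, 46, 48, 38, 32, 2, 17, 17] 4 5 [⟨[23], 203, false, [1, 6, 5, 3, 6, 2, 6, 4]⟩, ⟨[24, 23], 1632, true, [0, 2, 4, 5, 3, 6, 4, 5, 6, 5]⟩] [⟨[23, 24, 23], 1359, false, [1, 6, 2, 6, 4, 6, 5, 6, 10]⟩]),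
  (⟨false, 7, 2, [58, 45, 50, 28, 30, 35, 2, 23, 23, 25, 19], [59, 45, 53, 30, 28, 30, 18, 23, 23, 23], [58, 44, 46, 44, 31, 32, 38, 16, 21, 16, 21]⟩, .loop 29 2 [58, 48, 56, 31, 29, 40, 2, 17, 17, 24, 17] 2 3 [⟨[23], 1536, false, [0, 2, 3, 6, 5, 6, 4, 6, 5, 3]⟩] [⟨[24, 23], 1426, false, [0, 5, 6, 4, 5, 3, 6, 2, 6, 2]⟩, ⟨[], 808, false, [0, 6, 2, 4, 6, 10, 5, 6, 4]⟩]),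
  (⟨false, 7, 7, [61, 55, 28, 26, 30, 16, 16, 4, 13], [59, 47, 51, 28, 26, 37, 17, 23, 23, 8], [60, 50, 46, 33, 34, 41, 2, 17, 23, 10, 16]⟩, .loop 54 2 [66, 44, 42, 33, 35, 29, 16, 4, 16, 16, 12] 2 3 [⟨[23, 24], 1623, true, [6, 2, 4, 6, 5, 6, 5, 10]⟩] [⟨[23, 24, 23], 264, false, [0, 5, 6, 4, 5, 3, 6, 5, 6, 5]⟩, ⟨[23, 24], 1284, false, [0, 5, 3, 6, 2, 5, 6]⟩, ⟨[24], 651, false, [2, 6, 1, 4, 5, 3, 6, 4, 6]⟩, ⟨[24], 1222, true, [4, 6, 4, 6, 5, 3, 6, 2, 5, 6]⟩, ⟨[], 978, true, [2, 4, 5, 6, 2, 6, 4, 5, 10]⟩, ⟨[23], 1658, false, [2, 6, 4, 5, 6, 2, 10]⟩]),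
  (⟨false, 7, 2, [59, 44, 28, 36, 34, 2, 23, 17, 25, 10], [61, 52, 44, 36, 28, 34, 17, 17, 17, 10], [61, 45, 57, 28, 36, 29, 27, 2, 23, 17, 6]⟩, .loop 22 2 [60, 47, 52, 41, 27, 2, 23, 17, 25, 10] 2 3 [⟨[], 1584, true, [0, 3, 4, 6, 4, 5, 6, 2, 10]⟩] [⟨[23], 1439, true, [5, 6, 2, 5, 6, 4, 6, 5]⟩, ⟨[23], 277, false, [1, 3, 4, 5, 6, 4, 5, 6, 4]⟩]),
  (⟨false, 5, 7, [47, 49, 56, 28, 40, 31, 2, 23, 17, 23], [60, 46, 46, 34, 29, 41, 16, 2, 0, 16], [58, 51, 46, 31, 34, 28, 17]⟩, .loop 46 2 [61, 36, 27, 27, 16, 22, 22, 8] 2 3 [⟨[23], 1300, true, [1, 3, 4, 6, 5, 3]⟩] [⟨[23, 24, 23], 1645, false, [2, 3, 4, 5, 6, 2, 6, 5, 3]⟩]),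
  (⟨false, 5, 7, [47, 33, 36, 41, 2, 17, 18, 22, 21], [58, 46, 44, 54, 30, 29, 34, 17, 17, 17, 8], [61, 47, 49, 56, 28, 31, 33, 16, 11, 16, 11]⟩, .loop 19 2 [67, 44, 46, 48, 34, 27, 29, 16, 16, 13, 24] 4 5 [⟨[23, 24], 1054, true, [1, 2, 3, 5, 6, 4, 5, 3, 5, 6]⟩, ⟨[23, 24], 1254, true, [0, 3, 6, 4, 5, 10, 5, 6, 5]⟩] [⟨[24, 23], 1643, false, [6, 2, 6, 4, 5, 6, 2, 4]⟩]),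
  (⟨false, 2, 7, [67, 44, 55, 50, 28, 34, 2, 17, 17, 8, 21], [62, 49, 42, 40, 28, 16, 16, 11, 24], [58, 51, 52, 28, 31, 28, 2, 17, 23, 23, 13]⟩, .loop 67 2 [59, 45, 54, 36, 26, 26, 2, 17, 17, 18, 21] 4 5 [⟨[], 805, false, [1, 3, 6, 5, 6, 4, 6, 10, 5]⟩, ⟨[23, 24, 23], 910, true, [0, 6, 2, 5, 3, 6, 5, 6, 4, 10]⟩] [⟨[23, 24], 1718, true, [0, 2, 4, 6, 5, 6, 2, 5]⟩])]

end CfsgLib.Sporadic.ThPres
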