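import Cfsg.Agent.Lib.Sporadic.ThPres.Check

set_option autoImplicit false
set_option maxRecDepth 20000

/-! Facts among double cosets (generated; owner: helper9). -/

namespace CfsgLib.Sporadic.ThPres
open CfsgLib.Recog.SporBound (Q)

/-- facts 1728 and on -/
def facts54 : List (Fact × Why) := [
  (⟨false, 7, 2, [62, 46, 57, 33, 27, 40, 2, 17, 17, 10, 21], [59, 57, 55, 28, 35, 31, 41, 2, 17, 17, 13, 24], [63, 49, 57, 28, 26, 40, 2, 17, 23, 11, 17]⟩, .loop 18 5 [60, 50, 41, 30, 28, 16, 11, 23] 4 5 [⟨[], 257, false, [1, 10, 5, 6, 4, 6, 2, 5, 3, 6]⟩, ⟨[24], 1648, true, [4, 5, 3, 6, 2, 4, 5, 6, 5]⟩] [⟨[66, 66, 37, 38], 534, false, [6, 4, 6, 2, 6, 5, 6, 5, 10]⟩]),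
  (⟨false, 2, 7, [63, 44, 55, 52, 28, 40, 30, 2, 17, 23, 10, 16], [63, 49, 47, 28, 38, 29, 16, 4, 16, 25], [66, 48, 44, 31, 38, 16, 16, 8, 22, 21]⟩, .loop 30 7 [62, 54, 56, 35, 37, 38, 17, 23, 18, 22] 2 3 [⟨[1549, 1583, 1583], 1544, false, [5, 6, 4, 5, 6, 2, 10, 5, 6]⟩] [⟨[1583, 1583, 1587, 1549, 1549], 1665, true, [0, 4, 5, 6, 5, 3, 5, 6, 5, 6]⟩, ⟨[23], 1597, false, [4, 5, 6, 1, 5, 3, 5, 6, 4]⟩]),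
  (⟨false, 7, 2, [61, 47, 55, 35, 35, 29, 16, 24, 6], [67, 47, 50, 31, 28, 16, 16, 13, 24], [48, 42, 30, 35, 41, 16, 16, 10, 20, 16]⟩, .loop 20 2 [60, 49, 33, 33, 31, 16, 24, 23, 23] 6 7 [⟨[], 1272, true, [0, 4, 5, 6, 4, 6, 4, 5, 6, 2, 10]⟩, ⟨[23, 24], 1017, false, [3, 6, 5, 6, 4, 5, 3, 6, 2]⟩, ⟨[23, 24], 1536, false, [4, 10, 5, 3, 6, 2, 6, 4, 5, 10]⟩] []),
  (⟨false, 7, 2, [63, 49, 49, 33, 38, 16, 16, 13, 16], [58, 54, 33, 35, 16, 2, 24, 6], [54, 44, 40, 37, 2, 17, 22, 22, 16]⟩, .loop 72 2 [66, 44, 56, 31, 36, 17, 22, 6, 22] 6 7 [⟨[24], 1593, true, [0, 5, 6, 10, 5, 3, 6, 2, 6, 4]⟩, ⟨[1549, 1549, 1583, 1583, 1549, 1549], 1659, true, [6, 4, 10, 5, 6, 4, 6, 2, 4]⟩, ⟨[], 1577, true, [1, 3, 6, 2, 5, 6, 4, 6, 5]⟩] []),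
  (⟨false, 7, 2, [58, 35, 29, 35, 19, 6, 17, 22], [67, 55, 46, 31, 33, 36, 2, 17, 17, 25, 20], [63, 46, 56, 33, 35, 41, 16, 11, 18, 23]⟩, .loop 46 2 [63, 46, 49, 34, 33, 34, 16, 16, 16, 11] 4 5 [⟨[], 1190, false, [4, 5, 3, 6, 5, 3, 6, 4, 5, 3]⟩, ⟨[23, 24], 1724, true, [5, 6, 4, 6, 4, 5, 6, 10, 5]⟩] []),
  (⟨false, 2, 7, [61, 47, 47, 28, 36, 40, 36, 16, 16, 22, 6], [63, 45, 43, 36, 40, 35, 2, 17, 23, 21], [59, 44, 43, 57, 2, 23, 17, 25, 12]⟩, .loop 73 7 [62, 45, 56, 50, 30, 40, 30, 2, 23, 13, 23, 18] 4 5 [⟨[1549, 1583, 1583], 1566, true, [1, 5, 3, 5, 6, 5, 6, 2, 4, 6]⟩, ⟨[], 480, false, [1, 10, 5, 6, 2, 6, 5, 10]⟩] [⟨[1549, 1549, 1583, 1583], 1714, true, [0, 3, 5, 6, 2, 10, 5, 6, 4, 6]⟩]),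
  (⟨false, 4, 7, [61, 47, 35, 28, 2, 17, 23, 12, 10], [66, 49, 45, 28, 26, 40, 38, 2, 23, 23, 4, 19], [61, 45, 56, 34, 33, 28, 2, 23, 17, 24, 11]⟩, .loop 31 2 [58, 51, 49, 33, 29, 31, 16, 4, 16, 16, 24] 4 5 [⟨[], 447, true, [1, 3, 6, 5, 6, 4, 5, 6, 10]⟩, ⟨[23, 24], 843, true, [1, 5, 6, 2, 4, 5, 6, 10, 5]⟩] [⟨[23, 24, 23], 1597, false, [2, 6, 2, 6, 5, 6]⟩]),
  (⟨false, 7, 2, [58, 45, 50, 34, 27, 31, 17, 17, 23, 18], [58, 55, 43, 34, 36, 30, 17, 17, 22, 19], [67, 49, 49, 28, 26, 30, 2, 17, 17, 10, 17]⟩, .loop 31 2 [54, 46, 41, 30, 37, 17, 17, 22, 11] 2 3 [⟨[23], 1613, false, [0, 4, 5, 3, 6, 5, 6, 4, 10]⟩] [⟨[24], 979, false, [5, 6, 10, 5, 3, 6]⟩, ⟨[23], 424, true, [4, 6, 1, 5, 6, 2, 4, 10, 5, 6]⟩]),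
  (⟨false, 2, 7, [61, 44, 42, 46, 31, 26, 30, 16, 4, 16, 2, 11], [45, 56, 50, 30, 26, 40, 16, 18, 16, 19], [59, 51, 46, 31, 35, 29, 2, 23, 11]⟩, .loop 55 2 [63, 44, 46, 48, 31, 28, 32, 2, 17, 23, 17, 25] 6 7 [⟨[], 1272, false, [6, 1, 4, 6, 2, 4, 5]⟩, ⟨[23, 24], 651, true, [1, 3, 4, 6, 5, 3, 6, 4]⟩, ⟨[24], 264, true, [1, 2, 4, 5, 6, 4, 6, 4]⟩] [⟨[23], 1729, false, [1, 2, 6, 2, 5, 6, 5, 6, 4, 10, 5]⟩, ⟨[1587, 1583, 1587], 1658, true, [2, 6, 1, 4, 6, 4, 10, 5, 3]⟩, ⟨[24], 1222, true, [4, 6, 4, 6, 4, 5, 10, 5]⟩, ⟨[], 1623, true, [4, 5, 6, 2, 6, 2, 4, 5, 6]⟩]),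
  (⟨false, 2, 7, [67, 44, 57, 55, 33, 34, 40, 17, 22, 6], [67, 45, 50, 42, 30, 30, 38, 16, 16, 22, 17], [60, 46, 43, 33, 27, 27, 2, 17, 0]⟩, .loop 68 7 [61, 49, 51, 35, 28, 28, 2, 17, 23, 23] 6 7 [⟨[], 1661, true, [5, 6, 1, 4, 5, 3, 6, 5, 6]⟩, ⟨[23], 1626, false, [4, 10, 5, 6, 5, 10, 5, 6]⟩, ⟨[1549, 1549, 1583, 1583, 1549, 1549], 1618, false, [1, 3, 5, 6, 4, 5, 6, 4, 10, 5, 3]⟩] []),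
  (⟨false, 2, 7, [62, 51, 47, 31, 28, 40, 16, 4, 16, 10], [62, 45, 43, 45, 38, 36, 2, 17, 23, 18, 18], [60, 51, 53, 30, 27, 30, 16, 10, 17, 17]⟩, .loop 69 2 [62, 51, 57, 30, 38, 37, 17, 23, 4] 4 5 [⟨[], 1611, true, [6, 4, 6, 5, 6, 4, 5, 3, 6]⟩, ⟨[1587, 1583, 1583, 1587, 1549, 1549], 1731, false, [0, 2, 6, 5, 3, 6, 5, 6, 2, 10, 5]⟩] [⟨[23], 1547, false, [6, 10, 5, 6, 4, 5, 6]⟩]),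
  (⟨false, 2, 7, [58, 44, 55, 30, 40, 34, 17, 17, 22, 21], [63, 46, 48, 54, 38, 30, 26, 16, 16, 20, 18], [67, 47, 53, 28, 41, 34, 16, 18, 16, 25]⟩, .loop 34 2 [60, 47, 53, 30, 37, 2, 23, 10, 23, 4] 2 3 [⟨[24, 23], 1347, false, [0, 3, 6, 4, 6, 4, 6, 2]⟩] [⟨[24], 1029, false, [1, 6, 10, 5, 6, 4, 10, 5, 3]⟩, ⟨[23], 1571, true, [0, 2, 6, 4, 5, 3, 6, 5, 10]⟩]),
  (⟨false, 2, 7, [62, 45, 42, 47, 35, 35, 2, 23, 10, 23, 18], [66, 44, 46, 48, 30, 26, 38, 2, 17, 17, 18, 10], [59, 50, 45, 35, 28, 31, 2, 23, 17, 8]⟩, .loop 60 2 [62, 47, 47, 41, 31, 16, 21, 16, 21] 4 5 [⟨[24], 802, false, [4, 5, 3, 6, 5, 6, 4, 5, 6, 5]⟩, ⟨[], 264, false, [3, 5, 6, 10, 5, 3, 6, 5]⟩] [⟨[23, 24], 1272, false, [3, 5, 3, 6, 5, 6, 4, 10, 5]⟩, ⟨[23, 24], 1658, false,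 [0, 2, 3, 6, 4, 6, 4, 6]⟩, ⟨[1587], 1683, true, [10, 5, 6, 5, 10]⟩, ⟨[23, 24, 23], 1222, true, [1, 5, 3, 6, 5, 3, 6, 2]⟩, ⟨[23], 1736, false, [2, 5, 6, 2, 10, 5, 6, 5, 6]⟩]),
  (⟨false, 7, 5, [58, 46, 44, 30, 30, 40, 16, 16, 19, 10], [61, 46, 51, 31, 27, 35, 2, 16, 16, 6, 18], [59, 48, 52, 41, 34, 30, 2, 16, 16]⟩, .loop 32 2 [45, 42, 49, 36, 40, 37, 2, 17, 17, 6, 10] 4 5 [⟨[24], 523, false, [0, 2, 4, 5, 6, 10, 5, 6, 10]⟩, ⟨[24, 23], 1567, true, [2, 3, 5, 6, 2, 4, 5, 3, 6, 2]⟩] [⟨[24], 817, true, [0, 2, 4, 5, 6, 5, 3, 6, 5, 6]⟩]),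
  (⟨false, 2, 7, [66, 44, 43, 57, 30, 37, 2, 16, 16, 22], [67, 44, 42, 57, 31, 29, 40, 2, 23, 8], [59, 45, 46, 28, 30, 30, 17, 23]⟩, .loop 71 2 [63, 51, 28, 41, 29, 2, 23, 17, 19, 6] 4 5 [⟨[], 840, true, [0, 3, 6, 2, 4, 5, 6, 5, 6]⟩, ⟨[], 246, true, [10, 5, 3, 6, 5, 6, 4, 5, 6, 5]⟩] [⟨[], 1623, true, [5, 6, 2, 4, 5, 6, 2, 6, 4, 10]⟩]),
  (⟨false, 4, 7, [46, 49, 36, 27, 35, 2, 17, 23, 11, 11], [62, 45, 43, 30, 41, 26, 2, 17, 18, 22, 21], [66, 55, 49, 33, 41, 2, 17, 22, 4]⟩, .loop 20 2 [60, 49, 51, 28, 30, 27, 31, 16, 16, 11, 18, 23] 2 3 [⟨[], 149, true, [1, 2, 3, 6, 4, 5, 10, 5, 6, 5, 10]⟩] [⟨[], 1658, false, [1, 2, 5, 10]⟩, ⟨[1549, 1583, 1587], 1673, false, [1, 2, 4, 6, 4, 5, 3, 6, 5, 10]⟩]),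
  (⟨false, 2, 7, [60, 47, 47, 52, 31, 16, 4, 16, 16, 13], [50, 44, 30, 26, 32, 2, 16, 6, 22, 6], [62, 44, 42, 28, 31, 40, 17, 23, 16, 11]⟩, .loop 69 5 [58, 44, 42, 35, 36, 30, 16, 11, 16, 18] 2 3 [⟨[37, 38], 1263, false, [3, 6, 2, 5, 6, 5, 3, 6, 5]⟩] [⟨[37, 66, 37], 298, false, [3, 4, 6, 2, 6, 4, 6, 5, 10]⟩, ⟨[24, 23], 1550, true, [2, 5, 6, 4, 6, 2, 10, 5, 6, 2]⟩]),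
  (⟨false, 7, 2, [63, 50, 47, 31, 28, 40, 2, 17, 17, 24], [45, 42, 49, 30, 38, 28, 16, 4, 23], [51, 52, 33, 38, 2, 17, 17, 2, 22]⟩, .loop 73 2 [62, 44, 51, 35, 29, 16, 16, 16, 4, 13] 4 5 [⟨[], 1327, true, [0, 2, 5, 3, 6, 4, 5, 6, 4, 10]⟩, ⟨[23, 24, 23], 1737, false, [0, 5, 6, 2, 5, 10]⟩] [⟨[23, 24], 249, false, [6, 2, 4, 6, 10, 5, 6, 2, 6, 4]⟩]),
  (⟨false, 7, 7, [61, 47, 51, 28, 34, 30, 29, 16, 11, 19], [47, 44, 51, 41, 30, 2, 23, 10, 17, 19], [62, 44, 51, 46, 36, 32, 37, 2, 17, 22, 16, 10]⟩, .loop 54 2 [67, 46, 44, 31, 26, 40, 2, 23, 17, 25, 10] 4 5 [⟨[24], 1155, false, [3, 6, 1, 4, 5, 6, 2, 10]⟩, ⟨[24, 23], 1739, false, [0, 3, 6, 4, 6, 5, 6, 10, 5, 10]⟩] [⟨[23], 1166, true, [0, 4, 5, 6, 2, 6, 5]⟩, ⟨[], 1503, false, [5, 6, 1,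 10, 5, 6, 2, 4, 10]⟩, ⟨[], 1166, true, [1, 4, 5, 3, 6, 2, 6]⟩, ⟨[], 1482, true, [0, 2, 4, 6, 10, 5, 6, 2, 5, 3]⟩, ⟨[24], 1554, false, [2, 4, 6, 1, 4, 5, 6, 2]⟩]),
  (⟨false, 7, 5, [61, 50, 42, 30, 30, 36, 16, 21, 16, 19], [59, 45, 54, 45, 36, 17, 23, 18, 23], [60, 48, 42, 33, 41, 30, 16, 21, 16, 8]⟩, .loop 67 5 [60, 44, 49, 38, 37, 2, 16, 16, 22, 24] 6 7 [⟨[], 1254, false, [1, 5, 6, 4, 5, 3, 6, 2]⟩, ⟨[24, 23], 1402, true, [2, 4, 6, 4, 6, 4, 5, 6, 10, 5]⟩, ⟨[24, 23], 1595, true, [4, 10, 5, 6, 2, 4, 10, 5]⟩] []),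
  (⟨false, 2, 7, [66, 51, 52, 30, 38, 29, 16, 16, 2, 25], [66, 44, 42, 47, 30, 38, 40, 16, 16, 22, 6], [62, 44, 42, 48, 38, 34, 16, 16, 20, 11]⟩, .loop 23 7 [62, 45, 42, 47, 31, 37, 2, 17, 17, 19, 10] 6 7 [⟨[1583], 1680, true, [6, 1, 2, 6, 5, 10, 5, 6, 2, 6]⟩, ⟨[24, 23], 1519, false, [3, 4, 6, 2, 4, 5, 6]⟩, ⟨[24, 23], 835, false, [0, 6, 10, 5, 6, 10, 5, 6, 2, 6]⟩] []),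
  (⟨false, 7, 2, [62, 47, 55, 33, 41, 29, 16, 4, 16, 16, 10], [49, 53, 36, 31, 26, 2, 17, 17, 24, 17], [67, 45, 46, 30, 28, 35, 16, 2, 0, 16]⟩, .loop 45 5 [60, 44, 53, 28, 41, 33, 16, 24, 17, 22] 2 3 [⟨[38, 37], 1715, false, [2, 6, 5, 3, 5, 6, 4, 5, 3]⟩] [⟨[66, 66, 38, 37, 66], 1434, true, [0, 2, 6, 4, 5, 3, 5, 6, 5, 3, 5]⟩]),
  (⟨false, 2, 7, [67, 47, 51, 33, 38, 16, 16, 4, 6], [59, 49, 34, 31, 41, 16, 18], [60, 44, 47, 30, 27, 38, 16, 16, 10, 8]⟩, .loop 47 7 [67, 45, 53, 30, 41, 29, 2, 23, 4] 4 5 [⟨[], 1668, false, [1, 4, 6, 2, 6, 4, 10]⟩, ⟨[24, 23], 346, true, [1, 2, 3, 6, 5, 3, 6, 2, 5]⟩] []),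
  (⟨false, 7, 7, [62, 44, 46, 44, 34, 31, 35, 17, 22, 21, 6], [62, 45, 48, 28, 34, 28, 16, 16, 8, 22, 21], [58, 50, 55, 30, 28, 33, 16, 4, 16, 16, 24]⟩, .loop 45 7 [58, 51, 51, 33, 27, 31, 16, 4, 16, 22, 22] 4 5 [⟨[1587, 1587], 1743, true, [2, 6, 5, 3, 5, 6, 5, 6, 2, 10]⟩, ⟨[61, 61, 63], 1743, false, [0, 5, 6, 2, 4, 5, 3, 6, 2]⟩] []),
  (⟨false, 2, 7, [49, 42, 31, 36, 41, 2, 17, 17, 6, 10], [67, 45, 54, 56, 31, 29, 35, 2, 23, 23, 17, 12], [61, 44, 46, 44, 34, 27, 28, 16, 16, 21, 24]⟩, .loop 23 2 [59, 44, 47, 44, 35, 29, 31, 2, 17, 17, 11, 22] 4 5 [⟨[24, 23], 520, true, [1, 4, 6, 4, 10, 5, 6, 2, 6, 10]⟩, ⟨[24, 23], 1066, true, [0, 2, 5, 6, 4, 5, 6, 4, 10, 5]⟩] [⟨[23], 1603, false, [5, 3, 6, 2, 6, 4, 5, 6, 4, 10]⟩]),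
  (⟨false, 7, 7, [59, 46, 48, 35, 29, 35, 2, 17, 17, 18, 21], [66, 52, 55, 36, 29, 2, 23, 17, 6, 24], [54, 46, 28, 36, 40, 16, 16, 16, 8]⟩, .loop 54 4 [60, 45, 43, 30, 35, 37, 2, 17, 18, 22, 24] 2 3 [⟨[61, 29], 1743, false, [0, 6, 4, 5, 3, 5, 6, 5, 6, 2, 6]⟩] [⟨[61, 61, 53, 29], 1743, false, [6, 5, 3, 6, 5, 6, 4, 6, 2, 10]⟩, ⟨[1549], 1689, false, [1, 6, 2, 10, 5, 6, 5, 3]⟩, ⟨[61, 61], 1689, true, [0, 2, 3]⟩, ⟨[1587, 1587], 1641, false, [5, 6, 4, 5, 6]⟩, ⟨[1587, 1583, 1549], 1751, true, [0, 2, 6, 4, 6, 4, 5, 3, 6, 2, 6]⟩, ⟨[1549, 1549, 1583], 1751, true, [10, 5, 3, 6, 5, 3, 6, 2]⟩]),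
  (⟨false, 7, 7, [62, 51, 47, 36, 30, 33, 16, 16, 19, 21], [61, 44, 42, 47, 30, 27, 27, 16, 16, 24, 6], [44, 46, 30, 37, 27, 2, 17, 17, 19, 10]⟩, .loop 50 2 [60, 54, 47, 28, 36, 29, 27, 2, 17, 17, 0, 13] 2 3 [⟨[], 1732, true, [4, 6, 4, 6, 4, 5, 6, 10]⟩] [⟨[24], 826, true, [3, 6, 4, 5, 6, 10, 5, 3, 6, 4]⟩, ⟨[], 1190, false, [1, 6, 2, 6, 5, 3, 5, 6, 2, 6]⟩, ⟨[23], 1395, true, [2, 5, 6, 1, 2, 4, 5, 6, 2, 10]⟩, ⟨[], 1190, false, [2, 5, 3, 6, 1, 5, 3, 6, 2]⟩, ⟨[23, 24, 23], 1066, false, [1, 2, 5, 6, 2, 5, 3]⟩, ⟨[24], 1614, false, [2, 4, 6, 1, 10, 5, 6, 4, 10]⟩]),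
  (⟨false, 2, 7, [67, 46, 49, 30, 29, 40, 2, 23, 25, 19, 17], [60, 48, 44, 33, 41, 26, 2, 23, 10, 17], [67, 51, 46, 28, 34, 28, 2, 23, 23, 4, 19]⟩, .loop 66 7 [60, 46, 49, 28, 38, 29, 16, 16, 22, 11] 6 7 [⟨[1549, 1583, 1587], 1741, false, [2, 3, 6, 5, 3, 6, 2, 4, 6, 5]⟩, ⟨[37, 66, 37, 37], 313, false, [0, 6, 2, 6, 5, 3, 6, 5, 10]⟩, ⟨[23, 24, 23], 263, false, [0, 6, 4, 6, 2, 6, 5, 3, 5]⟩] []),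
  (⟨false, 7, 2, [61, 51, 55, 31, 29, 35, 2, 17, 23, 17, 24], [67, 44, 46, 57, 35, 28, 28, 16, 16, 13, 19], [66, 48, 53, 33, 34, 31, 16, 16, 22]⟩, .loop 33 2 [61, 51, 51, 28, 31, 33, 16, 11, 16, 10] 4 5 [⟨[], 1012, true, [0, 4, 5, 6, 2, 6, 2]⟩, ⟨[23, 24], 1631, false, [3, 5, 6, 2, 4, 6, 5, 6, 2, 10]⟩] [⟨[23], 1119, false, [0, 5, 3, 6, 2, 6, 4, 5, 6]⟩]),
  (⟨false, 7, 7, [63, 51, 47, 31, 36, 41, 16, 19, 6, 10], [61, 48, 50, 33, 34, 26, 16, 2, 24], [61, 44, 56, 33, 35, 32, 2, 23, 19]⟩, .loop 73 7 [59, 45, 50, 34, 31, 31, 2, 17, 19, 25] 6 7 [⟨[1587, 1587, 1583], 1619, true, [1, 4, 10, 5, 3, 6, 4, 6, 2, 4]⟩, ⟨[23, 24], 651, true, [0, 4, 6, 2, 4, 5, 6, 2, 5]⟩, ⟨[23, 24, 23], 1716, true, [10, 5, 6, 4, 6, 2, 4, 5, 3]⟩] []),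
  (⟨false, 7, 7, [60, 54, 56, 28, 36, 34, 16, 4, 16, 18, 11], [66, 50, 50, 35, 40, 2, 23, 19, 6], [58, 49, 44, 31, 34, 27, 2, 17, 17, 18, 21]⟩, .loop 19 2 [66, 46, 44, 54, 41, 33, 16, 16, 4, 11] 4 5 [⟨[23], 1285, false, [6, 5, 3, 6, 5, 6, 10, 5, 6, 10]⟩, ⟨[24], 1739, false, [3, 4, 6, 4, 5, 6, 10]⟩] [⟨[23, 24, 23], 1557, false, [1, 2, 4, 6, 5, 6, 2, 6, 10, 5]⟩]),
  (⟨false, 2, 7, [61, 49, 42, 28, 34, 2, 17, 17, 10, 22], [62, 47, 51, 34, 33, 16, 11, 11], [44, 48, 36, 27, 27, 16, 25, 22, 6]⟩, .loop 31 2 [61, 46, 48, 54, 30, 27, 16, 21, 16, 8] 2 3 [⟨[], 486, false, [0, 4, 10, 5, 6, 4, 6, 2]⟩] [⟨[23], 652, true, [0, 6, 4, 6, 4, 6, 5, 10]⟩, ⟨[], 1682, false, [0, 4, 5, 6, 4, 5, 3, 5, 6, 4, 5]⟩])]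

/-- facts 1760 and on -/
def facts55 : List (Fact × Why) := [
  (⟨false, 2, 7, [44, 55, 50, 28, 35, 27, 2, 23, 17, 6], [66, 44, 42, 51, 28, 34, 41, 2, 23, 23, 17, 2], [46, 42, 51, 31, 35, 26, 2, 17, 17, 6, 13]⟩, .loop 28 2 [58, 46, 51, 30, 38, 31, 17, 17, 22, 11] 4 5 [⟨[23, 24], 831, false, [1, 2, 4, 10, 5, 6, 5, 10, 5]⟩, ⟨[23, 24], 827, true, [2, 3, 4, 6, 1, 2, 5, 6, 4, 6]⟩] [⟨[], 1665, false, [1, 6, 2, 6, 4, 5, 10, 5]⟩]),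
  (⟨false, 5, 7, [67, 46, 48, 54, 31, 27, 35, 17, 23, 18, 17], [60, 44, 56, 46, 31, 35, 26, 2, 17, 19], [62, 51, 49, 28, 40, 26, 16, 16, 18, 23]⟩, .loop 45 2 [60, 47, 49, 56, 35, 31, 29, 2, 17, 25] 2 3 [⟨[], 769, true, [0, 10, 5, 6, 4, 10]⟩] [⟨[23, 24, 23], 1756, true, [2, 5, 6, 4, 6, 10, 5, 3]⟩]),
  (⟨false, 5, 7, [62, 51, 28, 31, 26, 16, 22], [67, 45, 46, 41, 36, 16, 16, 2, 11, 12], [63, 46, 44, 54, 30, 37, 30, 16, 16, 22, 17]⟩, .loop 18 7 [58, 44, 55, 28, 41, 16, 21, 17, 17] 6 7 [⟨[1587, 1587], 1751, true, [4, 6, 2, 10, 5, 6, 4, 5, 6]⟩, ⟨[1587, 1583, 1549, 1549], 1588, false, [1, 6, 4, 5, 6, 2, 6, 4, 10]⟩, ⟨[24, 23], 129, false, [2, 4, 6, 5, 10, 5, 6]⟩] []),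
  (⟨false, 7, 7, [59, 48, 45, 28, 38, 29, 16, 16, 4, 20], [61, 48, 55, 28, 36, 33, 2, 17, 23, 17, 25], [62, 45, 50, 30, 35, 41, 2, 16, 6, 23, 20]⟩, .loop 62 4 [51, 36, 40, 26, 17, 17, 23, 10] 2 3 [⟨[53, 28], 1743, false, [3, 4, 6, 4, 5, 6, 4, 5, 3, 6, 5]⟩] [⟨[63, 61], 1689, true, [1, 6, 4, 6, 2, 4, 5, 3, 6]⟩, ⟨[1549, 1583], 1751, true, [0, 2, 4, 6, 4, 6, 4, 5, 10]⟩, ⟨[1587, 1587, 1549], 1641, false, [2, 6, 4, 5, 3, 6, 2, 5, 6, 2]⟩, ⟨[1583, 1583], 1751, false, [1, 4, 6, 10, 5, 6, 4, 6, 10]⟩, ⟨[1587, 1587, 1549], 1689, false, [1, 10, 5, 6, 2, 4, 5, 6]⟩, ⟨[61, 61, 53, 29], 1743, false, [1, 3, 6, 5, 3, 6, 4, 6, 2]⟩]),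
  (⟨false, 7, 7, [61, 48, 50, 34, 26, 2, 23, 23, 12], [67, 45, 52, 28, 34, 34, 2, 17, 0, 17, 25], [63, 48, 44, 28, 40, 18, 23, 17, 22]⟩, .loop 73 2 [67, 45, 53, 36, 40, 26, 16, 18, 18] 4 5 [⟨[], 115, false, [0, 2, 4, 10, 5, 6, 4, 5, 6, 4]⟩, ⟨[], 1686, true, [0, 2, 6, 4, 5, 6, 2, 6, 5, 3]⟩] [⟨[23, 24], 1752, false, [3, 6, 2, 6, 2, 5, 6, 4]⟩]),
  (⟨false, 2, 8, [63, 46, 42, 51, 30, 37, 35, 2], [], []⟩, .defn),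
  (⟨false, 8, 2, [63, 45, 42, 51, 40, 37], [63, 47, 56, 31, 37, 16, 16, 8, 22], [66, 48, 57, 34, 36, 31, 16, 16, 4, 23]⟩, .loop 70 2 [60, 44, 57, 49, 31, 38, 16, 25, 22, 6] 2 3 [⟨[], 1765, false, [3, 6, 2, 5, 6, 5, 10]⟩] [⟨[23], 483, false, [4, 6, 5, 6, 4, 10, 5, 3]⟩, ⟨[], 609, true, [1, 5, 3, 6, 5, 6, 10, 5, 6]⟩]),
  (⟨false, 5, 8, [44, 42, 57, 30, 26, 36, 16, 21, 16], [63, 48, 45, 30, 38, 26, 17], [63, 45, 42, 49, 34, 31, 35, 2, 16, 16, 22]⟩, .loop 50 7 [59, 49, 57, 38, 30, 16, 24, 16, 19] 2 3 [⟨[], 1741, false, [2, 6, 5, 6, 2, 4, 5, 3, 6]⟩] [⟨[1549, 1549, 1583, 1583, 1549], 1733, true, [4, 6, 10, 5, 3, 6, 2, 5]⟩, ⟨[24, 23], 1178, true, [2, 6, 2, 4, 10, 5, 6, 2, 6, 4]⟩, ⟨[23], 1661, false, [4, 6, 1, 4, 10, 5, 6, 2, 6, 10]⟩, ⟨[1587,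 1583, 1549], 1755, true, [0, 3, 4, 6, 2, 6, 2, 5, 6, 10]⟩, ⟨[23, 24], 1007, false, [0, 4, 5, 6, 10, 5, 6, 4, 5]⟩, ⟨[23, 24, 23], 1765, false, [0, 4, 6, 5, 6, 2, 10]⟩]),
  (⟨false, 2, 8, [58, 44, 49, 28, 35, 26, 16, 2, 19], [58, 44, 51, 46, 41, 27, 34], [50, 31, 34, 33, 16, 2, 19, 6]⟩, .loop 65 5 [66, 46, 43, 33, 40, 38, 2, 17, 17, 17, 2] 12 13 [⟨[38, 37], 769, false, [1, 2, 3, 4, 5, 6, 5, 3, 5]⟩, ⟨[23, 24, 23], 1756, true, [3, 6, 5, 6, 2, 5, 6, 10]⟩, ⟨[1583, 1583, 1587], 1755, true, [0, 2, 6, 4, 5, 3, 6, 5, 3]⟩, ⟨[23, 24, 23], 1738, false, [2, 6, 2, 6, 5, 6, 4, 10]⟩, ⟨[], 1700, true, [0, 3, 6, 2, 6, 5, 6, 2, 10, 5]⟩, ⟨[], 227, true, [0, 4, 5, 6, 10, 5, 6, 2, 10, 5]⟩] [⟨[66, 66, 38], 1767, false, [0, 6, 10, 5, 6, 4]⟩]),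
  (⟨false, 8, 2, [62, 45, 53, 48, 28, 38, 36, 16, 25], [67, 45, 53, 28, 41, 28, 2, 17, 23, 12, 10], [67, 48, 47, 28, 35, 2, 17, 17, 0, 13]⟩, .loop 67 2 [44, 42, 51, 33, 41, 28, 16, 16, 10, 18] 6 7 [⟨[23, 24], 332, true, [5, 3, 6, 4, 5, 6, 10, 5, 6]⟩, ⟨[24], 250, false, [10, 5, 6, 2, 4, 5, 6]⟩, ⟨[66, 66, 37, 37], 1767, false, [4, 10, 5, 6, 1, 4, 5, 6, 10]⟩] []),
  (⟨false, 2, 8, [60, 47, 49, 30, 40, 26, 2, 23, 17, 6, 24], [58, 54, 31, 36, 34, 17], [44, 42, 51, 30, 29, 16, 21, 16, 22]⟩, .loop 60 2 [44, 57, 36, 28, 34, 2, 17, 22, 22, 16] 12 13 [⟨[], 1626, false, [4, 6, 1, 5, 6, 10, 5, 6, 2]⟩, ⟨[1587, 1587, 1583, 1583, 1549, 1549], 1695, true, [10, 5, 6, 1, 5, 10, 5]⟩, ⟨[1587, 1583, 1583, 1549], 1756, false, [2, 4, 6, 1, 4, 5, 6, 10]⟩,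 ⟨[], 1140, true, [0, 5, 6, 2, 6, 4, 5, 3, 5, 6]⟩, ⟨[], 882, false, [0, 6, 4, 6, 2, 4]⟩, ⟨[66], 1425, false, [10, 5, 6, 2, 6, 10, 5]⟩] [⟨[], 1768, false, [4, 5, 6, 1, 2, 6, 5, 10, 5]⟩]),
  (⟨false, 8, 2, [62, 52, 50, 30, 34, 31, 18, 23], [59, 55, 42, 28, 40, 28, 17, 22, 6, 22], [66, 46, 44, 54, 28, 35, 27, 2, 17, 17, 10, 25]⟩, .loop 56 2 [60, 44, 42, 54, 38, 37, 16, 10, 16, 10] 12 13 [⟨[24], 711, false, [0, 2, 5, 6, 4, 5]⟩, ⟨[], 534, false, [2, 6, 4, 10, 5, 6, 5, 6]⟩, ⟨[23], 1239, true, [1, 6, 2, 10, 5, 6, 4, 5, 3, 6]⟩, ⟨[24, 23], 1251, true, [0, 2, 3, 6, 4, 5, 6, 4, 10]⟩, ⟨[23, 24, 23], 1255, false, [3, 5, 6, 1, 4, 6, 2, 10, 5, 6]⟩, ⟨[23], 1769, true, [5, 3, 5, 6, 2, 6, 5, 6]⟩] [⟨[24, 23], 1059, true, [3, 6, 1, 4, 5, 10, 5, 6, 4]⟩]),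
  (⟨false, 5, 8, [67, 54, 43, 34, 40, 29, 2, 23, 10, 23, 6], [63, 44, 47, 44, 36, 35, 27, 17], [60, 44, 42, 34, 26, 31, 2, 23, 17, 2]⟩, .loop 33 8 [54, 47, 38, 30] 6 7 [⟨[], 1765, true, [0, 6, 10, 5, 3, 6, 2, 6, 5, 10]⟩, ⟨[], 1415, true, [1, 4, 6, 10, 5, 3, 6, 5, 10]⟩, ⟨[23, 24, 23], 1191, false, [5, 3, 6, 2, 4, 5, 6, 5]⟩] []),
  (⟨false, 2, 8, [61, 49, 44, 33, 27, 40, 2, 23, 13, 23], [59, 44, 48, 52, 35, 35, 29], [59, 50, 50, 40, 28, 40, 16, 16, 2, 10, 21]⟩, .loop 49 8 [60, 51, 53, 28, 31, 26] 4 5 [⟨[], 1772, true, [10, 5, 6, 1, 2, 5, 3, 6, 4, 6]⟩, ⟨[38, 66, 66, 38], 809, false, [6, 4, 5, 3, 6, 2, 6, 5, 10]⟩] []),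
  (⟨false, 8, 7, [67, 46, 51, 55, 31, 29, 29, 16, 4, 17], [59, 47, 49, 56, 28, 41, 35, 2, 17, 0, 17, 22], [62, 49, 42, 31, 35, 30, 16, 24, 16, 21]⟩, .loop 64 2 [62, 44, 42, 47, 38, 40, 17, 17, 17, 10] 12 13 [⟨[24, 23], 1178, true, [2, 10, 5, 6, 4, 6, 4, 5, 6]⟩, ⟨[24], 1626, false, [0, 4, 5, 10, 5, 6, 5, 3, 6, 4, 5]⟩, ⟨[1549, 1549, 1583, 1583, 1549, 1549], 1700, true, [3, 5, 6, 4, 10, 5, 6, 4, 5]⟩, ⟨[], 1007, true, [6, 10, 5, 3, 6, 2, 6, 4, 5]⟩, ⟨[], 1425, true, [2, 6, 2, 5, 6, 2, 6, 4, 10, 5]⟩, ⟨[66, 37, 66, 66, 38], 1767, false, [1, 4, 6, 2, 4, 5, 6, 5, 3]⟩] [⟨[], 1756, true, [2, 6, 1, 5, 6, 4, 10, 5, 6]⟩]),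
  (⟨false, 8, 5, [60, 46, 33, 27, 40, 17], [61, 54, 35, 28, 31, 2, 23, 8, 17, 17], [63, 45, 43, 31, 35, 27, 2, 17, 23, 23, 8]⟩, .loop 57 2 [66, 44, 46, 48, 34, 26, 16, 16, 25, 17] 8 9 [⟨[23], 561, false, [1, 6, 4, 5, 3, 6, 4, 6, 5]⟩, ⟨[], 967, false, [4, 6, 5, 6, 10, 5, 6]⟩, ⟨[24], 1357, false, [0, 6, 2, 4, 6, 10, 5, 3, 6, 2]⟩, ⟨[23, 24, 23], 1766, true, [5, 3, 6, 1, 2, 5, 6, 4, 5]⟩] [⟨[24, 23], 986, false, [2, 3, 4, 5, 6, 4, 5, 6, 2, 6]⟩, ⟨[23, 24, 23], 948, true, [0, 4, 5, 3, 6, 2, 6, 2, 5, 6]⟩, ⟨[23, 24], 526, false, [4, 5, 6, 1, 5, 3, 5]⟩]),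
  (⟨false, 2, 8, [66, 46, 42, 35, 37, 2, 23, 17, 24, 23], [59, 51, 52, 30, 34, 31, 16, 10, 25], [58, 47, 47, 52, 40, 37, 2, 16, 16, 16, 6]⟩, .loop 51 8 [60, 51, 51, 30, 28, 37, 16, 11, 11] 14 15 [⟨[], 1769, false, [0, 3, 4, 6, 5, 6, 4, 10, 5]⟩, ⟨[24], 801, true, [1, 4, 5, 6, 4, 5, 6, 2, 10]⟩, ⟨[23, 24, 23], 1185, false, [0, 4, 6, 2, 5, 6, 4, 6, 5, 3, 6]⟩, ⟨[37, 66, 38], 711, true, [2, 4, 10, 5, 6, 4, 5, 6, 2, 6]⟩, ⟨[23], 1400, true, [0, 5, 6, 4, 10, 5, 6, 4, 6, 2]⟩, ⟨[23, 24, 23], 1504, false, [6, 1, 2, 4, 6, 10, 5, 3, 6, 2]⟩, ⟨[24], 1167, false, [0, 2, 6, 4, 6, 4, 10, 5, 3]⟩] []),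
  (⟨false, 8, 2, [59, 50, 55, 36, 32, 37], [66, 54, 50, 31, 28, 27, 2, 23, 23, 23, 21], [63, 45, 45, 28, 38, 37, 18, 23]⟩, .loop 65 2 [46, 44, 41, 38, 16, 24, 18] 10 11 [⟨[23], 1356, true, [1, 3, 6, 5, 6, 4, 5, 6, 2, 5]⟩, ⟨[24], 948, false, [6, 2, 4, 6, 5, 3, 6, 5, 10]⟩, ⟨[23], 898, true, [0, 3, 4, 6, 2, 6, 5, 6, 2, 10]⟩, ⟨[24, 23], 1174, false, [1, 2, 6, 10, 5, 6, 4, 6, 2, 10]⟩, ⟨[23, 24], 1766, true, [6, 4, 5, 6, 5, 6, 2, 4]⟩] [⟨[23, 24, 23], 602, true, [3, 5, 6, 10, 5, 6, 4]⟩, ⟨[66, 66, 37, 66, 38], 271, true, [3, 4, 6, 5, 10, 5, 6, 5, 6, 10]⟩]),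
  (⟨false, 8, 5, [48, 42, 33, 35, 16, 10], [60, 44, 43, 53, 31, 33, 31, 2, 23, 23, 8, 17], [66, 50, 55, 30, 41, 26, 16, 11]⟩, .loop 53 5 [63, 48, 57, 34, 26, 30, 16, 16, 2, 4] 14 15 [⟨[66, 66, 37], 711, true, [1, 2, 4, 6, 4, 5, 3]⟩, ⟨[23], 1362, true, [0, 6, 10, 5, 6, 4, 6, 4, 10]⟩, ⟨[23, 24], 801, true, [0, 4, 6, 2, 4, 10, 5, 6, 5, 3]⟩, ⟨[23, 24, 23], 1251, true, [0, 6, 2, 6, 4, 5, 6, 2, 6, 5]⟩, ⟨[24, 23], 1492, false, [1, 2, 4, 6, 4, 5, 3, 6, 4]⟩, ⟨[], 1167, true, [0, 6, 2, 4, 5, 6, 4, 10, 5, 3]⟩, ⟨[24], 1771, true, [1, 2, 6, 2, 6, 5, 6, 5, 10]⟩] []),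
  (⟨false, 8, 2, [59, 48, 52, 33, 29, 35, 16, 25], [59, 46, 46, 33, 38, 18, 23, 17, 6], [60, 45, 49, 31, 33, 30, 2, 16, 16, 6, 18]⟩, .loop 34 2 [67, 46, 48, 28, 31, 34, 2, 17, 17, 17, 13] 4 5 [⟨[23, 24], 240, false, [1, 6, 5, 6, 10, 5, 3, 6, 2, 5]⟩, ⟨[66, 38], 1767, false, [3, 5, 6, 1, 2, 4, 6]⟩] [⟨[23, 24], 1001, false, [6, 1, 2, 4, 5, 6, 2, 10]⟩]),
  (⟨false, 2, 8, [66, 45, 42, 49, 30, 28, 16, 16, 2], [66, 45, 48, 30, 32, 26, 16, 8], [61, 55, 47, 28, 31, 35, 2, 23, 23, 17, 22]⟩, .loop 29 8 [58, 46, 51, 33, 40] 6 7 [⟨[], 1770, true, [0, 5, 6, 4, 10, 5, 3, 6, 4]⟩, ⟨[24], 1478, false, [3, 4, 6, 1, 5, 10, 5, 6, 2]⟩, ⟨[23, 24], 931, true, [3, 5, 6, 2, 6, 5, 3, 5, 6]⟩] []),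
  (⟨false, 3, 8, [60, 51, 55, 28, 41, 35, 17, 23, 17], [58, 49, 53, 36, 26, 26, 16, 8], [62, 46, 49, 28, 30, 34, 19, 6, 23, 23]⟩, .loop 17 2 [63, 44, 42, 34, 31, 31, 16, 16, 11, 25] 2 3 [⟨[], 804, true, [4, 6, 2, 5, 3, 6, 2, 4, 5, 10]⟩] [⟨[24], 585, true, [1, 6, 2, 6, 4, 5, 6, 4, 6, 10]⟩, ⟨[23], 1766, true, [0, 2, 5, 3, 6, 4, 5]⟩]),
  (⟨false, 8, 2, [67, 54, 50, 30, 28, 35, 17], [60, 54, 30, 29, 26, 2, 17, 17, 13, 23], [66, 44, 56, 46, 36, 30, 40, 16, 4, 17]⟩, .loop 51 2 [66, 51, 49, 38, 28, 41, 2, 17, 17, 10, 21] 2 3 [⟨[24], 1766, true, [1, 5, 6, 4, 6, 2, 6]⟩] [⟨[24, 23], 989, true, [0, 4, 6, 5, 10, 5, 6, 2, 6, 4]⟩, ⟨[23], 714, true, [1, 5, 6, 4, 6, 2, 6]⟩, ⟨[24], 948, false, [6, 4, 5, 6, 2, 10, 5, 6, 4]⟩, ⟨[23], 1422, false, [1,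 2, 3, 6, 4, 5, 6, 5, 10, 5]⟩, ⟨[66, 38, 66, 38], 602, false, [2, 5, 3, 6, 2, 5, 6]⟩, ⟨[], 967, true, [4, 10, 5, 6, 4, 5, 6, 4, 5, 3]⟩]),
  (⟨false, 2, 8, [67, 46, 49, 34, 27, 29, 2, 23, 23, 0], [60, 44, 48, 30, 29, 26, 2, 23, 4, 19], [61, 51, 47, 35, 36, 38, 2, 23, 23, 8, 18]⟩, .loop 57 2 [58, 44, 43, 34, 31, 41, 2, 23, 17, 17, 10] 10 11 [⟨[24], 304, false, [1, 3, 4, 6, 2, 5, 6, 10]⟩, ⟨[23, 24, 23], 1185, false, [3, 6, 1, 4, 5, 6, 4, 6, 2]⟩, ⟨[66, 38, 66], 909, false, [6, 2, 6, 5, 3, 6, 2]⟩, ⟨[24, 23], 864, true, [1, 6, 4, 5, 6, 2, 4, 10, 5]⟩, ⟨[24], 1504, true, [1, 4, 6, 4, 5, 6, 4, 10]⟩] [⟨[23, 24, 23], 341, false, [1, 2, 3, 6, 2, 4, 5, 6, 4, 5]⟩, ⟨[], 1776, false, [1, 6, 10, 5, 3, 6, 4, 5, 10]⟩]),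
  (⟨false, 8, 7, [62, 45, 42, 47, 28, 30, 41, 41, 16, 4, 17], [67, 50, 48, 28, 35, 36, 18, 23, 17], [67, 50, 46, 33, 36, 30, 2, 17, 23, 6, 20]⟩, .loop 59 2 [59, 57, 55, 30, 30, 38, 16, 11, 16, 24, 16] 10 11 [⟨[], 1404, false, [0, 3, 6, 5, 6, 4, 6, 2, 6]⟩, ⟨[23, 24, 23], 1178, true, [3, 5, 6, 10, 5, 6, 2, 5]⟩, ⟨[24], 227, false, [6, 4, 6, 5, 3, 6, 4, 5]⟩, ⟨[24, 23], 882, false, [2, 3, 6, 1, 5, 6, 2, 4]⟩, ⟨[38, 66, 38, 37], 1767, false, [6, 10, 5, 6, 5, 3, 5, 6, 2]⟩] [⟨[24], 1755, false, [1, 5, 3, 5, 6, 2, 5, 6, 4, 5]⟩, ⟨[1587, 1549], 1695, false, [6, 10, 5, 6, 10, 5, 10]⟩]),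
  (⟨false, 8, 2, [61, 44, 46, 34, 38, 28, 16, 8, 22, 19], [47, 47, 35, 28, 28, 2, 23, 17, 6, 12], [58, 46, 57, 36, 29, 31, 16, 4, 16, 4]⟩, .loop 57 2 [63, 52, 40, 38, 2, 23, 8, 17, 25] 8 9 [⟨[23], 1494, true, [2, 10, 5, 6, 4, 6, 5, 3]⟩, ⟨[], 854, true, [6, 4, 5, 6, 2, 6, 5, 10]⟩, ⟨[23], 916, false, [2, 4, 10, 5, 6, 5, 10, 5]⟩, ⟨[23], 1780, false, [1, 5, 6, 5, 6, 2, 6, 4, 5]⟩] [⟨[23], 485, false, [0, 2, 4, 6, 2, 5, 3, 6, 2]⟩, ⟨[], 1114, false, [2, 3, 6, 5, 6, 2, 4, 6, 5, 3]⟩, ⟨[23], 1501, true, [1, 6, 5, 6, 2, 4, 5, 6, 5]⟩]),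
  (⟨false, 8, 2, [61, 45, 56, 33, 31, 36, 16, 18, 18, 6], [66, 55, 42, 34, 41, 2, 17, 22, 10], [60, 46, 44, 31, 41, 16, 16, 22, 10]⟩, .loop 16 3 [59, 45, 56, 50, 34, 33, 40, 2, 17, 17, 18, 18] 2 3 [⟨[245], 1781, false, [0, 6, 4, 6, 5, 3, 6]⟩] [⟨[50, 22, 21, 21], 1084, false, [3, 4, 6, 4, 5, 10]⟩, ⟨[24], 510, false, [1, 3, 5, 6, 10, 5, 6, 2, 5, 6]⟩]),
  (⟨false, 3, 8, [63, 47, 54, 35, 31, 26, 2, 23, 17, 0, 23], [62, 44, 47, 52, 38, 28, 16, 10, 17], [60, 44, 46, 36, 40, 26, 2, 17, 0, 23, 13]⟩, .loop 52 2 [67, 48, 53, 30, 26, 35, 16, 16] 4 5 [⟨[], 1501, true, [6, 2, 5, 6, 2, 5, 10]⟩, ⟨[23], 854, false, [3, 4, 6, 4, 6, 5, 10, 5]⟩] [⟨[23], 916, false, [0, 3, 4, 5, 6, 2, 6, 4, 5, 3]⟩, ⟨[23], 1114, false, [0, 3, 4, 5, 3, 6, 2]⟩, ⟨[], 916,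 false, [2, 4, 6, 1, 10, 5, 3]⟩, ⟨[23], 485, true, [3, 6, 4, 5, 6, 2, 6, 4, 5]⟩, ⟨[], 1780, false, [4, 6, 2, 4, 5, 6, 10, 5]⟩]),
  (⟨false, 2, 8, [62, 54, 46, 35, 38, 16, 21, 17, 17], [59, 48, 46, 31, 28, 27, 16, 18, 18, 6], [59, 50, 42, 41, 31, 2, 23, 23, 11]⟩, .loop 34 8 [58, 45, 56, 50, 28, 40, 26, 16, 4, 17] 6 7 [⟨[], 1775, false, [6, 1, 4, 6, 10, 5, 3, 6, 2, 5]⟩, ⟨[66, 38, 66, 37], 1067, false, [5, 3, 6, 5, 3, 6, 5, 6, 10]⟩, ⟨[24], 1383, true, [1, 3, 4, 6, 5, 6, 2, 4, 6]⟩] []),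
  (⟨false, 8, 2, [63, 55, 31, 29, 32, 16, 24, 16], [62, 52, 28, 40, 37, 2, 23, 17, 6, 24], [63, 54, 50, 33, 41, 28, 16, 19]⟩, .loop 19 2 [66, 45, 43, 33, 38, 36, 2, 17, 0, 23] 2 3 [⟨[], 1785, true, [1, 6, 2, 6, 5, 6, 4, 5, 10, 5]⟩] [⟨[24, 23], 633, true, [10, 5, 6, 5, 3, 5, 6, 2, 4, 5]⟩, ⟨[], 495, false, [1, 6, 2, 6, 5, 3, 6, 2, 4, 5]⟩]),
  (⟨false, 8, 2, [58, 52, 44, 31, 35, 29, 2, 23, 23, 8, 24], [66, 45, 54, 56, 28, 41, 29, 16, 19, 22, 16], [66, 46, 38, 37, 17, 22, 21]⟩, .loop 67 2 [61, 51, 31, 36, 41, 2, 17, 18, 22, 6] 4 5 [⟨[23], 393, true, [0, 3, 4, 6, 2, 6, 2, 4]⟩, ⟨[], 1789, true, [5, 6, 5, 3, 5, 6, 5, 3, 6]⟩] [⟨[23, 24], 799, false, [0, 4, 5, 6, 5, 3, 6, 4]⟩]),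
  (⟨false, 8, 2, [62, 45, 50, 45, 28, 35, 28, 16, 8, 22, 6], [66, 45, 54, 31, 38, 16, 16, 8, 22], [67, 45, 28, 34, 33, 2, 17, 19]⟩, .loop 55 2 [63, 47, 49, 56, 30, 29, 35, 16, 11, 16, 22] 2 3 [⟨[], 1790, true, [1, 3, 5, 6, 2, 5, 6, 2, 10]⟩] [⟨[23, 24], 985, true, [1, 2, 5, 3, 6, 5, 10, 5]⟩, ⟨[23, 24, 23], 1124, false, [0, 2, 3, 4, 6, 4, 6, 4, 5, 3]⟩, ⟨[66, 38], 895, true, [1, 6, 2, 6, 2, 10, 5, 6]⟩, ⟨[23], 1737, false, [1, 3, 6, 5, 10, 5, 6, 4, 5, 3]⟩, ⟨[1583, 1583], 1735, false, [0, 6, 10, 5, 3, 6, 2, 6, 4]⟩, ⟨[23, 24, 23], 430, false, [3, 6, 4, 6, 5, 6, 5]⟩])]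

/-- facts 1792 and on -/
def facts56 : List (Fact × Why) := [
  (⟨true, 8, 8, [196], [], [198]⟩, .loop 71 8 [48, 43, 35, 29, 34] 8 8 [⟨[], 1765, true, [5, 6, 4, 10, 5, 6, 2, 6, 4]⟩, ⟨[23, 24, 23], 1081, true, [1, 6, 4, 6, 4, 5, 6, 5, 3]⟩, ⟨[24, 23], 1327, true, [4, 5, 6, 2, 5, 3, 6, 2]⟩, ⟨[23, 24], 1776, false, [2, 5, 6, 5, 3, 6, 5]⟩] []),
  (⟨true, 8, 8, [200], [], [202]⟩, .loop 63 8 [49, 28, 36, 34, 16, 25, 17] 16 16 [⟨[], 1780, true, [1, 4, 5, 3, 6, 2, 5, 6, 2]⟩, ⟨[], 1494, true, [6, 2, 4, 6, 5, 6, 2, 5, 3]⟩, ⟨[50, 21, 50, 21], 1494, false, [0, 2, 4, 6, 2, 6, 4, 5]⟩, ⟨[], 1114, false, [1, 2, 4, 6, 4, 5, 3, 6, 4]⟩, ⟨[], 1501, false, [0, 3, 5, 3, 6, 4, 5, 6, 5]⟩, ⟨[23], 1501, false, [4, 6, 2, 6, 5, 10, 5]⟩, ⟨[23], 1374, false,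 [0, 2, 4, 6, 5, 10, 5]⟩, ⟨[23], 1780, false, [5, 6, 4, 6, 5, 3, 6, 4]⟩] []),
  (⟨false, 8, 2, [45, 43, 45, 30, 35, 41, 17], [66, 51, 43, 31, 28, 36, 2, 23, 8, 17, 6], [59, 44, 43, 38, 33, 17, 17, 23, 16]⟩, .loop 57 2 [61, 47, 56, 28, 31, 34, 2, 23, 17, 17, 6] 4 5 [⟨[24], 901, false, [2, 6, 1, 4, 5, 3, 6, 4, 6]⟩, ⟨[38, 37, 66], 1775, true, [2, 3, 5, 6, 1, 4, 10, 5, 6, 2]⟩] [⟨[24, 23], 989, true, [6, 1, 4, 6, 5, 6, 10, 5, 3, 6]⟩, ⟨[23], 986, false, [1, 2, 4, 6, 4, 5, 6, 4, 6, 2]⟩, ⟨[24], 1390, false, [2, 4, 6, 1, 5, 10, 5, 6, 2]⟩, ⟨[23, 24, 23], 967, true, [1, 6, 4, 6, 5, 6, 4, 10]⟩, ⟨[], 1176, false, [0, 2, 5, 6, 4, 5, 3, 6, 2, 6]⟩]),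
  (⟨false, 2, 8, [60, 44, 47, 52, 34, 26, 34, 17, 23, 23, 21], [62, 45, 42, 49, 41, 41, 16, 21, 17], [63, 51, 43, 30, 2, 17, 0, 17, 19]⟩, .loop 61 2 [58, 46, 57, 28, 40, 31, 16, 16, 2, 11] 12 13 [⟨[24, 23], 909, true, [1, 4, 5, 3, 6]⟩, ⟨[66, 38, 37], 240, true, [1, 6, 4, 5, 6, 5]⟩, ⟨[23, 24, 23], 1504, false, [1, 2, 5, 6, 4, 10, 5, 6, 2, 4]⟩, ⟨[23, 24, 23], 1261, true, [1, 6, 2, 5, 3, 6, 2, 4]⟩, ⟨[23], 1239, false, [2, 3, 4, 5, 6, 4, 6, 5, 6]⟩, ⟨[24], 341, true, [1, 3, 5, 6, 10, 5, 10]⟩] [⟨[24], 1769, true, [4, 5, 6, 1, 4, 6, 10, 5]⟩]),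
  (⟨false, 2, 8, [59, 49, 51, 33, 34, 30, 2, 23, 23, 16, 8], [62, 54, 47, 28, 35, 26, 17], [63, 49, 46, 34, 33, 2, 17, 17, 0, 6]⟩, .loop 60 2 [66, 48, 45, 36, 30, 40, 2, 17, 23, 4, 21] 4 5 [⟨[23], 1356, false, [1, 4, 6, 10, 5, 6, 4, 10, 5, 3]⟩, ⟨[23], 1390, true, [1, 5, 3, 6, 4, 5, 6, 10, 5, 6]⟩] [⟨[24, 23], 526, false, [6, 2, 10, 5, 6, 4, 6]⟩, ⟨[66, 66, 37, 37], 901, true, [6, 2, 4, 5, 6, 5, 3, 6]⟩, ⟨[24, 23], 1174, true, [4, 5, 6, 5, 3, 5, 6, 2, 4, 5]⟩, ⟨[23], 561, true, [0, 2, 6, 10, 5, 3, 6, 4, 5, 3]⟩, ⟨[], 1777, true, [0, 2, 3, 5, 6, 4, 6, 5, 6, 2]⟩]),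
  (⟨false, 8, 2, [66, 44, 42, 33, 41, 28, 16, 8], [60, 46, 56, 33, 29, 30, 2, 17, 17, 22, 22], [63, 46, 51, 55, 33, 31, 36, 2, 23, 23, 17, 12]⟩, .loop 22 2 [44, 43, 35, 30, 36, 2, 23, 23, 17, 2] 4 5 [⟨[], 1450, false, [1, 3, 6, 2, 5, 6, 4, 6, 2]⟩, ⟨[23], 1773, false, [0, 6, 2, 4, 10, 5, 6, 5]⟩] [⟨[], 1341, false, [1, 6, 4, 6, 2, 5, 3, 6, 5, 10]⟩]),
  (⟨false, 5, 8, [62, 49, 45, 30, 29, 2, 23, 23, 18, 6], [58, 46, 44, 54, 31, 28, 37, 16, 18, 16, 11], [60, 50, 44, 31, 28, 41, 2, 23, 23, 18, 23]⟩, .loop 18 8 [62, 54, 46, 34, 27, 16, 21, 16, 20] 6 7 [⟨[1792, 1792], 1768, true, [1, 3, 6, 4, 6, 5, 6, 2, 4]⟩, ⟨[24], 844, true, [2, 4, 5, 6, 5, 3, 6, 5, 6, 10]⟩, ⟨[23, 24, 23], 817, true, [0, 6, 2, 6, 4, 5, 10, 5]⟩] []),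
  (⟨false, 2, 8, [60, 48, 55, 30, 32, 35, 16, 19, 22], [55, 42, 40, 30, 16, 16, 8], [67, 47, 49, 38, 28, 31, 16, 4, 16, 13, 10]⟩, .loop 69 8 [60, 54, 30, 27, 28, 16, 19, 6, 17] 6 7 [⟨[1793], 1790, false, [1, 4, 10, 5, 3, 6, 2, 4, 5]⟩, ⟨[24, 23], 588, true, [0, 6, 5, 6, 10, 5, 6, 10, 5, 10]⟩, ⟨[23], 488, false, [4, 6, 4, 10, 5, 6, 10, 5, 10]⟩] []),
  (⟨false, 2, 8, [66, 44, 42, 48, 33, 34, 40, 16, 16, 13, 19], [51, 33, 41, 29, 2, 17, 23, 11], [60, 45, 50, 30, 28, 37, 17, 23, 23, 8]⟩, .loop 64 2 [63, 45, 54, 56, 38, 35, 36, 19, 6, 23] 6 7 [⟨[23, 24, 23], 288, true, [3, 5, 3, 6, 5, 10, 5, 6, 5]⟩, ⟨[23, 24, 23], 1003, false, [1, 6, 5, 3, 6, 2, 6, 5]⟩, ⟨[23, 24], 1355, true, [0, 3, 4, 5, 6, 5, 3, 6, 2]⟩] [⟨[23, 24], 969, false, [2, 5,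 3, 6, 2, 4, 5, 6, 10]⟩, ⟨[], 959, false, [2, 4, 6, 1, 2, 10, 5, 6]⟩, ⟨[66, 66, 37], 1467, true, [5, 6, 2, 6, 4, 6, 10, 5]⟩, ⟨[24, 23], 1788, false, [0, 2, 6, 4, 10, 5, 6, 2, 10]⟩]),
  (⟨false, 7, 8, [58, 44, 55, 52, 31, 41, 16, 16, 25, 25], [67, 44, 55, 52, 38, 29, 30, 16, 18, 16, 19], [63, 44, 55, 34, 27, 29, 16, 16, 8, 6]⟩, .loop 68 8 [59, 47, 51, 30, 26, 38, 2, 23, 23, 23, 24] 6 7 [⟨[1793, 1792], 1770, true, [5, 3, 5, 6, 2, 4, 5, 6, 2]⟩, ⟨[], 1015, false, [0, 4, 6, 5, 6, 4, 5, 3]⟩, ⟨[23, 24, 23], 1599, false, [2, 4, 6, 4, 6, 4, 5, 3, 6]⟩] []),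
  (⟨false, 2, 8, [60, 52, 55, 28, 35, 41, 16, 16, 20, 23], [60, 51, 42, 36, 32, 30, 16, 16, 22], [62, 49, 49, 30, 26, 33, 16, 18, 18, 22]⟩, .loop 61 2 [59, 48, 42, 30, 40, 30, 16, 16, 20, 13] 12 13 [⟨[], 814, true, [0, 2, 3, 6, 5, 3, 6, 2, 4]⟩, ⟨[38, 66], 735, false, [2, 4, 10, 5, 6, 1, 5, 10, 5, 6]⟩, ⟨[23, 24], 1567, true, [0, 4, 6, 5, 6, 2, 6, 10, 5]⟩, ⟨[], 1562, true, [0, 5, 6, 2, 6, 4, 5, 6, 5, 3]⟩, ⟨[24, 23], 947, true, [5, 6, 4, 10, 5, 6, 2, 6, 5]⟩, ⟨[23, 24, 23], 1435, false, [3, 4, 6, 2, 6, 4, 5, 3]⟩] [⟨[24], 1786, true, [6, 5, 10, 5, 6, 2, 4, 5, 10]⟩]),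
  (⟨false, 8, 2, [63, 52, 49, 30, 32, 35, 16, 4, 16, 25], [45, 46, 30, 37, 32, 2, 23, 23, 13], [61, 46, 48, 54, 33, 36, 38, 16, 16, 11, 16]⟩, .loop 23 2 [67, 46, 53, 40, 27, 2, 16, 16, 16, 4] 2 3 [⟨[], 1797, true, [3, 6, 5, 6, 2, 4]⟩] [⟨[23, 24], 1300, true, [4, 6, 2, 5, 3, 6, 5, 6]⟩, ⟨[66, 66, 38, 66, 38], 711, true, [0, 2, 4, 6, 5, 6, 2, 4]⟩]),
  (⟨false, 8, 7, [60, 48, 50, 28, 31, 27, 31, 16, 8], [60, 45, 42, 51, 34, 31, 37, 2, 16, 16, 16, 24], [67, 49, 46, 36, 28, 38, 16, 16, 18, 21]⟩, .loop 66 7 [62, 44, 43, 51, 28, 26, 16, 4, 16, 11] 6 7 [⟨[], 1750, true, [0, 4, 10, 5, 6, 10, 5, 3]⟩, ⟨[24], 1564, false, [3, 6, 4, 5, 6, 4, 6, 2, 4, 10]⟩, ⟨[1583, 1583, 1587, 1587, 1549, 1549], 1784, true, [6, 2, 6, 5, 3, 5, 6, 5, 3, 6]⟩] []),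
  (⟨false, 8, 2, [62, 44, 46, 36, 26, 26, 2, 17, 22, 22, 16], [62, 44, 42, 54, 30, 26, 30, 18, 23, 18], [51, 42, 34, 36, 35, 16, 16, 20, 17]⟩, .loop 71 2 [60, 44, 47, 30, 16, 16, 16, 4, 13] 2 3 [⟨[23, 24], 1791, true, [5, 3, 5, 6, 4, 6, 5, 6, 10]⟩] [⟨[23, 24], 1090, false, [3, 6, 1, 5, 6, 4, 6, 2, 10]⟩, ⟨[24], 1200, false, [2, 5, 3, 6, 2, 6, 5, 6, 10]⟩]),
  (⟨false, 2, 8, [66, 48, 48, 28, 41, 38, 2, 23, 6, 17, 17], [60, 44, 55, 36, 32, 31, 16, 25], [62, 45, 45, 33, 31, 36, 2, 17, 17, 0, 10]⟩, .loop 17 2 [61, 44, 46, 48, 38, 32, 34, 2, 23, 10, 23] 2 3 [⟨[24], 1477, false, [5, 6, 2, 5, 3, 6, 2]⟩] [⟨[24], 1112, false, [0, 5, 3, 6, 2, 6, 5]⟩, ⟨[24, 23], 1765, false, [4, 10, 5, 3, 6, 1, 4, 5, 10, 5]⟩]),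
  (⟨false, 7, 8, [62, 50, 49, 30, 28, 41, 2, 17, 23, 4], [63, 51, 49, 28, 34, 36, 2, 23, 17, 17], [45, 50, 42, 35, 35, 41, 16, 16, 2, 11, 12]⟩, .loop 53 2 [59, 45, 50, 42, 28, 30, 27, 31, 17, 22] 2 3 [⟨[23], 1680, false, [4, 5, 10, 5, 6, 5, 6, 4]⟩] [⟨[23], 985, true, [1, 3, 4, 6, 5, 3, 6, 4, 5, 10]⟩, ⟨[23, 24, 23], 1134, true, [1, 2, 6, 5, 6, 2, 5, 10]⟩, ⟨[23, 24, 23], 931, false, [2, 6, 10, 5, 3, 6, 2, 5]⟩, ⟨[24], 430, false, [2, 6, 1, 4, 5, 6, 2]⟩, ⟨[], 443, true, [0, 6, 5, 6, 4, 10, 5, 6, 5, 3, 6]⟩, ⟨[66, 38, 66, 38], 1798, false, [0, 2, 5, 6, 10, 5, 6, 4, 6, 5, 3]⟩]),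
  (⟨false, 8, 5, [61, 52, 48, 31, 26, 33, 16, 22, 19], [62, 50, 47, 30, 27, 28, 16], [66, 46, 49, 35, 36, 16, 16, 11, 12]⟩, .loop 46 3 [58, 44, 56, 38, 26, 2, 16] 2 3 [⟨[21], 1781, false, [2, 4, 6, 10, 5, 6]⟩] [⟨[21, 245, 21, 22], 108, false, [5, 6, 5, 3, 6, 5, 6, 10, 5, 6, 2]⟩]),
  (⟨false, 2, 8, [62, 50, 46, 31, 34, 16, 21, 16], [60, 46, 42, 51, 36, 29, 31, 16, 25], [61, 45, 56, 50, 31, 34, 16, 10, 16, 24]⟩, .loop 67 2 [62, 44, 57, 49, 28, 34, 27, 2, 17, 17, 17, 18] 2 3 [⟨[], 203, true, [0, 6, 5, 6, 10, 5, 3, 6, 4]⟩] [⟨[23, 24, 23], 1244, false, [5, 3, 6, 2, 5, 6, 5, 10]⟩, ⟨[], 1777, true, [6, 10, 5, 6, 2, 5, 6, 4]⟩]),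
  (⟨false, 8, 2, [61, 45, 43, 30, 37, 32, 16, 16, 4, 20], [61, 45, 50, 45, 28, 36, 29, 16, 24, 16, 10], [61, 50, 47, 40, 38, 2, 23, 23, 16]⟩, .loop 52 2 [45, 54, 33, 38, 37, 2, 17, 22, 16, 16] 8 9 [⟨[], 1134, true, [5, 3, 6, 4, 6, 5, 6, 10]⟩, ⟨[], 895, false, [6, 1, 2, 6, 5, 3, 6, 4]⟩, ⟨[38, 66, 66], 1676, false, [2, 10, 5, 6, 4, 6, 2, 5, 3]⟩, ⟨[], 1807, false, [1, 2, 3, 5, 6, 4, 10, 5]⟩] [⟨[24], 1398, true, [2, 10, 5, 6, 1, 4, 6, 5, 3, 6]⟩, ⟨[], 430, true, [1, 6, 4, 6, 5, 3, 6, 4]⟩, ⟨[24], 623, true, [1, 4, 6, 5, 6, 2, 6, 5, 6, 10]⟩]),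
  (⟨true, 8, 8, [204], [], [206]⟩, .coinc 2 [61, 45, 50, 45, 28, 36, 29, 16, 24, 16, 10] ⟨[23, 24], 1790, true, [0, 2, 6, 5, 3, 6, 4, 6, 2, 6]⟩ ⟨[], 1810, true, []⟩),
  (⟨false, 2, 8, [62, 45, 50, 45, 31, 28, 41, 17, 22, 21], [44, 42, 47, 30, 28, 35, 16, 21, 16, 11], [49, 42, 28, 30, 30, 17, 23, 16]⟩, .loop 23 2 [67, 44, 43, 31, 26, 40, 2, 17, 19, 22, 20] 4 5 [⟨[23, 24], 1139, true, [0, 3, 6, 2, 5, 6, 5, 3, 5]⟩, ⟨[23, 24], 603, true, [3, 6, 2, 4, 6, 5, 6, 4, 6, 5]⟩] [⟨[24, 23], 1800, false, [2, 3, 6, 2, 6, 4, 5, 6, 4, 5, 10]⟩]),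
  (⟨false, 2, 8, [67, 56, 50, 31, 28, 30, 2, 23, 19], [62, 54, 43, 30, 37, 32, 16, 18, 18], [66, 45, 45, 30, 28, 33, 19, 6, 23, 20]⟩, .loop 50 5 [59, 50, 33, 34, 41, 2, 23, 6, 23, 8] 4 5 [⟨[37, 38], 1428, false, [6, 1, 2, 6, 5, 6, 2, 10, 5]⟩, ⟨[24, 23], 1004, true, [5, 6, 5, 3, 5, 6, 4, 5, 6, 4]⟩] [⟨[38, 66, 37], 771, true, [1, 2, 3, 4, 5, 6, 2, 5, 3]⟩, ⟨[24, 23], 1475, false, [5, 6, 4, 10, 5, 3, 6, 4, 6]⟩, ⟨[24, 23], 1345, false, [0, 3, 5, 6, 4, 6, 2, 4, 5, 10]⟩, ⟨[24, 23], 759, false, [6, 4, 6, 5, 6, 5, 3]⟩, ⟨[23, 24], 1809, false, [2, 5, 3, 6, 4, 6, 5, 6, 5]⟩]),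
  (⟨false, 2, 8, [61, 46, 42, 51, 34, 31, 41, 2, 23, 8, 23, 6], [61, 46, 57, 28, 41, 35, 16, 8], [59, 54, 43, 28, 36, 2, 17, 23, 20, 25]⟩, .loop 17 2 [61, 44, 42, 48, 28, 38, 36, 2, 17, 17, 0, 13] 4 5 [⟨[24], 813, true, [0, 3, 5, 6, 4, 6, 2, 4, 5, 10]⟩, ⟨[23], 830, false, [6, 1, 4, 5, 3, 5, 6, 5, 3, 5]⟩] [⟨[23, 24], 1777, true, [0, 5, 3, 6, 4, 5, 6, 5, 3, 5]⟩]),
  (⟨false, 2, 8, [58, 50, 55, 30, 27, 28, 16, 4, 16, 2, 20], [61, 44, 42, 57, 35, 29, 35, 16, 11, 17], [62, 57, 53, 28, 31, 16, 16, 10, 16, 2]⟩, .loop 35 7 [44, 43, 38, 34, 2, 23, 13, 23, 6] 2 3 [⟨[1583, 1583], 1571, false, [0, 3, 4, 5, 3, 6, 5, 6, 2]⟩] [⟨[1583, 1583, 1587, 1583, 1549], 1598, true, [4, 5, 3, 6, 5, 10, 5, 6, 4, 6, 5]⟩, ⟨[], 1765, false, [3, 6, 4, 5, 6, 2,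 5, 6, 10]⟩]),
  (⟨false, 8, 2, [59, 49, 49, 28, 34, 38, 2, 17, 17, 18, 21], [67, 49, 45, 36, 30, 33, 2, 17, 17, 20, 8], [61, 46, 57, 33, 36, 41, 2, 23, 8, 23, 17]⟩, .loop 61 2 [44, 51, 28, 35, 36, 2, 17, 22, 16, 10] 12 13 [⟨[], 1017, false, [0, 5, 6, 4, 5, 6, 4, 10, 5, 3]⟩, ⟨[23], 218, true, [4, 5, 6, 4, 6, 4, 5, 3, 6]⟩, ⟨[66, 37, 66, 38], 1669, true, [2, 3, 6, 1, 4, 5, 6, 10, 5, 6]⟩, ⟨[1549, 1583, 1549], 1611, false, [0, 2, 6, 4, 6, 10, 5, 6]⟩, ⟨[23], 397, false, [6, 4, 6, 4, 5, 6, 5, 3, 5, 6]⟩, ⟨[], 1805, true, [5, 3, 6, 4, 6, 2, 6, 5]⟩] [⟨[24], 999, true, [1, 3, 6, 4, 5, 6, 2, 5, 10]⟩]),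
  (⟨false, 8, 2, [63, 44, 43, 31, 29, 41, 16, 16, 2, 4], [51, 43, 28, 31, 33, 18, 23, 17, 17], [63, 54, 43, 31, 27, 35, 2, 16]⟩, .loop 44 2 [59, 44, 42, 47, 36, 27, 35, 16, 24, 16, 16] 4 5 [⟨[24], 1435, false, [4, 5, 6, 4, 6, 5, 6, 10]⟩, ⟨[], 1802, false, [2, 5, 3, 6, 5, 6, 4, 6, 4, 10]⟩] []),
  (⟨false, 2, 8, [60, 44, 42, 54, 36, 35, 40, 16, 16, 2, 10, 21], [58, 46, 44, 54, 28, 34, 16, 19, 6, 16], [61, 45, 42, 30, 37, 27, 2, 17, 23, 20, 25]⟩, .loop 55 2 [44, 57, 31, 37, 29, 16, 2, 11, 11] 2 3 [⟨[23], 951, true, [0, 5, 6, 4, 5, 6, 5, 6]⟩] [⟨[23, 24], 288, false, [0, 2, 6, 5, 6, 4, 6, 10, 5]⟩, ⟨[23, 24, 23], 1389, false, [0, 3, 6, 5, 10, 5, 6, 5]⟩, ⟨[], 837, true, [0, 2, 4, 6, 2, 6, 10, 5, 3, 6]⟩, ⟨[23, 24], 1467, false, [2, 3, 4,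 6, 1, 4, 6, 5, 10]⟩, ⟨[66, 66, 37, 37], 936, true, [1, 5, 6, 2, 4, 6, 10, 5]⟩, ⟨[24], 1800, false, [1, 5, 3, 6, 4, 5, 6, 4, 5]⟩]),
  (⟨false, 8, 2, [66, 48, 43, 31, 34, 30, 17], [63, 48, 53, 34, 26, 31, 16, 16, 25, 25], [62, 44, 48, 28, 26, 41, 16, 16, 20, 18]⟩, .loop 51 2 [63, 45, 45, 28, 41, 27, 32, 2, 17, 17, 18, 16] 10 11 [⟨[23, 24], 1146, true, [0, 4, 6, 4, 10, 5, 6, 2, 4, 10]⟩, ⟨[24, 23], 1453, true, [2, 10, 5, 6, 5, 10, 5, 6, 2, 4]⟩, ⟨[23, 24, 23], 1176, true, [0, 4, 6, 2, 10, 5, 6, 2, 5, 10]⟩, ⟨[], 247, false, [3, 6, 5, 3, 6, 4, 5, 10, 5, 6, 4]⟩, ⟨[38, 66, 37], 1775, true, [2, 5, 6, 5, 3, 5, 6, 5]⟩] [⟨[24, 23], 986, true, [4, 6, 4, 6, 5, 6]⟩, ⟨[23], 1171, true, [0, 2, 5, 6, 4, 5, 6, 5, 3]⟩]),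
  (⟨false, 8, 2, [50, 49, 38, 33, 16, 22, 22, 10], [62, 45, 50, 45, 30, 32, 26, 2, 17, 22, 6], [61, 47, 51, 31, 32, 2, 17, 23, 17]⟩, .loop 51 2 [67, 46, 51, 55, 40, 35, 26, 16, 16, 21, 18] 6 7 [⟨[24], 1253, false, [1, 5, 6, 2, 6, 5, 3, 6, 2]⟩, ⟨[23, 24], 224, false, [0, 3, 5, 6, 10, 5, 6, 2, 6, 4]⟩, ⟨[24], 1800, false, [6, 2, 4, 10, 5, 6, 5, 3, 6]⟩] [⟨[24, 23], 288, true, [1, 4, 10, 5, 3, 6, 4, 5, 6]⟩, ⟨[], 406, true, [0, 2, 4, 6, 4, 6, 5, 6, 5, 3]⟩, ⟨[37, 37, 66], 959, true, [0, 5, 3, 5, 6, 4, 5, 3, 6]⟩, ⟨[], 1472, false, [2, 4, 6, 4, 6, 4, 5, 6, 2, 5, 3]⟩]),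
  (⟨false, 8, 2, [67, 54, 44, 33, 40, 2, 17, 17, 11], [62, 51, 44, 34, 31, 2, 17, 17, 6, 4], [66, 44, 43, 57, 41, 37, 2, 23, 24]⟩, .loop 29 2 [61, 48, 34, 31, 2, 17] 4 5 [⟨[23], 1489, false, [4, 10, 5, 6, 10, 5, 3, 6, 4, 5, 3]⟩, ⟨[23, 24], 1815, false, [1, 3, 5, 6, 4, 5, 6, 5, 10]⟩] [⟨[23, 24], 1041, false, [5, 6, 1, 2, 6, 4, 5, 6, 10]⟩]),
  (⟨false, 2, 8, [63, 51, 33, 29, 37, 16, 2, 11, 23], [67, 50, 55, 40, 32, 2, 17, 17, 10, 25], [62, 50, 49, 35, 37, 38, 19, 6, 23, 16]⟩, .loop 31 8 [60, 48, 44, 28, 16, 4, 16, 10, 21] 6 7 [⟨[1811, 1792], 1804, false, [0, 6, 2, 5, 6, 5, 3, 5, 6, 4]⟩, ⟨[1587, 1549, 1549], 1698, true, [1, 3, 5, 6, 5, 6, 2, 6, 4, 6]⟩, ⟨[24], 715, true, [2, 3, 5, 6, 1, 4, 5, 6]⟩] []),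
  (⟨false, 2, 8, [44, 55, 50, 31, 32, 30, 2, 17, 23, 23, 4], [67, 47, 48, 36, 34, 16, 2, 19, 6, 17], [66, 52, 44, 36, 27, 27, 2, 23, 23, 18, 6]⟩, .loop 57 2 [61, 49, 57, 33, 27, 40, 16, 21, 16, 22] 2 3 [⟨[], 1445, false, [10, 5, 3, 6, 5, 10, 5, 6, 4]⟩] [⟨[23, 24], 892, false, [0, 2, 4, 6, 2, 6, 5, 6, 5, 10]⟩, ⟨[23, 24, 23], 1264, false, [4, 6, 1, 2, 5, 6, 4, 6]⟩, ⟨[24, 23], 494, true, [1, 6, 2, 5, 6, 4, 10, 5, 6, 4]⟩, ⟨[50, 245, 22, 50, 22], 804, false, [1, 3, 6, 2, 6, 5, 6, 5, 10, 5]⟩, ⟨[23], 1302, false, [0, 6, 5, 3, 6, 5, 6, 4, 10]⟩, ⟨[], 1814, false, [1, 5, 3, 6, 4, 6]⟩])]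

/-- facts 1824 and on -/
def facts57 : List (Fact × Why) := [
  (⟨false, 8, 3, [67, 48, 42, 34, 31, 41, 16, 21, 17], [52, 44, 40, 28, 40, 16, 24, 16, 25], [63, 55, 49, 34, 31, 37, 2, 17, 17, 10, 21]⟩, .loop 46 3 [61, 45, 53, 30, 26, 35, 16, 21, 16, 8] 4 5 [⟨[50], 804, false, [3, 5, 6, 4, 5, 6, 5, 6]⟩, ⟨[24], 1823, false, [4, 6, 5, 6, 4, 5, 3, 6, 2, 5]⟩] []),
  (⟨false, 2, 8, [60, 47, 52, 30, 35, 40, 28, 2, 23, 18, 6], [46, 44, 54, 36, 27, 2, 17, 0, 23, 23], [51, 42, 38, 28, 2, 17, 17, 6, 16]⟩, .loop 56 5 [58, 57, 55, 35, 37, 16, 16, 18, 24] 4 5 [⟨[38], 936, true, [1, 3, 6, 5, 6, 2, 6, 4, 5]⟩, ⟨[23, 24], 893, true, [1, 3, 5, 6, 2, 4, 6, 10, 5]⟩] [⟨[37, 66], 957, false, [2, 4, 6, 4, 6, 4, 5, 3, 6, 2]⟩, ⟨[23], 1003, true, [0, 4, 5,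 6, 4, 5, 6, 10, 5, 3]⟩, ⟨[24, 23], 951, true, [1, 6, 5, 6, 10, 5, 6, 4, 6]⟩, ⟨[], 861, false, [1, 3, 6, 5, 6, 10, 5, 3, 6, 2]⟩, ⟨[23], 1788, false, [2, 4, 10, 5, 3, 6, 1, 2, 5]⟩]),
  (⟨false, 8, 2, [67, 45, 42, 45, 28, 31, 26, 16, 4, 16, 4], [50, 48, 30, 34, 31, 2, 23, 23, 23, 0], [59, 44, 47, 34, 31, 37, 16, 16, 2, 16]⟩, .loop 17 2 [45, 52, 40, 40, 32, 16, 2, 0, 16] 2 3 [⟨[23, 24], 1809, false, [5, 6, 4, 6, 5, 6, 2]⟩] [⟨[23], 861, false, [4, 10, 5, 6, 10, 5, 3, 6, 2]⟩, ⟨[], 1332, false, [1, 6, 5, 6, 2, 5, 3, 6, 4]⟩]),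
  (⟨false, 2, 8, [58, 51, 53, 28, 34, 30, 2, 23, 17, 24, 23], [51, 47, 34, 36, 35, 16, 4, 16, 16], [60, 50, 47, 33, 35, 32, 2, 17, 23, 23, 8]⟩, .loop 23 5 [62, 56, 53, 41, 27, 34, 16, 16, 25, 23] 4 5 [⟨[37], 814, false, [6, 2, 6, 4, 6, 5, 6, 10, 5]⟩, ⟨[24, 23], 1488, false, [4, 6, 1, 4, 5, 6, 10]⟩] [⟨[38, 37, 66], 1798, false, [2, 4, 6, 1, 4, 5]⟩]),
  (⟨false, 8, 2, [67, 56, 30, 37, 35, 16, 16, 18, 23], [61, 44, 46, 44, 30, 26, 38, 2, 17, 22, 22, 24], [59, 49, 46, 35, 31, 32, 2, 17, 17, 13, 17]⟩, .loop 68 2 [59, 51, 53, 34, 26, 35, 16, 22, 22, 8] 4 5 [⟨[], 367, true, [2, 4, 10, 5, 6, 5, 6, 2, 4, 10]⟩, ⟨[23, 24], 1821, true, [5, 3, 5, 6, 1, 5]⟩] [⟨[24, 23], 753, false, [0, 2, 6, 4, 5, 6, 10, 5]⟩]),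
  (⟨false, 8, 2, [67, 44, 51, 46, 30, 37, 30, 16, 8, 17, 6], [59, 45, 36, 31, 26, 16, 16, 18], [62, 44, 42, 54, 36, 40, 37, 16, 16, 18, 24]⟩, .loop 70 2 [61, 44, 47, 52, 41, 27, 2, 17, 17] 2 3 [⟨[24], 1769, true, [3, 6, 1, 5, 6, 4, 6, 5, 6]⟩] [⟨[24], 1251, false, [5, 10, 5, 6, 1, 4, 5, 6, 2]⟩, ⟨[23], 620, true, [0, 2, 4, 6, 2, 5, 3, 6]⟩]),
  (⟨true, 8, 8, [208], [], [210]⟩, .coinc 2 [59, 45, 36, 31, 26, 16, 16, 18] ⟨[23], 1818, false, [2, 4, 6, 1, 5, 3, 6, 5, 6]⟩ ⟨[], 1829, true, []⟩),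
  (⟨false, 8, 2, [63, 51, 49, 28, 31, 28, 38, 16], [67, 45, 52, 28, 40, 30, 2, 17, 19, 25], [58, 45, 56, 50, 33, 30, 17, 23, 4, 6]⟩, .loop 16 2 [62, 44, 42, 45, 28, 40, 28, 16, 4, 16, 13] 4 5 [⟨[23], 1680, false, [1, 5, 6, 4, 10, 5, 6, 4, 6]⟩, ⟨[1587, 1583, 1583, 1549], 1774, true, [2, 10, 5, 3, 6, 5, 6, 2, 4, 10]⟩] [⟨[23, 24, 23], 1427, false, [6, 1, 2, 6, 10, 5, 3, 6, 5, 3]⟩]),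
  (⟨false, 2, 8, [59, 46, 48, 36, 28, 34, 16, 19, 6, 23], [50, 55, 28, 41, 28, 17, 23, 18, 17], [63, 45, 56, 38, 29, 30, 16, 16, 16, 2, 13]⟩, .loop 61 7 [63, 56, 53, 38, 28, 41, 2, 23, 6, 17, 6] 4 5 [⟨[], 1697, true, [6, 5, 6, 2, 6, 4, 6, 10, 5, 3]⟩, ⟨[23, 24, 23], 397, true, [5, 6, 2, 4, 10]⟩] [⟨[1549, 1549, 1583, 1549, 1549], 1657, true, [4, 6, 1, 2, 5, 3, 6, 5, 6]⟩, ⟨[], 999, true, [6, 4, 5, 10, 5, 6, 4, 6, 2]⟩, ⟨[24, 23], 718, false, [0, 2, 6, 2, 4, 5, 6]⟩, ⟨[66, 38, 37], 218, false, [0, 2, 4, 5, 6, 10, 5, 3]⟩, ⟨[23], 1812, false, [5, 3, 6, 4, 6, 2, 6, 5]⟩]),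
  (⟨false, 2, 8, [63, 54, 50, 30, 40, 27, 17, 23, 17, 17], [61, 46, 57, 31, 37, 37, 16, 16, 4, 22], [58, 45, 48, 40, 30, 27, 16, 4, 16, 10]⟩, .loop 67 8 [67, 44, 31, 37, 29, 16, 10, 16, 21] 6 7 [⟨[1811], 1773, true, [0, 2, 4, 5, 6, 5, 3, 6, 5]⟩, ⟨[24], 1029, false, [0, 10, 5, 6, 4, 5, 3, 6, 4, 5]⟩, ⟨[24], 596, false, [2, 4, 5, 6, 1, 4, 10, 5, 6, 5]⟩] []),
  (⟨false, 8, 8, [60, 46, 51, 34, 26, 34, 16, 21, 16, 21], [60, 45, 42, 34, 27, 31, 16, 16, 8, 21], [67, 49, 47, 34, 27, 2, 17, 19, 25]⟩, .loop 68 8 [63, 48, 44, 30, 41, 34, 16, 16, 4, 13, 17] 6 7 [⟨[], 1783, true, [6, 2, 5, 3, 6, 5, 3, 6]⟩, ⟨[23], 142, false, [0, 6, 2, 6, 10, 5, 6, 2, 6, 4, 10]⟩, ⟨[24], 1805, true, [3, 6, 4, 5, 6, 2, 4, 5]⟩] []),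
  (⟨false, 8, 5, [51, 49, 38, 33, 2, 17, 23, 24, 23], [44, 55, 50, 30, 32, 2, 17, 23, 23, 19], [60, 46, 51, 55, 38, 30, 2, 17, 23, 4, 20]⟩, .loop 33 5 [60, 52, 48, 28, 38, 16, 4, 16, 16] 6 7 [⟨[66, 66], 680, false, [0, 2, 3, 4, 5, 6, 2, 5, 10]⟩, ⟨[23, 24], 1520, true, [1, 6, 5, 6, 4, 6, 5, 6, 10]⟩, ⟨[23, 24], 1790, true, [1, 2, 3, 6, 5]⟩] []),
  (⟨false, 8, 2, [59, 45, 46, 38, 36, 17], [63, 48, 43, 35, 36, 29, 2, 23, 23, 25, 21], [58, 46, 57, 28, 34, 28, 16, 16, 20, 24]⟩, .loop 46 2 [46, 42, 33, 34, 33, 2, 16, 16, 22, 24] 4 5 [⟨[23, 24, 23], 1140, true, [6, 10, 5, 3, 6, 4, 5, 10, 5, 6]⟩, ⟨[24], 1765, false, [0, 3, 6, 4, 5, 6, 4, 6, 10]⟩] []),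
  (⟨false, 2, 8, [67, 45, 53, 30, 37, 2, 17, 17, 22], [54, 30, 29, 32, 16, 19, 6], [60, 45, 56, 50, 30, 41, 26, 17, 22, 6, 16]⟩, .loop 54 2 [61, 44, 48, 30, 26, 28, 2, 17, 19] 4 5 [⟨[23], 1398, true, [1, 6, 10, 5, 3, 6, 5, 6, 5]⟩, ⟨[23, 24], 1326, false, [3, 4, 6, 2, 6, 4, 6, 5]⟩] [⟨[24, 23], 1436, false, [3, 5, 6, 1, 2, 4, 10, 5]⟩, ⟨[24], 1735, true, [6, 2, 4, 6, 10, 5, 6, 5, 10]⟩, ⟨[1549, 1583, 1583, 1549, 1549], 1676, true, [5, 3, 5, 6, 4, 5, 3, 6, 2, 4]⟩, ⟨[66, 38, 37], 250, true, [0, 3, 6, 4, 6, 4, 5, 6, 2]⟩, ⟨[24, 23], 1790, true, [2, 3, 4, 6, 5, 3, 6, 2, 4, 5]⟩]),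
  (⟨false, 2, 8, [51, 51, 28, 36, 33, 2, 23, 18, 6], [59, 48, 46, 34, 26, 35, 16, 10, 17], [66, 46, 44, 54, 30, 26, 38, 16, 4]⟩, .loop 54 7 [54, 34, 27, 29, 16, 11, 16, 2, 10] 6 7 [⟨[1583, 1587], 1659, true, [1, 2, 6, 2, 6, 5, 6, 4, 5, 10, 5]⟩, ⟨[23, 24, 23], 606, true, [4, 5, 6, 1, 10, 5]⟩, ⟨[24, 23], 1306, false, [0, 2, 3, 6, 5, 3, 6, 2, 5, 6]⟩] [⟨[1549, 1583, 1583, 1549], 1725, true, [0, 3, 5, 6, 2, 6, 4, 5, 6]⟩, ⟨[66, 66, 37, 66, 38], 576, false, [2, 5, 6, 5, 6, 2, 10]⟩, ⟨[], 1242, false, [2, 5, 6, 4, 10, 5, 6, 4, 5]⟩, ⟨[23], 1815, false, [1, 3, 6, 2, 6, 5, 3]⟩]),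
  (⟨false, 8, 7, [59, 45, 56, 55, 33, 40, 16, 11, 25], [60, 45, 42, 47, 28, 41, 38, 2, 23, 17, 23, 25], [66, 46, 46, 33, 34, 38, 2, 17, 23, 20, 25]⟩, .loop 71 3 [62, 56, 50, 36, 27, 36, 16, 16, 18, 11, 16] 2 3 [⟨[245, 21, 245], 1824, true, [1, 5, 6, 4, 10, 5, 3, 6, 4]⟩] [⟨[21, 21, 245, 21], 239, false, [0, 2, 3, 6, 5, 3, 6, 4, 5]⟩, ⟨[], 1617, false, [10, 5, 6, 10, 5, 3, 6, 4, 5, 10]⟩]),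
  (⟨false, 8, 2, [66, 48, 53, 30, 26, 2, 23, 23, 8, 24], [51, 44, 31, 41, 2, 23, 23, 4, 6], [62, 50, 47, 38, 33, 2, 16, 16, 22, 24]⟩, .loop 33 2 [62, 45, 42, 33, 36, 2, 17, 17, 25, 8] 6 7 [⟨[23, 24], 1241, true, [2, 6, 4, 6, 5, 3, 6, 2, 4]⟩, ⟨[23, 24, 23], 1122, true, [6, 4, 5, 6, 10, 5, 3, 6, 4, 6]⟩, ⟨[23], 1820, true, [2, 10, 5, 6, 2, 6, 5, 6, 10]⟩] []),
  (⟨false, 8, 5, [46, 57, 31, 27, 35, 16, 11], [44, 57, 49, 28, 40, 36, 2, 23, 23, 11, 16], [63, 47, 53, 34, 31, 38, 2, 16, 6, 23, 23]⟩, .loop 22 2 [61, 44, 51, 28, 35, 31, 41, 2, 17, 22, 22, 10] 4 5 [⟨[23], 1731, true, [2, 6, 5, 3, 6, 5, 6, 2, 6, 2]⟩, ⟨[1583, 1587, 1583], 1804, true, [6, 1, 4, 5, 6, 4, 10, 5, 6, 4]⟩] [⟨[], 1425, true, [3, 4, 6, 5, 3, 6, 4, 5, 6, 10]⟩]),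
  (⟨false, 8, 2, [59, 46, 42, 51, 28, 34, 30, 29, 2, 23, 17, 24, 23], [44, 55, 28, 30, 27, 16, 16, 22, 8], [58, 47, 31, 36, 35, 16, 4, 16, 2]⟩, .loop 58 2 [60, 46, 48, 31, 16, 11, 16, 24, 16] 4 5 [⟨[], 664, true, [1, 2, 6, 4, 5, 6, 2, 6, 4, 10]⟩, ⟨[23], 1779, true, [2, 5, 3, 6, 5, 6, 4, 6, 5]⟩] [⟨[24, 23], 840, false, [5, 6, 10, 5, 6, 4, 6, 2, 4]⟩, ⟨[24], 889, true, [6, 1, 5, 6, 4, 6, 2, 10, 5]⟩, ⟨[24], 1049, false, [0, 2, 6, 4, 5, 6, 2, 6, 5]⟩, ⟨[24, 23], 929, true, [0, 3, 4, 6, 4, 6, 2, 5, 6, 5]⟩, ⟨[66, 37, 66, 37], 984, false, [5, 6, 4, 5, 6, 2, 10, 5, 6, 5]⟩]),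
  (⟨false, 8, 2, [62, 46, 51, 36, 32, 31, 16, 16, 16, 20], [63, 54, 36, 28, 34, 2, 16, 6, 23], [59, 45, 46, 30, 35, 41, 16, 16, 13, 10]⟩, .loop 52 2 [30, 29, 26, 16, 18, 16, 4] 14 15 [⟨[23, 24, 23], 1233, true, [0, 3, 5, 6, 2, 4, 10, 5, 6, 4]⟩, ⟨[], 313, true, [0, 4, 5, 10, 5, 6, 4, 6, 4, 5, 3]⟩, ⟨[38, 37, 66], 786, true, [1, 2, 10, 5, 6, 2, 4, 5, 10]⟩, ⟨[23], 328, false, [0, 2, 3, 4, 5, 6, 10, 5, 6, 2]⟩, ⟨[23, 24], 990, false, [0, 5, 6, 2, 5, 6, 4]⟩, ⟨[23, 24], 419, false, [0, 3, 4, 6, 4, 6, 5, 6, 10, 5]⟩, ⟨[23, 24], 1826, true, [0, 3, 6, 4, 5, 6, 2, 6, 10, 5]⟩] []),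
  (⟨false, 2, 8, [62, 44, 48, 33, 27, 31, 16, 10, 23, 23], [58, 44, 46, 31, 26, 40, 16, 11, 16, 16], [63, 45, 57, 28, 34, 30, 29, 16, 21, 16, 21]⟩, .loop 17 8 [59, 44, 42, 57, 31, 27, 32, 16, 16, 22, 6] 6 7 [⟨[1830, 1793], 1786, false, [10, 5, 3, 6, 2, 6, 5, 3, 6]⟩, ⟨[], 261, false, [6, 5, 10, 5, 6]⟩, ⟨[24, 23], 260, false, [3, 4, 6, 2, 5, 6, 5, 10]⟩] []),
  (⟨false, 8, 4, [66, 54, 46, 28, 26, 38, 16, 16, 25], [59, 51, 49, 28, 35, 27, 2, 23, 8, 17, 25], [67, 54, 52, 41, 26, 2, 23, 8, 17, 25]⟩, .loop 72 2 [63, 44, 47, 38, 33, 40, 17, 23, 23, 16] 2 3 [⟨[23, 24], 1795, false, [2, 4, 6, 4, 6, 4, 6, 5]⟩] [⟨[24], 850, true, [2, 3, 4, 5]⟩, ⟨[23], 615, true, [2, 6, 2, 6, 4, 10, 5, 6]⟩]),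
  (⟨false, 8, 5, [66, 52, 49, 28, 26, 40, 16, 4, 16, 8], [67, 45, 46, 33, 30, 2, 16, 6, 23, 17], [47, 44, 30, 40, 2, 16, 16, 16]⟩, .loop 30 2 [61, 45, 48, 30, 28, 34, 2, 17, 17, 22, 25] 4 5 [⟨[23], 1279, false, [6, 2, 6, 4, 10, 5, 6, 2]⟩, ⟨[66, 66, 37, 66, 38], 1841, true, [0, 4, 6, 4, 6, 5, 3, 6, 5]⟩] [⟨[24], 301, true, [0, 4, 5, 3, 6, 5, 10, 5, 6, 2]⟩]),
  (⟨false, 8, 2, [67, 48, 53, 31, 36, 34, 16, 10, 8], [54, 44, 38, 32, 34, 2, 17, 17, 25], [67, 47, 49, 36, 27, 35, 2, 17, 23, 23, 4]⟩, .loop 50 2 [60, 48, 47, 34, 36, 2, 23, 10, 23, 18] 8 9 [⟨[], 853, false, [3, 5, 6, 10, 5, 6, 5]⟩, ⟨[23], 1330, true, [5, 6, 5, 10, 5, 6, 2, 4]⟩, ⟨[23, 24, 23], 990, false, [3, 5, 6, 1, 2, 4, 5, 6, 4]⟩, ⟨[24], 1831, true, [0, 3, 6, 5]⟩] [⟨[23,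 24], 993, false, [6, 1, 2, 5, 3, 6, 5, 10, 5, 6]⟩, ⟨[23, 24], 371, true, [0, 3, 4, 5, 3, 6, 4, 5, 3, 6]⟩, ⟨[], 313, false, [0, 5, 6, 5, 3, 5, 6]⟩]),
  (⟨false, 5, 8, [60, 45, 50, 42, 31, 36, 41, 16, 16, 24, 18], [67, 47, 52, 34, 29, 36, 19, 6, 17, 19], [60, 51, 43, 30, 26, 38, 19, 6, 23, 18]⟩, .loop 61 2 [66, 44, 42, 46, 36, 28, 34, 16, 16, 11, 23, 23] 2 3 [⟨[23], 313, true, [6, 2, 6, 4, 6, 5, 6, 10, 5, 6]⟩] [⟨[23], 269, false, [1, 3, 4, 5, 6, 4, 6, 2, 4]⟩, ⟨[], 1289, false, [0, 4, 5, 6, 5, 3, 6, 5, 6]⟩, ⟨[24, 23], 990, false, [1, 5, 6, 4, 5, 6, 10, 5, 3, 6]⟩, ⟨[24, 23], 1081, true, [1, 2, 6, 4, 6, 5, 6, 2, 10, 5]⟩, ⟨[23, 24], 853, false, [0, 2, 3, 4, 6, 2, 5, 6, 5, 6]⟩, ⟨[23, 24], 1843, true, [5, 3, 6, 4, 5, 3, 6, 2, 5]⟩]),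
  (⟨false, 2, 8, [63, 51, 44, 28, 30, 26, 16, 19, 6, 18], [61, 48, 48, 33, 31, 31, 16, 18, 18], [67, 44, 53, 28, 41, 31, 16, 2, 16]⟩, .loop 60 2 [45, 53, 28, 2, 17, 23, 10, 16] 6 7 [⟨[23], 320, false, [1, 3, 6, 2, 4, 6, 5, 10]⟩, ⟨[38, 37], 909, false, [6, 4, 5, 3, 6, 5, 6, 4, 5]⟩, ⟨[23, 24], 801, true, [3, 6, 4, 5, 3, 6, 2, 6, 2, 4]⟩] [⟨[], 1167, false, [0, 4, 6, 4, 6, 5, 10, 5, 6, 5]⟩, ⟨[], 341, true, [1, 3, 5, 6, 4, 5, 6, 2, 4, 5]⟩, ⟨[23], 1400, true, [0, 4, 6, 2, 5, 3, 6, 4, 5, 10]⟩, ⟨[23, 24, 23], 1783, false, [0, 4, 10, 5, 6, 2, 5, 6, 4, 10, 5]⟩]),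
  (⟨false, 8, 2, [60, 51, 46, 31, 33, 31, 16, 16, 8, 6], [58, 48, 50, 30, 27, 17, 22, 6, 22], [66, 47, 53, 28, 38, 33, 2, 17, 17, 11]⟩, .loop 64 7 [61, 46, 51, 30, 28, 30, 2, 23, 6, 19] 6 7 [⟨[1587], 1589, false, [4, 10, 5, 6, 2, 5, 6, 4, 6, 2]⟩, ⟨[24, 23], 1446, false, [4, 10, 5, 3, 6, 5, 3]⟩, ⟨[23, 24, 23], 1797, true, [6, 2, 4, 5, 6, 5, 3, 5]⟩] [⟨[1587, 1587, 1587, 1549], 1620, false, [2, 5, 3, 6, 2, 5, 6, 2, 6]⟩, ⟨[66, 66, 38, 37], 1387, false, [2, 3, 4, 6, 1, 4, 5, 3, 6]⟩, ⟨[24], 1383, true, [1, 6, 5, 6, 4, 6, 2, 5, 3]⟩, ⟨[24, 23], 1498, true, [1, 2, 6, 2, 5, 6, 4, 10, 5]⟩]),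
  (⟨false, 2, 8, [67, 49, 47, 31, 35, 30, 17, 23, 18, 23], [67, 47, 44, 28, 35, 16, 11, 17, 6], [58, 44, 47, 44, 30, 41, 36, 16, 19, 6, 18]⟩, .loop 19 2 [62, 45, 49, 28, 31, 29, 17, 17, 23, 23] 4 5 [⟨[], 566, false, [3, 5, 6, 1, 4, 10]⟩, ⟨[23, 24, 23], 630, false, [5, 6, 2, 6, 4, 6, 10, 5]⟩] [⟨[], 1849, false, [0, 2, 4, 6, 10, 5, 6, 4, 5, 10]⟩]),
  (⟨false, 2, 8, [59, 46, 57, 30, 40, 28, 2, 17, 17, 6, 16], [61, 48, 43, 30, 26, 28, 16, 4, 23], [63, 44, 48, 52, 30, 26, 36, 2, 17, 22, 6, 16]⟩, .loop 50 2 [63, 46, 48, 54, 33, 35, 41, 2, 23, 6, 23, 4] 4 5 [⟨[23], 606, false, [0, 4, 6, 4, 6, 4, 5, 10, 5, 6]⟩, ⟨[23, 24], 770, false, [0, 4, 5, 10, 5, 6, 5, 3, 6, 4, 5]⟩] [⟨[23, 24], 1300, true, [0, 4, 5, 3, 6, 5, 6, 2, 5, 3, 6]⟩, ⟨[], 1725,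 false, [2, 4, 5, 6, 2, 5, 6, 4]⟩, ⟨[1583, 1587, 1583, 1549], 1710, false, [0, 4, 5, 6, 5, 3, 6, 5, 6, 4, 6]⟩, ⟨[], 1280, true, [1, 6, 2, 4, 6, 10, 5, 3, 6, 4, 6]⟩, ⟨[24, 23], 1815, false, [1, 2, 10, 5, 6, 4, 6, 5, 6]⟩]),
  (⟨false, 5, 8, [60, 48, 56, 30, 32, 36, 2, 17, 19, 22, 11], [61, 54, 47, 30, 34, 16, 16, 11, 23], [59, 44, 48, 43, 31, 29, 37, 2, 16, 6]⟩, .loop 59 2 [67, 47, 49, 56, 40, 32, 2, 23, 17, 19] 12 13 [⟨[], 1389, false, [4, 6, 2, 5, 6, 2, 4, 5, 6, 10]⟩, ⟨[23, 24], 1472, true, [0, 2, 6, 10, 5, 3, 6, 2, 6, 4, 6]⟩, ⟨[], 951, false, [6, 5, 6, 2, 5, 3, 6, 4, 5, 6]⟩, ⟨[], 1209, false, [0, 6, 4, 5, 3, 6, 4, 5, 10, 5]⟩, ⟨[23, 24], 224, false, [1, 2, 3, 6, 5, 6, 4, 5, 3]⟩, ⟨[], 936, false, [10, 5, 6, 2, 4, 5, 10]⟩] [⟨[23],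 1825, false, [0, 5, 3, 6, 2, 5, 6, 5, 3]⟩]),
  (⟨false, 8, 2, [67, 44, 42, 51, 28, 38, 31, 16, 16, 4, 17], [59, 44, 46, 48, 36, 32, 31, 17, 23, 18, 23], [55, 28, 34, 40, 2, 16, 6, 17, 22]⟩, .loop 58 2 [60, 45, 54, 30, 38, 37, 16, 16, 24, 17] 2 3 [⟨[], 1797, true, [4, 5, 6, 1, 2, 4, 5, 10]⟩] [⟨[], 1093, true, [0, 4, 6, 2, 6, 10, 5, 10]⟩, ⟨[24, 23], 873, false, [0, 2, 5, 6, 4, 6, 5, 6, 2, 10]⟩, ⟨[23], 1440, false, [6, 1, 4, 5, 6, 2, 5, 3]⟩, ⟨[23, 24, 23], 1744, false, [10, 5, 6, 1, 2, 6, 5, 3]⟩, ⟨[1583, 1587, 1583, 1549], 1620, false, [4, 5, 6, 1, 4, 5, 6, 2, 4, 10]⟩, ⟨[66, 66], 267, true, [1, 6, 2, 4, 10, 5, 6, 4, 5]⟩]),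
  (⟨false, 2, 8, [63, 48, 48, 28, 41, 27, 2, 16, 6, 23, 17], [63, 50, 50, 33, 29, 35, 2, 23, 17, 22, 6], [67, 44, 42, 45, 31, 36, 41, 16, 16, 16, 11]⟩, .loop 30 2 [61, 47, 55, 38, 33, 40, 16, 16, 10, 22] 2 3 [⟨[], 1420, false, [4, 5, 3, 6, 5, 6, 4, 5, 6, 5]⟩] [⟨[23, 24], 981, false, [10, 5, 6, 4, 5, 3, 6, 5, 3]⟩, ⟨[24, 23], 1833, false, [1, 6, 5, 3, 6, 2, 4, 6, 5, 10]⟩])]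

/-- facts 1856 and on -/
def facts58 : List (Fact × Why) := [
  (⟨false, 2, 8, [59, 46, 56, 33, 35, 29, 2, 23, 13, 17], [63, 51, 47, 35, 28, 31, 18, 23, 17, 17], [62, 44, 42, 48, 33, 29, 35, 2, 17, 22, 22, 6]⟩, .loop 60 5 [59, 49, 42, 30, 30, 34, 16, 16, 16, 19] 6 7 [⟨[], 238, true, [2, 6, 4, 6, 4, 10, 5, 10]⟩, ⟨[23], 1535, false, [2, 4, 5, 6, 10, 5, 3, 6, 4]⟩, ⟨[1583, 1587, 1583, 1549, 1549], 1698, true, [0, 2, 5, 3, 6, 5, 6, 2, 6, 10]⟩] [⟨[37, 38], 551, true, [1, 10, 5, 6, 2, 4, 10]⟩, ⟨[28, 61, 61, 63], 363, true, [0, 10, 5, 6, 5, 10]⟩, ⟨[24], 1420, false, [1, 2, 4, 5, 6, 5, 3]⟩, ⟨[23, 24], 1803, true, [1, 2, 3, 6, 5, 6, 4, 5, 3]⟩]),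
  (⟨false, 2, 8, [58, 44, 47, 44, 33, 29, 37, 16, 21], [66, 49, 42, 35, 29, 34, 16], [54, 46, 30, 27, 36, 16, 11, 19, 6]⟩, .loop 63 5 [58, 46, 57, 30, 27, 36, 16, 25, 22] 6 7 [⟨[], 1532, true, [1, 10, 5, 6, 5, 6, 2, 6]⟩, ⟨[], 1419, true, [0, 2, 6, 5, 6, 2, 4, 6, 10]⟩, ⟨[23, 24], 1345, true, [0, 10, 5, 6, 2, 4, 6]⟩] [⟨[66, 66, 38, 66], 1428, false, [2, 6, 5, 6, 10, 5, 6, 2, 4]⟩, ⟨[23, 24, 23], 1139, false, [1, 2, 6, 10, 5, 6, 10]⟩, ⟨[24, 23], 874, true, [3, 4, 6, 1, 2, 4, 5, 6, 2, 10]⟩, ⟨[], 1809, false, [6, 1, 4, 10, 5, 3, 6, 5, 6, 4]⟩]),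
  (⟨false, 2, 8, [44, 51, 33, 28, 37, 17, 23, 23, 18], [60, 48, 52, 28, 35, 35, 2, 23, 23, 19], [57, 53, 35, 36, 16, 19, 16]⟩, .loop 54 2 [46, 46, 30, 32, 16, 16, 8, 22, 21] 4 5 [⟨[24], 875, false, [0, 6, 2, 4, 6, 5]⟩, ⟨[23, 24, 23], 947, false, [1, 4, 5, 3, 6, 5, 6, 2, 6, 10]⟩] [⟨[23, 24, 23], 340, true, [5, 6, 5, 3, 5, 6, 4, 6, 5]⟩, ⟨[24, 23], 735, true, [6, 2, 6, 10, 5, 6, 4, 6]⟩, ⟨[66, 66, 37, 66, 37], 1726, false, [5, 6, 1, 2, 6, 5, 6]⟩, ⟨[1587, 1587, 1583, 1549, 1549], 1719, true, [1, 6, 2, 5, 6, 4, 5, 6, 5]⟩, ⟨[23, 24, 23], 1802, false, [2, 4, 6, 4, 5, 6, 2, 10, 5]⟩]),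
  (⟨false, 8, 5, [63, 44, 51, 46, 30, 29, 27, 2, 17, 17, 24, 23], [66, 44, 49, 31, 33, 16, 24, 16, 25], [59, 44, 48, 43, 33, 30, 2, 17, 23, 20, 25]⟩, .loop 56 2 [66, 45, 49, 34, 41, 41, 16, 16, 18, 21] 12 13 [⟨[24], 871, false, [3, 5, 6, 5, 6, 2, 6, 4, 6]⟩, ⟨[24], 790, true, [4, 6, 1, 4, 5, 3, 6, 5, 6, 4]⟩, ⟨[], 938, true, [0, 4, 5, 3, 5, 6, 4, 6, 5, 10]⟩, ⟨[23, 24], 1231, false, [3, 6, 5, 3, 6, 4, 5]⟩, ⟨[23, 24, 23], 1628, false, [0, 6, 2, 10]⟩, ⟨[1587, 1587, 1583, 1583, 1549, 1549], 1839, true, [2, 3, 5, 6, 5, 6, 2, 6, 4, 6]⟩] [⟨[23], 887, true, [4, 10, 5, 6, 2, 5, 6, 4, 10]⟩]),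
  (⟨false, 8, 2, [63, 46, 48, 54, 31, 32, 38, 16, 11, 18], [66, 49, 57, 28, 30, 32, 16, 4, 16, 20, 22], [61, 44, 51, 46, 36, 27, 40, 2, 17, 0, 17, 25]⟩, .loop 44 2 [59, 44, 42, 47, 41, 32, 2, 17, 17, 0, 23] 2 3 [⟨[23], 1812, false, [6, 2, 10, 5, 6, 4, 5, 3]⟩] [⟨[23], 1017, true, [4, 6, 5, 6, 5, 3]⟩]),
  (⟨false, 2, 8, [47, 50, 33, 31, 2, 17, 17, 24], [63, 47, 50, 31, 36, 33, 16, 16, 18, 11, 16], [60, 46, 51, 33, 31, 33, 17, 17, 23]⟩, .loop 55 2 [58, 47, 56, 31, 35, 30, 16, 16, 19, 21] 12 13 [⟨[], 1310, true, [1, 2, 10, 5, 6, 5, 6, 10, 5, 6]⟩, ⟨[66, 37, 37], 1496, true, [2, 5, 3, 6, 2, 4, 5, 6, 2]⟩, ⟨[], 1246, false, [0, 2, 5, 6, 2, 4, 5, 6, 4]⟩, ⟨[24, 23], 831, false, [1, 5, 3, 5, 6, 4, 5, 3, 6]⟩, ⟨[24], 1360, false, [1, 3, 4, 6,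 5, 10, 5, 6, 4, 5]⟩, ⟨[24], 807, true, [2, 6, 5, 3, 6, 4, 6, 4]⟩] [⟨[24, 23], 1822, false, [1, 2, 10, 5, 6, 5, 6, 10]⟩]),
  (⟨false, 8, 7, [67, 55, 49, 31, 32, 36, 16, 16, 19, 23], [59, 51, 43, 36, 29, 33, 2, 23, 23, 11, 16], [60, 46, 42, 51, 28, 35, 28, 2, 23, 23, 23]⟩, .loop 55 2 [63, 52, 48, 30, 41, 16, 16, 10, 16, 2] 12 13 [⟨[], 1440, false, [5, 6, 5, 3, 6, 4, 6, 5]⟩, ⟨[24], 1307, false, [5, 6, 4, 5, 10, 5]⟩, ⟨[23, 24], 1383, true, [5, 10, 5, 6, 1, 4, 5, 6, 10]⟩, ⟨[], 267, false, [3, 5, 6, 4, 5, 6, 2, 5, 10]⟩, ⟨[66, 66, 38], 1196, true, [6, 1, 5, 6, 4, 6]⟩, ⟨[24], 1797, true, [2, 3, 4, 6, 5, 10, 5, 6, 5, 6]⟩] [⟨[24], 1589, true, [0, 5, 6, 4, 6, 5, 6, 10, 5, 3]⟩]),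
  (⟨false, 2, 8, [63, 44, 56, 35, 35, 26, 16, 4, 16, 10, 21], [59, 56, 53, 38, 2, 17, 6], [44, 48, 43, 30, 30, 36, 16, 16, 8, 22]⟩, .loop 48 2 [58, 44, 46, 44, 28, 40, 37, 2, 17, 17, 23, 16] 2 3 [⟨[23], 1359, false, [2, 4, 6, 5, 6, 4, 6, 2]⟩] [⟨[24], 1809, false, [2, 6, 10, 5, 6, 4, 5, 6, 4]⟩]),
  (⟨false, 2, 8, [59, 44, 46, 44, 28, 30, 30, 16, 10, 17, 6, 23], [49, 53, 28, 35, 41, 16], [61, 47, 49, 33, 38, 2, 17, 17, 8, 23]⟩, .loop 20 7 [60, 50, 45, 30, 29, 2, 23, 17] 2 3 [⟨[1587, 1549], 1650, false, [1, 3, 6, 2, 5, 6, 5, 6, 4]⟩] [⟨[1583, 1583], 1747, false, [10, 5, 6, 10, 5, 3, 6, 5, 6]⟩, ⟨[66, 38, 66], 1772, false, [3, 6, 4, 6, 5, 3, 6, 2]⟩]),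
  (⟨false, 8, 2, [66, 47, 47, 52, 31, 28, 40, 16], [60, 44, 47, 52, 28, 34, 33, 16, 19, 16], [58, 51, 49, 31, 32, 36, 17, 23, 23, 13]⟩, .loop 18 2 [63, 44, 42, 51, 34, 26, 31, 2, 17, 17, 2] 4 5 [⟨[23], 1169, false, [4, 10, 5, 6, 4, 6, 4, 5, 6, 2]⟩, ⟨[23, 24, 23], 1819, true, [3, 6, 1]⟩] [⟨[24], 553, false, [6, 1, 4, 10, 5, 6, 4, 5, 6, 10]⟩]),
  (⟨false, 8, 2, [63, 48, 28, 35, 28, 16, 8], [66, 44, 56, 46, 28, 40, 17, 17, 22], [60, 57, 53, 28, 26, 40, 2, 17, 23, 20, 6]⟩, .loop 35 2 [63, 55, 28, 40, 36, 2, 17, 23, 20, 11] 4 5 [⟨[23], 1129, false, [1, 2, 4, 6, 4, 5, 6, 2, 10, 5]⟩, ⟨[37, 37, 66], 1775, true, [1, 5, 6, 4, 6, 2, 6, 5, 10]⟩] [⟨[24, 23], 352, true, [4, 5, 3, 6, 5, 6, 5]⟩]),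
  (⟨false, 2, 8, [54, 43, 30, 30, 28, 2, 17, 17, 24, 17], [62, 55, 43, 36, 27, 27, 2, 17, 23, 10, 16], [62, 49, 46, 30, 34, 28, 2, 17, 0, 17, 25]⟩, .loop 54 2 [61, 44, 36, 30, 33, 2, 17, 17, 18, 23] 10 11 [⟨[23, 24, 23], 970, false, [1, 3, 5, 6, 4, 6, 5, 10, 5]⟩, ⟨[23], 831, false, [0, 3, 4, 6, 5, 6, 4, 5, 6, 5]⟩, ⟨[23], 1103, false, [1, 3, 4, 5, 3, 6, 5, 6, 4]⟩, ⟨[66, 38], 1496, true, [2, 6, 4, 6, 5, 6, 4, 5, 10]⟩, ⟨[24], 1518, true, [1, 3, 4, 6, 5, 3, 6, 5]⟩] [⟨[], 896, false, [5, 3, 5, 6, 1, 2, 5, 6, 4]⟩, ⟨[24, 23], 1861, false, [1, 2, 4, 10, 5, 6, 4, 6, 5, 3]⟩]),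
  (⟨false, 8, 2, [67, 45, 42, 45, 36, 26, 16, 11, 17, 6], [59, 51, 46, 30, 40, 34, 2, 23, 13, 23, 18], [67, 46, 44, 30, 27, 27, 2, 17, 17, 25, 21]⟩, .loop 35 2 [44, 43, 57, 28, 30, 28, 2, 23, 23, 10] 6 7 [⟨[], 1076, true, [1, 4, 5, 3, 6, 4, 6, 2, 4]⟩, ⟨[23, 24, 23], 1209, false, [4, 6, 4, 6, 4, 5, 6, 10, 5, 10]⟩, ⟨[23, 24], 1794, true, [1, 5, 3, 6, 5, 6, 2, 6, 2]⟩] []),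
  (⟨false, 8, 5, [67, 47, 48, 35, 28, 18, 23], [62, 46, 51, 30, 26, 30, 16, 21, 16, 11], [58, 52, 49, 30, 37, 27, 16, 16, 4, 24]⟩, .loop 67 2 [58, 54, 44, 30, 40, 28, 2, 17, 17, 0] 2 3 [⟨[], 1854, true, [6, 2, 6, 10, 5, 3, 6, 4, 5, 3]⟩] [⟨[23, 24, 23], 1313, true, [2, 5, 6, 1, 4, 5, 3, 6, 4]⟩, ⟨[23], 243, false, [2, 3, 4, 6, 4, 6]⟩]),
  (⟨false, 8, 2, [60, 54, 43, 31, 36, 34, 16], [63, 44, 42, 54, 35, 28, 35, 2, 16, 6, 17, 22], [62, 44, 57, 55, 30, 32, 36, 2, 23, 17, 0, 25]⟩, .loop 69 2 [58, 45, 50, 45, 28, 34, 31, 16, 16, 16, 2] 6 7 [⟨[23], 735, true, [2, 4, 6, 4, 6, 10, 5, 6, 5]⟩, ⟨[38, 66, 66], 1656, true, [6, 4, 10, 5, 6, 4, 6, 4]⟩, ⟨[1587, 1583, 1583, 1587], 1862, true, [1, 6, 4, 5, 6, 2, 6, 5, 3]⟩] []),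
  (⟨false, 5, 8, [62, 48, 57, 30, 29, 40, 18, 23, 17, 23], [60, 45, 48, 28, 31, 28, 16, 4, 23], [62, 44, 42, 48, 36, 35, 16, 4]⟩, .loop 53 7 [61, 48, 53, 40, 2, 17, 22, 6] 4 5 [⟨[1587, 1549, 1549], 1659, true, [4, 6, 4, 5, 6, 10, 5, 6, 5]⟩, ⟨[], 1147, false, [6, 5, 3, 6, 5, 10, 5, 6, 2]⟩] [⟨[1587, 1587, 1587, 1549, 1549], 1645, true, [2, 4, 6, 2, 5, 6, 4, 5, 10, 5]⟩, ⟨[23, 24, 23], 205, true, [4, 5, 3, 5, 6, 2, 6]⟩, ⟨[], 1242, true, [4, 6, 5, 10, 5, 6, 5, 3]⟩, ⟨[23, 24], 1423, true, [5, 6, 5, 6, 4, 6, 5]⟩, ⟨[23, 24], 1838, false, [4, 5, 6, 4, 5, 3, 5, 6, 4]⟩]),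
  (⟨false, 8, 5, [58, 50, 44, 28, 35, 28, 2, 17, 17, 17], [59, 56, 34, 26, 29, 16, 16, 24, 21], [67, 50, 44, 28, 35, 31, 16, 16, 2, 24]⟩, .loop 18 2 [60, 45, 54, 35, 40, 16, 16, 4] 4 5 [⟨[], 1526, true, [3, 5, 6, 10, 5, 3, 6, 5, 3]⟩, ⟨[23, 24, 23], 1799, false, [1, 5, 6, 2, 4, 5, 6, 10]⟩] [⟨[23, 24], 618, true, [4, 5, 6, 2, 6, 5, 3, 6, 5]⟩]),
  (⟨false, 8, 2, [66, 44, 46, 57, 34, 40, 29, 17, 22, 6, 22], [67, 47, 49, 56, 41, 28, 33, 16, 16, 25, 25], [59, 44, 56, 40, 32, 17, 17]⟩, .loop 51 5 [63, 44, 42, 48, 28, 31, 37, 2, 23, 24] 8 9 [⟨[66], 383, true, [1, 2, 6, 4, 10, 5, 3, 6, 5, 6]⟩, ⟨[], 1303, true, [2, 6, 10, 5, 3, 6, 2, 4]⟩, ⟨[23, 24], 977, false, [1, 2, 6, 10, 5, 6, 4, 6, 2]⟩, ⟨[24], 1844, false, [2, 6, 4, 5, 6, 4, 6, 2]⟩]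 [⟨[66, 37, 38], 663, false, [1, 2, 5, 3, 6, 4, 6, 2, 5, 10]⟩, ⟨[], 1148, true, [1, 6, 5, 3, 6, 2, 4, 5]⟩, ⟨[24], 1008, false, [1, 4, 5, 6, 2, 5, 6, 4, 10, 5]⟩]),
  (⟨false, 8, 5, [59, 46, 53, 34, 26, 29, 2, 17, 17, 25, 13], [67, 50, 50, 30, 26, 38, 16, 16, 2, 0], [61, 49, 51, 38, 33, 40, 16, 18, 16, 19]⟩, .loop 19 7 [67, 51, 49, 28, 26, 16, 11, 18, 23] 4 5 [⟨[1549], 1647, false, [1, 3, 4, 6, 5, 6, 2, 4]⟩, ⟨[24, 23], 1828, true, [1, 10, 5, 6, 2, 6, 10, 5, 3, 6]⟩] [⟨[1587, 1583], 1693, true, [2, 5, 3, 6, 4, 6]⟩]),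
  (⟨false, 2, 8, [62, 55, 46, 28, 34, 41, 17, 23, 17, 2], [63, 48, 47, 41, 30, 28, 17, 23, 16], [45, 53, 33, 34, 40, 16, 16, 20, 25]⟩, .loop 60 5 [59, 44, 53, 36, 40, 35, 16, 24, 16, 25] 12 13 [⟨[], 921, false, [5, 3, 6, 2, 6, 2, 4]⟩, ⟨[24], 1447, false, [6, 2, 5, 6, 4, 5, 10]⟩, ⟨[23], 1004, true, [0, 4, 10, 5, 3, 6, 5, 10, 5, 6]⟩, ⟨[], 1169, true, [6, 4, 6, 5, 6, 2, 4]⟩, ⟨[23, 24, 23], 1479, true, [0, 3, 5, 3, 6, 5, 6, 4, 6]⟩, ⟨[24, 23], 1475, true, [2, 5, 3, 6, 5, 3]⟩] [⟨[38, 66, 37, 37], 1872, true, [1, 2, 6, 4, 5, 3, 6, 5]⟩]),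
  (⟨false, 2, 8, [67, 46, 57, 28, 34, 37, 16, 11, 18, 23, 23], [61, 48, 55, 30, 28, 17, 23, 18], [51, 47, 34, 41, 41, 19, 6, 17, 22]⟩, .loop 62 2 [62, 48, 53, 38, 31, 35, 2, 23, 6, 23, 4] 12 13 [⟨[23], 1148, false, [6, 5, 6, 10, 5, 6, 10, 5]⟩, ⟨[23, 24, 23], 1394, false, [6, 2, 4, 5, 6]⟩, ⟨[], 1291, true, [1, 6, 10, 5, 6, 4, 5, 3, 5, 6]⟩, ⟨[66, 37, 37], 934, false, [0, 6, 10, 5, 3, 6, 2, 4]⟩, ⟨[24], 1095, true, [0, 3, 4, 5, 6, 2, 6, 2, 5]⟩, ⟨[23, 24], 1303, true, [0, 6, 4, 10, 5, 6, 2, 5, 6, 4, 10]⟩] [⟨[23, 24, 23], 1865, true, [2, 3, 4, 5, 6, 5, 10, 5, 6]⟩]),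
  (⟨false, 2, 8, [62, 45, 56, 55, 34, 29, 41, 17, 17, 22, 16], [67, 44, 47, 44, 35, 28, 16, 16, 2, 23], [61, 45, 43, 34, 38, 2, 23, 8, 23, 25]⟩, .loop 61 2 [63, 50, 49, 30, 27, 31, 2, 17, 18, 22, 11] 2 3 [⟨[23], 488, false, [0, 3, 4, 6, 5, 3, 6, 5, 6]⟩] [⟨[], 1435, true, [0, 10, 5, 6, 4, 5, 6, 2, 6]⟩, ⟨[], 1712, true, [2, 6, 2, 5, 6, 4, 5, 3]⟩, ⟨[1549, 1549], 1726, true, [1, 2, 6, 4, 10, 5, 6, 2, 6, 4, 10]⟩, ⟨[38, 66, 66], 814, false, [0, 6, 4, 5, 10, 5, 6, 5, 3]⟩, ⟨[24], 729, true, [2, 6, 2, 6, 4, 5, 10]⟩, ⟨[24, 23], 1858, false, [1, 3, 6, 5, 6, 2, 5, 3]⟩]),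
  (⟨false, 8, 8, [50, 42, 30, 2, 17, 0, 23, 17], [61, 48, 45, 34, 33, 34, 16, 10], [60, 49, 44, 38, 30, 26, 16, 16, 25, 23]⟩, .loop 22 2 [61, 55, 42, 34, 33, 28, 17, 17] 2 3 [⟨[], 1827, false, [2, 6, 5, 6, 10, 5, 6, 2, 5, 10]⟩] [⟨[24, 23], 1635, true, [4, 6, 2, 5, 3, 6, 4, 6, 5, 3]⟩, ⟨[1549, 1549, 1583, 1583, 1549, 1549], 1804, true, [2, 5, 6, 5, 3, 5]⟩]),
  (⟨false, 8, 2, [62, 47, 55, 31, 28, 35, 2, 17, 17], [61, 45, 57, 28, 36, 40, 36, 17, 17, 22, 11], [61, 44, 47, 36, 28, 2, 17, 17, 13, 23]⟩, .loop 29 7 [59, 54, 56, 34, 26, 32, 16, 4, 16, 19] 2 3 [⟨[], 1807, false, [1, 2, 5, 3, 6, 5, 6, 2, 4, 6]⟩] [⟨[1583, 1583, 1549, 1549], 1604, true, [1, 6, 5, 6, 10, 5, 3, 6, 2, 6]⟩, ⟨[23, 24], 445, true, [4, 10, 5, 6, 5, 6, 2, 6, 4]⟩]),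
  (⟨false, 8, 2, [60, 46, 44, 33, 27, 34, 16], [61, 44, 55, 52, 31, 16, 11, 23], [61, 46, 56, 30, 37, 32, 16, 10, 8]⟩, .loop 70 2 [62, 48, 47, 34, 27, 41, 2, 17, 17, 0] 6 7 [⟨[23], 505, false, [0, 4, 6, 10, 5, 6, 2, 5, 6, 10]⟩, ⟨[24, 23], 526, false, [4, 5, 10, 5, 6, 4, 5, 6, 5, 10]⟩, ⟨[66, 66, 37, 37, 66], 1778, true, [1, 5, 6, 4, 6, 10, 5, 6, 4, 10]⟩] []),
  (⟨false, 8, 7, [59, 46, 30, 32, 36, 16, 21, 17], [60, 48, 28, 31, 26, 16, 16, 16, 4], [58, 45, 56, 50, 34, 26, 31, 2, 17, 17, 18, 18]⟩, .loop 48 5 [62, 47, 34, 31, 2, 17, 22, 6, 23] 2 3 [⟨[66, 37, 38], 1869, true, [4, 6, 1, 2, 6, 10, 5, 3]⟩] [⟨[37, 66, 38, 37], 1747, true, [5, 6, 1, 4, 5, 6, 4, 10]⟩]),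
  (⟨false, 8, 2, [63, 45, 54, 36, 29, 31, 16, 24, 6], [55, 42, 36, 32, 31, 2, 17, 17, 8, 21], [62, 44, 43, 57, 31, 33, 31, 2, 23, 17, 25, 21]⟩, .loop 50 5 [58, 55, 30, 29, 35, 2, 23, 25, 19] 6 7 [⟨[66, 38], 887, false, [2, 5, 3, 6, 4, 5, 6, 5, 6]⟩, ⟨[], 1616, false, [2, 6, 1, 2, 4, 5, 6, 5, 10, 5]⟩, ⟨[1583, 1587, 1583, 1549, 1549], 1839, true, [1, 2, 3, 6, 5, 3, 6, 5, 6]⟩] [⟨[66], 1279, true, [1, 4, 6, 5, 3, 6, 4, 6, 5, 6, 10]⟩, ⟨[24], 1193, true, [2, 6, 1, 4, 5, 10, 5, 6, 4, 5]⟩, ⟨[61, 30, 61, 61], 938, true, [0, 6, 10, 5, 3, 6, 4, 5, 6]⟩, ⟨[], 597, true, [6, 4, 6, 5, 10]⟩]),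
  (⟨false, 8, 2, [60, 44, 48, 43, 34, 28, 37], [61, 45, 52, 33, 34, 31, 2, 16, 16, 16], [66, 54, 50, 28, 38, 26, 17, 17, 22]⟩, .loop 22 2 [61, 45, 30, 35, 40, 16, 16, 25, 19] 6 7 [⟨[23, 24, 23], 772, true, [0, 5, 6, 4, 10, 5, 6, 2, 6, 2]⟩, ⟨[], 1120, false, [5, 3, 6, 2, 6, 5, 6, 4, 10]⟩, ⟨[23, 24, 23], 1836, true, [6, 1, 2, 5, 6, 4, 5]⟩] []),
  (⟨false, 8, 2, [63, 47, 48, 30, 40, 2, 23, 4, 19], [62, 46, 51, 28, 34, 33, 16, 16, 18, 21], [51, 28, 30, 2, 17, 17, 6, 20]⟩, .loop 47 2 [63, 44, 42, 54, 33, 38, 36, 16, 10, 16, 25] 2 3 [⟨[], 1838, false, [1, 3, 5, 6, 10, 5, 3, 6, 5, 10]⟩] [⟨[], 1306, true, [6, 1, 5, 3, 5]⟩]),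
  (⟨false, 2, 8, [47, 47, 28, 26, 41, 16, 16, 4, 18], [60, 44, 42, 33, 34], [67, 45, 54, 45, 28, 34, 37, 16, 16]⟩, .loop 32 8 [66, 44, 48, 52, 31, 37] 6 7 [⟨[], 1767, true, [4, 5, 6, 5, 3, 5, 6, 5, 10]⟩, ⟨[66, 37, 66, 38], 1496, true, [5, 6, 2, 4, 5, 6, 2, 6, 10]⟩, ⟨[24], 627, true, [1, 5, 3, 6, 2, 6, 2, 5, 6]⟩] []),
  (⟨false, 2, 8, [47, 53, 34, 33, 40, 17, 17, 23, 20], [48, 44, 30, 30, 34, 16, 16, 2], [60, 45, 45, 34, 28, 37, 2, 16, 16, 16]⟩, .loop 70 5 [60, 46, 44, 54, 41, 28, 32, 16, 10, 23] 2 3 [⟨[], 814, false, [1, 6, 4, 6, 2, 5, 6, 5, 3, 5]⟩] [⟨[66, 37], 303, false, [3, 4, 6, 5, 3, 6, 5, 3]⟩, ⟨[24, 23], 1818, false, [1, 4, 5, 3, 5, 6, 4, 5, 6, 2]⟩]),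
  (⟨false, 4, 8, [67, 51, 42, 30, 29, 30, 17, 17, 17, 24], [51, 43, 33, 36, 38, 16, 4, 23], [63, 49, 57, 36, 28, 38, 17, 17, 17, 19]⟩, .loop 61 5 [60, 44, 48, 52, 28, 40, 28, 16, 16, 25, 16] 8 9 [⟨[38, 66], 944, true, [2, 4, 6, 5, 10]⟩, ⟨[], 597, true, [0, 3, 4, 6, 4, 5, 6, 2, 5]⟩, ⟨[], 1227, true, [5, 3, 6, 2, 6, 4, 6, 5, 10]⟩, ⟨[23, 24, 23], 1193, true, [5, 6, 4, 6, 2, 4, 5, 6]⟩] [⟨[], 1633, true, [1, 6, 5, 6, 4, 5, 10, 5, 6, 2]⟩, ⟨[1583, 1587, 1583], 1616, true, [2, 6, 4, 5, 3, 6, 2, 5, 6, 2]⟩, ⟨[24], 1870, true, [4, 6, 1, 2, 10]⟩])]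

/-- facts 1888 and on -/
def facts59 : List (Fact × Why) := [
  (⟨false, 2, 8, [61, 44, 57, 49, 34, 26, 29, 16, 16, 8, 17, 12], [59, 47, 55, 40, 28, 17, 23, 16], [58, 49, 45, 35, 31, 29, 17, 17, 23, 10]⟩, .loop 33 5 [66, 47, 44, 51, 31, 33, 33, 17, 17, 17] 4 5 [⟨[37, 38], 1464, true, [0, 4, 5, 6, 10, 5, 6, 10]⟩, ⟨[23, 24, 23], 177, true, [10, 5, 6, 4, 6, 2, 4, 10, 5]⟩] [⟨[66, 66, 37, 66, 37], 1859, true, [1, 3, 6, 4, 6, 5, 6, 2, 4, 6]⟩]),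
  (⟨false, 8, 2, [48, 53, 30, 40, 31, 18, 23], [67, 48, 47, 33, 31, 36, 2, 17, 17, 24], [59, 44, 43, 57, 41, 34, 30, 17, 17, 17, 19]⟩, .loop 63 2 [44, 55, 33, 34, 33, 2, 23, 17, 19] 6 7 [⟨[], 867, true, [10, 5, 6, 1, 4, 6, 2, 4]⟩, ⟨[24], 889, true, [3, 4, 6, 1, 5, 3, 6, 4, 5, 10]⟩, ⟨[24], 1880, true, [1, 2, 6, 10, 5, 6, 2, 6, 5, 3]⟩] [⟨[24, 23], 1173, true, [0, 6, 10, 5, 6, 4, 6, 2, 10, 5]⟩, ⟨[], 984, true, [3, 5, 6, 1, 2, 5, 6, 4, 6, 10]⟩, ⟨[66, 37, 37, 66], 474, true, [2, 5, 6, 10, 5, 3, 6, 4]⟩, ⟨[23, 24, 23], 907, false, [5, 10, 5, 6, 5, 6, 4, 10, 5]⟩]),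
  (⟨false, 2, 8, [61, 45, 45, 31, 28, 37, 2, 17, 17, 25, 13], [58, 44, 51, 46, 41, 38, 2, 17, 17, 13, 19], [45, 54, 56, 30, 27, 35, 2, 16, 16, 22, 24]⟩, .loop 71 2 [59, 44, 47, 31, 28, 36, 2, 17, 17, 22, 22] 4 5 [⟨[24], 1225, false, [4, 6, 2, 5, 6, 2, 4, 5, 6]⟩, ⟨[23, 24, 23], 955, true, [3, 4, 6, 5, 6, 2, 5, 6, 4, 10]⟩] [⟨[24], 1843, true, [5, 3, 6, 5, 3, 6, 2]⟩]),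
  (⟨false, 2, 8, [60, 45, 53, 34, 36, 35, 2, 23, 18, 6], [59, 46, 33, 41, 28, 2, 16, 16, 6, 18], [66, 44, 43, 53, 28, 35, 36, 17, 17, 22, 16]⟩, .loop 46 8 [59, 48, 45, 31, 29, 27, 2, 17, 17, 10, 21] 4 5 [⟨[], 1846, false, [0, 6, 2, 5, 3, 6, 5, 6, 4]⟩, ⟨[66, 66, 37, 66], 141, true, [5, 6, 2, 4, 5, 6, 2, 5, 6, 4]⟩] []),
  (⟨false, 8, 2, [59, 47, 56, 33, 33, 2, 17, 17, 19, 10], [60, 47, 31, 29, 32, 2, 23, 8, 17, 25], [49, 47, 30, 26, 30, 16, 10, 17, 23]⟩, .loop 33 2 [62, 51, 57, 28, 34, 41, 16, 18, 16, 11] 4 5 [⟨[23, 24, 23], 904, true, [5, 6, 4, 5, 3, 5, 6]⟩, ⟨[23, 24], 1815, false, [2, 4, 6, 10, 5, 6, 4, 6, 5]⟩] [⟨[23], 1295, true, [3, 5, 6, 1, 4, 6, 2, 5, 6]⟩]),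
  (⟨false, 8, 2, [59, 44, 28, 26, 40, 16, 8, 17, 6], [67, 45, 50, 30, 35, 37, 16, 16, 2, 4], [61, 54, 43, 33, 34, 31, 2, 17, 23, 11, 11]⟩, .loop 22 8 [66, 48, 53, 28, 30, 38, 16, 11, 16, 10] 4 5 [⟨[1830, 1811], 1819, false, [1, 3, 4, 6, 2]⟩, ⟨[23, 24], 1797, true, [5, 6, 1, 4, 10, 5, 3, 6, 2, 6]⟩] [⟨[1830, 1811], 1836, false, [3, 5, 6, 5, 3, 6, 4]⟩]),
  (⟨false, 5, 8, [59, 44, 57, 55, 30, 29, 16, 11, 16, 16], [63, 50, 50, 33, 27, 27, 2, 23, 8, 23, 17], [67, 46, 43, 31, 27, 32, 17, 17, 23, 25]⟩, .loop 57 5 [59, 44, 42, 57, 35, 30, 36, 16, 24, 23, 23] 10 11 [⟨[66, 38], 680, false, [4, 6, 2, 5, 6, 4, 6, 2, 5, 3]⟩, ⟨[23, 24], 246, true, [6, 4, 5, 6, 10, 5, 10]⟩, ⟨[23, 24, 23], 1855, false, [0, 2, 4, 10, 5, 3, 6, 2, 6]⟩, ⟨[1830, 1793,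 1792], 1888, true, [0, 5, 3, 6, 4, 5, 6, 2, 6, 2, 4]⟩, ⟨[24], 361, true, [2, 5, 6, 1, 4, 5, 3, 6, 2, 5]⟩] [⟨[66, 66], 303, false, [1, 2, 3, 6, 2, 6, 4, 5, 6, 10]⟩, ⟨[23], 1886, false, [2, 4, 6, 1, 10, 5, 3, 6, 4]⟩]),
  (⟨false, 8, 2, [61, 51, 51, 17, 23, 16, 10], [61, 50, 49, 36, 35, 16, 11], [58, 45, 54, 56, 35, 30, 32, 16, 16, 4]⟩, .loop 69 3 [59, 44, 55, 50, 30, 28, 30, 2, 23, 10, 23, 18] 2 3 [⟨[21, 21, 21], 1781, false, [4, 5, 6, 1, 5, 3, 5, 6, 5]⟩] [⟨[50, 245, 50, 21], 127, false, [6, 1, 2, 5, 3, 6, 5, 6, 10, 5]⟩, ⟨[], 131, false, [0, 5, 10, 5, 6, 2, 5, 6, 10]⟩]),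
  (⟨false, 5, 8, [60, 46, 53, 31, 29, 2, 17, 17, 25, 8], [61, 47, 44, 38, 31, 35, 16, 4, 16, 19], [63, 51, 47, 31, 27, 31, 2, 17, 23, 20, 13]⟩, .loop 19 8 [58, 44, 53, 56, 31, 26, 2, 17, 17, 0, 8] 6 7 [⟨[1793], 1769, false, [1, 5, 6, 4, 6, 2, 5, 6, 10]⟩, ⟨[24], 1500, false, [2, 3, 6, 4, 6, 5, 6, 2, 10, 5]⟩, ⟨[23, 24], 817, true, [3, 6, 5, 6, 2, 10, 5, 6, 2, 6]⟩] []),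
  (⟨false, 5, 8, [66, 55, 43, 30, 32, 32, 16, 11, 23, 16, 16], [48, 46, 28, 38, 17, 17, 23, 10], [67, 44, 56, 46, 28, 36, 34, 2, 23, 4, 6, 23]⟩, .loop 56 2 [61, 48, 55, 41, 28, 16, 16, 25, 17] 10 11 [⟨[23], 1719, false, [1, 5, 3, 6, 4, 6, 2, 4]⟩, ⟨[1583], 1567, false, [4, 10, 5, 6, 2, 5, 3, 6, 4]⟩, ⟨[], 1491, false, [0, 6, 4, 5, 6, 4, 5, 3, 6]⟩, ⟨[23, 24, 23], 947, false, [4, 6, 5, 6, 2, 6, 5, 10]⟩, ⟨[23, 24, 23], 631, false, [0, 6, 5, 3, 6, 5, 3]⟩] [⟨[24], 588, false, [6, 2, 4, 6, 10, 5, 6, 5, 10, 5]⟩, ⟨[23], 1786, true, [4, 5, 3, 5, 6, 2, 4, 5]⟩]),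
  (⟨false, 7, 8, [47, 44, 51, 31, 27, 31, 16, 24, 17, 22], [66, 44, 42, 54, 33, 36, 30, 2, 23, 10, 17, 0], [63, 55, 36, 32, 2, 16, 16, 6, 23]⟩, .loop 58 2 [59, 55, 30, 29, 27, 2, 17, 22, 22, 21] 12 13 [⟨[], 286, true, [0, 6, 2, 5, 6, 4, 6, 5]⟩, ⟨[], 920, true, [2, 6, 1, 4, 10, 5, 3, 6, 4]⟩, ⟨[], 735, true, [0, 2, 3, 5, 6, 2, 4, 5, 6]⟩, ⟨[66, 66, 37], 1277, false, [0, 3, 6, 2, 4, 6, 5, 10]⟩, ⟨[], 875, true, [0, 6, 4, 6, 2, 6, 5, 3, 6, 5]⟩, ⟨[23], 1678, true, [1, 4, 5, 10, 5, 6, 5, 3]⟩] [⟨[23, 24], 1802, false, [3, 4, 6, 4, 5, 3, 6, 2, 5]⟩]),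
  (⟨false, 5, 8, [58, 54, 44, 40, 28, 16, 21, 17, 17], [59, 47, 49, 56, 31, 33, 34, 16, 11, 16, 8], [61, 44, 51, 48, 30, 41, 27, 16, 19, 6, 23]⟩, .loop 18 2 [60, 44, 47, 34, 29, 36, 16, 16, 16, 13] 4 5 [⟨[], 996, false, [0, 3, 5, 6, 4, 10, 5, 6, 4]⟩, ⟨[], 265, false, [1, 2, 10, 5, 6, 4, 5, 3, 6, 5]⟩] [⟨[23, 24], 1809, false, [0, 5, 3, 5, 6, 4, 6, 5, 6]⟩]),
  (⟨false, 5, 8, [66, 45, 54, 35, 16, 21, 16, 19], [67, 44, 42, 47, 28, 34, 40, 16, 8, 17, 17, 22], [63, 48, 55, 31, 32, 30, 16, 24, 16, 21]⟩, .loop 62 2 [50, 44, 16, 16, 4, 22] 12 13 [⟨[24], 768, true, [0, 5, 3, 6, 2, 6, 5, 6, 2, 4]⟩, ⟨[24], 1515, false, [1, 6, 2, 6, 2, 4, 5, 6]⟩, ⟨[23], 977, false, [6, 1, 2, 6, 4, 5, 6, 4]⟩, ⟨[23], 883, false, [0, 5, 3, 5, 6, 2, 4, 5, 3, 6,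 2]⟩, ⟨[24, 23], 604, true, [5, 3, 6, 5, 6, 5, 10]⟩, ⟨[], 663, true, [6, 5, 3, 6, 4, 5, 3, 6, 2]⟩] [⟨[], 1893, true, [1, 4, 5, 6, 10, 5, 6, 10]⟩]),
  (⟨false, 2, 8, [62, 50, 30, 41, 27, 16, 8, 17, 6], [59, 49, 45, 36, 26, 16, 18, 18], [58, 44, 42, 57, 30, 34, 34, 2, 23, 17, 0]⟩, .loop 35 2 [46, 48, 28, 35, 16, 11] 2 3 [⟨[24], 123, true, [6, 2, 4, 6, 5, 6, 2, 5]⟩] [⟨[], 933, false, [1, 6, 5, 6, 4, 6, 5, 3, 5]⟩, ⟨[24], 1885, false, [0, 2, 3, 6, 4, 5, 3, 6, 5]⟩]),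
  (⟨false, 5, 8, [62, 44, 57, 55, 28, 36, 29, 2, 17, 17, 6, 23], [66, 54, 47, 28, 40, 37, 16, 16, 16, 24], [45, 50, 40, 40, 32, 2, 17, 17, 0, 23]⟩, .loop 54 8 [67, 45, 50, 42, 34, 26, 30, 17, 23, 17, 19] 14 15 [⟨[], 1878, false, [1, 4, 6, 2, 5, 3, 6, 4, 5, 10]⟩, ⟨[1792, 1793, 1792], 1868, false, [2, 4, 5, 6, 5, 6, 2, 6, 10]⟩, ⟨[], 1533, false, [1, 3, 5, 6, 4, 6, 10]⟩, ⟨[23], 1525, false, [5, 3, 6, 2, 6, 5, 6, 4, 10]⟩, ⟨[], 1412, false, [6, 1, 5, 3, 6, 4, 5, 6, 4, 6]⟩, ⟨[38], 897, true, [4, 6, 2, 5, 6, 4, 5, 10, 5, 6, 2]⟩, ⟨[], 866, true, [1, 6, 10, 5, 3, 6, 4, 5, 10, 5]⟩] []),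
  (⟨false, 8, 2, [61, 45, 50, 35, 37, 16, 16, 16, 16], [58, 54, 50, 31, 36, 16, 24], [63, 44, 46, 30, 29, 30, 16, 16, 2, 25]⟩, .loop 33 2 [66, 50, 55, 41, 32, 29, 2, 17, 17, 22, 25] 2 3 [⟨[24], 1866, true, [5, 3, 6, 2, 5, 6, 2]⟩] [⟨[], 1729, false, [0, 6, 2, 6, 4, 6, 10, 5, 6]⟩, ⟨[1583, 1583, 1587, 1587, 1549], 1594, false, [0, 2, 6, 2, 4, 5, 6, 2, 5, 6, 4, 6]⟩]),
  (⟨false, 8, 2, [67, 49, 46, 30, 41, 26, 17, 23, 16, 6], [62, 45, 52, 28, 31, 37, 17, 17, 23, 16], [46, 44, 54, 28, 36, 29, 27, 16, 16, 16]⟩, .loop 57 2 [67, 55, 46, 30, 26, 31, 16, 16, 16, 24] 4 5 [⟨[], 1524, false, [6, 5, 10, 5, 6, 5, 10]⟩, ⟨[23], 1854, true, [6, 2, 4, 6, 5, 3, 6, 4, 6, 5]⟩] [⟨[24, 23], 451, false, [0, 3, 5, 6, 2, 6, 5, 6, 4]⟩, ⟨[37, 66, 66, 38], 1196,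 true, [5, 6, 4, 5, 3, 5, 6, 2, 5]⟩, ⟨[], 1718, true, [5, 3, 6, 1, 5, 6, 4, 6, 2]⟩, ⟨[1583, 1583, 1587, 1587, 1549, 1549], 1744, true, [2, 4, 6, 1, 2, 5, 3, 6, 4, 5]⟩, ⟨[24, 23], 1307, false, [4, 5, 6, 5, 3, 6, 2, 4, 6]⟩]),
  (⟨false, 2, 8, [67, 48, 56, 36, 35, 2, 17, 23, 4], [63, 44, 56, 28, 34, 16, 25, 17], [61, 44, 43, 51, 28, 40, 36, 2, 17, 23, 11]⟩, .loop 65 2 [59, 48, 42, 33, 29, 35, 16, 16, 25, 22] 8 9 [⟨[24], 1196, false, [0, 2, 6, 10, 5, 6, 4, 10, 5]⟩, ⟨[66, 66, 38], 1245, false, [1, 4, 5, 3, 6, 2, 6, 4, 5, 6]⟩, ⟨[23, 24], 1744, false, [2, 3, 6, 2, 5, 6, 4, 6, 10]⟩, ⟨[1587, 1587, 1549, 1549], 1589, false, [0, 10, 5, 3, 6, 2, 4, 6, 5]⟩] [⟨[], 1093, true, [1, 3, 5, 6, 2, 10]⟩, ⟨[23, 24, 23], 1383, true, [1, 3, 6, 4, 5, 3]⟩,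 ⟨[], 1854, true, [1, 5, 6, 4, 5, 3, 6, 4]⟩]),
  (⟨false, 8, 2, [63, 45, 53, 34, 29, 41, 16, 2, 24, 6], [59, 44, 43, 40, 32, 17, 17, 22, 19], [61, 44, 42, 48, 28, 34, 41, 16, 4, 23]⟩, .loop 35 2 [60, 44, 42, 45, 40, 38, 16, 16, 18, 16] 6 7 [⟨[23], 1771, true, [2, 3, 4, 6, 5, 3, 6, 2, 4, 6, 5]⟩, ⟨[1793, 1792, 1793, 1792, 1793], 1798, true, [1, 2, 6]⟩, ⟨[37, 37, 66], 1874, true, [1, 6, 4, 6, 5, 10, 5, 6, 2]⟩] []),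
  (⟨false, 8, 2, [66, 51, 53, 41, 38, 2, 17, 17, 22, 6], [66, 48, 50, 28, 34, 30, 16, 21, 23], [62, 47, 50, 31, 34, 30, 17, 22]⟩, .loop 31 2 [67, 44, 42, 51, 35, 31, 27, 16, 16, 13, 19] 6 7 [⟨[24], 1347, true, [2, 5, 6, 2, 10, 5]⟩, ⟨[23], 214, true, [6, 2, 5, 6, 4, 10, 5, 3, 6]⟩, ⟨[66, 66, 38, 66, 37], 1778, true, [0, 4, 10, 5, 6, 2, 6, 5, 3, 6]⟩] []),
  (⟨false, 2, 8, [63, 45, 43, 28, 30, 29, 16, 16, 22, 10], [61, 54, 46, 28, 34, 40, 16, 11, 16, 21, 22], [61, 46, 51, 41, 28, 33, 16, 21, 23, 23]⟩, .loop 31 8 [63, 45, 50, 42, 31, 29, 32, 16, 16, 2, 23] 6 7 [⟨[], 1903, false, [1, 6, 10, 5, 6, 4, 6, 2, 10]⟩, ⟨[23, 24], 1645, false, [1, 3, 6, 4, 5, 10, 5, 6, 4, 6]⟩, ⟨[1587, 1583, 1587], 1567, false, [3, 4, 5, 6, 2, 6, 4, 5, 6, 2, 6]⟩]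 []),
  (⟨false, 8, 2, [58, 50, 46, 31, 33, 34, 17, 22, 6, 22], [66, 46, 42, 51, 38, 33, 16, 18, 16, 8], [63, 49, 42, 34, 26, 30, 16, 16, 8, 16, 20]⟩, .loop 49 2 [61, 48, 50, 30, 32, 30, 17, 23, 17, 2] 4 5 [⟨[], 1533, true, [4, 5, 6, 10, 5, 3, 6, 4, 6, 2]⟩, ⟨[], 1868, true, [1, 3, 4, 6, 4, 6, 2, 4, 5, 6]⟩] []),
  (⟨false, 2, 8, [62, 49, 51, 35, 31, 26, 2, 17, 23, 11, 24], [60, 49, 31, 33, 16, 16, 20, 13], [63, 48, 55, 38, 32, 2, 17, 17, 0, 8]⟩, .loop 19 8 [62, 45, 50, 45, 35, 37, 2, 23, 10, 23, 6] 6 7 [⟨[1830], 1850, false, [1, 2, 6, 2, 6, 10, 5, 3, 6]⟩, ⟨[], 1182, false, [0, 2, 3, 4, 6, 4, 6, 5, 3]⟩, ⟨[23, 24, 23], 795, true, [1, 6, 4, 6, 2, 10, 5]⟩] []),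
  (⟨false, 2, 8, [62, 49, 45, 38, 40, 16, 16, 20, 18], [66, 49, 44, 40, 32, 2, 17, 23, 20, 24], [61, 45, 48, 30, 28, 28, 16, 16, 22, 19]⟩, .loop 21 2 [59, 52, 28, 35, 36, 16, 10, 16, 25] 4 5 [⟨[23, 24], 1166, true, [0, 3, 6, 4, 6, 5, 10, 5, 6, 5]⟩, ⟨[23], 879, false, [0, 6, 2, 5, 6, 4, 10, 5, 6, 10]⟩] [⟨[23, 24, 23], 1827, false, [0, 6, 2, 5, 6, 4, 6, 2, 5]⟩]),
  (⟨false, 8, 3, [60, 51, 46, 38, 32, 34, 17, 23, 17], [67, 54, 43, 33, 31, 2, 17, 17, 18, 10], [59, 48, 42, 40, 30, 2, 17, 17, 11, 19]⟩, .loop 33 2 [46, 42, 34, 27, 2, 23, 17, 19] 4 5 [⟨[], 1069, true, [0, 6, 4, 6, 10, 5, 6, 10, 5, 10]⟩, ⟨[24], 1795, false, [1, 10]⟩] [⟨[24], 555, true, [6, 4, 5, 6, 2, 4, 5]⟩]),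
  (⟨false, 8, 5, [63, 44, 53, 56, 30, 26, 31, 16, 16, 16, 2, 13], [62, 49, 45, 30, 34, 27, 2, 23, 4, 6, 23], [61, 46, 48, 28, 36, 29, 27, 2, 23, 23, 23, 24]⟩, .loop 48 5 [62, 45, 54, 56, 31, 26, 16, 2, 0, 16] 4 5 [⟨[37], 680, false, [4, 6, 2, 5, 3, 6, 2, 5, 10]⟩, ⟨[23, 24], 1821, true, [0, 5, 6, 4, 6, 10, 5, 6, 5]⟩] []),
  (⟨false, 8, 6, [44, 46, 57, 33, 27, 27, 16, 10, 18], [58, 51, 55, 33, 28, 37, 2, 16, 6, 23], [66, 44, 43, 36, 27, 35, 2, 23, 23, 18]⟩, .loop 23 2 [60, 48, 43, 30, 26, 40, 17] 4 5 [⟨[], 34, false, [1, 6, 4, 6, 10, 5, 10]⟩, ⟨[38], 1846, true, [1, 4, 10, 5, 6, 4, 5, 6, 2]⟩] [⟨[24, 23], 97, true, [0, 2, 4, 6, 4, 6, 4, 5, 10, 5]⟩]),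
  (⟨false, 8, 8, [58, 47, 44, 51, 36, 35, 35, 16, 4, 16, 19, 11], [66, 48, 42, 36, 32, 30, 16, 11, 11, 16], [67, 48, 53, 33, 35, 29, 16, 16, 10, 18]⟩, .loop 68 8 [63, 48, 44, 31, 36, 28, 16, 11, 16, 25, 22] 6 7 [⟨[1792], 1845, false, [3, 5, 6, 4, 10, 5, 6, 2]⟩, ⟨[63, 61], 26, false, [2, 3, 5, 6, 4, 6, 2, 6, 10]⟩, ⟨[63, 63, 61, 61, 28], 1845, true, [10, 5, 6, 1, 4, 5, 6, 10, 5]⟩] []),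
  (⟨false, 2, 8, [58, 50, 46, 34, 27, 41, 16, 21], [60, 44, 43, 53, 30, 34, 28, 16, 10, 16, 16], [58, 45, 50, 45, 28, 35, 27, 2, 16, 16, 16, 6]⟩, .loop 20 5 [63, 49, 56, 30, 29, 35, 2, 17, 23, 25] 4 5 [⟨[37, 66, 66], 87, false, [1, 2, 6, 2, 5, 6, 2, 4, 10, 5]⟩, ⟨[66, 38, 66], 140, true, [5, 3, 5, 6, 5, 10]⟩] [⟨[37, 66, 37], 1835, true, [2, 4, 6, 4, 5, 6, 5]⟩]),
  (⟨false, 8, 2, [61, 50, 42, 31, 29, 37, 2, 23, 10, 17, 19], [61, 46, 48, 28, 30, 41, 41, 16, 10, 23], [63, 51, 47, 31, 34, 28, 16, 10, 13]⟩, .loop 68 2 [58, 45, 43, 36, 28, 38, 16, 11, 23] 6 7 [⟨[], 509, true, [0, 2, 4, 6, 2, 5, 6, 5, 6, 10]⟩, ⟨[24], 577, false, [1, 4, 6, 10, 5, 3, 6, 2, 5]⟩, ⟨[23, 24, 23], 1827, false, [3, 4, 6, 1, 5, 3, 6, 2, 6]⟩] []),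
  (⟨false, 2, 8, [59, 49, 53, 36, 32, 26, 16, 19, 6, 17], [58, 45, 50, 42, 30, 32, 16, 10, 25], [60, 48, 47, 34, 2, 17, 22, 16, 21]⟩, .loop 48 3 [59, 54, 50, 30, 32, 30, 16, 16, 2, 4, 23] 2 3 [⟨[], 81, false, [6, 5, 6, 4, 6, 2, 10]⟩] [⟨[245, 245, 245, 22, 22], 1781, false, [4, 5, 3, 6, 5, 10, 5, 6, 4, 6]⟩]),
  (⟨false, 8, 5, [62, 52, 49, 35, 31, 26, 16, 16, 16, 2], [58, 46, 44, 54, 31, 28, 36, 16, 24], [58, 47, 47, 52, 30, 29, 27, 16, 10, 16, 24]⟩, .loop 31 5 [60, 46, 44, 40, 35, 2, 17, 25, 19] 6 7 [⟨[37], 71, true, [3, 6, 2, 4, 5]⟩, ⟨[27, 63, 63], 493, false, [0, 3, 6, 4, 6, 2, 6, 5, 10]⟩, ⟨[24], 1873, true, [2, 6, 2, 5, 3, 6, 5, 6, 4]⟩] [])]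

/-- facts 1920 and on -/
def facts60 : List (Fact × Why) := [
  (⟨false, 8, 5, [60, 44, 46, 57, 30, 32, 36, 2, 17, 25, 17], [66, 49, 46, 33, 28, 37, 16, 19, 22, 16], [63, 44, 57, 55, 40, 37, 16, 4, 16, 19, 23]⟩, .loop 62 8 [66, 52, 50, 30, 41, 34, 2, 23, 10, 17, 0] 12 13 [⟨[1811], 1868, false, [1, 10, 5, 6, 5, 3, 6, 4, 5]⟩, ⟨[], 1495, false, [3, 4, 5, 6, 2, 10, 5, 6, 4]⟩, ⟨[], 1533, true, [6, 1, 2, 6, 10, 5, 6, 4]⟩, ⟨[23], 866, true, [4, 6, 1, 5, 3, 6, 5, 6]⟩, ⟨[37, 38], 1412, true, [1, 5, 3, 6, 2, 6, 5, 6, 10]⟩, ⟨[], 1890, false, [2, 3, 6, 1, 4, 5, 3, 6, 4, 5]⟩] [⟨[1792, 1792, 1793, 1792], 1902, true, [0, 4, 10, 5, 3, 6, 2, 4, 5, 6, 4]⟩]),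
  (⟨false, 8, 3, [63, 46, 51, 28, 31, 35, 17, 17, 17], [66, 44, 48, 43, 28, 26, 31, 16, 25], [59, 47, 51, 33, 27, 31, 2, 17, 19, 25]⟩, .loop 32 3 [61, 44, 42, 47, 28, 40, 31, 17] 6 7 [⟨[], 18, true, [2, 5, 6, 2, 5, 6, 4, 10]⟩, ⟨[13, 10, 12, 14, 11, 11, 13, 12], 31, false, [0, 4, 6, 10, 5, 6, 4, 5, 3]⟩, ⟨[66, 38], 1798, false, [6, 4, 5, 6, 4, 6, 5, 10]⟩] []),
  (⟨false, 8, 3, [54, 43, 35, 36, 16, 19, 22], [59, 50, 45, 33, 29, 31, 17, 17, 22, 19], [58, 48, 53, 36, 30, 40, 2, 17, 17, 6, 24]⟩, .loop 70 3 [62, 44, 48, 52, 30, 34, 2, 17, 17, 0, 25] 6 7 [⟨[22, 245], 19, false, [5, 6, 4, 5, 6, 4, 5, 6]⟩, ⟨[24, 23], 123, false, [1, 2, 5, 3, 6, 5, 6, 10, 5, 6]⟩, ⟨[23], 1917, true, [0, 2, 5, 6, 10, 5, 6, 4, 6, 5, 6]⟩] []),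
  (⟨false, 8, 3, [58, 48, 30, 30, 28, 2, 16, 6, 23, 23], [47, 49, 56, 31, 36, 33, 16, 10], [67, 44, 43, 53, 34, 27, 41, 2, 17, 23, 10, 16]⟩, .loop 45 5 [58, 50, 42, 31, 27, 32, 2, 17, 23, 6, 20] 2 3 [⟨[37, 37], 1835, true, [6, 1, 4, 6, 2, 5, 3]⟩] [⟨[38], 78, true, [4, 5, 6, 4, 5, 6, 2, 4, 5]⟩]),
  (⟨false, 2, 9, [59, 51, 31, 32, 36, 2, 23], [], []⟩, .defn),
  (⟨false, 9, 7, [62, 52, 50, 31, 36, 34], [45, 53, 48, 30, 30, 40, 2, 17, 23, 10, 16], [58, 49, 56, 28, 36, 40, 16, 16, 4, 8]⟩, .loop 64 2 [66, 46, 49, 28, 34, 37, 2, 17, 17, 17, 8] 2 3 [⟨[23, 24], 1924, false, [2, 4, 5, 3, 6, 5, 6, 2, 4, 10]⟩] [⟨[23, 24, 23], 1382, false, [3, 5, 3, 6, 1, 4, 5, 3]⟩, ⟨[23, 24, 23], 980, true, [0, 5, 6, 5, 3, 5, 6, 2, 5, 3]⟩, ⟨[23, 24], 1202,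 false, [5, 6, 2, 6, 4, 5, 6, 2, 6, 10]⟩, ⟨[24], 185, true, [6, 1, 5, 6, 4, 10, 5, 6]⟩, ⟨[], 158, true, [0, 3, 5, 6, 2, 4, 6, 5]⟩, ⟨[22, 50, 22, 22], 1581, false, [2, 4, 6, 2, 10, 5, 6, 5, 6, 10]⟩]),
  (⟨false, 2, 9, [67, 45, 43, 30, 32, 32, 16, 11, 23, 16, 16], [67, 47, 47, 34, 31, 38, 16, 25], [62, 44, 42, 38, 35, 36, 2, 16, 6, 23, 17]⟩, .loop 32 9 [50, 47, 28, 30, 38, 17] 6 7 [⟨[], 1924, true, [5, 6, 2, 4, 5, 6, 4, 6]⟩, ⟨[23], 916, false, [1, 2, 10, 5, 6, 4, 6, 2, 5, 6]⟩, ⟨[24], 999, false, [6, 2, 4, 5, 6, 4]⟩] []),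
  (⟨false, 2, 9, [67, 51, 49, 34, 33, 40, 16, 10, 23], [67, 44, 48, 31, 41, 36, 16, 22, 22, 8], [60, 47, 52, 28, 35, 41, 16, 4, 16, 19, 6]⟩, .loop 19 2 [67, 57, 28, 26, 31, 2, 16, 6, 22, 6] 4 5 [⟨[23], 577, false, [5, 6, 1, 4, 5, 6, 4, 5, 3, 6]⟩, ⟨[24], 1050, false, [0, 2, 10, 5, 6, 5, 10, 5, 6, 5]⟩] [⟨[], 1926, false, [0, 2, 6, 4, 5, 6, 2, 10]⟩]),
  (⟨false, 9, 2, [63, 44, 46, 30, 35, 37, 17], [61, 46, 42, 40, 30, 16, 4, 16, 25], [66, 44, 46, 57, 28, 30, 30, 2, 16, 6]⟩, .loop 61 7 [58, 50, 49, 30, 41, 26, 16, 16, 8] 2 3 [⟨[1583, 1549], 1925, true, [0, 1, 2, 3, 4, 5]⟩] [⟨[1583, 1583, 1587, 1587], 1742, true, [0, 2, 6, 10, 5, 6, 4, 6, 2, 5]⟩, ⟨[23], 370, false, [1, 6, 2, 5, 6, 4, 10, 5, 3]⟩, ⟨[22, 21, 22, 22, 21], 1234, false, [3,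 5, 6, 2, 6, 4, 6, 10, 5]⟩, ⟨[], 516, false, [3, 5, 3, 6, 2, 5, 6, 10]⟩, ⟨[24, 23], 185, false, [0, 2, 4, 10, 5, 3, 6, 4, 5, 10]⟩, ⟨[24], 568, true, [2, 3, 6, 1, 5, 6, 4, 6, 10]⟩]),
  (⟨false, 9, 2, [62, 51, 47, 35, 35, 16, 21, 16, 4], [62, 45, 50, 42, 36, 27, 27, 2, 17, 0, 23, 13], [60, 48, 43, 31, 33, 33, 16, 24, 16, 16]⟩, .loop 17 2 [45, 56, 35, 30, 36, 17, 23, 18, 23] 2 3 [⟨[], 1926, false, [3, 5, 3, 6, 4, 6, 4, 5, 6]⟩] [⟨[24, 23], 1449, false, [0, 2, 6, 5, 3, 6, 5, 6, 10, 5, 6, 10]⟩, ⟨[24], 665, true, [4, 6, 1, 5, 3, 5, 6, 2]⟩]),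
  (⟨false, 9, 2, [58, 52, 50, 30, 37, 40, 16, 25], [67, 55, 49, 38, 28, 31, 2, 23, 13], [59, 45, 42, 45, 41, 36, 17, 23, 4, 6]⟩, .loop 72 2 [66, 45, 50, 42, 35, 36, 16, 4, 16, 19] 2 3 [⟨[24], 1928, true, [2, 3, 5, 6, 1, 4, 6, 5]⟩] [⟨[23, 24, 23], 602, true, [3, 4, 6, 2, 5, 6, 2, 4, 5, 6]⟩, ⟨[], 1328, false, [0, 5, 3, 6, 2, 6, 4, 5, 6, 2]⟩]),
  (⟨false, 9, 5, [61, 54, 46, 38, 28, 41, 16, 21], [60, 44, 43, 53, 34, 41, 2, 23, 17, 22, 11], [66, 44, 53, 30, 34, 27, 2, 17, 23, 12]⟩, .loop 52 5 [67, 54, 31, 34, 30, 16, 16, 18, 11, 16] 14 15 [⟨[], 1464, true, [0, 6, 2, 5, 6, 5]⟩, ⟨[23, 24, 23], 620, false, [1, 6, 2, 4, 6, 10, 5, 6, 4]⟩, ⟨[24], 1022, false, [2, 10, 5, 6, 4, 6, 4, 5]⟩, ⟨[24], 300, true, [3, 6, 5, 6, 5, 10, 5, 6, 2]⟩, ⟨[24,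 23], 1470, false, [2, 10, 5, 3, 6, 5, 6, 4, 6]⟩, ⟨[23, 24], 638, true, [3, 5, 6, 5, 3, 5, 6, 4, 6]⟩, ⟨[], 1930, true, [3, 6, 2, 6, 5, 3, 6, 5, 6, 2]⟩] []),
  (⟨false, 2, 9, [60, 51, 52, 31, 27, 32, 16, 16, 10, 21], [61, 51, 44, 34, 26, 29, 16, 22, 19], [59, 48, 55, 28, 36, 34, 2, 23, 23, 10]⟩, .loop 57 2 [63, 45, 42, 51, 31, 34, 41, 17, 22, 6, 25] 2 3 [⟨[], 630, true, [5, 6, 2, 6, 10, 5, 3, 6, 4, 5]⟩] [⟨[24], 1380, false, [2, 6, 5, 6, 2, 5, 10]⟩, ⟨[23, 24], 878, false, [1, 3, 4, 6, 4, 5, 10]⟩, ⟨[24, 23], 1470, true, [2, 3, 5, 6, 1, 4, 6, 2]⟩, ⟨[24, 23], 379, false, [5, 3, 6, 1, 4, 6, 5, 6, 10]⟩, ⟨[23, 24, 23], 381, false, [3, 6, 5, 6, 4, 6, 5]⟩, ⟨[66, 66, 38, 66], 1931, true, [1, 6, 4, 6, 2, 4, 10, 5, 6, 5]⟩]),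
  (⟨false, 9, 2, [61, 51, 43, 34, 31, 41, 2, 17, 23, 17, 24], [67, 45, 43, 30, 26, 34, 16, 16, 16, 4, 13], [61, 50, 46, 30, 26, 28, 16, 16, 16, 4]⟩, .loop 68 2 [66, 44, 46, 48, 28, 30, 30, 2, 23, 23, 25, 10] 2 3 [⟨[], 1927, false, [0, 5, 3, 6, 4, 5, 3, 6, 4]⟩] [⟨[23, 24, 23], 1479, false, [0, 2, 4, 5, 3, 6, 2, 5, 6, 2]⟩, ⟨[24], 472, true, [2, 5, 6, 2, 4, 5, 3, 6, 2, 6, 4]⟩]),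
  (⟨false, 9, 2, [63, 47, 49, 56, 28, 34, 37, 2, 23, 18, 6], [61, 51, 42, 28, 30, 2, 17, 17, 23], [61, 51, 49, 30, 30, 35, 16, 16, 19, 6]⟩, .loop 72 2 [61, 44, 57, 55, 30, 27, 38, 16, 16, 20, 19] 6 7 [⟨[], 330, false, [0, 2, 3, 5, 6, 4, 6, 5, 6, 10]⟩, ⟨[66, 66, 38, 37], 241, false, [2, 3, 4, 6, 1, 5, 10]⟩, ⟨[23, 24], 1929, true, [0, 2, 3, 5, 6, 5, 3, 5, 6]⟩] []),
  (⟨false, 7, 9, [60, 50, 50, 28, 31, 35, 2, 23, 23, 16], [58, 47, 48, 28, 41, 2, 17, 23, 20, 13], [66, 44, 47, 52, 34, 27, 31, 2, 17, 23, 23, 8]⟩, .loop 17 9 [67, 48, 28, 35, 28, 16, 16, 16, 4] 6 7 [⟨[], 1933, false, [6, 4, 5, 3, 5, 6, 2, 6, 4]⟩, ⟨[23, 24], 1183, true, [6, 1, 5]⟩, ⟨[23], 1659, false, [0, 2, 4, 5, 6, 10, 5, 3, 6, 2]⟩] []),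
  (⟨false, 9, 2, [60, 50, 45, 33, 35, 29, 2, 23, 17, 25], [58, 52, 55, 33, 27, 30, 16, 16, 10, 22], [62, 47, 53, 34, 26, 34, 16, 22, 22, 4]⟩, .loop 56 2 [58, 51, 55, 30, 32, 26, 16, 22, 22, 8] 4 5 [⟨[24], 715, true, [2, 4, 10, 5, 6, 4, 5, 3, 6]⟩, ⟨[], 1934, true, [4, 6, 2, 6, 10, 5, 6, 4, 5, 10]⟩] [⟨[23, 24, 23], 1092, true, [2, 6, 1, 4, 5, 6, 10]⟩, ⟨[38, 37], 219, false, [1, 2, 6, 2, 6, 4, 5, 6, 10]⟩, ⟨[], 1448, false, [4, 6, 1, 5, 10, 5, 6, 4, 6]⟩, ⟨[24, 23], 1188, false, [4, 6, 2, 6, 4, 6, 5, 6]⟩, ⟨[23, 24, 23], 974, false, [1, 3, 5, 6, 5, 3, 6, 4, 6]⟩]),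
  (⟨false, 9, 5, [63, 48, 57, 41, 32, 16, 25], [59, 45, 54, 56, 28, 36, 40, 16, 16, 20, 25, 23], [67, 55, 42, 30, 38, 40, 16, 16, 4]⟩, .loop 69 2 [59, 45, 56, 31, 35, 16, 21, 16, 11] 4 5 [⟨[], 1570, false, [1, 6, 5, 6, 4, 5, 6, 2]⟩, ⟨[1549], 1925, true, [4, 10, 5, 3, 6, 4, 5, 10, 5, 6]⟩] [⟨[], 1451, true, [3, 6, 4, 6, 5, 6, 4, 5, 3, 6]⟩]),
  (⟨false, 9, 2, [62, 51, 41, 29], [61, 49, 49, 38, 31, 35, 2, 16], [62, 44, 43, 53, 30, 37, 30, 16, 2, 16, 2]⟩, .loop 17 2 [61, 54, 46, 30, 27, 36, 17, 22, 6, 16] 4 5 [⟨[], 1580, true, [0, 4, 6, 5, 3, 5, 6, 2, 5, 6]⟩, ⟨[1583, 1587], 1925, true, [2, 10, 5, 6, 1, 5, 3, 5, 6]⟩] [⟨[24], 1108, true, [2, 10, 5, 3, 6, 1, 4, 6, 2]⟩]),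
  (⟨false, 9, 5, [54, 30, 30, 41, 2, 17, 23, 20, 25], [62, 54, 43, 41, 29, 40, 16, 2, 11, 23], [66, 45, 42, 45, 38, 28, 41, 16, 16, 24, 12]⟩, .loop 33 2 [63, 54, 56, 31, 34, 27, 16, 16, 18, 0] 2 3 [⟨[], 1930, true, [0, 4, 5, 6, 2, 4, 5, 6]⟩] [⟨[24, 23], 222, true, [5, 10, 5, 6, 2, 6, 5, 6, 2]⟩, ⟨[23], 565, true, [1, 3, 5, 3, 6, 2, 6, 5, 10]⟩]),
  (⟨false, 9, 2, [60, 50, 55, 28, 34, 33, 16, 16, 22, 17], [67, 50, 47, 41, 30, 17, 23, 16, 22], [58, 50, 48, 38, 28, 2, 17, 17, 17, 2]⟩, .loop 53 5 [63, 49, 44, 36, 16, 10, 17, 23] 8 9 [⟨[37], 219, false, [4, 6, 4, 5, 3, 6, 2, 5, 6, 10]⟩, ⟨[], 261, true, [6, 5, 6, 4, 5, 6, 4, 10, 5, 3]⟩, ⟨[], 259, true, [0, 3, 5, 3, 6, 4, 5, 10, 5, 6, 2]⟩, ⟨[23, 24, 23], 1934, true, [2, 5, 6, 5, 3, 6, 4,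 6]⟩] [⟨[66, 66, 37, 38], 621, true, [5, 3, 6, 1, 2, 4, 5]⟩, ⟨[23, 24], 1188, true, [3, 4, 5, 6, 1, 2, 5, 6]⟩, ⟨[23], 1143, true, [10, 5, 6, 4, 6, 5, 6, 5]⟩]),
  (⟨false, 9, 5, [66, 45, 42, 45, 31, 36, 16, 16, 25, 18], [63, 44, 51, 30, 40, 27, 16, 16, 25, 16], [63, 48, 53, 28, 30, 34, 2, 23, 17, 18]⟩, .loop 69 2 [59, 52, 48, 33, 31, 38, 16, 10, 18] 4 5 [⟨[24], 1366, true, [0, 5, 3, 6, 2, 6, 4, 5, 10]⟩, ⟨[24, 23], 1933, true, [3, 6, 1, 5, 10, 5, 6, 2]⟩] [⟨[23, 24], 909, true, [0, 3, 4, 5, 6, 4, 6, 4, 6]⟩]),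
  (⟨false, 9, 5, [58, 55, 42, 28, 36, 33, 16, 16, 11, 24], [63, 47, 44, 51, 40, 35, 2, 17, 17, 25, 21], [67, 49, 42, 36, 35, 35, 16, 16, 2, 23]⟩, .loop 50 2 [67, 51, 43, 34, 41, 2, 23, 6, 19] 12 13 [⟨[24], 421, true, [6, 2, 5, 6, 4, 6, 2, 10]⟩, ⟨[23, 24, 23], 554, true, [3, 6, 1, 2, 5, 6, 5]⟩, ⟨[23, 24, 23], 337, true, [0, 3, 5, 3, 6, 4, 5, 6, 5, 10, 5]⟩, ⟨[24], 926, true, [0, 6, 10, 5, 6, 2, 4, 6, 5, 3]⟩, ⟨[24, 23], 1038, false, [0, 4, 5, 6, 4, 6, 5, 6, 5, 3]⟩, ⟨[24, 23], 1933, true, [1, 10, 5, 6, 4, 5, 10, 5]⟩] [⟨[23, 24, 23], 734, true, [6, 1, 2, 4, 10, 5, 6]⟩]),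
  (⟨false, 9, 5, [58, 49, 51, 28, 38, 2, 23, 4, 6], [61, 44, 51, 38, 37, 17, 23, 4, 6], [67, 48, 42, 38, 32, 2, 16, 16, 16, 6]⟩, .loop 53 5 [67, 44, 42, 47, 38, 31, 16, 18, 18, 22] 14 15 [⟨[66, 38, 66], 721, true, [0, 6, 2, 4, 5, 6]⟩, ⟨[23], 1448, true, [2, 3, 4, 6, 1, 4, 6]⟩, ⟨[24], 1183, true, [3, 5, 6, 4, 6, 5, 6, 2, 10]⟩, ⟨[24, 23], 830, true, [2, 5, 6, 2, 5, 3, 6, 4, 6]⟩, ⟨[24], 715, false, [3, 5, 3, 6, 5, 6, 2, 6]⟩, ⟨[23, 24, 23], 1160, true, [0, 4, 5, 6, 2, 5, 6, 5, 10]⟩, ⟨[23, 24], 1936, true, [0, 3, 4, 5, 6, 10, 5, 3, 6, 2]⟩] []),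
  (⟨false, 2, 9, [47, 44, 28, 30, 27, 31, 16, 16, 2, 20], [63, 45, 50, 45, 30, 29, 40, 17, 17], [44, 46, 35, 30, 16, 2, 16, 6]⟩, .loop 51 2 [66, 45, 50, 45, 31, 26, 34, 16, 11, 19, 6] 10 11 [⟨[24, 23], 381, false, [6, 5, 6, 4, 5, 6, 5, 10]⟩, ⟨[37, 37], 1220, true, [6, 2, 4, 5, 6, 5, 6, 2, 10]⟩, ⟨[], 638, false, [6, 4, 5, 6, 10, 5, 3]⟩, ⟨[], 878, true, [0, 2, 3, 4, 5, 6, 4, 10, 5]⟩, ⟨[23], 558, false, [0, 2, 4, 6, 4, 5, 3, 6, 5, 10]⟩] [⟨[23], 1022, false, [0, 5, 6, 4, 10, 5, 6, 2, 10, 5]⟩, ⟨[], 1932, false, [0, 2, 4, 6, 2, 10, 5, 6, 4, 5, 10]⟩]),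
  (⟨false, 2, 9, [62, 54, 52, 31, 35, 26, 16, 16, 10, 22], [61, 44, 31, 37, 35, 16, 16, 2, 0], [60, 50, 44, 40, 28, 40, 16, 16, 18, 21]⟩, .loop 32 9 [67, 44, 36, 40, 16, 16, 2, 0] 6 7 [⟨[], 1929, false, [0, 3, 5, 6, 4, 6, 5, 6, 2, 10]⟩, ⟨[23], 440, true, [1, 2, 4, 5, 3, 6, 4, 5, 10]⟩, ⟨[], 1406, false, [6, 2, 5, 3, 6, 4, 5, 6, 4]⟩] []),
  (⟨false, 9, 2, [63, 49, 31, 34, 27, 2, 23, 10, 23, 18], [58, 47, 56, 31, 35, 2, 17, 25], [67, 54, 36, 30, 40, 2, 17, 17, 13, 22]⟩, .loop 20 2 [62, 44, 28, 41, 34, 16, 11, 19, 6] 6 7 [⟨[], 1795, false, [1, 5, 6, 4, 5, 6, 2, 5, 6, 4]⟩, ⟨[1830, 1830, 1830, 1811, 1793], 1900, true, [1, 5, 10, 5, 6, 2, 4, 5, 6, 2]⟩, ⟨[38, 66, 37], 1943, true, [2, 4, 10, 5, 6, 2, 6, 5, 3]⟩] []),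
  (⟨false, 9, 3, [66, 49, 42, 31, 26, 30, 17], [59, 45, 31, 35, 27, 16, 10, 17, 17], [62, 44, 51, 46, 41, 16, 21, 23, 23]⟩, .loop 65 2 [62, 44, 53, 38, 29, 30, 16, 11, 16, 10] 4 5 [⟨[], 1690, false, [2, 6, 5, 3, 5, 6, 2, 6, 4]⟩, ⟨[1587, 1583, 1587], 1925, true, [2, 6, 4]⟩] [⟨[], 941, false, [2, 4, 5, 3, 6, 2, 6, 4, 5]⟩, ⟨[], 185, true, [0, 4, 6, 10, 5, 6, 2, 4, 5, 10]⟩, ⟨[24, 23], 1346, false, [3, 5, 6, 2, 4, 6, 5, 6, 2, 6]⟩, ⟨[24], 980, true, [5, 6, 4, 6, 2, 5, 6]⟩, ⟨[23, 24, 23], 370, false, [1, 3, 6, 5, 6, 2, 5, 3, 6, 4]⟩]),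
  (⟨false, 2, 9, [62, 45, 42, 51, 28, 16, 24, 17], [61, 44, 51, 46, 30, 40, 26, 2, 17, 22, 18], [61, 48, 48, 30, 35, 29, 16, 10, 18]⟩, .loop 62 2 [67, 46, 46, 28, 35, 41, 16, 2, 11] 4 5 [⟨[], 261, false, [4, 6, 10, 5, 6, 4, 6, 10, 5]⟩, ⟨[], 1448, false, [2, 3, 6, 1, 5, 6, 4, 6, 10]⟩] [⟨[], 974, true, [6, 2, 5, 6, 5, 10, 5, 6]⟩, ⟨[24], 621, false, [4, 5, 6, 2]⟩, ⟨[66, 66, 38, 66], 174, false, [2, 5, 3, 6, 1, 4, 6, 4, 5]⟩, ⟨[23, 24, 23], 715, false, [0, 4, 10, 5, 6, 10, 5, 3, 6, 5, 3]⟩, ⟨[23, 24, 23], 1940, true, [1, 2, 6, 4, 6, 10, 5, 3, 6, 2]⟩]),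
  (⟨false, 2, 9, [60, 48, 53, 28, 31, 37, 16, 16, 21, 22], [59, 47, 44, 51, 30, 41, 26, 16, 24, 16, 21], [63, 46, 44, 54, 30, 40, 26, 16, 10, 19]⟩, .loop 63 9 [63, 44, 46, 57, 31, 41, 16, 16, 24, 13] 14 15 [⟨[], 1942, false, [0, 2, 5, 6, 2, 4, 5, 3, 6, 2, 6, 4]⟩, ⟨[66, 66, 37], 362, false, [0, 2, 4, 6, 10, 5, 6, 2, 10]⟩, ⟨[], 504, false, [6, 4, 5, 6, 5, 6, 2]⟩, ⟨[], 926, true, [4, 5, 3, 6, 1, 5, 3, 6]⟩, ⟨[23, 24, 23], 1026, true, [6, 1, 5, 3, 6, 4, 5, 6, 4]⟩, ⟨[], 1457, true, [0, 2, 6, 5, 3, 6, 4, 6, 2, 4]⟩, ⟨[24, 23], 1329, false, [2, 5, 6, 5, 6, 10, 5, 6, 2, 5, 3]⟩] []),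
  (⟨false, 9, 2, [63, 45, 57, 38, 31, 35, 16, 16, 11, 23, 23], [66, 45, 56, 30, 30, 38, 2, 23, 17, 19], [50, 45, 33, 40, 38, 16, 19, 22, 11]⟩, .loop 22 2 [58, 52, 44, 41, 26, 37, 16, 4, 16, 10] 4 5 [⟨[24, 23], 329, false, [0, 6, 4, 5, 3, 5, 6, 4, 5, 3]⟩, ⟨[66, 38, 66, 37], 1941, true, [0, 4, 6, 4, 5, 6, 4, 5, 6, 10, 5]⟩] [⟨[23, 24, 23], 978, true, [0, 5, 3, 5, 6, 2, 6, 5, 3]⟩]),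
  (⟨false, 7, 9, [59, 52, 44, 38, 2, 17, 17, 6, 13], [58, 49, 53, 28, 34, 33, 2, 23, 23, 13], [62, 54, 30, 37, 16, 10, 8]⟩, .loop 34 9 [61, 49, 49, 36, 2, 17, 17, 10, 17] 6 7 [⟨[], 1941, false, [0, 5, 6, 2, 6, 5, 3, 6, 4]⟩, ⟨[66, 38, 66, 66], 602, false, [4, 6, 1, 2, 6, 5, 3, 5, 6]⟩, ⟨[24, 23], 1731, true, [2, 6, 4, 5, 10, 5, 6, 4, 6, 2]⟩] [])]

/-- facts 1952 and on -/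
def facts61 : List (Fact × Why) := [
  (⟨false, 2, 9, [61, 55, 28, 26, 31, 16, 16, 19, 17], [66, 47, 44, 51, 30, 26, 30, 16, 16, 25, 18], [63, 54, 56, 31, 27, 2, 17, 17, 23, 13]⟩, .loop 20 2 [60, 44, 42, 54, 31, 34, 33, 2, 17, 17, 13, 24] 4 5 [⟨[23, 24, 23], 220, false, [6, 1, 5, 3, 6, 2, 6, 4]⟩, ⟨[24, 23], 259, false, [2, 6, 4, 6, 2, 5, 3, 6, 5, 10]⟩] [⟨[24, 23], 1946, true, [2, 6, 2, 6, 10, 5, 3, 6]⟩]),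
  (⟨false, 2, 9, [45, 53, 28, 35, 41, 16, 11, 25], [67, 45, 43, 45, 36, 33, 18, 23, 23], [63, 49, 41, 29, 40, 2, 17, 17, 18, 23]⟩, .loop 73 2 [58, 44, 48, 43, 30, 26, 28, 16, 16, 19, 21] 2 3 [⟨[], 805, false, [0, 3, 4, 6, 5, 6, 2, 5, 6, 4]⟩] [⟨[], 554, false, [2, 3, 5, 6, 5, 6, 2, 6, 4]⟩, ⟨[24], 1946, true, [6, 4, 10, 5, 6, 2]⟩]),
  (⟨false, 9, 2, [66, 52, 55, 35, 37, 2, 17, 17, 11], [62, 49, 28, 38, 36, 2, 17, 23, 18], [66, 45, 54, 45, 31, 28, 27, 16, 2, 16, 2]⟩, .loop 52 2 [61, 49, 44, 28, 34, 38, 16, 24, 16, 21] 4 5 [⟨[23], 1745, true, [4, 10, 5, 3, 6, 4, 6, 5, 6, 10]⟩, ⟨[1587, 1549], 1935, false, [3, 4, 6, 1, 2, 6, 4, 5, 6, 2]⟩] [⟨[24, 23], 697, true, [2, 3, 5, 6, 5, 6, 4, 6, 2]⟩, ⟨[24, 23], 309, true, [3, 6, 2, 5, 6, 4, 10,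 5, 6, 5]⟩, ⟨[], 301, true, [4, 10, 5, 3, 6, 4, 6, 5, 3]⟩, ⟨[66, 37, 66, 66, 38], 210, true, [4, 5, 6, 2, 6, 5, 10]⟩, ⟨[24, 23], 1347, true, [4, 5, 6, 1, 5, 10]⟩]),
  (⟨false, 9, 2, [61, 44, 57, 49, 33, 33, 31, 16, 18, 18, 22], [62, 44, 42, 45, 31, 34, 41, 16, 2, 19], [67, 47, 55, 31, 32, 30, 16, 4, 16, 11]⟩, .loop 71 2 [67, 47, 47, 33, 36, 41, 2, 17, 22, 18] 6 7 [⟨[24], 679, false, [1, 3, 4, 6, 4, 6, 4, 5]⟩, ⟨[23, 24, 23], 564, true, [2, 6, 2, 4, 5, 6, 4, 6, 10, 5]⟩, ⟨[24], 1946, true, [0, 6, 5, 3, 6, 4, 6, 2]⟩] []),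
  (⟨false, 2, 9, [66, 45, 50, 42, 30, 29, 41, 16, 10, 8, 16], [61, 45, 56, 31, 27, 2, 17, 17, 8, 21], [45, 43, 36, 30, 2, 23, 6, 23]⟩, .loop 64 2 [66, 45, 53, 36, 27, 2, 17, 23, 8] 8 9 [⟨[24], 261, false, [0, 4, 5, 6, 4, 5, 6, 2]⟩, ⟨[], 236, true, [3, 6, 4, 6, 2, 4, 5, 6, 5]⟩, ⟨[23, 24], 1299, true, [0, 3, 6, 4, 6, 2]⟩, ⟨[23, 24], 1188, false, [1, 10, 5, 6, 4, 6, 4, 10, 5]⟩] [⟨[24], 200, false, [4, 6, 2]⟩, ⟨[37, 66], 1092, false, [0, 2, 6, 2, 4, 10, 5, 6, 4, 6]⟩, ⟨[23], 1940, true, [1, 5, 6, 2, 6, 5, 10, 5, 6, 2]⟩]),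
  (⟨false, 9, 3, [67, 46, 42, 51, 30, 38, 37], [59, 46, 53, 28, 38, 37, 2, 17, 17, 6, 16], [66, 57, 53, 34, 31, 16, 10, 17, 6]⟩, .loop 68 2 [50, 45, 30, 34, 31, 16, 24, 16, 25] 2 3 [⟨[24], 1924, false, [0, 4, 6, 4, 6, 4, 5, 3, 5]⟩] [⟨[24], 284, false, [6, 1, 5, 3, 6, 2, 6, 5]⟩, ⟨[24], 158, true, [0, 2, 3, 5, 6, 4, 6, 5, 3, 6, 2]⟩]),
  (⟨true, 9, 9, [212], [], [214]⟩, .coinc 3 [59, 46, 53, 28, 38, 37, 2, 17, 17, 6, 16] ⟨[245, 50, 50, 22, 22, 21], 1947, true, [4, 6, 2, 6, 10, 5, 3, 6, 5, 3]⟩ ⟨[], 1957, true, []⟩),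
  (⟨false, 9, 2, [67, 49, 53, 30, 40, 33, 16, 2, 21, 17, 24], [67, 47, 54, 31, 29, 35, 16, 16, 2, 10], [61, 54, 35, 36, 30, 2, 23, 8, 17, 17]⟩, .loop 72 2 [66, 44, 42, 46, 30, 27, 27, 2, 23, 10, 17] 2 3 [⟨[24], 1933, true, [2, 3, 6, 5, 6, 2, 6, 5, 6]⟩] [⟨[23, 24, 23], 515, false, [1, 5, 6, 4, 5, 6, 4, 5, 10, 5]⟩, ⟨[38, 66, 66, 38], 1437, false, [0, 6, 2, 6, 4, 10, 5, 3, 6, 4]⟩]),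
  (⟨false, 9, 2, [61, 44, 55, 31, 26, 40, 16, 4, 16, 24], [61, 52, 55, 36, 29, 2, 23, 8, 23], [67, 50, 55, 34, 27, 17, 23, 4, 6]⟩, .loop 57 2 [59, 46, 48, 30, 41, 36, 16, 16, 19] 12 13 [⟨[], 1489, false, [0, 5, 6, 10, 5, 3, 6, 2, 5]⟩, ⟨[23, 24, 23], 158, true, [2, 5, 6, 1, 10, 5, 3, 6, 5, 6]⟩, ⟨[245, 245, 245, 22, 22], 305, false, [2, 6, 4, 5, 6, 5, 6, 2]⟩, ⟨[24, 23], 1646, false, [1, 3, 5, 6, 2, 6, 5, 10, 5]⟩, ⟨[1583, 1583, 1587, 1583], 1584, false, [2, 4, 6, 1, 5, 3, 5, 6, 2, 4]⟩, ⟨[23, 24], 1945, false, [0, 6, 5, 6, 4, 6, 2, 6, 5]⟩] [⟨[24, 23], 975, false, [1, 6, 5, 6, 10, 5, 6, 10, 5]⟩]),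
  (⟨true, 9, 9, [216], [], [218]⟩, .coinc 2 [61, 52, 55, 36, 29, 2, 23, 8, 23] ⟨[23], 1924, false, [0, 5, 6, 4, 6, 2, 10, 5, 6]⟩ ⟨[], 1960, true, []⟩),
  (⟨false, 9, 5, [61, 51, 44, 28, 35, 31, 41, 2, 23, 18], [59, 54, 56, 31, 28, 32, 16, 18, 23], [66, 48, 53, 30, 38, 26, 16, 16, 25, 17]⟩, .loop 22 2 [61, 44, 42, 47, 34, 31, 31, 17, 23, 23, 17] 4 5 [⟨[24], 1482, false, [0, 2, 6, 4, 5, 3, 6, 2, 5, 10]⟩, ⟨[24], 1948, false, [1, 4, 6, 4, 5, 3, 5, 6, 2, 4]⟩] [⟨[23], 452, false, [3, 6, 4, 5, 3, 6, 4, 6, 5]⟩]),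
  (⟨false, 2, 9, [66, 45, 42, 45, 28, 41, 38, 16, 16, 18, 17], [46, 56, 33, 41, 26, 16, 4, 23], [59, 49, 45, 35, 31, 17, 23, 16, 22]⟩, .loop 63 2 [46, 48, 36, 28, 16, 24, 23] 8 9 [⟨[23], 379, true, [3, 5, 6, 2, 4, 10, 5, 6]⟩, ⟨[24, 23], 449, false, [0, 3, 4, 6, 2, 6, 5, 10, 5, 6]⟩, ⟨[37, 38], 1220, true, [1, 6, 4, 6]⟩, ⟨[23, 24], 1380, false, [0, 3, 5, 6, 2, 5]⟩] [⟨[], 1505, true, [5, 10, 5, 6, 5, 6, 10, 5]⟩, ⟨[23], 1353, false, [0, 3, 4, 5, 6, 2, 6, 4, 5, 3]⟩, ⟨[], 1932, false, [2, 6, 4, 6, 2, 6, 4, 10, 5]⟩]),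
  (⟨false, 9, 2, [62, 51, 55, 30, 30, 34, 2, 17, 0, 17, 19], [60, 56, 30, 37, 30, 16, 18], [63, 50, 34, 41, 2, 17, 17, 24]⟩, .loop 55 7 [63, 50, 44, 31, 27, 34, 16, 21, 16] 6 7 [⟨[1583, 1583, 1549], 1693, true, [2, 4, 6, 5, 6, 2, 5, 3]⟩, ⟨[37, 66, 38, 37], 268, true, [0, 6, 5, 6, 10, 5, 3, 6, 5, 3]⟩, ⟨[23, 24, 23], 1955, true, [2, 6, 4, 5, 6, 5, 6, 2, 4]⟩] [⟨[1583, 1587, 1583, 1549, 1549], 1571, false, [3, 6, 4, 6, 5, 10, 5, 6, 5]⟩, ⟨[], 1528, true, [4, 5, 6, 2, 6, 4, 5, 3]⟩, ⟨[23], 1381, false, [1, 5, 3, 6, 4, 6, 2, 6, 5, 10]⟩, ⟨[24, 23], 1500, false, [3, 4, 6, 1, 2, 5]⟩]),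
  (⟨false, 2, 9, [66, 49, 31, 34, 30, 16, 16, 25, 19], [58, 51, 51, 35, 38, 2, 23, 25, 19], [63, 44, 57, 34, 37, 37, 16, 16, 21]⟩, .loop 50 2 [59, 55, 28, 36, 29, 27, 16, 4, 16] 12 13 [⟨[23], 1220, false, [1, 2, 6, 10, 5, 3, 6, 4, 5, 10]⟩, ⟨[38, 66], 1437, false, [0, 2, 4, 5, 6, 4, 5, 3, 6, 2]⟩, ⟨[24], 300, true, [0, 10, 5, 3, 6, 2, 5, 6, 4, 10]⟩, ⟨[23], 558, true, [1, 5, 6, 2, 5, 6, 4, 5, 10, 5]⟩, ⟨[], 620, false, [5, 3, 6, 5, 6, 4, 6, 5, 6, 10]⟩, ⟨[24, 23], 1505, true, [6, 4, 6, 2, 4, 10]⟩] [⟨[23], 1930, true, [2, 6, 4, 5, 6, 5, 10, 5, 6]⟩]),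
  (⟨false, 2, 9, [62, 49, 45, 33, 34, 31, 2, 17, 22, 22, 6], [58, 46, 56, 31, 29, 35, 2, 16, 16, 22], [58, 50, 42, 31, 2, 17, 17, 8]⟩, .loop 33 2 [61, 44, 42, 34, 37, 37, 17, 17, 23] 2 3 [⟨[24, 23], 1046, false, [0, 3, 5, 6, 4, 5, 6, 4, 5, 6, 10]⟩] [⟨[23, 24], 610, false, [1, 6, 2, 4, 6, 5, 6]⟩, ⟨[24], 1944, false, [0, 5, 3, 6, 5, 6, 4, 6, 10, 5]⟩]),
  (⟨false, 9, 2, [45, 45, 41, 34, 16, 16, 4, 20], [63, 55, 47, 35, 28, 37, 17, 23, 16], [58, 44, 57, 34, 31, 31, 2, 16, 16, 16, 24]⟩, .loop 48 2 [63, 55, 47, 35, 28, 37, 17, 23, 16, 10] 4 5 [⟨[24], 773, false, [1, 6, 10, 5, 6, 4, 6, 10]⟩, ⟨[23, 24, 23], 1933, true, [2, 5, 3, 6, 1, 2, 4, 5, 10]⟩] []),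
  (⟨false, 9, 2, [59, 51, 52, 31, 26, 26, 2, 17, 17, 25, 13], [59, 48, 52, 31, 28, 40, 19, 6, 17], [61, 45, 56, 31, 41, 26, 2, 17, 17, 22, 25]⟩, .loop 56 2 [60, 55, 42, 38, 33, 18] 8 9 [⟨[24], 926, true, [1, 2, 3, 4, 5, 6, 4, 10]⟩, ⟨[], 783, false, [6, 5, 6, 4, 5, 3, 6, 4]⟩, ⟨[24], 226, false, [2, 6, 1, 2, 4, 10, 5, 6, 2, 5]⟩, ⟨[38, 66, 66], 1942, true, [6, 4, 10, 5, 6, 4, 6, 5]⟩] [⟨[23, 24], 773, false, [2, 4, 6, 1, 4, 5]⟩, ⟨[23], 1457, false, [2, 3, 4, 6, 5, 6, 2, 4, 6, 10]⟩, ⟨[23, 24], 421, true, [1, 10, 5, 6, 4, 6, 10, 5]⟩]),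
  (⟨false, 9, 2, [58, 48, 48, 34, 16, 16, 25], [47, 49, 35, 28, 40, 16, 4, 16, 18, 11], [63, 50, 50, 30, 28, 35, 2, 16, 16, 6, 23]⟩, .loop 68 2 [47, 49, 30, 37, 35, 16, 16, 4] 2 3 [⟨[24], 1963, false, [2, 6, 2, 4, 5, 6, 4, 5, 10]⟩] [⟨[24, 23], 887, true, [0, 10, 5, 6, 2, 5, 6, 4, 6, 10]⟩, ⟨[66, 66, 38, 66, 37], 1220, true, [2, 4, 6, 5, 6, 2, 6, 4, 5, 3]⟩]),
  (⟨false, 2, 9, [44, 47, 33, 31, 38, 2, 17, 17, 18], [47, 49, 56, 30, 35, 40, 28, 2, 17, 23, 18, 22], [62, 45, 50, 30, 38, 32, 16, 16, 19, 10]⟩, .loop 54 2 [51, 46, 31, 28, 38, 2, 23, 6, 23, 4] 6 7 [⟨[], 1594, true, [2, 3, 4, 6, 2, 5, 6, 4, 10]⟩, ⟨[], 1552, false, [1, 5, 3, 6, 2, 6, 4, 5, 6, 2]⟩, ⟨[], 1430, true, [2, 3, 6, 5, 3, 6, 5, 10]⟩] [⟨[23, 24, 23], 1328, true, [1, 10,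 5, 6, 4, 6, 2, 6, 5, 3]⟩, ⟨[66, 37, 66, 37], 1129, true, [4, 6, 4, 10, 5, 6, 4, 5, 6, 5]⟩, ⟨[23, 24, 23], 751, true, [0, 3, 5, 10]⟩, ⟨[23, 24], 1969, true, [5, 6, 2, 5, 3, 6, 2, 4, 5]⟩]),
  (⟨false, 9, 2, [59, 45, 54, 45, 33, 41, 2, 17, 17, 13, 23], [47, 50, 28, 36, 34, 16, 11, 19, 22], [60, 31, 32, 30, 2, 17, 25]⟩, .loop 61 2 [63, 46, 56, 33, 31, 31, 2, 23, 23, 0] 14 15 [⟨[], 734, true, [4, 6, 5, 6, 2, 6, 10, 5]⟩, ⟨[66, 66, 37], 362, false, [0, 6, 5, 6, 4, 6, 2, 4, 10]⟩, ⟨[], 820, true, [6, 2, 6, 4, 10, 5, 6, 2, 6, 2]⟩, ⟨[24, 23], 1038, false, [3, 5, 6, 4, 6, 4, 5, 6, 2, 6, 10]⟩, ⟨[24, 23], 1329, false, [0, 4, 6, 2, 5, 6, 2, 10]⟩, ⟨[23, 24], 337, true, [0, 5, 3, 6, 5, 3, 6, 4, 6]⟩, ⟨[23], 1967, true, [2, 6, 2, 6, 5, 3, 6, 2, 6,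 4]⟩] []),
  (⟨false, 4, 9, [58, 48, 55, 30, 38, 26, 2, 17, 18, 22, 11], [59, 48, 56, 41, 30, 28, 2, 23, 23, 25, 19], [67, 47, 52, 31, 32, 29, 16, 8, 22]⟩, .loop 28 2 [59, 44, 49, 30, 40, 34, 16, 16, 10] 2 3 [⟨[24], 285, false, [0, 10, 5, 3, 6, 4, 6, 5]⟩] [⟨[23, 24, 23], 1497, true, [1, 5, 3, 6, 5, 6, 10, 5, 6, 2]⟩, ⟨[38, 66, 66], 1931, true, [6, 2, 4, 6, 5, 6, 5, 10]⟩]),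
  (⟨false, 2, 9, [58, 57, 55, 31, 35, 26, 2, 23, 19, 16], [67, 54, 50, 38, 29, 30, 17, 22, 6, 17], [59, 49, 51, 30, 34, 16, 16, 2, 21]⟩, .loop 35 9 [63, 44, 51, 46, 28, 36, 34, 16, 25, 17] 6 7 [⟨[1961, 1958], 1956, true, [2, 5, 6, 10, 5, 6, 4, 6, 4, 10]⟩, ⟨[24], 1302, true, [1, 4, 6, 5, 3, 6, 5, 10]⟩, ⟨[24, 23], 1169, false, [6, 1, 4, 6, 4, 5, 3, 6]⟩] []),
  (⟨false, 5, 9, [62, 49, 49, 33, 40, 38, 16, 16, 4, 17], [62, 55, 47, 31, 37, 37, 2, 17, 22, 6, 22], [59, 46, 57, 38, 16, 16, 20]⟩, .loop 62 2 [66, 50, 45, 36, 34, 16, 16, 2, 4, 23] 2 3 [⟨[23], 120, true, [0, 6, 2, 4, 6, 5, 6, 2, 5, 10]⟩] [⟨[23], 117, true, [6, 5, 3, 5, 6, 5, 3, 6, 5]⟩, ⟨[], 135, true, [0, 3, 4, 5, 6, 5, 3]⟩, ⟨[], 1916, false, [0, 3, 6, 2, 6, 4, 5, 6, 5, 3]⟩,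 ⟨[1830, 1793, 1793], 1845, false, [4, 6, 10, 5, 6, 4, 6, 5, 6]⟩, ⟨[61, 61, 30, 28], 75, false, [4, 6, 2, 6, 10, 5, 6, 5, 10]⟩, ⟨[37, 66, 37], 1941, true, [3, 6, 5, 6, 10, 5, 6, 2, 4, 5]⟩]),
  (⟨false, 9, 2, [66, 56, 50, 33, 35, 41, 2, 23, 17, 2, 22], [67, 45, 52, 31, 37, 35, 16, 16, 24, 13], [66, 48, 50, 38, 27, 16, 16, 18, 16]⟩, .loop 72 2 [63, 46, 51, 55, 35, 31, 29, 16, 19, 22, 16] 4 5 [⟨[], 659, true, [2, 6, 5, 6, 4, 5, 6, 5, 10]⟩, ⟨[23], 1964, true, [5, 6, 10, 5, 6, 10, 5, 6, 10]⟩] [⟨[23, 24, 23], 1074, false, [5, 6, 1, 2, 6, 5, 10, 5, 6, 2]⟩]),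
  (⟨false, 2, 9, [61, 44, 42, 46, 40, 28, 40, 2, 17, 17, 6, 20], [63, 51, 44, 28, 26, 41, 16, 19, 6, 16], [60, 48, 48, 38, 28, 41, 17, 23, 18, 22]⟩, .loop 29 9 [60, 46, 53, 34, 29, 41, 16, 10, 16, 24, 24] 6 7 [⟨[1961], 1930, false, [0, 2, 4, 10, 5, 3, 6, 4, 6, 4]⟩, ⟨[24, 23], 1260, false, [6, 10, 5, 3, 6, 5, 10, 5, 6]⟩, ⟨[], 1038, false, [0, 6, 5, 6, 2, 4, 6, 5, 10]⟩] []),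
  (⟨false, 9, 5, [61, 50, 47, 30, 40, 30, 16, 10, 17, 6, 23], [62, 44, 55, 41, 27, 34, 16, 16, 18, 21], [52, 50, 33, 38, 16, 16, 18, 0]⟩, .loop 19 2 [66, 49, 44, 28, 36, 29, 16, 21, 16, 22] 4 5 [⟨[24], 986, true, [1, 2, 4, 10, 5, 3, 6, 4, 6, 5]⟩, ⟨[23], 1976, false, [5, 3, 6, 4, 6, 5, 3, 6, 2, 5]⟩] [⟨[24, 23], 320, false, [4, 5, 6, 4, 10, 5, 6, 2, 6, 2]⟩]),
  (⟨false, 9, 2, [62, 45, 53, 48, 28, 36, 40, 2, 23, 13, 23, 18], [61, 45, 45, 33, 35, 28, 16, 16, 16, 2, 13], [60, 47, 47, 34, 36, 16, 4]⟩, .loop 31 2 [54, 50, 31, 28, 30, 2, 17, 22, 18] 2 3 [⟨[23], 1954, true, [1, 2, 5, 6, 4, 6, 2, 5, 6, 2]⟩] [⟨[24, 23], 1445, true, [6, 2, 4, 5, 6, 4, 5]⟩, ⟨[24, 23], 821, false, [3, 6, 4, 5, 6, 5, 3, 5]⟩]),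
  (⟨true, 9, 9, [220], [], [222]⟩, .coinc 2 [61, 45, 45, 33, 35, 28, 16, 16, 16, 2, 13] ⟨[23], 1949, false, [6, 1, 2, 5, 6, 10, 5, 6]⟩ ⟨[], 1978, true, []⟩),
  (⟨false, 5, 9, [51, 44, 33, 35, 26, 16, 16, 21, 22], [63, 57, 53, 35, 38, 35, 2, 23, 8], [59, 46, 43, 28, 40, 26, 16, 16, 13, 16]⟩, .loop 29 2 [58, 44, 56, 46, 28, 26, 16, 11, 17, 6] 4 5 [⟨[24], 971, true, [4, 6, 2, 4, 5, 6, 10]⟩, ⟨[], 1532, false, [2, 4, 6, 10, 5, 6, 5, 10, 5]⟩] [⟨[23, 24], 1927, false, [3, 5, 6, 1, 4, 6, 2, 4]⟩]),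
  (⟨false, 9, 2, [63, 50, 44, 35, 28, 2, 23, 23, 16], [59, 48, 48, 41, 32, 29, 16, 21, 16, 8], [59, 47, 44, 51, 30, 38, 32, 2, 23, 23, 17, 6]⟩, .loop 54 2 [66, 48, 50, 30, 28, 35, 2, 17, 17, 23, 11] 6 7 [⟨[], 1288, false, [1, 3, 5, 6, 2, 6, 4, 10, 5, 3]⟩, ⟨[24, 23], 391, true, [1, 6, 2, 4, 5, 6, 4, 6, 5]⟩, ⟨[66, 66, 38, 37], 1962, true, [0, 2, 4, 6, 5, 10, 5, 6, 5]⟩] [⟨[], 1127, true, [0, 4, 6, 5, 6, 2, 6, 5, 3, 6]⟩, ⟨[23], 345, false, [1, 2, 4, 5, 6, 4, 5, 6, 4, 5]⟩, ⟨[23, 24], 879, true, [6, 10, 5, 3, 6, 2, 5, 10]⟩, ⟨[], 457, true, [3, 4, 6, 4, 5, 6]⟩]),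
  (⟨false, 9, 2, [63, 46, 35, 31, 29, 2, 17, 17, 24, 17], [59, 49, 51, 28, 30, 41, 41, 17, 22, 6, 25], [63, 54, 52, 41, 26, 2, 17, 17, 6, 16]⟩, .loop 73 2 [56, 53, 34, 28, 40, 17, 22, 21] 6 7 [⟨[23], 282, false, [2, 10, 5, 3, 6, 2, 6, 4]⟩, ⟨[66, 66, 37], 111, false, [0, 6, 4, 5, 6, 4, 5, 3, 6, 2, 5]⟩, ⟨[], 1949, false, [1, 5, 6, 4, 6, 4, 5, 10, 5]⟩] []),
  (⟨false, 9, 2, [58, 44, 56, 28, 35, 41, 2, 23, 8, 23, 17], [61, 54, 43, 30, 35, 40, 16, 19, 6, 18], [66, 48, 48, 30, 26, 31, 2, 17, 23, 17, 22]⟩, .loop 18 2 [59, 45, 41, 26, 2, 17, 23, 11, 17] 6 7 [⟨[], 941, true, [3, 5, 6, 5, 6, 2, 6, 5, 6, 10, 5]⟩, ⟨[24], 240, false, [2, 10, 5, 6, 1, 4, 6, 5]⟩, ⟨[66, 38, 66, 66], 1962, true, [2, 3, 6, 2, 6, 4]⟩] [])]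

/-- facts 1984 and on -/
def facts62 : List (Fact × Why) := [
  (⟨false, 2, 9, [66, 44, 43, 57, 28, 35, 36, 16, 21, 16, 21], [62, 44, 47, 44, 28, 34, 36, 16, 11, 19], [63, 45, 49, 28, 40, 37, 2, 23, 4]⟩, .loop 52 9 [66, 46, 44, 38, 34, 16, 2, 24] 14 15 [⟨[1958, 1961], 1926, true, [0, 2, 4, 5, 6, 10, 5, 6, 2, 6]⟩, ⟨[23], 1527, false, [1, 3, 4, 5, 6, 10, 5, 6, 2, 4]⟩, ⟨[23], 1195, false, [3, 6, 5, 6, 2, 4, 6]⟩, ⟨[66, 37, 37, 66], 1442, false, [2, 5, 6, 1, 4, 6, 5]⟩, ⟨[], 1449, true, [3, 5, 6, 2, 6, 4, 6, 10]⟩, ⟨[24], 640, true, [4, 5, 6, 2, 6, 5, 10, 5, 6]⟩, ⟨[24], 661, true, [6, 4, 6, 10, 5, 6, 4, 5]⟩] []),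
  (⟨false, 5, 9, [58, 45, 57, 31, 33, 2, 17, 23, 24], [63, 44, 42, 28, 41, 35, 16, 16, 8], [47, 55, 30, 30, 41, 2, 23, 8, 17, 25]⟩, .loop 28 2 [66, 44, 46, 28, 34, 30, 29, 16, 10, 23, 17] 4 5 [⟨[], 1094, true, [2, 6, 4, 6, 5, 3, 6, 4, 5]⟩, ⟨[23], 1220, false, [10, 5, 6, 1, 5, 10, 5, 6, 4]⟩] [⟨[], 1965, false, [0, 6, 4, 5, 6, 4, 5, 3, 6]⟩]),
  (⟨false, 9, 2, [59, 44, 51, 36, 28, 37, 16, 25], [58, 44, 57, 31, 34, 41, 2, 23, 23, 4], [61, 46, 42, 34, 33, 40, 2, 17, 17, 17, 12]⟩, .loop 33 7 [63, 54, 44, 28, 26, 40, 17, 23, 17] 2 3 [⟨[1549], 1925, true, [0, 2, 10, 5, 6, 2, 5, 3]⟩] [⟨[1587, 1587, 1583, 1549, 1549], 1648, false, [10, 5, 3, 6, 5, 6, 4, 6, 4]⟩, ⟨[23, 24], 1404, true, [1, 3, 4, 6, 2, 5, 6, 5, 3, 5]⟩]),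
  (⟨false, 2, 9, [58, 48, 42, 28, 41, 29, 16], [58, 51, 44, 35, 31, 26, 16, 11, 11], [58, 55, 30, 40, 27, 16, 10, 17, 17]⟩, .loop 59 2 [67, 55, 49, 28, 31, 27, 31, 2, 23, 10, 17, 19] 2 3 [⟨[], 401, true, [1, 2, 3, 6, 5, 6, 10, 5]⟩] [⟨[23], 600, true, [0, 10, 5, 6, 2, 4, 6, 5, 6, 4]⟩, ⟨[24], 1109, false, [2, 4, 5, 6, 2, 6, 4, 10, 5, 6]⟩, ⟨[24, 23], 825, false, [1, 4, 10, 5, 6, 2, 6, 4, 5, 3]⟩, ⟨[66, 37, 37, 66], 1711, false, [0, 5, 6, 10, 5, 3, 6, 5, 6, 4]⟩, ⟨[1583, 1583, 1587, 1583, 1549, 1549], 1592, true, [1, 6, 2, 6, 4, 10, 5]⟩, ⟨[24, 23], 1986, true, [1, 2, 3, 6, 5, 6, 5, 10, 5]⟩]),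
  (⟨false, 9, 2, [59, 44, 48, 52, 33, 35, 32, 16, 11, 25, 16], [59, 52, 31, 32, 38, 2, 23, 23, 13, 17], [59, 44, 51, 46, 40, 40, 2, 17, 22, 22, 24]⟩, .loop 16 2 [66, 45, 43, 45, 30, 37, 16, 4, 16, 11] 4 5 [⟨[23], 800, false, [0, 3, 6, 2, 5, 6, 4, 5, 6, 5]⟩, ⟨[38, 66, 38], 1931, true, [0, 2, 6, 2, 4, 5, 3, 6, 4, 5]⟩] [⟨[23, 24, 23], 1088, false, [0, 2, 4, 6, 2, 5, 10]⟩]),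
  (⟨false, 9, 2, [58, 47, 44, 40, 28, 40, 19, 6, 17, 22], [60, 50, 46, 28, 40, 33, 16, 19, 22], [59, 54, 28, 36, 16, 16, 2, 24, 19]⟩, .loop 50 2 [61, 44, 46, 48, 31, 35, 26, 2, 17, 25, 6] 14 15 [⟨[24], 1468, false, [4, 5, 6, 5, 3, 6, 2, 6, 4]⟩, ⟨[23], 1451, true, [6, 1, 2, 5, 10]⟩, ⟨[38, 66, 66, 38], 806, true, [0, 6, 4, 5, 6, 4, 6, 2, 4, 10]⟩, ⟨[24, 23], 1510, false, [0, 10, 5, 6, 10, 5, 3, 6, 4]⟩, ⟨[24], 581, false, [3, 6, 4, 6, 5, 6, 2]⟩, ⟨[24, 23], 1409, false, [1, 2, 4, 6, 4, 10, 5, 6, 5, 10]⟩, ⟨[24], 1959, true, [4, 5, 10, 5, 6, 4, 5, 6]⟩] []),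
  (⟨false, 9, 2, [67, 44, 47, 41, 28, 32, 16, 4, 16, 18], [63, 51, 43, 28, 36, 29, 27, 2, 17, 23, 12, 10], [55, 49, 30, 30, 37, 16, 4, 17]⟩, .loop 50 5 [59, 51, 57, 31, 33, 36, 16, 16, 10, 8] 12 13 [⟨[38, 66], 1083, false, [0, 3, 5, 6, 2, 6, 4, 6]⟩, ⟨[23, 24, 23], 1358, false, [6, 1, 2, 5, 6, 10, 5, 6, 4, 6, 5]⟩, ⟨[24, 23], 504, false, [0, 5, 6, 2, 4, 6, 5, 3, 6, 2, 6]⟩, ⟨[24], 425, true, [0, 2, 6, 2, 5, 6, 4, 6, 2, 5]⟩, ⟨[23], 856, false, [4, 6, 2, 6, 2, 5, 6]⟩, ⟨[24], 1949, false, [6, 4, 5, 6, 2, 10, 5, 6, 4]⟩] [⟨[66, 66, 37, 38], 1469, false, [5, 6, 4, 5, 6, 2, 5, 10]⟩]),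
  (⟨false, 2, 9, [61, 55, 28, 2, 16, 6, 17, 6], [60, 44, 42, 51, 28, 36, 29, 2, 17, 17, 0, 11], [67, 57, 53, 34, 27, 29, 19, 6, 23]⟩, .loop 56 2 [63, 50, 50, 33, 34, 31, 16, 16, 22, 6] 8 9 [⟨[], 723, false, [0, 3, 5, 6, 2, 4, 5, 3, 6]⟩, ⟨[24, 23], 560, true, [6, 1, 5, 6, 4, 6, 10, 5, 10]⟩, ⟨[], 500, false, [2, 3, 6, 4, 5, 6, 5, 10]⟩, ⟨[24], 903, false, [2, 4, 6, 5, 3, 5, 6, 5, 6]⟩] [⟨[23], 937, false, [3, 6, 2, 6, 5, 10, 5]⟩, ⟨[], 667, false, [3, 6, 4, 5, 3, 6, 2, 4]⟩, ⟨[23, 24], 1983, true, [1, 6, 5, 6, 2, 6, 5, 3, 6]⟩]),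
  (⟨false, 9, 2, [62, 44, 43, 53, 28, 36, 29, 27, 16, 4, 16, 2, 20], [62, 44, 51, 34, 33, 40, 16, 19, 22, 16], [60, 45, 45, 28, 38, 30, 16, 10, 17, 17]⟩, .loop 44 2 [58, 44, 42, 45, 36, 29, 2, 23, 6, 17, 17] 4 5 [⟨[24], 838, false, [2, 5, 6, 4, 5, 3, 6, 5, 3]⟩, ⟨[24, 23], 1946, true, [2, 6, 1, 4, 6, 4, 5, 6, 10]⟩] []),
  (⟨false, 2, 9, [47, 44, 51, 36, 30, 40, 2, 17, 23, 20, 13], [66, 46, 57, 28, 35, 38, 2, 17, 23, 23, 19], [61, 46, 49, 30, 27, 28, 16, 16, 8, 22]⟩, .loop 35 9 [61, 44, 56, 36, 40, 37, 2, 16, 16, 16, 6] 6 7 [⟨[1961, 1979], 1955, false, [5, 3, 6, 5, 6]⟩, ⟨[24], 459, false, [1, 3, 6, 4, 5, 6, 2, 5, 6, 10]⟩, ⟨[24, 23], 629, false, [6, 1, 4, 6, 5, 10, 5, 6]⟩] []),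
  (⟨false, 9, 2, [62, 46, 51, 33, 27, 34, 2, 23, 25, 19], [48, 45, 35, 31, 29, 2, 16, 16, 6, 18], [60, 50, 48, 41, 29, 16, 8, 17, 17, 22]⟩, .loop 49 5 [60, 44, 46, 48, 30, 37, 40, 2, 16, 6, 23] 2 3 [⟨[66, 66], 1931, true, [5, 6, 1, 10, 5, 6, 2, 4]⟩] [⟨[66, 37, 37, 66], 381, true, [5, 3, 5, 6, 5, 3, 6, 4, 5, 6]⟩]),
  (⟨false, 2, 9, [59, 51, 55, 33, 35, 28, 2, 23, 6, 17], [46, 51, 31, 32, 30, 2, 23, 6, 17], [66, 45, 56, 33, 35, 16, 16, 8, 22]⟩, .loop 53 5 [61, 49, 45, 28, 41, 31, 16, 16, 4, 17] 8 9 [⟨[], 74, false, [2, 4, 6, 4, 5, 6, 2, 6]⟩, ⟨[61, 28, 61, 27], 92, false, [2, 5, 3, 6, 5, 6, 10, 5, 3]⟩, ⟨[], 1916, false, [0, 2, 6, 5, 6, 4, 10, 5, 6, 2]⟩, ⟨[1830, 1792], 1891, true, [6, 4, 10, 5, 6, 2, 4]⟩] [⟨[], 120, false, [0, 3, 6,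 2, 6, 5, 6, 4, 10, 5]⟩, ⟨[], 112, false, [0, 2, 3, 4, 5, 6, 4, 5, 6, 4]⟩, ⟨[66, 66, 37, 66, 37], 1941, true, [0, 6, 5, 3, 6, 2, 5, 6, 5]⟩]),
  (⟨false, 9, 2, [59, 44, 55, 50, 28, 31, 37, 2, 23, 10], [61, 47, 53, 31, 33, 34, 2], [60, 45, 42, 30, 34, 29, 16, 16, 21, 24]⟩, .loop 54 2 [59, 44, 46, 57, 30, 40, 28, 2, 17, 18, 22, 18] 4 5 [⟨[23], 482, true, [0, 6, 2, 4, 6, 10]⟩, ⟨[63, 63, 61, 61], 1972, false, [4, 10, 5, 6, 10, 5, 6, 2, 4, 10]⟩] [⟨[24, 23], 282, false, [1, 3, 4, 5, 6, 2, 6, 4, 10]⟩, ⟨[66, 38, 66, 38], 682, false, [0, 4, 6, 4, 5, 6, 2, 6]⟩, ⟨[24], 325, true, [3, 6, 4, 5, 3, 6, 5, 6, 2]⟩, ⟨[24], 1424, true, [1, 3, 6, 2, 6, 2, 4, 5, 6, 5]⟩, ⟨[23, 24], 444, false, [0, 5, 3, 6, 2, 5, 6, 2]⟩]),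
  (⟨false, 2, 9, [66, 44, 51, 48, 35, 38, 35, 16, 4, 16, 21], [67, 45, 42, 49, 30, 27, 30, 17], [44, 31, 27, 41, 2, 17, 17, 24]⟩, .loop 64 2 [60, 57, 55, 40, 30, 27, 2, 17, 18, 22, 18] 6 7 [⟨[], 1382, true, [5, 6, 2, 4, 10, 5, 6, 4]⟩, ⟨[23, 24, 23], 941, false, [1, 6, 10, 5, 6, 4, 6, 2, 6, 4]⟩, ⟨[24], 1202, true, [6, 5, 6, 4, 10, 5, 6, 4, 5]⟩] [⟨[24, 23], 1346, true, [10, 5, 6, 5, 3, 6, 4, 5, 6, 4]⟩, ⟨[23, 24, 23], 1748, false, [2, 3, 6, 2, 6, 4, 5, 6, 5, 6]⟩, ⟨[1549, 1583, 1549, 1549], 1581, true, [0, 4, 5, 3, 5, 6, 5, 3, 6, 4, 5]⟩, ⟨[50, 21, 50, 21], 1947, true, [2, 3, 4, 6, 5, 10, 5, 6, 2, 4]⟩]),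
  (⟨false, 5, 9, [58, 44, 48, 34, 36, 30, 2, 17, 17, 6, 24], [67, 48, 47, 36, 35, 35, 16, 10, 13], [63, 44, 42, 54, 28, 30, 28, 17, 23, 17, 22, 24]⟩, .loop 56 2 [67, 44, 43, 31, 16, 16, 20, 25, 23] 8 9 [⟨[], 600, true, [2, 3, 6, 5, 6, 5, 3, 5, 6, 2]⟩, ⟨[], 888, true, [3, 4, 6, 4, 5, 6, 5, 3]⟩, ⟨[24], 1745, true, [6, 1, 4, 6, 5, 3, 6, 2, 5, 6]⟩, ⟨[1583, 1587, 1587, 1549, 1549], 1711, true, [4, 6, 4, 6, 10]⟩] [⟨[23], 1347, true, [1, 5, 6, 4, 6, 4, 5, 3, 5]⟩, ⟨[], 1090, true, [2, 3, 5, 6, 2, 5, 10]⟩, ⟨[23], 1986, true, [2, 6, 1, 5, 3, 6, 5, 3]⟩]),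
  (⟨false, 9, 8, [45, 56, 55, 36, 32, 37, 16, 16, 25, 22], [67, 57, 55, 31, 29, 37, 16, 2, 21, 17], [67, 55, 43, 41, 32, 16, 2, 21]⟩, .loop 22 2 [45, 56, 50, 35, 37, 2, 17, 23, 17, 22] 4 5 [⟨[], 246, true, [4, 5, 6, 4, 6, 4, 10, 5, 3]⟩, ⟨[23], 1982, true, [1, 2, 3, 6, 4, 6, 5]⟩] [⟨[23], 1855, false, [1, 4, 10, 5, 6, 4, 5, 3, 5]⟩]),
  (⟨false, 9, 2, [59, 52, 40, 38, 2, 17, 23, 10], [61, 47, 36, 32, 2, 17, 17, 20, 22], [61, 45, 42, 49, 41, 27, 2, 23, 17, 17]⟩, .loop 17 2 [59, 54, 56, 30, 35, 35, 16, 2, 0] 4 5 [⟨[], 875, false, [4, 6, 2, 6, 10, 5, 3, 6, 4]⟩, ⟨[24], 1970, false, [1, 6, 4, 5, 6, 10, 5, 3, 6, 4]⟩] [⟨[24, 23], 969, true, [1, 2, 6, 4, 6, 5, 3, 5]⟩]),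
  (⟨false, 9, 2, [61, 44, 42, 47, 33, 29, 37, 2, 17, 23, 6, 20], [67, 46, 42, 30, 26, 28, 2, 23, 13, 23, 6], [61, 47, 49, 56, 28, 30, 38, 16, 10, 18, 23]⟩, .loop 54 2 [60, 51, 40, 30, 2, 23, 23, 8, 17] 12 13 [⟨[24], 708, false, [5, 6, 5, 6, 4, 6, 5, 6]⟩, ⟨[24, 23], 377, false, [3, 5, 3, 6, 1, 5, 6, 4, 10]⟩, ⟨[24, 23], 841, true, [5, 6, 5, 10, 5, 6, 5, 3]⟩, ⟨[], 306, true, [2, 5, 6, 4, 6, 2, 6, 4, 10, 5]⟩, ⟨[245, 21, 22, 245, 22], 1460, true, [3, 5, 6, 2, 4, 5, 6, 2, 10, 5]⟩, ⟨[], 1946, true, [1, 4, 10, 5, 6, 10, 5, 6, 2, 10]⟩] [⟨[24], 251, false, [6, 1, 4, 10, 5]⟩]),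
  (⟨false, 9, 2, [66, 44, 51, 48, 30, 28, 30, 16, 24, 17, 22], [66, 54, 44, 33, 35, 2, 17, 17, 25, 21], [66, 47, 47, 52, 41, 28, 32, 2, 17, 22, 18]⟩, .loop 47 2 [67, 50, 48, 30, 26, 40, 2, 23, 10, 23, 4] 2 3 [⟨[24], 1992, true, [0, 4, 6, 5, 6, 2, 6, 5, 6, 10]⟩] [⟨[23], 209, true, [1, 2, 3, 6, 5, 3, 6, 5, 6, 10]⟩]),
  (⟨false, 9, 3, [60, 45, 56, 50, 38, 28, 2, 16, 6, 17, 17], [62, 56, 50, 30, 27, 31, 16, 21], [67, 47, 47, 38, 26, 16, 19, 6]⟩, .loop 56 2 [62, 48, 46, 33, 28, 37, 16, 16, 10, 8, 22] 4 5 [⟨[24], 209, false, [3, 5, 3, 6, 2, 6, 4]⟩, ⟨[23, 24], 1992, true, [4, 6, 2, 6, 5, 6, 4, 5, 10, 5]⟩] [⟨[24], 1061, false, [2, 10, 5, 3, 6, 4]⟩, ⟨[24, 23], 1323, false, [2, 3, 4, 6, 5, 6, 5, 3, 5, 6, 4]⟩, ⟨[23, 24, 23], 1058, true, [1,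 2, 5, 6, 2, 5, 6, 4, 6]⟩, ⟨[24], 1164, false, [1, 5, 6, 2, 5, 6, 5, 3]⟩, ⟨[24, 23], 197, true, [0, 3, 5, 6, 2, 6, 10, 5, 3, 6]⟩]),
  (⟨false, 5, 9, [67, 49, 56, 36, 32, 37, 16, 21, 16, 19], [62, 56, 35, 2, 23, 25, 19], [63, 49, 42, 28, 41, 38, 16, 16, 24, 2]⟩, .loop 67 9 [61, 44, 42, 54, 34, 40, 29, 16, 10, 16, 25] 6 7 [⟨[1961, 1961, 1958], 1964, false, [4, 10, 5, 6, 1, 4, 6, 5, 10]⟩, ⟨[], 225, false, [3, 5, 6, 1, 4, 10, 5, 6, 4]⟩, ⟨[23, 24, 23], 1467, false, [1, 2, 4, 5, 3, 6, 5, 10, 5, 6]⟩] []),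
  (⟨false, 2, 9, [67, 52, 44, 30, 40, 2, 17, 0, 23], [61, 44, 47, 44, 35, 40, 16, 24, 16], [58, 51, 46, 34, 40, 27, 16, 16, 20, 25]⟩, .loop 23 2 [58, 46, 42, 51, 35, 35, 41, 16, 22, 19, 22] 4 5 [⟨[], 459, false, [4, 6, 4, 5, 10, 5, 6, 4, 6, 5]⟩, ⟨[24], 185, true, [4, 6, 4, 6, 5, 3, 6, 2]⟩] [⟨[23, 24], 1986, true, [5, 3, 6, 5, 6, 4, 5, 6]⟩]),
  (⟨false, 2, 9, [47, 55, 28, 34, 31, 16, 16, 11, 18], [61, 49, 49, 30, 27, 16, 4, 16, 16, 24], [58, 44, 57, 55, 33, 40, 38, 16, 16, 24, 11]⟩, .loop 47 9 [63, 45, 43, 45, 41, 36, 2, 23, 23, 8, 18] 4 5 [⟨[1958, 1979], 2003, false, [1, 10, 5, 6, 10, 5, 3, 6, 4, 5]⟩, ⟨[50, 22, 245, 21, 50], 306, false, [1, 2, 3, 6, 2, 4, 5, 6, 2, 5, 10]⟩] []),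
  (⟨false, 9, 2, [63, 51, 49, 31, 37, 37, 2, 23, 6, 23, 4], [67, 57, 55, 33, 31, 31, 2, 23, 8, 23, 10], [44, 46, 44, 35, 28, 35, 2, 23, 17, 0, 6]⟩, .loop 28 2 [58, 54, 50, 16, 16, 13, 10] 6 7 [⟨[24], 799, true, [2, 5, 6, 2, 10, 5]⟩, ⟨[], 247, false, [3, 6, 4, 5, 3, 6, 4, 5, 10]⟩, ⟨[37, 66], 1980, false, [1, 6, 5, 10, 5, 6, 2, 5, 6, 5]⟩] []),
  (⟨false, 2, 9, [62, 49, 45, 38, 32, 16, 16, 16, 24], [63, 50, 47, 31, 17, 23, 17, 22, 24], [63, 50, 48, 35, 38, 35, 16, 4, 16, 8]⟩, .loop 65 2 [66, 51, 47, 33, 38, 37, 16, 2, 0, 16] 10 11 [⟨[24], 667, true, [5, 6, 5, 6, 4, 10, 5]⟩, ⟨[], 1427, true, [4, 6, 1, 5, 6, 2, 6, 4, 10]⟩, ⟨[24, 23], 705, true, [1, 3, 5, 6, 4, 10, 5, 6, 5, 3]⟩, ⟨[23, 24, 23], 903, false, [0, 3, 4, 6, 5, 10, 5, 6, 2]⟩,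 ⟨[23, 24, 23], 1172, true, [1, 3, 4, 5, 3, 6, 5, 6, 10]⟩] [⟨[23, 24, 23], 811, true, [1, 4, 5, 6, 2, 10, 5, 6, 4, 6]⟩, ⟨[38, 66, 37, 37], 1980, false, [5, 3, 6, 5, 6, 2, 6]⟩]),
  (⟨false, 9, 2, [67, 48, 43, 41, 27, 34, 16, 16, 8, 17, 12], [61, 52, 44, 28, 26, 31, 33, 16, 4, 16, 22], [44, 57, 49, 33, 30, 32, 16, 16, 11, 25]⟩, .loop 71 2 [44, 53, 34, 41, 41, 2, 17, 17, 6, 24] 6 7 [⟨[24], 211, false, [2, 4, 5, 6, 5, 3, 6, 5]⟩, ⟨[24], 542, true, [5, 3, 6, 4, 5, 6, 4, 5, 3, 5]⟩, ⟨[66, 66, 38], 1985, false, [6, 2, 4, 10, 5, 6, 2, 5, 10]⟩] []),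
  (⟨false, 2, 9, [67, 33, 41, 29, 16, 11], [60, 45, 56, 50, 35, 30, 26, 16, 16, 20, 22], [66, 54, 43, 30, 26, 35, 2, 17, 17, 2, 22]⟩, .loop 31 5 [61, 47, 30, 41, 26, 16, 16, 4, 18] 2 3 [⟨[], 289, false, [4, 6, 1, 5, 6, 4]⟩] [⟨[38, 66], 255, false, [0, 4, 5, 6, 2, 5, 10]⟩, ⟨[23, 24], 1982, true, [0, 2, 4, 6, 4, 6, 5, 10, 5]⟩]),
  (⟨false, 2, 9, [59, 45, 49, 31, 36, 34, 2, 17, 17, 25, 8], [66, 55, 46, 31, 28, 27, 2, 23, 17, 0, 23], [62, 47, 49, 30, 40, 30, 16, 16, 2, 21]⟩, .loop 60 2 [60, 47, 42, 34, 27, 31, 17] 2 3 [⟨[], 83, false, [1, 2, 5, 6, 5, 10, 5, 6, 4, 5]⟩] [⟨[24], 1916, false, [4, 5, 3, 6, 1, 4, 6]⟩, ⟨[1792, 1792, 1811], 1919, false, [2, 3, 5, 6, 5, 3, 6, 4, 5]⟩, ⟨[37, 66, 37, 37], 74, false, [5, 3, 6, 5, 6, 2, 4]⟩, ⟨[30,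 29], 113, true, [4, 6, 4, 6, 2, 5, 10]⟩, ⟨[], 141, false, [6, 2, 6, 5, 3, 6, 4]⟩, ⟨[66, 66, 37, 37], 1941, true, [0, 2, 3, 6, 5, 6, 10, 5, 3, 6, 5, 6]⟩]),
  (⟨false, 9, 2, [49, 57, 31, 38, 2, 17, 0, 23, 16], [61, 54, 56, 33, 34, 40, 16, 2, 19, 16], [60, 48, 48, 28, 34, 27, 16, 16, 2, 4, 23]⟩, .loop 58 7 [60, 47, 44, 36, 35, 35, 2, 17, 23, 21, 16] 4 5 [⟨[1587], 1576, false, [5, 6, 1, 4, 5, 6, 2, 5, 3]⟩, ⟨[23, 24, 23], 1969, true, [3, 4, 6, 1, 4, 6, 5, 3]⟩] [⟨[1587], 1546, false, [3, 4, 5, 6, 4, 5, 10, 5]⟩, ⟨[24, 23], 1118, false, [5, 6, 4, 10, 5, 6, 5, 10]⟩, ⟨[23, 24], 386, false, [2, 10, 5, 3, 6, 1, 4, 5, 6, 2]⟩, ⟨[37, 66, 38, 37], 1328, false, [3, 4, 6, 5, 6, 2, 6, 5, 6]⟩, ⟨[24], 972, true, [6, 1, 4, 10, 5, 6, 10, 5, 6, 10]⟩]),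
  (⟨false, 2, 9, [67, 45, 43, 45, 33, 28], [44, 43, 57, 31, 28, 30, 2, 17, 0], [60, 54, 52, 28, 38, 33, 2, 17, 17, 18, 23]⟩, .loop 31 2 [51, 51, 35, 31, 16, 10, 8] 4 5 [⟨[], 130, false, [0, 6, 2, 6, 5, 3, 6, 5, 10]⟩, ⟨[24, 23], 106, false, [4, 6, 1, 2, 4, 5, 6, 4, 10, 5]⟩] [⟨[23, 24], 1953, false, [10, 5, 6]⟩]),
  (⟨false, 2, 9, [61, 45, 42, 49, 30, 35, 37, 2, 17, 22, 16, 16], [61, 47, 49, 28, 31, 27, 2, 23, 17, 19], [61, 48, 55, 30, 32, 32, 17, 23, 23, 21]⟩, .loop 71 9 [59, 46, 44, 34, 26, 35, 2, 17, 17, 6, 11] 6 7 [⟨[1958, 1979], 2011, true, [2, 3, 6, 5, 3, 6, 5, 6, 4, 10]⟩, ⟨[], 1280, false, [1, 4, 5, 10, 5, 6, 4, 6, 4, 5]⟩, ⟨[24, 23], 943, true, [2, 4, 5, 6, 5, 3, 6, 4, 5]⟩] []),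
  (⟨false, 2, 9, [66, 50, 49, 31, 36, 33, 16, 10, 18], [67, 44, 57, 34, 16, 11, 16, 10], [50, 30, 29, 35, 16, 19, 6, 18]⟩, .loop 50 7 [67, 44, 42, 57, 35, 38, 16, 2, 24, 6, 17] 4 5 [⟨[1587, 1587, 1583], 1594, false, [2, 4, 10, 5, 6, 1, 5, 10, 5, 6]⟩, ⟨[], 777, false, [1, 3, 5, 6, 5, 6, 4, 10]⟩] [⟨[1587, 1587, 1583], 1576, false, [0, 6, 2, 5, 6, 4, 10, 5]⟩, ⟨[23, 24], 522, false, [1, 3, 6, 5, 6, 2, 5, 3]⟩, ⟨[23, 24], 1254, true, [1, 5, 10, 5, 6, 4, 6, 4]⟩, ⟨[38, 37], 386, true, [3, 5, 3, 6, 5, 6, 2, 4]⟩, ⟨[23, 24, 23], 1970, false, [10, 5, 6, 10, 5, 3, 6, 4, 5, 10]⟩])]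

end CfsgLib.Sporadic.ThPres
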