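import Cfsg.Agent.Lib.Sporadic.ThPres.Check

set_option autoImplicit false
set_option maxRecDepth 20000

/-! Facts among double cosets (generated; owner: helper9). -/

namespace CfsgLib.Sporadic.ThPres
open CfsgLib.Recog.SporBound (Q)

/-- facts 2016 and on -/
def facts63 : List (Fact × Why) := [
  (⟨false, 4, 9, [61, 44, 47, 52, 28, 38, 33, 19, 6, 17, 19], [63, 52, 48, 34, 27, 41, 16, 16, 16, 11], [62, 45, 50, 42, 28, 38, 37, 2, 17, 22, 18, 23]⟩, .loop 56 5 [67, 50, 55, 34, 31, 31, 2, 17, 0, 17, 25] 8 9 [⟨[66], 120, false, [0, 5, 10, 5]⟩, ⟨[], 1901, false, [4, 6, 1, 4, 10, 5, 6, 5, 3]⟩, ⟨[1792, 1830, 1792], 1846, false, [1, 2, 6, 10, 5, 6, 4, 6, 5, 3]⟩, ⟨[66, 37, 37], 75, true, [1, 5, 6, 2, 4, 5, 6, 10, 5, 6]⟩] [⟨[66, 37, 37], 107,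 false, [3, 6, 4, 5]⟩, ⟨[24], 135, false, [1, 6, 5, 6, 5, 10, 5, 6, 4]⟩, ⟨[], 1995, false, [3, 6, 2, 5, 6, 5, 3, 6, 5]⟩]),
  (⟨false, 9, 4, [62, 45, 56, 30, 41, 26, 16, 16, 20, 16], [66, 45, 50, 42, 36, 32, 31, 16, 18], [62, 46, 49, 33, 31, 32, 2, 16, 6, 23, 17]⟩, .loop 66 2 [59, 51, 36, 27, 35, 16, 11, 23, 16] 2 3 [⟨[], 2008, false, [4, 6, 2, 5, 6, 10, 5]⟩] [⟨[24, 23], 318, true, [0, 4, 6, 4, 5, 3, 6, 4, 5, 6]⟩, ⟨[24], 843, true, [3, 5, 6, 10, 5, 3, 6, 2]⟩]),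
  (⟨false, 2, 9, [66, 48, 47, 35, 28, 40, 2, 17, 23, 20, 6], [62, 49, 46, 36, 40, 37, 16, 18, 23], [62, 47, 47, 52, 30, 27, 36, 18]⟩, .loop 30 2 [49, 45, 41, 31, 17, 23, 16, 11] 2 3 [⟨[], 531, true, [3, 4, 5, 3, 6, 4, 5, 6, 5]⟩] [⟨[23], 531, true, [2, 4, 6, 4, 10]⟩, ⟨[23], 1940, true, [2, 6, 4, 10, 5, 3, 6, 2, 5, 10]⟩]),
  (⟨false, 2, 9, [59, 45, 50, 45, 36, 29, 31, 2, 17, 25, 19], [61, 55, 49, 35, 38, 35, 2, 17, 17, 10, 25], [60, 50, 49, 30, 29, 26, 16, 10, 17, 6]⟩, .loop 61 2 [66, 54, 43, 28, 30, 26, 16, 25, 17] 4 5 [⟨[23], 113, false, [0, 4, 5, 6, 10, 5, 6, 5]⟩, ⟨[61, 61, 30], 92, false, [4, 6, 2, 5, 6, 4, 6, 10]⟩] [⟨[23], 1891, false, [4, 6, 4, 5, 6, 2, 10]⟩, ⟨[1793, 1830, 1793], 1919, false, [2, 4, 6, 10, 5, 3, 6, 5]⟩, ⟨[37,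 66, 37], 87, true, [0, 3, 4, 5, 6, 4, 6, 5, 6]⟩, ⟨[66, 37, 38], 112, true, [0, 3, 6, 5, 6, 2, 6, 5, 3, 6]⟩, ⟨[], 2011, false, [6, 2, 6, 10, 5, 3, 6, 4, 6, 2]⟩]),
  (⟨false, 2, 9, [63, 45, 43, 45, 28, 26, 31, 16, 16, 2, 24, 19], [52, 44, 31, 26, 2, 23, 23, 0], [66, 49, 56, 34, 27, 38, 2, 23, 17, 24, 11]⟩, .loop 57 9 [50, 33, 34, 40, 16, 11, 19, 22] 14 15 [⟨[], 1964, false, [6, 1, 4, 6, 2, 4]⟩, ⟨[], 744, true, [2, 5, 3, 6, 2, 5, 6, 10]⟩, ⟨[24], 1350, false, [4, 6, 5, 6, 2, 6, 10, 5]⟩, ⟨[23, 24, 23], 1528, true, [5, 3, 6, 1, 5, 6, 4, 6, 2, 10]⟩, ⟨[24], 387, false, [1, 6, 2, 6, 5, 6, 2]⟩, ⟨[66, 38, 37, 66], 1693, false, [0, 6, 5, 3, 6, 5, 6, 10, 5]⟩, ⟨[1583, 1587, 1587, 1549], 1707, true, [2, 6, 4, 6, 2, 5, 6, 2, 10]⟩] []),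
  (⟨false, 2, 9, [61, 57, 55, 30, 37, 30, 2, 17, 17, 0, 13], [63, 45, 50, 45, 36, 27, 36, 2, 17, 17, 24, 17], [56, 30, 32, 35, 16, 16, 4, 11]⟩, .loop 53 2 [63, 45, 30, 26, 31, 2, 23, 10, 17, 19] 4 5 [⟨[], 806, false, [0, 6, 5, 6, 10, 5, 10]⟩, ⟨[66, 66, 38, 37], 1293, false, [1, 5, 6, 2, 4, 5, 6, 4, 5, 3]⟩] [⟨[23], 834, true, [4, 6, 2, 6, 5, 6, 5]⟩, ⟨[23, 24, 23], 836, false, [2, 6, 1, 5, 10, 5, 6, 2, 5]⟩, ⟨[24, 23], 1409, true, [0, 2, 3, 6, 4, 6, 2, 5, 6, 2]⟩, ⟨[], 1226, false, [1, 5, 6, 2, 10]⟩, ⟨[], 1989, true, [5, 3, 6, 2, 6, 5, 6, 2, 6]⟩]),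
  (⟨false, 9, 2, [62, 44, 57, 49, 34, 27, 28, 2, 17, 23, 23, 8], [66, 55, 42, 41, 29, 40, 16, 16, 2, 4, 23], [60, 46, 51, 55, 28, 2, 17, 17, 17, 8]⟩, .loop 45 2 [63, 50, 47, 33, 34, 41, 18, 23, 23] 2 3 [⟨[], 1970, false, [0, 6, 2, 6, 4, 10, 5, 6, 4, 5]⟩] [⟨[24], 1215, true, [4, 5, 6, 4, 10, 5, 6, 2, 6, 2]⟩]),
  (⟨false, 9, 2, [61, 46, 38, 35, 2, 17, 17, 6, 11], [58, 45, 30, 35, 35, 18, 23], [48, 56, 33, 41, 30, 2, 17, 17, 0]⟩, .loop 20 2 [62, 46, 46, 36, 32, 30, 16, 16, 2, 21] 2 3 [⟨[23], 1973, false, [1, 2, 6, 5, 6, 10, 5, 3, 6, 2]⟩] [⟨[], 476, false, [1, 4, 6, 4, 6, 5, 3, 5]⟩, ⟨[24], 1177, true, [2, 3, 4, 6, 1, 4, 5, 3, 6, 4]⟩]),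
  (⟨false, 2, 9, [60, 46, 44, 54, 33, 34, 33, 16, 11, 16], [66, 47, 51, 34, 33, 28, 16, 25], [62, 45, 57, 30, 32, 26, 2, 17, 17, 20, 8]⟩, .loop 70 9 [62, 50, 28, 31, 35, 17] 6 7 [⟨[], 1997, true, [1, 4, 6, 2, 6, 5, 3, 6, 4]⟩, ⟨[23], 312, true, [2, 5, 3, 6, 2, 6, 5, 6, 2, 6]⟩, ⟨[], 498, false, [2, 5, 6, 5, 10, 5, 6, 5, 6, 2]⟩] []),
  (⟨false, 9, 2, [63, 48, 30, 41, 27, 2, 17, 0, 17], [61, 46, 53, 30, 26, 28, 2, 17, 17, 18], [63, 50, 45, 36, 34, 2, 16]⟩, .loop 35 2 [67, 48, 45, 28, 41, 38, 2, 17, 22, 6, 17] 2 3 [⟨[24], 1971, true, [3, 4, 6, 5, 3, 6, 2, 4, 5]⟩] [⟨[24, 23], 1101, false, [0, 2, 3, 4, 6, 5, 10, 5, 6, 4]⟩, ⟨[], 1030, true, [0, 4, 5, 6, 10, 5, 6, 4]⟩]),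
  (⟨false, 5, 9, [67, 33, 27, 34, 16, 16, 10, 21, 17], [63, 44, 57, 49, 38, 31, 2, 16, 16, 22], [63, 51, 51, 28, 31, 2, 17, 17, 22, 6]⟩, .loop 53 2 [59, 56, 50, 31, 33, 38, 2, 23, 10, 23, 19] 10 11 [⟨[24], 1982, true, [4, 5, 6, 10, 5, 3, 6, 5, 10]⟩, ⟨[1958, 1979, 1979], 2018, true, [2, 6, 5, 6, 2, 6, 5, 3, 6, 5]⟩, ⟨[], 212, false, [6, 5, 3, 6, 2, 4, 5, 6, 2]⟩, ⟨[23, 24, 23], 738, true, [1, 2, 4, 6, 4, 5, 6, 2, 10]⟩, ⟨[24, 23], 280, false, [2, 5, 3, 6, 1, 5, 6, 4, 6]⟩] [⟨[23, 24], 754, false, [2, 4, 6, 1, 4, 6, 4, 5, 3]⟩, ⟨[37, 37], 1939, true, [4, 6, 2, 5, 6, 2, 10, 5, 6, 4]⟩]),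
  (⟨false, 5, 9, [60, 46, 51, 55, 31, 32, 29, 19, 6], [67, 49, 53, 31, 2, 23, 23, 17, 22], [62, 49, 49, 30, 38, 31, 2, 23, 17, 24, 23]⟩, .loop 63 2 [58, 48, 55, 31, 17, 22] 12 13 [⟨[], 1594, true, [0, 10, 5, 6, 10, 5, 6, 4]⟩, ⟨[], 1597, true, [1, 6, 5, 6, 5, 10, 5, 6, 2]⟩, ⟨[24], 976, false, [3, 4, 5, 3, 6, 2, 5, 6, 4]⟩, ⟨[23], 751, false, [1, 2, 3, 5, 6, 5, 3, 6, 4, 5]⟩, ⟨[], 692, false, [0, 3, 6, 2, 5, 6, 10, 5]⟩, ⟨[23, 24, 23], 1254, true, [3, 5, 6, 1, 4, 10, 5, 6, 2, 4]⟩] [⟨[24, 23], 2022, true, [2, 4, 6, 1, 10, 5, 10]⟩]),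
  (⟨false, 9, 5, [59, 56, 53, 28, 26, 2, 17, 17], [63, 44, 43, 51, 33, 31, 31, 2, 17, 17, 0, 6], [66, 47, 54, 34, 28, 37, 16, 4, 16, 16, 12]⟩, .loop 17 5 [63, 46, 43, 28, 34, 27, 17, 22, 6, 17] 6 7 [⟨[66, 37, 38], 381, true, [6, 5, 6, 10, 5, 3, 6, 2, 6]⟩, ⟨[23], 867, true, [5, 3, 6, 2, 5, 6, 5, 6, 4, 10]⟩, ⟨[23], 2002, true, [3, 4, 6, 2, 5, 6, 4, 6, 5, 10]⟩] []),
  (⟨false, 2, 9, [67, 49, 28, 34, 33, 16, 8, 17, 23, 8], [63, 44, 43, 38, 29, 30, 16, 16, 25, 16], [66, 44, 42, 57, 28, 26, 40, 17, 23, 16]⟩, .loop 35 5 [66, 46, 48, 36, 32, 30, 16, 16, 25, 17] 4 5 [⟨[], 1902, false, [1, 6, 4, 5, 6, 2, 6, 5, 6]⟩, ⟨[1830, 1811, 1811], 1904, false, [2, 6, 4, 6, 5, 3, 6, 2, 4, 5]⟩] [⟨[66, 38, 66], 1974, false, [0, 4, 10, 5, 6, 5, 6, 4]⟩]),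
  (⟨false, 9, 2, [59, 50, 55, 31, 36, 28, 2, 23, 17, 19], [58, 46, 44, 28, 30, 27, 31, 16, 22, 22, 10], [62, 48, 30, 27, 16, 21]⟩, .loop 34 2 [61, 51, 55, 28, 34, 30, 2, 17, 17, 8] 4 5 [⟨[], 926, false, [5, 3, 6, 4, 6, 5, 6, 5, 10]⟩, ⟨[24, 23], 2029, false, [4, 5, 3, 6, 5, 6, 4, 5, 3, 5]⟩] [⟨[], 1063, true, [5, 6, 2, 4, 6, 10]⟩]),
  (⟨false, 9, 2, [59, 45, 56, 30, 26, 38, 17, 17, 22, 11], [54, 30, 30, 38, 2, 23, 17, 22], [45, 50, 31, 28, 16, 16, 4, 23]⟩, .loop 59 2 [59, 45, 54, 30, 30, 37, 16, 16, 24, 23] 10 11 [⟨[23, 24], 953, false, [6, 10, 5, 6, 5, 3]⟩, ⟨[], 1295, true, [3, 6, 4, 6, 4, 5]⟩, ⟨[23], 1212, true, [4, 10, 5, 3, 6, 5, 6, 2, 5, 10]⟩, ⟨[23, 24], 1099, false, [0, 6, 10, 5, 6, 2, 6, 10]⟩, ⟨[23, 24], 2007, true, [2, 3,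 5, 6, 1, 5, 3, 5, 6, 5]⟩] [⟨[24], 563, false, [1, 10, 5, 3, 6, 4, 5, 3, 6]⟩, ⟨[66], 584, false, [4, 6, 4, 6, 4, 5, 10, 5]⟩]),
  (⟨false, 2, 9, [62, 44, 42, 45, 28, 2, 23, 18], [45, 49, 36, 32, 30, 16, 4, 17], [60, 44, 51, 28, 41, 31, 2, 16, 16, 6, 25]⟩, .loop 56 2 [67, 49, 44, 30, 27, 16, 2, 10] 6 7 [⟨[], 975, true, [1, 2, 6, 5, 6, 2, 6, 5, 3, 6, 5]⟩, ⟨[], 1742, false, [1, 10, 5, 6, 2, 5, 6, 5, 3, 5]⟩, ⟨[1583, 1587, 1549], 1748, true, [4, 6, 1, 10, 5, 6, 10, 5, 6]⟩] [⟨[23, 24, 23], 941, false, [1, 10, 5, 6, 10, 5, 3, 6, 2, 6]⟩, ⟨[24], 568, true, [1, 10, 5, 3, 6, 2, 5, 6, 10]⟩, ⟨[], 305, true, [1, 10, 5, 6, 2, 4, 6, 5]⟩, ⟨[245, 50, 22, 50, 21], 1947, true, [2, 6, 2, 6, 10, 5, 6]⟩]),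
  (⟨false, 2, 9, [61, 44, 43, 53, 38, 28, 16, 24, 16, 11], [54, 43, 28, 30, 35, 2, 17, 17, 6, 4], [67, 51, 51, 41, 27, 16, 16, 20, 25]⟩, .loop 55 2 [58, 45, 48, 41, 28, 16, 11, 25] 10 11 [⟨[], 289, true, [4, 6, 4, 6, 4, 6, 2]⟩, ⟨[], 280, true, [3, 5, 6, 4, 5, 6, 2, 6, 4]⟩, ⟨[23, 24], 695, false, [4, 5, 6, 2, 5, 6, 4, 6, 2]⟩, ⟨[66, 38, 66, 66], 1939, true, [6, 1, 2, 5, 6, 10, 5, 3]⟩, ⟨[1961, 1979, 1958, 1961], 1982, false, [1, 2, 6, 5, 10, 5, 6, 5, 6, 4]⟩] [⟨[23, 24, 23], 738, true, [1, 5, 6, 2, 5, 6, 4]⟩, ⟨[], 2018, false, [3, 5, 3, 6, 4, 6, 2, 5]⟩]),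
  (⟨false, 9, 2, [56, 28, 35, 40, 16, 4, 17], [61, 45, 46, 30, 37, 27, 16, 16, 16, 8], [63, 50, 31, 29, 35, 2, 17, 17, 20, 8]⟩, .loop 55 2 [51, 47, 30, 27, 31, 16, 16, 18, 11] 2 3 [⟨[24], 1938, true, [4, 6, 1, 10, 5, 6, 10, 5, 6]⟩] [⟨[23, 24, 23], 293, true, [2, 4, 10, 5, 6, 4, 6, 4, 6]⟩, ⟨[], 235, true, [4, 6, 2, 5, 6, 4, 5]⟩, ⟨[23, 24, 23], 478, true, [0, 6, 2, 5, 6, 10, 5, 3, 6, 4]⟩, ⟨[66, 66, 38, 66, 38], 739, true, [0, 3, 6, 5, 6, 2, 4, 6, 5, 6]⟩, ⟨[], 981, true, [1, 6, 2, 6, 4, 6, 5]⟩, ⟨[23], 1216, true, [1, 2, 5, 6, 5, 3, 6, 4, 6]⟩]),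
  (⟨false, 2, 9, [59, 50, 42, 36, 29, 31, 2, 17, 23, 23, 4], [60, 45, 56, 50, 33, 29, 2, 23, 4, 6, 23], [62, 45, 53, 48, 34, 27, 41, 2, 23, 17, 24, 11]⟩, .loop 58 2 [63, 44, 43, 51, 35, 31, 29, 16, 10, 17, 6] 4 5 [⟨[24, 23], 593, false, [6, 2, 10, 5, 6, 2, 4, 5, 10]⟩, ⟨[24, 23], 1080, true, [1, 3, 6, 5, 3, 6, 4, 6, 2, 5]⟩] [⟨[23, 24], 785, true, [6, 5, 6, 2, 6, 2, 10]⟩, ⟨[], 1465, true, [10, 5, 3, 6, 2, 4, 6, 5]⟩, ⟨[24], 1149, false, [3, 6, 4, 5, 10, 5, 6, 4]⟩, ⟨[66, 66, 37, 38], 746, false, [1, 3, 6, 4, 5, 3, 6, 4, 5]⟩, ⟨[], 1953, false, [1, 6, 4, 10, 5, 6, 5, 3]⟩]),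
  (⟨false, 2, 9, [66, 57, 53, 35, 36, 29, 2, 23, 8, 23, 21], [59, 48, 42, 30, 34, 31, 16, 16, 19], [67, 48, 55, 35, 28, 35, 16, 4, 16, 19, 6]⟩, .loop 34 8 [58, 50, 55, 28, 35, 36, 16, 16, 2, 10] 2 3 [⟨[1792, 1811, 1792], 1861, true, [2, 3, 6, 2, 4, 5, 6, 2, 5, 10]⟩] [⟨[], 1903, false, [0, 2, 5, 3, 6, 2]⟩, ⟨[23], 2013, false, [4, 5, 10, 5, 6, 5, 3, 6, 2]⟩]),
  (⟨false, 9, 2, [63, 45, 42, 49, 36, 32, 16, 11, 11, 16], [61, 44, 56, 33, 31, 38, 16, 16, 18, 21], [59, 45, 45, 41, 2, 17, 22, 22, 16]⟩, .loop 69 2 [66, 44, 43, 53, 36, 32, 16, 10, 17, 23] 6 7 [⟨[24], 501, true, [1, 2, 10, 5, 3, 6, 5, 3, 6, 2, 6]⟩, ⟨[], 477, false, [1, 6, 5, 6, 10, 5, 6, 2, 10]⟩, ⟨[23], 2021, false, [3, 6, 5, 6, 2, 6, 2, 4, 10]⟩] []),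
  (⟨false, 9, 2, [59, 47, 47, 52, 30, 40, 29, 2, 23, 8, 23, 6], [58, 44, 56, 46, 28, 36, 29, 27, 2, 23, 17, 23, 8], [59, 48, 31, 16, 2, 19, 6]⟩, .loop 48 2 [62, 52, 55, 30, 26, 38, 2, 23, 17, 25, 12] 2 3 [⟨[23], 1929, true, [4, 10, 5, 6, 10, 5, 6, 4, 6]⟩] [⟨[24, 23], 981, false, [2, 6, 1, 2, 4, 10, 5, 6, 4, 6]⟩]),
  (⟨false, 7, 9, [60, 54, 43, 28, 31, 27, 31, 2, 17], [59, 45, 45, 28, 26, 31, 33, 2, 23, 17, 18], [66, 48, 44, 40, 30, 2, 17, 22, 22, 11]⟩, .loop 71 9 [61, 54, 30, 38, 28, 2, 17, 22, 8] 6 7 [⟨[1961, 1961, 1979], 1940, false, [0, 3, 6, 4, 5, 6, 10, 5, 3, 6, 4]⟩, ⟨[24], 1245, true, [2, 6, 4, 5, 6, 2, 6, 4]⟩, ⟨[66, 37, 66, 37], 1551, true, [0, 4, 6, 10, 5, 6, 2, 10]⟩] []),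
  (⟨false, 9, 2, [66, 55, 47, 30, 38, 2, 23, 17], [66, 49, 57, 30, 26, 38, 2, 17, 23, 24, 21], [60, 45, 48, 35, 29, 34, 2, 23, 23, 21]⟩, .loop 23 7 [60, 44, 56, 46, 30, 27, 38, 2, 17, 25, 25] 4 5 [⟨[1587], 1615, false, [0, 6, 10, 5, 6, 2, 10]⟩, ⟨[23, 24, 23], 2002, true, [6, 2, 6, 5, 3, 6, 5, 3, 6]⟩] [⟨[1587, 1587, 1583, 1583, 1549, 1549], 1670, false, [0, 4, 5, 6, 4, 6, 4, 5, 10]⟩]),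
  (⟨false, 9, 2, [46, 57, 35, 31, 34, 16, 16, 13, 24], [50, 31, 26, 17, 23, 23, 16], [63, 47, 50, 33, 30, 2, 17, 17, 0, 8]⟩, .loop 35 2 [61, 46, 42, 31, 34, 30, 16, 16, 18] 6 7 [⟨[24], 1844, false, [5, 3, 5, 6, 5, 3, 6, 5, 6, 2]⟩, ⟨[1792, 1811, 1811, 1792], 1858, true, [4, 5, 6, 4, 5, 6, 2, 6, 10]⟩, ⟨[23], 2035, false, [0, 2, 3, 5, 6, 4, 5, 6, 4, 6, 2]⟩] []),
  (⟨false, 9, 2, [59, 49, 30, 29, 27, 2, 17, 6], [59, 55, 43, 34, 38, 2, 17, 23, 11], [48, 50, 28, 31, 29, 16, 10, 23, 17]⟩, .loop 56 2 [59, 55, 43, 34, 38, 2, 17, 23, 11, 11] 14 15 [⟨[], 728, true, [2, 4, 6, 4, 6, 4, 5, 6, 2, 5, 10]⟩, ⟨[24, 23], 1431, true, [5, 3, 5, 6, 1, 2, 5, 3, 6, 5]⟩, ⟨[24], 1040, false, [2, 6, 10, 5, 6, 2, 6, 4, 6, 5]⟩, ⟨[24], 966, true, [0, 2, 6, 5,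 6, 10, 5, 6, 2, 10]⟩, ⟨[23, 24], 1019, true, [2, 3, 6, 5, 6, 4, 5, 6, 5]⟩, ⟨[63, 28, 61, 61, 28], 724, false, [4, 6, 2, 6, 2, 5, 3]⟩, ⟨[37, 66, 37], 1937, true, [2, 10, 5, 6, 4, 5, 6, 4]⟩] []),
  (⟨false, 9, 2, [63, 48, 45, 33, 34, 18, 23, 17, 17], [59, 46, 48, 54, 41, 26, 2, 17, 25, 19], [60, 49, 51, 31, 37, 29, 16, 21]⟩, .loop 72 5 [58, 48, 47, 28, 41, 16, 11, 16] 2 3 [⟨[66], 1985, false, [6, 4, 5, 6, 4, 5, 3, 6, 2]⟩] [⟨[], 680, false, [6, 1, 2, 5, 6, 4, 6, 5, 3]⟩, ⟨[23], 321, false, [1, 10, 5, 3, 6, 5, 6, 5, 3, 5]⟩]),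
  (⟨false, 9, 2, [62, 47, 51, 30, 29, 32, 17], [46, 57, 30, 30, 16, 16, 20], [63, 44, 48, 43, 31, 27, 34, 16, 16, 2]⟩, .loop 54 2 [66, 46, 51, 30, 26, 38, 17, 23, 16, 22] 2 3 [⟨[], 1938, true, [1, 6, 5, 3, 6, 4, 6, 5, 6]⟩] [⟨[23, 24], 351, true, [2, 3, 6, 2, 4, 5, 6, 4, 10, 5]⟩, ⟨[], 330, false, [1, 6, 5, 3, 6, 4, 5, 6, 4, 6]⟩, ⟨[38, 66, 37], 478, false, [3, 6, 4, 6, 2, 6, 5, 3, 6]⟩, ⟨[23, 24], 614, true, [3, 5, 3, 6, 4, 6, 5, 10]⟩, ⟨[23, 24, 23], 981, false, [5, 6, 5, 3, 5, 6, 4]⟩, ⟨[23, 24, 23], 459, true, [1, 10, 5, 3, 6, 4, 5, 3, 6, 5]⟩]),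
  (⟨false, 2, 9, [62, 52, 44, 28, 41, 35, 2, 23, 17, 0], [60, 51, 49, 40, 28, 16, 16, 21, 22], [66, 50, 49, 28, 38, 31, 16, 8, 17]⟩, .loop 48 2 [60, 45, 50, 36, 35, 35, 16, 2, 16] 2 3 [⟨[23], 778, false, [3, 6, 1, 2, 5, 6, 4, 6, 5]⟩] [⟨[24, 23], 1964, true, [6, 4, 6, 5, 6, 2, 4, 5, 10]⟩]),
  (⟨false, 2, 9, [62, 47, 44, 51, 35, 36, 38, 16, 11, 16, 24], [61, 46, 51, 55, 28, 26, 17, 23, 18, 17], [66, 44, 42, 48, 36, 33, 2, 17, 17, 22, 22]⟩, .loop 51 5 [60, 44, 47, 31, 26, 26, 2, 23, 10, 17] 6 7 [⟨[38], 1036, true, [6, 4, 6, 5, 3, 6, 2]⟩, ⟨[], 352, true, [1, 4, 5, 6, 10, 5, 3, 6, 5]⟩, ⟨[], 908, false, [1, 2, 5, 3, 6, 2, 4]⟩] [⟨[66, 37, 37], 1149, true, [0, 2, 3, 5, 6, 2, 4, 5, 6, 2, 6]⟩, ⟨[24], 1281, true, [1, 3, 6, 5, 6, 2, 6, 4, 5]⟩,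 ⟨[23, 24], 772, false, [1, 4, 5, 6, 4, 6, 2, 5, 10]⟩, ⟨[], 2035, false, [5, 6, 1, 4, 6, 4, 5, 10, 5]⟩]),
  (⟨false, 9, 7, [61, 46, 34, 26, 35, 2, 23, 18, 6], [67, 46, 42, 28, 38, 29, 16, 21, 16], [59, 44, 43, 51, 31, 34, 16, 16, 10, 19]⟩, .loop 57 2 [49, 46, 33, 31, 31, 16, 10, 18] 2 3 [⟨[23, 24, 23], 2020, false, [2, 4, 6, 5, 6, 4, 6, 2, 6]⟩] [⟨[], 1500, false, [3, 4, 6, 4, 6, 5]⟩, ⟨[23, 24, 23], 778, false, [6, 5, 6, 5, 10, 5, 6, 2]⟩, ⟨[23, 24, 23], 387, false, [4, 6, 1, 4, 6, 4, 5, 10]⟩, ⟨[38], 268, true, [1, 5, 3, 6, 2, 4, 6, 5, 10]⟩, ⟨[24], 1350, false, [2, 3, 5, 6, 10, 5, 6, 2, 4, 6]⟩, ⟨[23, 24, 23], 1571, true, [0, 6, 5, 10, 5, 6, 5, 10, 5]⟩])]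

/-- facts 2048 and on -/
def facts64 : List (Fact × Why) := [
  (⟨false, 2, 9, [62, 46, 44, 54, 28, 38, 37, 16, 21, 23, 23], [62, 45, 56, 55, 31, 27, 32, 2, 17, 17, 6, 4], [60, 47, 56, 34, 36, 17, 23, 23, 18]⟩, .loop 59 9 [59, 57, 38, 34, 2, 16, 6, 23, 23] 14 15 [⟨[], 2009, false, [1, 6, 5, 3, 6, 5, 3, 6, 5]⟩, ⟨[24], 495, false, [4, 5, 6, 4, 5, 3, 6, 2, 4]⟩, ⟨[], 393, false, [1, 5, 6, 4, 5, 6, 10, 5, 3, 6]⟩, ⟨[23], 1321, true, [10, 5, 3, 6, 1, 2, 6, 5, 10]⟩, ⟨[23, 24], 475, false, [1, 5, 6, 4, 10, 5, 3, 6]⟩, ⟨[23, 24], 927, false, [0, 3, 5, 6, 2, 6, 10, 5, 10]⟩, ⟨[66, 66], 863, true, [0, 5, 6, 2, 10, 5, 6, 4, 5]⟩] []),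
  (⟨false, 2, 9, [66, 45, 50, 41, 27, 2, 23, 4, 6, 17], [58, 51, 51, 28, 30, 37, 16, 10, 16, 16, 11], [61, 54, 50, 33, 41, 2, 23, 4, 6]⟩, .loop 51 2 [63, 45, 43, 45, 33, 34, 30, 16, 11, 23, 23] 8 9 [⟨[24, 23], 760, false, [0, 4, 5, 6, 10, 5, 6, 2, 5, 10]⟩, ⟨[66, 37, 66, 37], 572, false, [4, 5, 3, 5, 6, 4, 6, 2, 4]⟩, ⟨[], 455, false, [4, 6, 1, 2, 6, 4, 5, 3, 6, 2]⟩, ⟨[63, 63, 29, 27], 402, true, [2, 6, 4, 5, 6, 2, 4, 5, 6, 10]⟩] [⟨[23, 24, 23], 1463, false, [0, 3, 4, 6, 4, 6, 5, 6, 5, 3]⟩, ⟨[23, 24], 417, true, [0, 4, 6, 2, 6, 4, 10, 5]⟩, ⟨[23, 24, 23], 2030, true, [4, 6, 10, 5, 6, 2, 4, 10]⟩]),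
  (⟨false, 2, 9, [63, 45, 46, 33, 29, 31, 2, 23, 8, 23, 23], [58, 46, 56, 33, 27, 40, 16], [61, 44, 48, 31, 27, 31, 16, 2, 21, 17]⟩, .loop 51 2 [63, 46, 34, 31, 35, 16, 19, 22, 16] 12 13 [⟨[], 482, true, [0, 3, 5, 3, 6, 4, 6, 2, 6]⟩, ⟨[63, 27, 61], 724, false, [0, 2, 3, 6, 4, 6, 5, 3]⟩, ⟨[38, 37, 66], 565, false, [4, 5, 6, 1, 2]⟩, ⟨[], 444, false, [4, 5, 3, 5, 6, 5, 6, 4, 6, 10]⟩, ⟨[24], 1040, true, [1, 4, 6, 4, 5, 3, 6, 4]⟩, ⟨[24, 23], 325, true, [2, 10, 5, 3, 6, 4, 6, 5]⟩] [⟨[24], 2042, true, [2, 5, 6, 4, 5, 3, 6, 2, 6]⟩]),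
  (⟨false, 9, 2, [59, 49, 45, 36, 26, 2, 23, 8, 23, 23], [66, 47, 50, 28, 40, 36, 16, 8, 22, 19], [62, 54, 44, 28, 31, 28, 38, 16, 2, 10]⟩, .loop 22 2 [60, 51, 49, 36, 32, 16, 16, 16, 16] 6 7 [⟨[24, 23], 1039, false, [5, 10, 5, 6, 1, 2, 5, 6, 4]⟩, ⟨[66, 38, 66, 66], 1220, true, [1, 4, 6, 4, 10, 5, 6, 4, 5, 3, 6]⟩, ⟨[], 1959, true, [2, 5, 6, 4, 6, 2, 6, 4, 10]⟩] []),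
  (⟨false, 9, 8, [56, 53, 36, 30, 2, 23, 17, 22], [59, 47, 44, 51, 28, 26, 31, 2, 17, 17, 6, 20], [66, 48, 46, 30, 27, 36, 16, 4, 16, 16, 22]⟩, .loop 55 8 [63, 45, 43, 45, 41, 28, 2, 23, 8, 17, 6] 14 15 [⟨[1811], 1916, true, [0, 3, 6, 4, 5, 10, 5, 6, 5, 6]⟩, ⟨[], 93, false, [0, 2, 6, 4, 10, 5, 3]⟩, ⟨[37, 37], 75, true, [0, 2, 5, 6, 4]⟩, ⟨[61, 63, 61, 28], 113, true, [2, 5, 6, 5, 10, 5, 6, 4]⟩, ⟨[], 114, false, [3, 6, 1, 2, 6, 5, 3, 6, 2, 4]⟩, ⟨[66, 66, 38, 66], 120, false, [0, 3, 5, 6, 4, 5, 6, 5]⟩, ⟨[], 2011, false, [2, 6, 1, 2, 4, 5, 6, 2, 5, 10]⟩] []),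
  (⟨false, 2, 9, [55, 30, 40, 33, 2, 23, 24], [58, 51, 53, 30, 28, 28, 16, 16, 18, 25], [61, 54, 56, 40, 28, 40, 16, 11, 16, 22]⟩, .loop 50 5 [58, 44, 57, 28, 35, 27, 16, 19, 6] 4 5 [⟨[], 204, true, [1, 3, 6, 2, 6, 2, 4, 5]⟩, ⟨[], 1063, false, [0, 4, 10, 5, 3, 6, 5, 10]⟩] [⟨[37, 38], 525, false, [0, 5, 3, 6, 2, 4, 6, 5, 6, 10]⟩, ⟨[], 393, false, [3, 4, 6, 1, 4, 5, 6, 2, 4]⟩, ⟨[24], 1483, true, [0, 2, 5, 6, 10, 5, 3, 6, 2, 4, 6]⟩, ⟨[23, 24], 1110, false, [2, 6, 10, 5, 6, 2, 6]⟩, ⟨[23, 24, 23], 2048, false, [0, 4, 5, 3, 5, 6, 5, 3, 6, 2]⟩]),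
  (⟨false, 9, 2, [61, 51, 44, 28, 41, 27, 16, 11, 23, 16], [59, 51, 49, 31, 37, 35, 2, 17, 23, 12], [49, 45, 30, 30, 36, 2, 17, 23, 18, 20]⟩, .loop 67 2 [47, 55, 31, 27, 41, 16, 2, 21] 2 3 [⟨[24, 23], 1933, true, [6, 10, 5, 6, 4, 6, 2, 4]⟩] [⟨[23], 1627, false, [0, 10, 5, 3, 6, 2, 4, 6, 5]⟩, ⟨[1583, 1549, 1549], 1544, false, [1, 6, 5, 3, 6, 4, 6, 5, 3]⟩]),
  (⟨false, 5, 9, [67, 54, 47, 28, 30, 34, 2, 17, 23, 20, 19], [67, 44, 48, 52, 30, 30, 37, 2, 16, 16, 6], [63, 55, 43, 34, 27, 28, 16, 21, 17]⟩, .loop 32 5 [67, 44, 42, 48, 28, 31, 41, 16, 19, 6] 4 5 [⟨[38, 66, 37], 143, false, [2, 3, 5, 6, 4, 10, 5, 6, 5, 3, 5]⟩, ⟨[], 348, true, [2, 4, 6, 5, 6, 4, 6, 2, 10]⟩] [⟨[66, 38, 66, 66, 38], 1939, true, [0, 2, 4, 6, 5, 3, 6, 2]⟩]),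
  (⟨false, 8, 9, [60, 47, 55, 38, 32, 16, 2, 0, 16], [60, 48, 55, 30, 28, 37, 16, 11], [59, 51, 53, 31, 29, 16, 16, 2, 23]⟩, .loop 31 9 [58, 45, 50, 42, 28, 34, 34, 16, 10, 17] 6 7 [⟨[1958, 1961, 1961], 2022, false, [0, 3, 4, 5, 6, 2]⟩, ⟨[23, 24, 23], 1362, true, [6, 4, 5, 6, 2, 4, 10]⟩, ⟨[24, 23], 1788, false, [5, 3]⟩] []),
  (⟨false, 8, 9, [58, 46, 46, 30, 28, 41, 2, 17, 17, 18, 10], [60, 49, 56, 30, 29, 32, 2, 17, 17, 22, 6], [67, 48, 56, 41, 41, 2, 23, 17, 12]⟩, .loop 32 2 [57, 55, 35, 29, 35, 16, 16, 4, 17] 2 3 [⟨[], 1895, true, [0, 3, 6, 5, 6, 4, 6, 4, 10, 5, 3]⟩] [⟨[24, 23], 1529, false, [0, 6, 2, 5, 3, 6, 2, 4, 5, 10]⟩, ⟨[24], 2024, false, [0, 2, 4, 5, 6, 5, 10]⟩]),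
  (⟨false, 9, 5, [59, 45, 42, 45, 31, 32, 38, 16, 16, 18, 11, 16], [60, 44, 53, 56, 30, 34, 29, 18, 23, 17, 6], [44, 43, 51, 41, 26, 2, 17, 23, 17, 24]⟩, .loop 52 2 [59, 46, 44, 34, 27, 31, 18] 6 7 [⟨[], 629, true, [5, 3, 5, 6, 4, 5, 6, 5, 3]⟩, ⟨[23, 24], 1074, false, [4, 6, 1, 2, 10, 5, 6, 4, 6, 2]⟩, ⟨[24], 1975, true, [0, 2, 3, 4, 6, 5, 6, 4, 5, 10, 5]⟩] [⟨[23], 445, false, [2, 5, 6, 1, 4, 5, 6, 5, 10]⟩, ⟨[24, 23], 629, false, [1, 3, 6, 5, 10, 5, 6, 5, 6, 2, 10]⟩, ⟨[23], 1259, false, [0, 4, 5, 3, 6, 5, 6, 2, 6, 10]⟩, ⟨[], 452, false, [1, 2, 4, 6, 5, 10, 5, 6, 5, 10]⟩]),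
  (⟨false, 2, 9, [63, 52, 48, 33, 31, 34, 2, 23, 17, 25, 12], [67, 54, 33, 34, 33, 2, 17, 17, 22], [45, 56, 55, 28, 35, 38, 16, 11, 17, 6]⟩, .loop 33 2 [66, 44, 56, 28, 40, 30, 2, 16, 6, 17, 17] 2 3 [⟨[24], 489, false, [0, 3, 4, 5, 6, 4, 5, 10, 5]⟩] [⟨[23], 1126, false, [3, 4, 5, 6, 4, 5, 6, 10, 5]⟩, ⟨[24], 1989, true, [5, 3, 6, 5, 10, 5, 6, 4, 5]⟩]),
  (⟨false, 9, 2, [66, 44, 42, 45, 34, 28, 37, 2, 17, 22, 22, 10], [58, 52, 44, 35, 28, 37, 2, 17, 0, 23, 23], [63, 51, 55, 35, 31, 26, 17, 23, 16]⟩, .loop 28 7 [44, 55, 50, 30, 27, 31, 16, 18, 23] 4 5 [⟨[1583, 1549], 1685, false, [1, 3, 6, 4, 5, 3, 6, 4]⟩, ⟨[24], 1981, true, [0, 3, 4, 5, 6, 5, 3, 6, 2, 6]⟩] [⟨[1583, 1587, 1549, 1549], 1651, true, [4, 10, 5, 3, 6, 5, 10, 5, 6]⟩]),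
  (⟨false, 5, 9, [59, 48, 43, 30, 26, 41, 2, 23, 4, 6, 17], [59, 44, 51, 46, 34, 31, 37, 16, 16, 4, 20], [58, 49, 47, 31, 36, 41, 19, 6, 17, 22]⟩, .loop 21 2 [61, 48, 55, 30, 35, 29, 16, 21] 4 5 [⟨[23], 125, true, [1, 4, 10, 5, 6, 4, 5, 6, 10]⟩, ⟨[23, 24], 93, false, [4, 6, 2, 10, 5, 6, 2, 4, 5, 10]⟩] [⟨[23], 2011, false, [1, 6, 10, 5, 3, 6, 4, 5, 10, 5]⟩]),
  (⟨false, 2, 9, [62, 46, 51, 55, 28, 40, 26, 2, 17, 0, 23], [63, 49, 46, 38, 30, 35, 2, 17, 22, 10], [58, 45, 54, 45, 36, 30, 33, 16, 16, 20]⟩, .loop 17 9 [67, 45, 54, 56, 28, 30, 28, 16, 2, 10] 6 7 [⟨[1958, 1961], 2009, false, [10, 5, 6, 4, 6, 2, 4, 5, 6]⟩, ⟨[24, 23], 118, true, [4, 5, 3, 6, 5, 10, 5, 6, 4, 6]⟩, ⟨[24], 368, true, [2, 4, 6, 1, 4, 5, 3, 6, 2, 4]⟩] []),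
  (⟨false, 9, 2, [55, 46, 31, 32, 36, 16, 16, 10, 16], [60, 47, 44, 36, 40, 30, 16, 16, 20, 25, 23], [66, 44, 42, 48, 28, 30, 34, 16, 16, 8, 17, 12]⟩, .loop 51 5 [66, 52, 49, 31, 37, 35, 16, 16, 2, 11] 4 5 [⟨[37], 525, false, [1, 5, 6, 4, 5, 6, 10, 5, 6]⟩, ⟨[24], 1993, false, [5, 3, 6, 5, 6, 2, 5, 6]⟩] [⟨[38, 66, 37, 37], 1363, false, [0, 4, 6, 2, 6, 2, 4, 5, 3, 6, 2]⟩, ⟨[23], 912, true, [0, 5, 6, 4, 6, 5, 6, 5, 3]⟩, ⟨[24], 1110, true, [0, 2, 6, 10, 5, 3, 6, 5, 6]⟩, ⟨[], 616, true, [3, 6, 4, 6, 5, 6, 2, 10, 5]⟩, ⟨[23, 24, 23], 368, true, [2, 6, 1, 5, 6, 4, 6, 5, 10]⟩]),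
  (⟨false, 9, 2, [61, 49, 49, 31, 16, 11, 23, 23], [59, 45, 42, 47, 28, 30, 32, 16, 4, 16, 16, 12], [51, 35, 29, 36, 16, 8, 17, 23, 8]⟩, .loop 18 2 [52, 44, 31, 26, 26, 16, 4, 16, 16, 13] 6 7 [⟨[24], 1090, false, [0, 4, 5, 3, 6, 5, 6, 2, 5]⟩, ⟨[], 1491, true, [2, 6, 1, 5, 6, 10, 5, 6]⟩, ⟨[], 1952, false, [1, 6, 2, 5, 6, 4, 5, 6, 10]⟩] []),
  (⟨false, 9, 2, [60, 44, 49, 28, 36, 2, 23, 17, 19, 22], [59, 51, 43, 30, 38, 29, 2, 23, 13, 23, 23], [63, 47, 49, 56, 34, 26, 30, 16, 16, 8]⟩, .loop 30 2 [63, 57, 53, 31, 35, 29, 16, 8, 17, 23, 8] 6 7 [⟨[], 1797, true, [2, 6, 4, 5, 6, 2, 6, 10, 5]⟩, ⟨[1811, 1811, 1793, 1830], 1831, false, [4, 6, 5, 3, 6, 2, 5]⟩, ⟨[23, 24, 23], 2021, false, [1, 2, 3, 6, 5, 6, 5, 10]⟩] []),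
  (⟨false, 9, 2, [61, 34, 27, 41, 2, 17, 23, 11, 25], [46, 44, 33, 33, 31, 2, 17, 22, 22, 24], [62, 49, 45, 30, 32, 34, 19, 6, 17, 19]⟩, .loop 58 2 [61, 49, 49, 30, 38, 37, 16, 16, 4, 6] 6 7 [⟨[24], 849, false, [1, 6, 2, 5, 6, 5, 3, 5, 6, 2]⟩, ⟨[], 997, true, [2, 6, 2, 4, 5, 6, 2, 6, 4, 5]⟩, ⟨[23, 24, 23], 2031, true, [0, 2, 5, 6, 10, 5, 6, 4, 6, 5]⟩] [⟨[], 1212, true, [0, 3, 4, 6, 2, 6, 2, 4, 5, 6, 5]⟩, ⟨[24, 23], 1098, true, [0, 6, 2, 4, 5, 3, 6, 4, 6, 5]⟩, ⟨[38, 66, 38], 506, true, [0, 3, 6, 4, 5, 10, 5, 6, 2, 6]⟩, ⟨[23, 24, 23], 952, false, [0, 2, 3, 5, 6, 10, 5, 10]⟩]),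
  (⟨false, 9, 2, [59, 51, 42, 35, 37, 16, 10], [66, 44, 46, 35, 35, 41, 16, 10, 23, 17], [62, 51, 53, 34, 31, 38, 16, 16, 25, 19]⟩, .loop 58 2 [62, 49, 42, 28, 26, 31, 33, 17, 22, 6, 17] 14 15 [⟨[24], 301, true, [2, 10, 5, 6, 2, 4, 5, 6]⟩, ⟨[37, 66], 825, true, [0, 2, 4, 6, 5, 6, 2, 4, 6]⟩, ⟨[], 1670, true, [3, 6, 5, 6, 5, 10, 5, 6]⟩, ⟨[1587, 1583, 1587], 1745, false, [1, 3, 5, 6, 4, 5, 10, 5, 6, 2, 6]⟩, ⟨[23, 24, 23], 401, false, [2, 6, 5, 6, 10, 5, 6]⟩, ⟨[23, 24], 276, false, [1, 6, 4, 5, 10, 5, 6, 2]⟩, ⟨[23, 24, 23], 1986, true, [4, 5, 3, 6, 1, 5, 6, 2, 4, 6]⟩] []),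
  (⟨false, 9, 2, [61, 45, 56, 55, 30, 38, 16, 24, 6], [60, 44, 46, 44, 30, 29, 30, 2, 17, 23, 25], [60, 44, 42, 48, 28, 30, 37, 2, 17, 0, 17, 22]⟩, .loop 72 2 [44, 55, 50, 36, 32, 2, 17, 17, 22] 2 3 [⟨[], 1965, false, [0, 5, 6, 2, 6, 4, 6, 5, 6, 10]⟩] [⟨[24, 23], 427, false, [1, 2, 4, 5, 3, 6, 4, 5]⟩, ⟨[23], 1171, false, [0, 3, 6, 2, 6, 5, 10]⟩]),
  (⟨false, 9, 3, [63, 45, 45, 33, 27, 31, 16, 22, 22, 8], [66, 44, 57, 30, 29, 2, 23, 23, 25], [67, 47, 51, 36, 35, 16, 16, 10, 13]⟩, .loop 31 3 [58, 51, 42, 28, 38, 31, 2, 17, 22, 22, 16] 6 7 [⟨[], 1922, true, [4, 5, 6, 2, 4]⟩, ⟨[1792, 1792, 1792], 1919, false, [6, 5, 6, 10, 5, 3, 6, 5, 6, 2]⟩, ⟨[37, 37], 1941, true, [0, 6, 4, 5, 6, 2, 4, 10, 5]⟩] []),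
  (⟨false, 2, 9, [67, 56, 34, 26, 32, 16, 16, 4], [60, 50, 49, 33, 28, 35, 2, 17, 22, 6, 22], [58, 49, 46, 36, 28, 38, 2, 17, 23, 20, 11]⟩, .loop 61 2 [62, 44, 42, 57, 31, 38, 2, 16, 16, 6, 16] 6 7 [⟨[24], 789, false, [2, 5, 6, 4, 10, 5, 6, 2, 4, 5]⟩, ⟨[37, 66, 37], 1149, true, [1, 6, 4, 5, 3, 5, 6, 4]⟩, ⟨[23, 24], 755, false, [3, 5, 6, 2, 4, 6, 5, 10]⟩] [⟨[24, 23], 785, true, [6, 2, 4, 6, 10, 5, 3, 6, 4]⟩, ⟨[24, 23], 908, true, [0, 5, 6, 4, 5, 6, 4, 5, 3, 5]⟩, ⟨[], 727, true, [4, 6, 1, 2, 6, 5, 6]⟩, ⟨[23, 24, 23], 2035, false, [1, 5, 6, 5, 3, 6, 5, 10]⟩]),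
  (⟨false, 7, 9, [59, 50, 46, 28, 35, 32, 16, 21], [61, 44, 47, 52, 28, 40, 28, 2, 17, 23, 18, 20], [59, 48, 56, 30, 40, 26, 16, 16, 11, 18]⟩, .loop 59 5 [58, 54, 52, 33, 31, 31, 17, 23, 16, 22] 6 7 [⟨[], 1869, true, [5, 3, 6, 1, 4, 5, 6, 5, 3]⟩, ⟨[1830, 1811, 1811, 1793, 1793], 1772, true, [4, 5, 10, 5, 6, 1, 2, 6, 4, 5]⟩, ⟨[37, 38], 1578, true, [6, 1, 2, 6, 5, 3, 6, 5, 3]⟩] [⟨[66, 37, 66, 66, 38], 1035, true, [0, 6, 4, 10, 5, 6, 10, 5, 3, 6]⟩, ⟨[], 961, true, [2, 4, 5, 3, 6, 2, 6, 5, 6, 2]⟩, ⟨[23, 24, 23], 1165, true, [5, 6, 5, 6, 2, 6, 5, 10]⟩, ⟨[24, 23], 2029, false, [1, 6, 2, 6, 5, 3, 6, 5, 3, 6]⟩]),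
  (⟨false, 9, 9, [61, 45, 42, 49, 34, 29, 36, 16, 10, 23], [62, 55, 43, 31, 26, 26, 16, 22, 22, 8], [62, 44, 46, 44, 36, 27, 16, 4, 16, 2]⟩, .loop 50 2 [67, 47, 53, 28, 35, 38, 2, 17, 17, 13] 6 7 [⟨[23], 754, false, [0, 4, 10, 5, 3, 6, 2, 6, 4, 5]⟩, ⟨[66, 38, 66], 289, false, [0, 6, 4, 5, 3, 6, 2, 6, 2, 5]⟩, ⟨[23], 1982, true, [0, 10, 5, 6, 4, 10, 5, 6, 4]⟩] [⟨[23, 24], 738, true, [0, 5, 6, 4, 6, 5, 6, 2, 6, 10]⟩, ⟨[], 940, false, [2, 4, 6, 1, 2, 5, 6, 10, 5]⟩, ⟨[24, 23], 280, false, [0, 3, 4, 6, 2, 5, 6, 10]⟩, ⟨[37, 37, 66], 1939, true, [1, 5, 6, 4, 6, 2, 6, 5, 3]⟩]),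
  (⟨false, 9, 7, [63, 54, 46, 36, 29, 2, 17, 17, 0, 25], [61, 46, 56, 36, 40, 37, 2, 17, 6], [62, 44, 55, 50, 30, 28, 28, 17, 23, 16, 22]⟩, .loop 23 7 [45, 57, 30, 28, 16, 22, 19, 22] 4 5 [⟨[], 1617, true, [6, 5, 6, 2, 6, 4, 5, 10]⟩, ⟨[24, 23], 2029, false, [1, 6, 10, 5, 3, 6, 2, 5, 6, 2]⟩] [⟨[1587, 1587, 1587], 1751, false, [0, 6, 4, 6, 2, 10, 5, 6, 2, 5]⟩]),
  (⟨false, 2, 9, [62, 54, 56, 31, 34, 30, 16, 16, 11, 16], [61, 47, 33, 29, 2, 16, 6, 17, 17], [59, 47, 48, 33, 40, 2, 17, 23]⟩, .loop 58 2 [67, 45, 54, 45, 41, 36, 2, 17, 22] 2 3 [⟨[24], 1065, false, [2, 3, 4, 6, 4, 5, 6, 4]⟩] [⟨[23, 24], 563, false, [1, 4, 5, 3, 6, 4, 5, 10, 5, 6]⟩, ⟨[66, 38, 66, 66, 38], 688, false, [3, 5, 6, 2, 5, 6, 4, 6, 10]⟩, ⟨[23, 24, 23], 1295, false,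 [5, 6, 4, 5, 6, 4, 5, 6, 2]⟩, ⟨[24, 23], 1413, true, [0, 6, 4, 5, 6, 10, 5, 3]⟩, ⟨[24, 23], 1192, false, [2, 3, 4, 5, 6, 10, 5, 6, 4, 6]⟩, ⟨[23], 2007, true, [1, 4, 6, 5, 6, 4, 6, 10, 5]⟩]),
  (⟨false, 9, 2, [62, 44, 56, 46, 41, 29, 40, 2, 23, 23, 4, 19], [58, 50, 50, 36, 31, 26, 18], [60, 46, 57, 41, 2, 17, 23, 4, 10]⟩, .loop 29 5 [66, 49, 57, 41, 36, 2, 16, 6, 22, 6] 2 3 [⟨[66], 1931, true, [1, 5, 3, 6, 2, 4, 6, 5]⟩] [⟨[66, 37, 66, 66, 38], 936, true, [3, 4, 5, 6, 10, 5, 3, 6, 5, 3]⟩, ⟨[], 1302, false, [6, 1, 10, 5, 3, 6, 4, 6, 2, 6]⟩]),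
  (⟨false, 9, 5, [60, 49, 49, 40, 28, 40, 2, 23, 4, 6, 17], [59, 44, 48, 43, 38, 29, 17, 23, 23, 16], [59, 44, 46, 48, 30, 32, 16, 24, 16, 10]⟩, .loop 50 5 [63, 45, 53, 33, 35, 29, 2, 23, 17, 25, 12] 14 15 [⟨[66], 98, false, [1, 2, 6, 4, 5, 3, 6, 5, 6, 10]⟩, ⟨[24, 23], 346, false, [2, 6, 1, 5, 10, 5, 6, 4, 5, 10]⟩, ⟨[23, 24], 1668, true, [1, 3, 6, 2, 5, 6, 4, 10, 5, 3]⟩, ⟨[1587, 1587, 1587], 1720, false, [0, 5, 3, 6, 2, 5, 6, 4]⟩, ⟨[1587, 1583, 1549, 1549], 1721, false, [4, 6, 2, 10, 5, 6, 5, 3, 5]⟩, ⟨[24, 23], 1199, false, [4, 5, 3, 5, 6, 4, 5, 6, 5, 3]⟩, ⟨[23, 24], 2075, true, [0, 6, 2, 4, 10, 5, 6, 4, 6, 5]⟩] []),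
  (⟨false, 9, 6, [59, 52, 35, 35, 35, 2, 23, 10, 17, 19], [61, 45, 50, 31, 32, 38, 2, 17, 17, 6, 24], [66, 44, 51, 46, 38, 28, 16, 16, 16, 13]⟩, .loop 46 6 [60, 54, 44, 34, 29, 41, 16, 16, 19, 17] 4 5 [⟨[42], 1914, true, [4, 5, 6, 4, 6, 2, 4, 5]⟩, ⟨[1792, 1792, 1830, 1792], 1999, true, [2, 6, 4, 10, 5, 6, 4, 5, 6, 10]⟩] []),
  (⟨false, 5, 9, [63, 52, 33, 31, 32, 2, 17, 22, 22, 24], [61, 45, 50, 30, 32, 26, 2, 23, 17, 8, 21], [61, 45, 43, 33, 35, 41, 16, 16, 25, 19]⟩, .loop 29 2 [60, 55, 31, 27, 16, 16, 2, 24, 19] 2 3 [⟨[], 711, false, [0, 3, 5, 6, 2, 4, 10]⟩] [⟨[24], 426, false, [6, 2, 5, 6, 4, 6, 5, 3]⟩, ⟨[23, 24], 1976, false, [0, 2, 6, 5, 3, 6, 2, 6, 4, 5]⟩]),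
  (⟨false, 2, 9, [52, 49, 31, 29, 29, 16, 2, 11, 11], [62, 51, 52, 33, 29, 35, 2, 23, 17, 17, 19], [66, 44, 51, 46, 31, 29, 41, 2, 17, 23, 10]⟩, .loop 29 2 [66, 47, 47, 30, 35, 29, 16, 16, 11, 16] 4 5 [⟨[], 1252, true, [0, 4, 6, 4, 5, 6, 10]⟩, ⟨[], 532, true, [0, 4, 10, 5, 6, 2, 5, 6, 2, 4]⟩] [⟨[24, 23], 1968, true, [3, 6, 4, 6, 5, 6, 2, 4, 6]⟩])]

/-- facts 2080 and on -/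
def facts65 : List (Fact × Why) := [
  (⟨false, 9, 5, [62, 44, 46, 57, 31, 28, 40, 16, 8, 22, 6], [60, 48, 43, 34, 41, 16, 16, 18, 20], [67, 45, 42, 49, 30, 37, 32, 2, 17, 17, 19, 10]⟩, .loop 58 2 [67, 45, 52, 28, 35, 41, 2, 17, 22, 16, 16] 12 13 [⟨[], 1179, true, [5, 6, 5, 6, 10, 5, 3, 6, 5, 10]⟩, ⟨[24], 541, true, [2, 5, 6, 1, 5, 3, 5, 6, 5]⟩, ⟨[], 908, true, [6, 4, 6, 10, 5, 6, 4, 10, 5]⟩, ⟨[], 851, true, [2, 10, 5, 3, 6, 4, 6, 2]⟩, ⟨[24], 593, false, [0, 6, 2, 5, 6, 10, 5, 6, 2, 4]⟩, ⟨[], 2070, false, [4, 6, 4, 6, 5, 6, 2, 10]⟩] [⟨[23, 24], 1149, false, [1, 2, 4, 6, 4, 6, 4, 5, 3]⟩]),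
  (⟨false, 2, 9, [66, 51, 52, 34, 16, 16, 10, 21], [60, 44, 43, 57, 28, 40, 16, 8], [61, 46, 51, 35, 36, 16, 11, 16, 2, 10]⟩, .loop 69 2 [61, 46, 56, 30, 40, 31, 2, 17, 22, 6, 16] 2 3 [⟨[24], 661, true, [2, 6, 5, 6, 2, 5, 6, 10]⟩] [⟨[24, 23], 1448, false, [6, 4, 6, 2, 4, 5, 3, 6]⟩, ⟨[], 2034, true, [5, 6, 1, 5, 3, 5, 6, 2, 4, 5]⟩]),
  (⟨false, 5, 9, [62, 48, 45, 31, 33, 31, 2, 17, 23, 10], [60, 50, 50, 36, 30, 40, 2, 23, 8, 23, 10], [60, 52, 50, 35, 2, 17, 22, 18, 23]⟩, .loop 30 9 [63, 44, 55, 34, 29, 16, 2, 0, 16] 6 7 [⟨[1979, 1979], 2052, false, [2, 4, 6, 4, 5, 6, 2, 10, 5]⟩, ⟨[1793, 1830, 1830, 1792], 1813, true, [4, 6, 4, 6, 5, 6, 2]⟩, ⟨[23], 217, false, [1, 6, 5, 6, 2, 10, 5, 6, 2, 6]⟩] []),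
  (⟨false, 9, 2, [58, 51, 46, 28, 40, 33, 17, 22, 6, 16], [58, 48, 50, 41, 28, 32, 2, 23, 25, 19], [61, 44, 46, 57, 30, 29, 41, 2, 23, 17, 6]⟩, .loop 16 8 [66, 44, 47, 30, 30, 41, 16, 16, 8, 17] 4 5 [⟨[1811, 1811, 1792], 1888, true, [2, 6, 2, 6, 5, 6, 2, 4, 10]⟩, ⟨[], 2012, true, [1, 3, 5, 6, 2, 5, 6, 10, 5]⟩] [⟨[1792, 1792, 1792, 1792], 1884, false, [2, 3, 6, 2, 6, 4, 5, 6, 4, 5, 3]⟩]),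
  (⟨false, 9, 2, [61, 44, 56, 34, 38, 28, 2, 23, 19], [60, 45, 46, 28, 26, 31, 2, 23, 25, 19], [59, 45, 53, 34, 29, 36, 16, 16, 20, 25, 23]⟩, .loop 60 2 [45, 42, 49, 36, 27, 35, 2, 23, 23, 18, 16] 8 9 [⟨[], 136, true, [4, 6, 1, 4, 5, 10, 5, 6, 2]⟩, ⟨[], 108, true, [0, 4, 6, 4, 6, 10, 5, 10]⟩, ⟨[21, 21], 99, false, [1, 3, 4, 6, 5, 6, 2, 10, 5]⟩, ⟨[23], 2083, true, [1, 3, 5, 3, 6, 4, 6, 5]⟩] [⟨[], 1917, true, [6, 4, 6, 2, 6, 4, 5, 6]⟩, ⟨[1792, 1811, 1792], 1907, false, [4, 5, 10, 5, 6, 1, 2, 6, 4, 5]⟩, ⟨[24, 23], 125, true, [6, 10, 5, 3, 6, 4, 5, 10, 5, 6]⟩]),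
  (⟨false, 9, 5, [62, 47, 44, 31, 29, 32, 16, 16, 22, 8], [67, 44, 42, 48, 30, 29, 41, 2, 17, 23, 17, 22], [67, 44, 53, 56, 38, 27, 2, 23, 23, 19]⟩, .loop 57 2 [61, 49, 51, 30, 29, 30, 16, 16, 24] 6 7 [⟨[23, 24, 23], 1864, false, [3, 5, 3, 6, 4, 5, 6, 2, 4, 10]⟩, ⟨[1811, 1793], 1881, false, [1, 3, 4, 5, 6, 2, 6, 10, 5, 10]⟩, ⟨[1583, 1549, 1549], 2071, false, [1, 3, 6, 4, 5, 3, 6]⟩] [⟨[23, 24], 961, true, [0, 4, 6, 4, 6, 4]⟩, ⟨[23, 24, 23], 582, true, [1, 4, 5, 6, 4, 6, 4, 5, 10]⟩, ⟨[66, 38, 66], 809, false, [0, 4, 5, 6, 2, 5, 3, 6, 4, 6, 2]⟩, ⟨[24], 1067, true, [1, 3, 6, 4, 5, 10, 5, 6, 4]⟩]),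
  (⟨false, 9, 2, [66, 45, 42, 28, 38, 37, 18, 23, 17, 22], [62, 50, 47, 34, 33, 40, 16, 16, 11, 24], [61, 52, 49, 34, 40, 2, 17, 0, 17, 22]⟩, .loop 57 2 [63, 50, 42, 33, 31, 34, 16, 18, 16, 11] 14 15 [⟨[23], 708, true, [2, 3, 6, 5, 6, 2, 6, 5, 6]⟩, ⟨[], 1020, true, [4, 5, 3, 6, 4, 6, 5, 6, 10, 5]⟩, ⟨[23], 899, true, [0, 6, 4, 5, 10, 5, 6, 2, 6, 4]⟩, ⟨[], 306, true, [6, 2, 6, 5, 6, 4, 10]⟩, ⟨[21, 22, 22, 245, 22], 159, false, [0, 4, 5, 3, 6, 2, 5, 6, 4, 6]⟩, ⟨[], 292, true, [1, 4, 10, 5, 6, 4, 5]⟩, ⟨[], 2001, true, [3, 6, 4, 6, 4, 6, 5, 3]⟩] []),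
  (⟨false, 2, 9, [66, 56, 31, 26, 30, 2, 17, 17, 6, 16], [67, 44, 42, 51, 28, 31, 28, 16], [62, 49, 49, 35, 28, 32, 16, 16, 20, 11]⟩, .loop 56 2 [44, 55, 28, 31, 33, 2, 23, 23, 21, 16] 6 7 [⟨[24], 636, true, [0, 4, 5, 3, 6, 5, 6, 10]⟩, ⟨[], 653, true, [1, 3, 6, 2, 6, 2, 4, 5, 6, 2, 5]⟩, ⟨[24, 23], 693, false, [1, 5, 6, 4, 6, 4, 5, 3]⟩] [⟨[], 555, true, [3, 6, 4, 6, 4, 5, 6, 10]⟩, ⟨[245, 245, 21, 21], 1367, true, [4, 6, 2, 6, 5, 3, 6]⟩, ⟨[23, 24], 532, false, [0, 2, 6, 10, 5, 6, 4, 6, 5, 3]⟩, ⟨[23, 24, 23], 2024, false, [0, 6, 4, 5, 3, 6, 5, 6, 4]⟩]),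
  (⟨false, 9, 2, [62, 48, 42, 34, 29, 41, 16, 4, 16, 24], [67, 47, 52, 35, 37, 16, 22, 22, 4], [60, 45, 56, 50, 28, 41, 31, 2, 17, 18, 22, 18]⟩, .loop 31 5 [66, 45, 45, 28, 26, 30, 2, 23, 8, 23, 21] 2 3 [⟨[66], 1962, true, [2, 6, 5, 3, 5, 6, 2, 5]⟩] [⟨[66, 38, 66, 66, 38], 381, true, [2, 3, 6, 2, 6, 4, 5, 10]⟩, ⟨[], 293, true, [1, 6, 4, 6, 2, 6, 5, 10]⟩]),
  (⟨false, 9, 9, [59, 45, 42, 49, 34, 28, 2, 17, 23, 4, 21], [63, 44, 42, 47, 34, 16, 16, 24], [59, 49, 49, 31, 27, 31, 2, 17, 22, 12]⟩, .loop 28 4 [55, 33, 29, 35, 2, 17, 23, 25] 2 3 [⟨[], 1972, false, [1, 3, 6, 5, 6, 2, 4, 5, 6, 10]⟩] [⟨[63, 61, 53, 29], 366, true, [1, 6, 4, 6, 4, 5, 3, 5, 6]⟩, ⟨[24, 23], 2037, true, [2, 6, 1, 2, 5, 6, 4, 10, 5]⟩]),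
  (⟨false, 2, 9, [63, 44, 48, 52, 31, 28, 36, 16, 16, 10, 21], [63, 47, 38, 30, 35, 2, 17, 23, 11], [61, 55, 47, 28, 31, 28, 18, 23, 18]⟩, .loop 70 2 [67, 49, 53, 28, 31, 27, 31, 2, 23, 10, 23, 4] 2 3 [⟨[24, 23], 145, false, [1, 2, 5, 3, 6, 2, 5, 6, 2, 10]⟩] [⟨[], 1907, true, [1, 10, 5, 3, 6, 2, 6, 2, 4]⟩, ⟨[1811, 1792, 1793], 1999, true, [0, 2, 4, 6, 5, 3, 6, 5]⟩]),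
  (⟨false, 2, 9, [58, 45, 54, 30, 38, 29, 2, 23, 13, 23, 18], [67, 47, 49, 56, 35, 29, 34, 16, 21, 16, 4], [67, 44, 49, 28, 31, 29, 16, 4, 16, 4]⟩, .loop 30 2 [67, 54, 44, 36, 28, 34, 2, 17, 23, 18, 22] 2 3 [⟨[], 583, false, [1, 6, 4, 6, 4, 5, 3, 6, 5]⟩] [⟨[], 1359, false, [4, 5, 10, 5, 6, 4, 6, 5, 10]⟩, ⟨[24, 23], 2023, true, [0, 2, 4, 6, 4, 6, 5, 6, 5, 3]⟩]),
  (⟨false, 5, 9, [66, 54, 46, 40, 38, 16, 16, 16, 19], [59, 44, 55, 52, 28, 30, 30, 16, 16, 4, 16], [61, 49, 47, 36, 31, 18, 23, 17, 17]⟩, .loop 29 2 [67, 44, 51, 38, 29, 30, 2, 17, 23, 8] 4 5 [⟨[23], 1179, true, [10, 5, 6, 2, 6, 2, 5, 10]⟩, ⟨[24], 265, false, [6, 5, 3, 6, 2, 5, 6, 10, 5]⟩] [⟨[23, 24], 2009, true, [1, 2, 3, 6, 2, 5, 6, 5, 6]⟩]),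
  (⟨false, 2, 9, [60, 54, 43, 31, 33, 31, 17, 17, 22, 21], [66, 46, 42, 51, 28, 26, 31, 16, 11, 11], [61, 45, 48, 34, 29, 41, 16, 16, 13, 19]⟩, .loop 61 2 [61, 44, 42, 45, 35, 40, 16, 24, 16, 8] 2 3 [⟨[24], 643, true, [1, 10, 5, 6, 2, 6, 2, 5, 3]⟩] [⟨[24], 555, true, [6, 5, 6, 4, 5, 10]⟩, ⟨[22, 22, 50, 22, 21], 674, true, [5, 3, 6, 1, 5, 6, 10, 5, 6]⟩, ⟨[], 673, false, [3, 6, 5, 6, 2, 4, 5, 6]⟩, ⟨[23, 24, 23], 946, false, [5, 6, 4, 6, 4, 6, 10, 5]⟩, ⟨[23], 564, true, [6, 1, 2, 5, 6, 4, 6, 10]⟩, ⟨[23], 2024, false, [0, 4, 10, 5, 6, 4, 5, 6, 2, 4]⟩]),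
  (⟨false, 2, 9, [62, 54, 46, 28, 40, 33, 16, 11, 23, 23], [59, 48, 45, 34, 27, 41, 16, 16, 24, 17], [60, 57, 55, 36, 35, 40, 2, 17, 0, 17]⟩, .loop 65 9 [44, 43, 51, 33, 34, 41, 16, 16, 22, 8] 14 15 [⟨[1958], 2031, false, [2, 4, 6, 1, 4, 10, 5, 6, 5, 10]⟩, ⟨[], 1413, false, [2, 3, 6, 2, 4, 5, 6, 4, 5, 3]⟩, ⟨[23, 24], 1023, true, [3, 6, 5, 10, 5, 6, 2]⟩, ⟨[24, 23], 1212, false, [1, 6, 4, 5, 6, 2, 5, 3]⟩, ⟨[24, 23], 919, true, [6, 4, 5, 6, 2, 10, 5, 6, 2]⟩, ⟨[24], 506, false, [0, 2, 4, 6, 5, 3, 6, 4]⟩, ⟨[37, 66, 66, 38], 563, true, [1, 2, 3, 4, 6, 2, 5, 6, 4, 6]⟩] []),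
  (⟨false, 9, 5, [62, 49, 46, 31, 29, 32, 2, 17, 17, 23, 13], [62, 44, 43, 51, 35, 35, 31, 2, 23, 23, 10, 17], [45, 43, 2, 23, 17, 25, 21]⟩, .loop 69 5 [44, 51, 48, 33, 30, 16, 24, 16, 8] 6 7 [⟨[66, 37], 1693, false, [2, 4, 6, 5, 3, 6, 4, 6, 2, 6]⟩, ⟨[1583, 1587, 1587], 1623, false, [2, 5, 6, 4, 6, 2, 10, 5, 6, 5]⟩, ⟨[23], 2066, true, [1, 2, 6, 5, 6, 4, 6, 2, 10]⟩] []),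
  (⟨false, 5, 9, [44, 42, 35, 30, 36, 16, 2, 19, 6], [67, 51, 52, 33, 29, 37, 2, 17, 17, 22, 25], [61, 49, 56, 28, 36, 29, 27, 2, 17, 22, 16, 10]⟩, .loop 60 2 [48, 57, 38, 2, 16, 6, 17, 6] 6 7 [⟨[23, 24, 23], 609, true, [0, 2, 6, 4, 5, 3, 6, 2, 6, 2]⟩, ⟨[], 795, true, [5, 6, 5, 3]⟩, ⟨[23], 343, true, [1, 3, 5, 6, 5, 6, 2, 6, 4, 6]⟩] [⟨[24], 828, true, [2, 5, 3, 6, 4, 5, 3, 6, 5, 10]⟩, ⟨[24, 23], 659, false, [5, 6, 4, 5, 3, 6, 2, 6, 2]⟩, ⟨[23, 24], 221, false, [3, 6, 5, 3, 6, 4, 6]⟩, ⟨[23, 24], 2064, true, [0, 4, 6, 2, 5, 3, 6, 5]⟩]),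
  (⟨false, 5, 9, [59, 47, 51, 30, 26, 2, 23, 17, 17, 19], [61, 44, 43, 57, 30, 26, 33, 2, 17, 23, 21], [61, 44, 42, 51, 31, 32, 2, 17, 17, 10, 17]⟩, .loop 21 9 [63, 56, 53, 28, 26, 38, 2, 17, 17, 0, 23] 6 7 [⟨[1961], 1935, true, [1, 10, 5, 3, 6, 2, 6, 4, 5, 10]⟩, ⟨[1587, 1583, 1549], 1807, false, [1, 5, 10, 5, 6, 2, 6, 4, 5]⟩, ⟨[1830, 1793, 1793, 1811], 1900, true, [2, 3, 4, 6, 2, 5, 6]⟩] []),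
  (⟨false, 2, 9, [59, 44, 55, 31, 29, 35, 17, 17, 22, 11], [63, 45, 54, 56, 38, 32, 34, 2, 23, 17, 6, 24], [62, 54, 56, 31, 29, 27, 16, 11, 16, 21, 22]⟩, .loop 59 5 [63, 48, 53, 28, 35, 35, 16, 18] 8 9 [⟨[66, 37], 359, true, [1, 6, 4, 5, 6, 4, 5, 3, 5]⟩, ⟨[24], 880, false, [1, 6, 4, 6, 2, 4, 5, 10]⟩, ⟨[63, 63, 29, 27], 184, false, [0, 6, 5, 3, 6, 5, 6, 2, 6]⟩, ⟨[24], 469, true, [1, 3, 6, 2, 6, 5, 6, 2, 4, 10]⟩] [⟨[66], 278, true, [2, 4, 5, 6, 5, 3, 5, 6, 5, 6]⟩, ⟨[23, 24], 392, false, [1, 3, 5, 6, 4, 10, 5, 6]⟩, ⟨[23, 24, 23], 1950, true, [4, 5, 6, 2, 10, 5, 6, 5, 3, 5]⟩]),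
  (⟨false, 9, 2, [62, 45, 52, 34, 26, 32, 2, 23, 6], [66, 45, 54, 56, 35, 31, 32, 16, 11, 16, 22, 22], [67, 44, 57, 55, 35, 36, 38, 2, 17, 22, 16, 2]⟩, .loop 67 2 [66, 46, 48, 54, 30, 30, 34, 16, 16, 16, 8] 6 7 [⟨[24], 526, false, [2, 3, 4, 6, 5, 6, 2, 5]⟩, ⟨[37, 66, 66, 38], 247, true, [1, 6, 2, 6, 5, 6, 4, 5, 3]⟩, ⟨[23], 1988, true, [1, 2, 3, 5, 6, 4, 5, 6]⟩] []),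
  (⟨false, 9, 7, [66, 45, 52, 30, 30, 40, 16, 16, 16, 24], [59, 51, 49, 31, 29, 37, 2, 17, 17, 23, 12], [63, 51, 43, 28, 38, 33, 2, 17, 22, 10]⟩, .loop 63 2 [62, 55, 47, 28, 38, 30, 16, 2] 6 7 [⟨[], 1579, true, [0, 6, 5, 3, 6, 5, 10]⟩, ⟨[1583, 1587, 1549, 1549], 1691, true, [2, 3, 5, 6, 5, 3, 5, 6]⟩, ⟨[23], 2075, true, [4, 6, 2, 4, 5, 3, 6, 2, 6]⟩] [⟨[24], 346, true, [0, 6, 4, 5, 3, 5, 6, 5, 6, 2, 6]⟩, ⟨[24, 23], 1526, false, [3, 5, 6, 4, 5, 6, 2, 5, 3]⟩, ⟨[23, 24], 1316, true, [4, 6, 5, 6, 4, 6, 5, 10]⟩, ⟨[66, 66, 37, 66], 1656, true, [1, 6, 2, 6, 10, 5, 6, 10, 5, 10]⟩]),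
  (⟨false, 2, 9, [62, 46, 46, 38, 33, 40, 2, 17, 22, 6], [44, 48, 43, 36, 32, 26, 16, 16, 13, 16], [66, 50, 28, 35, 17, 23, 4]⟩, .loop 50 7 [62, 46, 51, 34, 26, 29, 2, 17, 17, 17, 20] 2 3 [⟨[1583, 1587, 1549], 1750, true, [1, 2, 6, 5, 10, 5, 6, 2, 5]⟩] [⟨[1583, 1583, 1587, 1583, 1549, 1549], 1720, false, [4, 10, 5, 6, 4, 6, 4, 5, 3, 6]⟩, ⟨[1587, 1583, 1549, 1549], 1600, false, [0, 2, 3, 5, 6, 2, 4, 10, 5]⟩, ⟨[66, 66, 37, 38], 1316, false, [1, 5, 6, 4, 5, 6, 4, 10, 5]⟩, ⟨[24], 316, true, [1, 4, 5, 6, 4, 6, 4, 5, 3, 5]⟩, ⟨[23, 24], 1461, true, [6, 4, 6, 2, 5, 6, 10]⟩, ⟨[23], 2075, true, [1, 3, 5, 6, 2, 5, 6, 10, 5]⟩]),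
  (⟨false, 2, 9, [67, 51, 51, 33, 31, 31, 2, 23, 23, 8, 17], [60, 45, 57, 36, 28, 16, 16, 18, 25], [60, 54, 50, 33, 29, 35, 16, 16, 8, 18]⟩, .loop 16 2 [54, 31, 28, 27, 2, 17, 17, 6, 4] 4 5 [⟨[23, 24], 1244, false, [10, 5, 6, 4, 6, 2, 10, 5]⟩, ⟨[23, 24, 23], 1459, false, [6, 4, 6, 5, 10, 5, 6, 2, 5]⟩] [⟨[23, 24, 23], 1966, false, [3, 6, 1, 4, 5, 3, 6, 2, 5, 6]⟩]),
  (⟨false, 9, 2, [59, 50, 47, 38, 33, 40, 2, 23, 25], [67, 45, 42, 47, 30, 30, 35, 16, 19, 6, 17], [59, 45, 53, 48, 28, 34, 31, 32, 16, 11, 17, 6]⟩, .loop 28 2 [66, 45, 50, 45, 31, 36, 35, 16, 16, 13] 2 3 [⟨[23], 2059, false, [2, 6, 10, 5, 3, 6]⟩] [⟨[24], 2087, false, [0, 2, 6, 4, 5, 3, 6, 5, 10, 5]⟩, ⟨[1979, 1979, 1961], 1959, false, [3, 6, 5, 3, 6, 2, 5, 6, 10, 5, 6]⟩]),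
  (⟨false, 9, 4, [60, 44, 57, 55, 36, 40, 35, 16, 4, 16, 19, 6], [60, 45, 42, 49, 35, 30, 36, 17, 23, 16, 22], [66, 55, 46, 30, 27, 30, 16, 4, 16, 19, 11]⟩, .loop 64 2 [67, 45, 54, 30, 40, 29, 2, 23, 23, 10, 17] 10 11 [⟨[], 471, true, [1, 6, 5, 6, 2, 4, 10, 5, 6]⟩, ⟨[23], 420, true, [6, 4, 5, 6, 5, 6, 2, 10]⟩, ⟨[24], 469, true, [0, 4, 5, 6, 4, 6, 4, 5, 10, 5]⟩, ⟨[23, 24], 265, false, [2, 4, 10, 5, 3, 6, 4, 6]⟩, ⟨[66, 66, 37, 66], 2078, false, [1, 3, 5, 6, 5, 3, 5, 6, 4]⟩] [⟨[23, 24, 23], 392, false, [0, 3, 5, 3, 6, 4, 6, 4]⟩, ⟨[], 725, true, [4, 10, 5, 3, 6, 1, 4, 5, 10, 5]⟩]),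
  (⟨false, 9, 2, [61, 55, 47, 28, 34, 31, 32, 16, 22], [66, 45, 42, 38, 32, 36, 2, 17, 23, 12, 18], [62, 48, 48, 33, 33, 2, 17, 23, 23, 19]⟩, .loop 73 2 [61, 47, 47, 41, 31, 2, 23, 17, 0] 2 3 [⟨[], 1944, false, [2, 5, 6, 2, 4]⟩] [⟨[23, 24], 993, false, [0, 2, 3, 6, 5, 6, 2, 6, 4]⟩, ⟨[23], 1143, true, [6, 2, 6, 2, 4, 10, 5, 6, 4]⟩]),
  (⟨false, 9, 5, [63, 54, 47, 30, 41, 36, 16, 8, 17, 23], [61, 44, 55, 50, 31, 35, 29, 2, 16, 16], [61, 46, 48, 54, 40, 30, 2, 17, 23, 18, 20]⟩, .loop 23 5 [60, 46, 53, 41, 28, 32, 2, 23, 11] 6 7 [⟨[], 349, true, [0, 4, 6, 2, 6, 2, 4, 5, 6]⟩, ⟨[23], 311, true, [3, 4, 6, 2, 6, 4, 5, 3, 6, 2, 6]⟩, ⟨[66, 66, 37, 66], 1985, false, [0, 2, 4, 6, 5, 6, 10, 5, 6, 2]⟩] []),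
  (⟨false, 9, 2, [58, 44, 42, 45, 34, 26, 34, 16, 24, 16], [67, 48, 48, 30, 41, 34, 18, 23, 18], [63, 45, 46, 28, 30, 26, 2, 17, 17, 22, 24]⟩, .loop 51 2 [66, 44, 47, 47, 33, 34, 33, 16, 4, 16, 4] 10 11 [⟨[], 356, true, [2, 6, 4, 5, 3, 6, 5, 3]⟩, ⟨[23, 24, 23], 904, true, [2, 6, 4, 5, 3, 6, 4]⟩, ⟨[23], 545, false, [6, 2, 6, 4, 6, 10, 5, 6, 4, 10]⟩, ⟨[24], 357, true, [2, 5, 3, 6, 4, 5, 6, 4, 5]⟩, ⟨[38, 37, 66], 2028, true, [4, 10, 5, 6, 10, 5, 6, 2]⟩] [⟨[], 472, false, [2, 4, 6, 4, 6, 10, 5, 3]⟩, ⟨[23], 418, true, [2, 3, 6, 2, 4, 5, 6, 4, 6]⟩]),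
  (⟨false, 2, 9, [66, 45, 54, 45, 41, 34, 2, 23, 23, 18, 17], [61, 47, 51, 30, 27, 31, 16, 16, 18, 21], [58, 45, 50, 30, 32, 40, 2, 17, 22, 22, 21]⟩, .loop 68 2 [59, 44, 56, 46, 33, 29, 16, 16, 2, 10] 4 5 [⟨[], 288, true, [0, 6, 4, 6, 5, 10, 5, 6, 2]⟩, ⟨[24], 392, false, [4, 6, 5, 6, 10, 5, 6, 5, 10]⟩] [⟨[24], 2107, true, [2, 6, 2, 6, 4, 5, 3, 6]⟩]),
  (⟨false, 2, 9, [61, 57, 35, 31, 26, 16, 11, 16, 18], [58, 44, 42, 30, 37, 30, 2, 23, 8, 17], [66, 46, 44, 54, 28, 36, 40, 16, 10, 17, 17]⟩, .loop 31 2 [66, 50, 49, 38, 28, 41, 16, 2, 16] 2 3 [⟨[], 546, true, [2, 3, 4, 5, 6, 1, 5]⟩] [⟨[23, 24, 23], 414, false, [3, 5, 6, 4, 6, 10, 5, 6, 5]⟩, ⟨[24], 1932, false, [4, 6, 1, 2, 5, 6, 4, 6, 2]⟩]),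
  (⟨false, 9, 2, [60, 47, 33, 41, 30, 16, 16, 22, 2], [44, 42, 48, 31, 34, 30, 2, 17, 22, 4], [66, 47, 55, 28, 38, 26, 16, 21, 16, 11]⟩, .loop 62 2 [66, 54, 50, 35, 28, 31, 16, 16, 2, 4, 23] 4 5 [⟨[], 992, false, [0, 4, 5, 6, 2, 10, 5, 6]⟩, ⟨[63, 28, 27], 2104, true, [0, 6, 4, 6, 4, 5, 6, 2, 10, 5]⟩] [⟨[23], 1016, true, [3, 6, 5, 3, 6, 5, 6, 10, 5, 10]⟩, ⟨[], 469, true, [10, 5, 3, 6, 1, 4, 5, 3]⟩, ⟨[23, 24], 690, true, [3, 4, 5, 6, 5, 3, 6, 5, 10]⟩, ⟨[], 521, true, [0, 2, 4, 6, 2, 6, 5, 3, 6, 5]⟩, ⟨[37], 359, true, [0, 2, 4, 6, 2, 5, 6, 2, 6]⟩]),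
  (⟨false, 2, 9, [66, 45, 54, 56, 31, 35, 26, 2, 23, 17, 25, 10], [66, 51, 57, 34, 27, 2, 23, 23, 17, 6], [61, 54, 38, 34, 17, 17, 23, 23]⟩, .loop 60 9 [54, 43, 30, 27, 36, 2, 23, 23, 17] 14 15 [⟨[1961], 2021, true, [0, 2, 4, 10, 5, 6, 4, 6, 5, 6]⟩, ⟨[24], 1127, true, [4, 5, 6, 1, 4, 5, 6, 4, 5, 6]⟩, ⟨[23, 24], 650, false, [4, 6, 5, 10, 5, 6, 5, 10, 5]⟩, ⟨[38, 66, 66, 38], 391, false, [0, 6, 5, 3, 6, 5, 6, 2, 6]⟩, ⟨[], 1443, true, [2, 6, 2, 6, 5, 3, 6, 2, 5, 10]⟩, ⟨[], 834, true, [1, 3, 4, 6, 4, 6, 2, 4]⟩, ⟨[24], 457, false, [4, 6, 1, 2, 10, 5, 6, 4, 6, 5]⟩] [])]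

/-- facts 2112 and on -/
def facts66 : List (Fact × Why) := [
  (⟨false, 9, 9, [61, 57, 55, 30, 35, 40, 28, 2, 17, 22, 22, 24], [59, 51, 46, 34, 26, 29, 16, 2, 19], [58, 48, 53, 31, 35, 30, 2, 17, 23, 20, 11]⟩, .loop 48 9 [67, 47, 47, 33, 31, 38, 16, 18, 23] 4 5 [⟨[1958, 1961], 1985, true, [2, 4, 6, 5, 6, 2, 10, 5]⟩, ⟨[66, 66, 37, 66], 2106, true, [4, 5, 3, 6, 4, 5, 6, 4, 5, 6, 2]⟩] []),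
  (⟨false, 9, 2, [59, 44, 56, 28, 34, 37, 2, 17, 18, 22, 6], [59, 48, 55, 30, 40, 31, 2, 17, 18, 22, 6], [62, 48, 43, 34, 31, 38, 16, 2, 0]⟩, .loop 31 2 [62, 49, 42, 34, 40, 17, 23, 16, 11] 4 5 [⟨[24], 473, true, [4, 10, 5, 6, 5, 10]⟩, ⟨[23], 2006, false, [4, 10, 5, 3, 6, 5, 3, 6, 5]⟩] [⟨[23, 24], 1381, false, [0, 4, 6, 5, 3, 6, 5, 6, 10]⟩]),
  (⟨false, 2, 9, [66, 49, 56, 33, 36, 41, 16, 19, 22, 25], [47, 53, 30, 34, 34, 2, 23, 10, 17, 0], [58, 50, 31, 28, 37, 16, 16, 24, 13]⟩, .loop 16 9 [61, 44, 42, 48, 40, 40, 18, 23, 17, 22] 4 5 [⟨[1958], 2099, false, [4, 6, 1, 4, 5, 3, 6, 5]⟩, ⟨[23], 333, true, [0, 6, 5, 6, 2, 6, 4, 5, 3, 6]⟩] [⟨[1961, 1979, 1961, 1958], 2112, false, [1, 3, 6, 4, 5, 6, 2, 6, 5]⟩]),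
  (⟨false, 9, 2, [47, 49, 56, 30, 28, 37, 16, 18, 23], [61, 45, 54, 45, 30, 27, 32, 16, 16, 19, 16], [63, 46, 43, 35, 28, 35, 16, 11, 17]⟩, .loop 64 9 [60, 45, 53, 34, 27, 31, 2, 17, 23, 12] 8 9 [⟨[1979, 1979], 2068, false, [0, 2, 6, 5, 10, 5, 6, 4]⟩, ⟨[24], 403, true, [5, 6, 1, 4, 5, 3, 5, 6, 2, 4]⟩, ⟨[], 347, false, [10, 5, 3, 6, 5, 6, 2, 5, 3, 6]⟩, ⟨[38, 66, 37, 37], 2106, true, [3, 6, 4, 5, 3, 6, 5, 6, 2, 6]⟩] [⟨[1979, 1958], 2010, true, [10, 5, 6, 4, 5, 3, 6, 4]⟩, ⟨[24, 23], 412, false, [10, 5, 6, 2, 6, 4, 10, 5, 3]⟩, ⟨[23, 24, 23], 450, false, [2, 3, 6, 2, 5, 6, 5, 3, 6, 5]⟩]),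
  (⟨false, 9, 3, [63, 55, 47, 31, 36, 33, 16, 8, 22, 6], [58, 49, 42, 28, 34, 30], [61, 45, 50, 42, 33, 28, 37, 2, 23, 10, 23, 4]⟩, .loop 72 3 [60, 48, 57, 38, 35] 6 7 [⟨[21], 19, false, [6, 5, 6, 2, 5, 3, 6, 4, 5, 6]⟩, ⟨[23, 24], 130, false, [4, 6, 1, 5, 6, 4, 10, 5, 6, 5]⟩, ⟨[24, 23], 1995, false, [0, 5, 6, 4, 5, 6, 2, 6, 10]⟩] []),
  (⟨false, 9, 2, [45, 54, 45, 31, 35, 38, 2, 17, 19, 22], [49, 45, 28, 35, 27, 18, 23], [60, 54, 46, 28, 41, 33, 17, 23, 16, 6]⟩, .loop 54 9 [66, 48, 57, 33, 29, 30, 16, 2, 0] 2 3 [⟨[1958], 2112, true, [1, 4, 6, 5, 3, 5, 6, 4]⟩] [⟨[1958, 1979, 1979], 2068, false, [2, 5, 6, 4]⟩, ⟨[24, 23], 270, true, [2, 4, 6, 10, 5, 3, 6, 2, 6]⟩, ⟨[], 310, false, [0, 2, 6, 2, 5, 6, 4, 6, 2, 5, 6]⟩, ⟨[23, 24], 450,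 true, [2, 3, 5, 6, 4, 5, 6, 4, 10, 5]⟩, ⟨[], 355, false, [6, 5, 3, 6, 5, 6, 2, 5]⟩, ⟨[66, 37], 311, false, [2, 6, 10, 5, 3, 6, 5, 3]⟩]),
  (⟨false, 9, 2, [63, 49, 46, 28, 34, 36, 16, 16, 18], [67, 44, 56, 40, 27, 16, 21, 23, 23], [67, 48, 55, 34, 31, 38, 2, 17, 17, 6, 4]⟩, .loop 50 2 [66, 52, 50, 30, 34, 34, 19, 6, 17, 17] 12 13 [⟨[24], 541, false, [0, 3, 5, 6, 4, 10, 5, 6, 4, 5, 3]⟩, ⟨[24, 23], 1080, false, [2, 4, 6, 2, 6, 5, 6, 2, 4, 10]⟩, ⟨[23, 24], 755, true, [0, 2, 6, 5, 6, 4, 10, 5, 6, 5]⟩, ⟨[23, 24], 283, true, [1, 2, 10, 5, 6, 4, 5, 3, 5, 6]⟩, ⟨[23, 24], 746, true, [2, 5, 6, 1, 4, 5, 3, 6, 2, 5]⟩, ⟨[66], 2080, true, [1, 2, 6, 5, 6, 4, 6, 5, 3]⟩] [⟨[23, 24, 23], 785, false, [2, 6, 2, 5, 6, 5, 6, 4, 10]⟩]),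
  (⟨false, 3, 9, [59, 54, 50, 35, 31, 32, 17, 23, 16, 6], [61, 45, 49, 31, 32, 38, 16, 16, 16, 13], [60, 48, 43, 41, 16, 16, 21, 24]⟩, .loop 32 2 [67, 44, 48, 43, 30, 30, 36, 16, 11, 25, 16] 2 3 [⟨[], 213, true, [1, 4, 6, 5, 3, 6, 4, 6, 2, 5]⟩] [⟨[23, 24, 23], 1419, false, [1, 3, 5, 6, 5, 6, 4, 6, 10, 5]⟩, ⟨[23], 2015, false, [1, 6, 5, 6, 2, 10, 5, 6, 5]⟩]),
  (⟨false, 2, 9, [61, 54, 52, 41, 29, 2, 23, 18, 6], [58, 44, 46, 57, 31, 32, 36, 16, 4, 16, 13, 10], [58, 44, 46, 57, 30, 26, 32, 16, 24, 23]⟩, .loop 66 9 [59, 51, 51, 30, 32, 31, 16, 21, 16, 21] 6 7 [⟨[1961, 1961, 1958], 1931, false, [0, 2, 6, 10, 5, 3, 6, 5, 10]⟩, ⟨[38, 66, 66, 38], 959, true, [0, 3, 5, 6, 10, 5, 6]⟩, ⟨[23, 24], 499, false, [3, 6, 2, 4, 5, 6, 10, 5]⟩] []),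
  (⟨false, 9, 5, [59, 46, 42, 51, 30, 40, 31, 16, 22, 22, 10], [48, 53, 31, 36, 2, 23, 4, 19], [66, 44, 55, 52, 35, 36, 38, 16, 22, 22, 10]⟩, .loop 29 2 [66, 44, 42, 47, 31, 29, 32, 17, 23, 23] 2 3 [⟨[], 2008, false, [0, 2, 4, 6, 5, 6, 2, 10, 5]⟩] [⟨[24, 23], 2094, false, [0, 2, 6, 10, 5, 3, 6, 2, 4, 6, 5]⟩, ⟨[1958, 1979, 1979, 1961], 2055, true, [0, 2, 6, 4, 5, 6, 4, 5, 6, 10, 5]⟩]),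
  (⟨false, 9, 2, [62, 36, 40, 30, 2, 23, 8, 23, 6], [59, 44, 46, 44, 41, 37, 16, 2, 19], [61, 46, 56, 30, 32, 31, 2, 17, 17, 17, 8]⟩, .loop 56 2 [59, 55, 43, 28, 31, 40, 2, 17, 23, 11] 4 5 [⟨[], 1691, false, [4, 5, 6, 2, 4, 5, 6, 5, 3]⟩, ⟨[1549, 1583, 1587, 1549], 2073, true, [3, 6, 5, 6, 4, 6, 2, 6, 5]⟩] [⟨[], 1461, false, [3, 5, 6, 4, 10, 5, 6, 2, 10, 5]⟩, ⟨[23, 24], 900, false, [2, 5, 6, 1, 10, 5, 6, 2, 4, 10]⟩, ⟨[66], 1656, true, [0, 4, 5, 3, 5, 6, 2, 5, 3, 6]⟩, ⟨[], 1750, true, [4, 6, 4, 10, 5, 6, 4, 5, 10]⟩, ⟨[24, 23], 1526, false, [1, 2, 4, 10, 5, 3, 6, 4, 6, 4]⟩]),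
  (⟨false, 9, 2, [63, 52, 28, 36, 40, 16, 19, 22, 11], [60, 50, 46, 38, 28, 41, 16, 4, 16, 24], [58, 57, 53, 28, 30, 30, 18, 23, 17]⟩, .loop 51 2 [60, 47, 31, 27, 41, 2, 17, 17, 24, 22] 2 3 [⟨[23, 24], 2029, false, [1, 3, 6, 4, 6, 4, 5, 6, 2]⟩] [⟨[23, 24, 23], 1067, true, [3, 6, 1, 5, 6, 2, 6, 4, 10]⟩, ⟨[], 794, false, [5, 6, 2, 4, 5, 6, 5, 3]⟩, ⟨[38, 37, 66], 1772, false, [2, 6, 2, 5, 3, 6, 4]⟩, ⟨[1792, 1792, 1830, 1792], 1881, false, [1, 4, 6, 5, 3, 6, 4, 5, 6]⟩, ⟨[1549, 1549, 1583, 1583, 1549, 1549], 1598, true, [0, 3, 6, 4, 5, 3, 6, 2, 6]⟩, ⟨[23, 24], 961, false, [0, 2, 3, 5, 6, 4, 5, 6, 5]⟩]),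
  (⟨false, 9, 2, [60, 50, 49, 36, 29, 33, 19, 6, 23, 16], [61, 54, 50, 31, 29, 27, 16, 11, 16, 24, 16], [58, 46, 42, 34, 38, 16, 21]⟩, .loop 55 2 [45, 42, 31, 26, 36, 19, 6] 12 13 [⟨[], 403, true, [2, 3, 6, 5, 6, 10, 5, 6, 4]⟩, ⟨[38, 66, 37, 37], 311, false, [1, 5, 6, 4, 6, 4, 10, 5, 6, 2]⟩, ⟨[23, 24, 23], 2010, false, [1, 2, 5, 6, 4, 6, 5, 3, 6]⟩, ⟨[1958, 1979, 1979, 1958, 1961], 1985, true, [3, 5, 3, 6, 2, 6, 5, 10, 5]⟩, ⟨[38, 37], 310, false, [1, 4, 6, 2, 6, 4, 10, 5, 6, 2, 6]⟩, ⟨[23, 24], 2115, true, [1, 3, 6, 2, 5, 6, 4, 6, 5, 10]⟩] [⟨[], 321, false, [2, 6, 2, 6, 4]⟩]),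
  (⟨false, 9, 2, [63, 44, 57, 55, 31, 36, 2, 17, 17, 25, 8], [62, 44, 46, 44, 34, 28, 40, 2, 23, 17, 6], [61, 44, 42, 54, 34, 28, 40, 16, 11, 16, 11, 19]⟩, .loop 55 2 [60, 48, 44, 40, 40, 32, 16, 2, 16] 12 13 [⟨[23, 24], 1260, false, [5, 3, 6, 5, 3, 6, 5, 6, 10, 5]⟩, ⟨[24, 23], 1014, true, [6, 4, 5, 6, 4, 6, 4, 10]⟩, ⟨[23], 517, false, [1, 5, 3, 6, 4, 6, 5, 3]⟩, ⟨[23], 166, true, [6, 4, 5, 6, 10, 5, 3, 6, 2]⟩, ⟨[], 241, false, [1, 3, 6, 4, 6, 5, 6, 10]⟩, ⟨[24], 2102, false, [1, 6, 4, 5, 6, 2, 10, 5, 6, 4]⟩] [⟨[23, 24, 23], 528, true, [6, 4, 6, 5, 6, 2, 4, 6, 10, 5]⟩]),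
  (⟨false, 2, 9, [58, 44, 47, 47, 30, 28, 16, 11, 18, 23], [46, 53, 40, 27, 2, 16, 6, 23, 20], [59, 50, 46, 35, 36, 38, 2, 17, 23, 23, 4]⟩, .loop 33 2 [67, 45, 56, 50, 28, 26, 2, 17, 18, 22, 21] 2 3 [⟨[23], 709, false, [0, 4, 5, 10]⟩] [⟨[24], 1436, false, [2, 6, 10, 5, 3, 6, 2, 6]⟩, ⟨[23, 24, 23], 1966, false, [2, 3, 5, 6, 1, 4, 5, 3, 5]⟩]),
  (⟨false, 2, 9, [59, 48, 53, 28, 41, 31, 19, 6, 23, 23], [63, 46, 44, 54, 35, 30, 16, 18, 18], [58, 45, 50, 45, 30, 41, 17, 23, 16, 11]⟩, .loop 60 2 [60, 50, 55, 31, 34, 28, 19, 6, 17] 2 3 [⟨[], 253, false, [1, 3, 5, 6, 10, 5, 6, 4, 5, 6]⟩] [⟨[23], 674, false, [2, 4, 6, 4, 6, 10, 5]⟩, ⟨[21, 245, 21, 21], 1084, false, [0, 3, 5, 6, 4, 6, 4, 5, 10]⟩, ⟨[24, 23], 821, true, [2, 5, 6, 10, 5, 6, 2,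 4, 10]⟩, ⟨[23, 24], 509, true, [10, 5, 3, 6, 4, 5, 3, 6, 2]⟩, ⟨[], 644, false, [3, 5, 6, 2, 5, 6, 4, 10, 5]⟩, ⟨[], 2093, false, [2, 3, 6, 4, 6, 4, 6, 5]⟩]),
  (⟨false, 9, 2, [44, 55, 30, 40, 27, 17, 23, 17, 8], [62, 50, 48, 30, 26, 38, 17, 23, 17, 17], [49, 56, 2, 17, 23, 11, 11]⟩, .loop 71 2 [63, 49, 46, 30, 29, 40, 2, 17, 17, 23, 11] 4 5 [⟨[24], 226, false, [4, 10, 5, 6, 2, 6, 4, 6]⟩, ⟨[38, 66, 66], 1939, true, [0, 4, 5, 3, 6, 5, 6, 5, 3, 5]⟩] [⟨[24], 222, true, [1, 3, 5, 6, 5, 3, 5, 6]⟩]),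
  (⟨false, 9, 5, [62, 44, 42, 48, 31, 27, 41, 17, 17, 17, 25], [59, 44, 49, 41, 34, 2, 16, 6, 23, 20], [62, 44, 42, 35, 36, 30, 2, 17, 25, 17]⟩, .loop 67 7 [61, 47, 51, 38, 40, 2, 17, 23, 20, 6] 2 3 [⟨[1587, 1549], 2100, true, [0, 6, 5, 6, 2, 10, 5]⟩] [⟨[1549, 1583, 1587], 1604, true, [5, 6, 1, 4, 6, 2, 5, 3, 6]⟩, ⟨[23, 24, 23], 887, true, [1, 2, 4, 6, 10, 5, 6, 4, 6]⟩]),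
  (⟨false, 9, 5, [60, 47, 51, 34, 29, 36, 16, 16, 24, 17], [60, 47, 47, 52, 31, 33, 16, 18, 16, 16], [44, 42, 48, 30, 27, 31, 16, 16, 18, 25]⟩, .loop 60 7 [60, 51, 47, 36, 27, 17, 23, 23, 8] 6 7 [⟨[1587, 1549, 1549], 1731, false, [6, 2, 6, 10, 5, 6, 10, 5, 3]⟩, ⟨[24, 23], 1137, true, [6, 1, 2, 6, 5, 10, 5, 6, 2]⟩, ⟨[24, 23], 2060, true, [1, 2, 5, 3, 6, 4, 6, 5, 6, 4]⟩] [⟨[1587], 1627, true, [0, 5, 6, 5, 3, 5]⟩, ⟨[24, 23], 1731, true, [0, 2, 6, 2, 4, 10, 5, 6, 4, 6]⟩, ⟨[1587, 1549], 1714, true, [6, 1, 4, 6, 4, 10, 5, 6, 2, 6]⟩, ⟨[1583, 1583, 1549, 1549], 1715, true, [2, 6, 4, 6, 5, 6, 4, 5, 6, 10]⟩]),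
  (⟨false, 9, 5, [67, 48, 44, 30, 29, 30, 16, 22, 22, 2], [44, 55, 52, 30, 29, 2, 16, 16, 22, 24], [62, 44, 57, 28, 40, 16, 18, 16, 16]⟩, .loop 31 4 [44, 51, 46, 33, 27, 2, 23, 23, 13] 4 5 [⟨[61, 30], 455, true, [0, 4, 5, 3, 6, 5, 10, 5, 6, 4]⟩, ⟨[], 2063, true, [0, 5, 3, 6, 2, 4, 5, 6, 5, 6]⟩] [⟨[30, 63], 460, true, [4, 5, 3, 5, 6, 2, 6, 4]⟩]),
  (⟨false, 9, 8, [67, 47, 44, 51, 31, 33, 33, 16, 10, 25], [62, 44, 51, 36, 26, 16, 16, 4, 23], [58, 55, 42, 31, 34, 16, 16, 18, 25]⟩, .loop 66 5 [46, 44, 36, 32, 2, 17, 23, 8] 4 5 [⟨[66], 1354, false, [0, 6, 5, 3, 6, 5, 6]⟩, ⟨[], 2004, false, [1, 4, 5, 6, 2, 6, 10]⟩] [⟨[37, 37], 1899, false, [0, 6, 5, 10, 5, 6, 4, 5, 6, 4]⟩]),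
  (⟨false, 2, 9, [66, 45, 56, 41, 38, 16, 25, 17], [44, 42, 47, 28, 41, 27, 2, 23, 13], [61, 50, 45, 30, 34, 27, 16, 10, 23, 23]⟩, .loop 53 8 [58, 46, 51, 28, 31, 37, 2, 23, 23, 13, 17] 10 11 [⟨[1830], 1808, false, [2, 4, 6, 5, 10, 5, 6, 5, 3]⟩, ⟨[], 108, true, [6, 2, 6, 4, 10, 5, 3]⟩, ⟨[21, 21], 119, false, [2, 10, 5, 3, 6, 4, 6, 2, 5]⟩, ⟨[], 96, false, [0, 2, 6, 4, 5, 6, 2, 6, 10, 5]⟩, ⟨[23, 24], 139, false, [3, 5, 6, 4, 6, 10, 5, 3]⟩] [⟨[1830], 1918, true, [6, 2, 5, 6, 5, 3, 5, 6, 5]⟩, ⟨[], 2084, true, [3, 5, 6, 5, 3, 6, 4, 6, 4]⟩]),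
  (⟨false, 9, 2, [62, 57, 53, 31, 35, 29, 16, 16, 22, 6], [62, 57, 31, 33, 34, 2, 17, 0, 23, 23], [58, 51, 46, 36, 31, 16, 4, 16, 10, 21]⟩, .loop 33 2 [66, 44, 42, 47, 34, 26, 35, 2, 17, 17, 17, 21] 4 5 [⟨[], 1045, false, [0, 5, 6, 4, 6, 2, 5, 6, 10]⟩, ⟨[66, 66], 1942, true, [0, 3, 6, 5, 6, 10, 5, 10]⟩] [⟨[23, 24], 1187, true, [0, 5, 10, 5, 6, 5, 3]⟩]),
  (⟨false, 9, 2, [60, 45, 42, 51, 40, 40, 32, 16, 10], [58, 46, 44, 54, 35, 38, 2, 23, 17, 0, 23], [66, 55, 49, 30, 40, 33, 17, 23, 17]⟩, .loop 51 2 [51, 42, 41, 34, 30, 2, 17, 25, 19] 8 9 [⟨[], 101, false, [1, 2, 10, 5, 6, 4, 5, 10, 5]⟩, ⟨[37, 66, 66], 122, false, [1, 6, 5, 3, 6, 4, 5, 6]⟩, ⟨[24, 23], 1918, false, [6, 1, 10, 5, 6, 4, 6, 5]⟩, ⟨[1792, 1792, 1792], 2132, true, [0,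 4, 6, 5, 6, 4, 5, 10]⟩] [⟨[], 139, false, [4, 5, 6, 4, 5, 6, 4, 5, 6]⟩, ⟨[23], 152, false, [1, 4, 5, 10, 5, 6, 4, 5, 10]⟩, ⟨[21, 21], 119, false, [0, 2, 4, 6, 10, 5, 6, 4, 5, 10]⟩]),
  (⟨false, 9, 5, [61, 45, 45, 30, 30, 40, 16, 8, 22], [61, 46, 43, 30, 38, 31, 16, 16, 18, 11], [62, 55, 42, 28, 30, 37, 16, 11, 16, 2, 10]⟩, .loop 45 5 [48, 44, 28, 34, 40, 16, 16, 11, 23, 23] 4 5 [⟨[], 85, true, [0, 4, 6, 10, 5, 6, 2, 5, 3, 6, 4]⟩, ⟨[66, 66], 2055, false, [5, 6, 5, 3, 6, 2, 6, 4]⟩] []),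
  (⟨false, 9, 9, [63, 49, 53, 30, 34, 31, 16, 16, 19, 6], [60, 48, 47, 34, 29, 2, 23, 8, 23, 21], [67, 44, 42, 57, 31, 41, 28, 2, 16, 16, 22]⟩, .loop 67 5 [48, 45, 28, 35, 26, 17] 4 5 [⟨[], 36, true, [1, 5, 3, 6, 2, 6, 4, 5, 6, 4]⟩, ⟨[66, 66, 37, 37, 66], 2136, true, [1, 2, 5, 3, 6, 2, 4, 5, 6, 4]⟩] [⟨[66, 66, 37], 1941, true, [1, 5, 6, 2, 5, 3, 6, 4, 6]⟩]),
  (⟨false, 9, 9, [62, 48, 43, 30, 26, 31, 16, 24, 16, 10], [61, 44, 42, 41, 36, 16, 16, 10, 21], [66, 50, 48, 33, 35, 2, 17, 22, 16]⟩, .loop 44 9 [61, 44, 42, 41, 36, 16, 16, 20, 13] 4 5 [⟨[1979, 1979, 1961], 2057, true, [3, 5, 6, 10, 5, 3, 6, 4, 5, 3]⟩, ⟨[1830, 1830, 1811], 2057, false, [0, 6, 2, 6, 4, 10, 5, 6, 2, 6, 5]⟩] []),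
  (⟨false, 9, 2, [58, 48, 43, 34, 37, 37, 17, 22, 6, 16], [60, 46, 44, 28, 30, 27, 31, 2, 23, 23, 24], [59, 44, 57, 49, 30, 37, 30, 16, 2, 0, 16]⟩, .loop 54 5 [61, 47, 44, 30, 32, 16, 16, 19] 8 9 [⟨[66, 38], 353, true, [5, 3, 6, 4, 6, 5, 6, 5, 3]⟩, ⟨[], 528, false, [3, 4, 6, 1, 5, 6, 2, 4, 10, 5]⟩, ⟨[], 881, false, [0, 3, 4, 6, 2, 5, 6]⟩, ⟨[24], 2102, false, [6, 2, 6, 5, 3, 6, 5, 10, 5]⟩] [⟨[66, 38, 37], 518, true, [1, 3, 5, 6, 2, 6, 5]⟩, ⟨[], 517, false, [1, 6, 2, 6, 5, 6, 4, 6, 10]⟩, ⟨[23, 24], 523, true, [2, 3, 6, 4, 5, 3, 6, 4, 5, 3]⟩]),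
  (⟨false, 2, 9, [58, 51, 41, 38, 2, 16, 6, 17, 22], [63, 44, 47, 52, 34, 28, 2, 23, 8, 23, 10], [58, 50, 49, 31, 37, 37, 16, 16, 19, 10]⟩, .loop 31 2 [66, 46, 53, 41, 34, 30, 2, 23, 23, 18, 17] 4 5 [⟨[24], 1809, false, [3, 4, 6, 4, 5, 6, 4, 6]⟩, ⟨[], 1796, true, [2, 6, 10, 5, 6, 5, 10]⟩] [⟨[23, 24], 2088, true, [3, 5, 3, 6, 4, 6, 5, 10]⟩]),
  (⟨false, 9, 5, [59, 55, 49, 31, 35, 26, 2], [59, 48, 47, 41, 30, 28, 2, 23, 23, 11], [59, 45, 54, 45, 34, 27, 31]⟩, .loop 29 2 [66, 48, 45, 28, 34, 31, 2, 23, 23, 13] 2 3 [⟨[23], 2014, false, [0, 2, 5, 6, 10, 5, 6, 2, 6]⟩] [⟨[23], 917, false, [6, 5, 3, 6, 5, 6, 2, 4, 5]⟩, ⟨[23], 255, true, [6, 1, 5, 3, 6, 2, 6, 5, 3, 6]⟩]),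
  (⟨false, 9, 5, [59, 46, 51, 28, 38, 26, 16, 16, 24, 18], [63, 49, 30, 37, 30, 2, 16, 6], [59, 54, 43, 28, 40, 31, 2, 17, 23, 11, 17]⟩, .loop 23 5 [63, 44, 42, 45, 33, 33, 31, 2, 23, 24] 6 7 [⟨[66, 66], 31, true, [6, 4, 10, 5, 6, 2, 5, 6, 4, 10]⟩, ⟨[13, 12, 10, 12, 13, 12, 14, 10], 31, false, [0, 4, 6, 4, 10, 5, 6, 5]⟩, ⟨[37, 66, 37], 2129, true, [5, 3, 6, 2, 5, 6, 2, 6, 4]⟩] []),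
  (⟨false, 2, 9, [63, 51, 55, 30, 30, 30, 2, 16, 16, 6, 18], [67, 45, 52, 28, 35, 31, 41, 16, 16, 18, 16], [63, 47, 42, 28, 36, 33, 16, 21, 23]⟩, .loop 53 5 [62, 46, 57, 35, 31, 32, 2, 23, 6, 23] 4 5 [⟨[66, 38], 166, false, [0, 4, 5, 6, 2, 5, 3, 6, 5]⟩, ⟨[], 910, true, [1, 4, 6, 2, 6, 5, 10]⟩] [⟨[], 1078, false, [4, 6, 2, 6, 10, 5, 6, 5, 10, 5]⟩, ⟨[23], 1014, true, [2, 6, 5, 6, 2, 6, 4, 6, 5]⟩, ⟨[23], 440, false, [5, 3, 6, 1, 4, 6, 5, 6, 2]⟩, ⟨[23, 24], 476, true, [6, 4, 6, 10, 5, 6, 4, 5]⟩, ⟨[], 2125, true, [0, 2, 6, 4, 6, 5, 6, 10, 5, 3, 6]⟩])]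

/-- facts 2144 and on -/
def facts67 : List (Fact × Why) := [
  (⟨false, 2, 9, [61, 47, 53, 30, 26, 33, 2, 17, 18], [67, 51, 43, 28, 40, 37, 17, 22, 6], [67, 44, 48, 43, 34, 27, 29, 2, 23, 17, 0, 6]⟩, .loop 65 9 [66, 52, 33, 31, 33, 2, 17, 23, 24, 21] 14 15 [⟨[1979], 2134, false, [10, 5, 3, 6, 2, 6, 2, 4]⟩, ⟨[], 285, false, [0, 3, 4, 6, 5, 3, 6, 2, 6]⟩, ⟨[30, 63], 460, true, [1, 5, 6, 10, 5, 6, 2, 4, 6]⟩, ⟨[], 466, true, [2, 6, 1, 5, 6, 2, 6, 4]⟩, ⟨[], 492, true, [3, 5, 3, 6, 1, 4, 5, 10, 5]⟩, ⟨[], 547, false, [4, 5, 6, 4, 6, 5, 6, 2, 5]⟩, ⟨[23, 24], 559, false, [1, 2, 6, 5, 3, 6]⟩] []),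
  (⟨false, 5, 9, [62, 45, 42, 47, 31, 36, 34, 2, 17, 17, 22, 6], [61, 46, 48, 54, 30, 41, 16, 16, 24, 12], [58, 44, 48, 36, 40, 37, 16, 16, 24, 2]⟩, .loop 52 2 [47, 49, 56, 40, 32, 2, 17, 17, 18, 23] 4 5 [⟨[], 459, true, [0, 6, 4, 10, 5, 3, 6, 2, 5, 6]⟩, ⟨[], 296, false, [0, 2, 3, 4, 6, 4, 6, 4, 5, 3]⟩] [⟨[], 234, true, [4, 6, 10, 5, 3, 6, 2, 4, 6]⟩, ⟨[], 1241, true, [5, 6, 1, 4, 6, 5, 3, 5, 6]⟩, ⟨[23], 351, false, [0, 6, 4, 6, 2, 4, 5, 6, 5, 10]⟩, ⟨[], 1439, false, [1, 4, 6, 10, 5, 6]⟩, ⟨[24], 1929, true, [2, 6, 4, 6, 5, 6, 4, 5, 6]⟩]),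
  (⟨false, 3, 9, [60, 44, 57, 49, 31, 34, 27, 2, 17, 23, 17, 25], [44, 53, 28, 36, 28, 16, 16, 13], [67, 48, 55, 33, 28, 2, 17, 17, 17, 21]⟩, .loop 33 2 [59, 49, 56, 28, 36, 16, 10, 17, 17] 4 5 [⟨[23, 24], 1302, true, [0, 4, 6, 2, 5, 6, 4, 5, 10, 5, 6]⟩, ⟨[], 199, false, [10, 5, 6, 2, 5, 3, 6]⟩] [⟨[], 1989, true, [0, 4, 6, 4, 6, 10, 5, 6, 5, 3]⟩]),
  (⟨false, 2, 9, [45, 42, 49, 36, 35, 40, 16, 16, 20, 11], [60, 47, 55, 34, 33, 40, 18, 23], [61, 52, 44, 36, 31, 26, 2, 17, 17, 6]⟩, .loop 45 9 [66, 44, 46, 44, 36, 30, 16] 4 5 [⟨[1958, 1961, 1958], 2092, true, [1, 6, 5, 10, 5, 6, 5, 6, 4, 6]⟩, ⟨[38, 37], 355, true, [0, 4, 10, 5, 6, 4, 6, 2, 4, 10, 5]⟩] []),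
  (⟨false, 9, 9, [58, 50, 55, 34, 33, 34, 2, 17, 0, 23], [66, 51, 33, 40, 38, 17, 23, 18, 17], [67, 44, 57, 28, 35, 28, 2, 17, 22, 22]⟩, .loop 30 9 [60, 51, 44, 41, 32, 29, 2, 16, 16, 16, 6] 6 7 [⟨[], 2045, true, [4, 10, 5, 6, 4, 6, 5, 10]⟩, ⟨[24, 23], 558, false, [1, 2, 6, 5, 3, 6, 5, 6, 5, 10]⟩, ⟨[], 2105, true, [2, 3, 6, 4, 5, 6, 4, 5, 3]⟩] []),
  (⟨false, 9, 5, [61, 48, 50, 31, 27, 32, 16, 25, 17], [67, 45, 52, 28, 38, 33, 2, 23, 6, 23, 16], [58, 50, 45, 31, 34, 30, 16, 4, 16, 13, 10]⟩, .loop 23 5 [60, 45, 28, 38, 29, 2, 17, 17, 6, 11] 6 7 [⟨[38, 66], 289, false, [1, 6, 4, 6, 2]⟩, ⟨[24], 977, true, [0, 6, 2, 4, 10, 5, 6, 5, 10, 5]⟩, ⟨[24, 23], 2018, false, [6, 2, 5, 6, 10, 5, 3]⟩] []),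
  (⟨false, 5, 9, [60, 46, 48, 54, 30, 29, 16, 16, 20, 24], [58, 44, 47, 47, 30, 27, 35, 2, 23, 23, 13], [62, 46, 44, 54, 34, 40, 17, 23, 23, 21]⟩, .loop 19 2 [61, 46, 44, 54, 34, 26, 29, 16, 16, 20, 17] 2 3 [⟨[24], 1363, true, [0, 10, 5, 6, 2, 4, 6, 5, 6]⟩] [⟨[23, 24, 23], 781, true, [1, 6, 2, 6, 5, 6, 5, 3]⟩, ⟨[23, 24, 23], 1950, true, [6, 1, 4, 5, 10, 5, 6, 5, 10]⟩]),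
  (⟨false, 2, 9, [66, 44, 42, 38, 32, 34, 2, 17, 23, 6], [60, 48, 48, 35, 29, 34, 2, 23, 6, 17], [58, 55, 49, 34, 28, 40, 2, 17, 17, 11, 22]⟩, .loop 55 9 [61, 47, 49, 56, 33, 35, 28, 19, 6, 17, 0] 14 15 [⟨[], 2112, true, [1, 6, 5, 3, 6, 4, 5, 6, 2, 10]⟩, ⟨[], 2106, false, [0, 2, 6, 2, 5, 6, 4, 6, 2, 10, 5]⟩, ⟨[66, 37, 66, 66, 38], 270, false, [0, 5, 6, 2, 4, 5, 3, 6, 2, 6]⟩, ⟨[], 913, false, [6, 4, 6, 5, 3, 6, 2, 5, 10]⟩, ⟨[23], 412, false, [0, 2, 3, 4, 5, 6, 5, 6, 4]⟩, ⟨[23, 24, 23], 355, false, [0, 3, 5, 3, 6, 4, 5, 6, 5, 10]⟩, ⟨[66, 38, 66, 66, 38], 618, false, [1, 2, 5, 6, 5, 6, 2, 4, 10]⟩] []),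
  (⟨false, 2, 9, [58, 45, 43, 45, 33, 27, 16, 16, 19, 11], [67, 56, 53, 31, 32, 29, 17, 23, 18, 23], [67, 44, 55, 52, 33, 29, 31, 17, 17]⟩, .loop 66 2 [62, 44, 46, 44, 36, 27, 40, 2, 17, 22, 16, 10] 4 5 [⟨[23], 1373, false, [5, 6, 1, 4, 6, 2, 10, 5, 6]⟩, ⟨[], 1236, true, [1, 6, 2, 6, 10, 5, 6, 4, 6, 5]⟩] [⟨[23, 24], 2062, false, [6, 4, 5, 3, 6, 4, 6, 4, 5, 3]⟩]),
  (⟨false, 7, 9, [45, 49, 34, 40, 27, 2, 23, 19, 6], [62, 49, 35, 31, 2, 17, 17, 17], [58, 44, 55, 50, 30, 37, 33, 16, 16, 25, 23]⟩, .loop 33 9 [58, 47, 56, 31, 16, 4, 16, 10] 2 3 [⟨[1958, 1961], 1925, false, [0, 6, 2, 4, 5, 6, 2, 10]⟩] [⟨[1958, 1979, 1958, 1961, 1958], 2113, false, [5, 6, 1, 5, 3, 5, 6, 2]⟩, ⟨[23], 2066, true, [4, 10, 5, 3, 6, 2, 6, 2]⟩]),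
  (⟨false, 4, 9, [67, 47, 54, 36, 28, 16, 19, 22, 25], [61, 48, 47, 28, 30, 26, 34, 2, 17, 17, 25, 8], [58, 54, 52, 28, 36, 34, 2, 17, 23, 21]⟩, .loop 32 1 [62, 51, 55, 30, 38, 29, 16, 10] 2 3 [⟨[10, 12], 58, false, [2, 5, 6, 10, 5, 3, 6, 5]⟩] [⟨[13, 12, 14, 11, 11, 10, 8], 25, false, [4, 6, 5, 6, 4, 10, 5, 6, 10]⟩, ⟨[61, 63, 63], 2017, true, [0, 4, 6, 10, 5, 6, 2, 6, 5, 6]⟩]),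
  (⟨false, 2, 9, [61, 51, 52, 33, 36, 38, 16, 18, 24, 6], [60, 44, 43, 33, 34, 26, 17, 17, 17, 25], [60, 45, 43, 30, 29, 35, 16, 2, 21, 17]⟩, .loop 64 2 [61, 51, 46, 35, 37, 16, 21, 16, 21] 6 7 [⟨[], 747, true, [10, 5, 6, 5, 3, 5, 6, 2, 5, 6]⟩, ⟨[23, 24, 23], 1172, true, [1, 2, 3, 5, 6, 2, 5, 6, 10]⟩, ⟨[24], 937, false, [0, 3, 4, 5, 3, 6, 4, 5, 6, 10]⟩] [⟨[23, 24], 1024, false, [2, 3, 5, 6, 4, 6, 4, 5, 6, 2]⟩, ⟨[], 811, true, [4, 6, 1, 4, 5, 6, 10, 5, 10]⟩, ⟨[66, 66, 37, 38], 500, false, [4, 6, 5, 3, 6, 2, 4, 6, 5]⟩, ⟨[24, 23], 1966, false, [4, 5, 10, 5, 6, 5, 3, 6, 5]⟩]),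
  (⟨false, 5, 9, [44, 43, 51, 28, 34, 41, 16, 2, 19], [60, 55, 16, 16, 20, 8], [61, 44, 43, 53, 30, 30, 38, 2, 23, 17, 0, 6]⟩, .loop 69 2 [62, 55, 30, 37, 40, 2, 17, 17, 19, 10] 4 5 [⟨[], 1617, false, [2, 4, 10, 5, 3, 6, 4, 6, 2, 5]⟩, ⟨[1587, 1583, 1587, 1583, 1549], 1762, true, [0, 2, 4, 10, 5, 3, 6, 4, 6, 4, 5]⟩] [⟨[], 2048, false, [5, 3, 6, 1, 4, 5, 10]⟩]),
  (⟨false, 9, 5, [60, 47, 49, 56, 30, 40, 29, 2, 17, 17, 8], [60, 47, 55, 28, 34, 30, 29, 2, 17, 17, 25, 12], [60, 47, 55, 35, 38, 2, 23, 23, 21]⟩, .loop 22 2 [62, 48, 48, 35, 30, 32, 2, 23, 17, 8, 21] 4 5 [⟨[23], 1374, false, [6, 1, 5, 6, 4, 10, 5, 10]⟩, ⟨[24, 23], 2038, true, [1, 6, 5, 10, 5, 6, 4, 5, 3]⟩] [⟨[23], 274, false, [3, 4, 5, 6, 4, 6, 5, 10]⟩]),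
  (⟨false, 9, 2, [44, 53, 56, 31, 28, 40, 2, 17, 18, 22, 6], [60, 50, 50, 31, 36, 35, 2, 17, 17, 0, 10], [44, 48, 33, 35, 32, 16, 16, 22, 10]⟩, .loop 35 2 [63, 51, 47, 34, 28, 37, 2, 17, 17, 6, 13] 2 3 [⟨[], 2009, true, [4, 6, 5, 6, 10, 5, 3]⟩] [⟨[], 427, true, [0, 5, 3, 6, 5, 10, 5, 6, 2, 4]⟩, ⟨[24], 91, false, [2, 3, 4, 6, 1, 5, 3, 6, 4, 5]⟩]),
  (⟨false, 9, 2, [61, 47, 52, 33, 35, 41, 16, 11, 19, 6], [61, 46, 44, 54, 28, 34, 37, 16, 4, 11], [66, 47, 50, 36, 33, 16, 16, 11, 16]⟩, .loop 72 9 [63, 55, 47, 36, 30, 40, 16, 10, 23, 17] 2 3 [⟨[], 2137, false, [0, 2, 4, 6, 4, 10, 5, 6, 4, 5]⟩] [⟨[1961, 1961, 1961], 2077, false, [2, 6, 5, 3, 6, 5, 3, 6]⟩, ⟨[44, 42, 52, 52, 52, 52, 52, 52], 97, false, [6, 4, 5, 3, 6, 5, 6, 4]⟩]),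
  (⟨false, 2, 9, [59, 47, 47, 31, 29, 37, 16, 16, 10, 18], [62, 55, 49, 41, 26, 16, 8, 17, 17], [61, 50, 50, 36, 29, 31, 16, 16, 20, 25]⟩, .loop 46 2 [60, 46, 44, 34, 26, 34, 2, 17, 23, 12, 24] 2 3 [⟨[], 321, true, [1, 2, 5, 6, 2, 5, 6, 4, 6, 2]⟩] [⟨[], 2124, true, [3, 6, 1, 4, 5, 6, 2, 6, 4, 10]⟩]),
  (⟨false, 9, 2, [63, 48, 53, 28, 35, 27, 2, 17, 17, 8, 19], [63, 48, 42, 33, 35, 26, 2, 17, 22, 22, 24], [58, 47, 53, 31, 32, 38, 16, 16, 21, 24]⟩, .loop 71 3 [67, 55, 49, 31, 32, 38, 17, 23, 17, 17] 4 5 [⟨[245, 21, 21], 84, true, [2, 6, 2, 4, 5, 6, 2, 10, 5, 6]⟩, ⟨[23], 2051, true, [2, 4, 5, 6, 10, 5, 10]⟩] [⟨[50, 22, 21, 22], 239, false, [2, 5, 6, 2, 6, 10, 5, 6, 5, 10]⟩]),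
  (⟨false, 2, 9, [59, 48, 52, 28, 40, 37, 2, 23, 17, 0, 23], [58, 50, 33, 31, 34, 16, 16, 24, 17], [67, 46, 48, 54, 30, 38, 28, 16, 16, 8, 22]⟩, .loop 64 5 [66, 45, 49, 28, 26, 40, 16, 8, 17, 17] 10 11 [⟨[], 144, true, [10, 5, 6, 4, 6, 5, 6, 2]⟩, ⟨[], 153, false, [5, 6, 1, 2, 6, 4, 6, 5, 6, 10]⟩, ⟨[], 121, false, [2, 4, 10, 5, 3]⟩, ⟨[24], 105, true, [1, 3, 6, 5, 3, 6, 2, 4]⟩, ⟨[37, 37], 143, false, [1, 6, 2, 5, 6, 4, 5]⟩] [⟨[38, 66, 66], 2061, false, [0, 10, 5, 6, 4, 6, 4, 6]⟩, ⟨[1979, 1979, 1961, 1979], 2137, false, [2, 6, 2, 6, 4, 10, 5, 6, 5, 6]⟩]),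
  (⟨false, 9, 2, [59, 44, 57, 55, 28, 31, 41, 16, 16, 18, 25], [58, 45, 54, 45, 28, 36, 16, 4, 17], [61, 46, 48, 38, 27, 2, 17, 22, 16]⟩, .loop 48 5 [67, 44, 53, 36, 29, 33, 16, 16, 19, 21] 2 3 [⟨[], 2061, false, [2, 6, 5, 3, 6, 4, 6]⟩] [⟨[66, 37, 37, 66], 95, false, [3, 6, 1, 5, 6, 2, 4, 6]⟩]),
  (⟨false, 2, 9, [66, 47, 44, 34, 36, 31, 17, 23, 16, 6], [60, 44, 46, 57, 31, 28, 2, 23, 4], [61, 50, 46, 28, 40, 30, 16, 11, 16, 25, 22]⟩, .loop 31 9 [61, 50, 55, 28, 41, 27, 32, 16, 2, 24] 6 7 [⟨[1958], 2150, true, [4, 6, 10, 5, 6, 2, 4, 10]⟩, ⟨[], 1363, false, [2, 3, 6, 1, 2, 4, 5, 10]⟩, ⟨[], 755, true, [0, 5, 3, 5, 6, 2, 6, 5, 6]⟩] []),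
  (⟨false, 9, 2, [45, 43, 30, 40, 28, 16, 16, 10, 10], [66, 55, 43, 28, 30, 26, 34, 16], [60, 48, 57, 41, 29, 40, 2, 16]⟩, .loop 67 3 [63, 48, 48, 31, 35, 29, 16, 19, 6, 17] 2 3 [⟨[21], 2119, false, [2, 3, 6, 1, 5, 3, 6, 4]⟩] [⟨[50, 21, 50, 245], 152, true, [0, 2, 4, 6, 5, 6, 2, 10, 5]⟩, ⟨[], 134, true, [5, 6, 2, 6, 2, 5, 6, 4, 10]⟩]),
  (⟨false, 9, 3, [67, 48, 57, 31, 28, 40, 18, 23, 23, 23], [67, 50, 50, 38, 32, 16, 10, 25], [66, 57, 53, 28, 34, 31, 2, 23, 25]⟩, .loop 17 9 [59, 45, 42, 49, 34, 37, 37, 2, 17, 23, 10, 21] 2 3 [⟨[1961, 1961], 2138, false, [0, 10, 5, 3, 6, 5, 10]⟩] [⟨[1961, 1958, 1979, 1958], 2095, false, [4, 6, 2, 5, 6, 5, 6, 4, 10, 5]⟩, ⟨[66], 80, true, [0, 6, 5, 6, 2, 6, 5, 3, 6, 5]⟩]),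
  (⟨false, 9, 2, [58, 47, 54, 28, 30, 41, 2, 17, 22, 12], [58, 50, 49, 28, 36, 29, 2, 23, 17, 24, 23], [63, 44, 55, 52, 34, 36, 35, 16, 16, 8, 16, 20]⟩, .loop 70 2 [58, 44, 55, 52, 30, 29, 32, 16, 16, 4, 8] 6 7 [⟨[], 559, true, [0, 4, 6, 2, 6, 10, 5, 6, 5, 10]⟩, ⟨[23], 365, false, [2, 3, 5, 6, 1, 5, 10, 5, 6, 4]⟩, ⟨[23, 24], 2048, false, [0, 3, 4, 5, 6, 4, 10, 5, 6, 5]⟩] []),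
  (⟨false, 4, 9, [59, 44, 57, 33, 30, 36, 2, 16, 6, 23, 20], [62, 44, 42, 46, 36, 27, 16, 11, 16, 16], [60, 44, 46, 57, 34, 26, 29, 2, 23, 23, 18, 18]⟩, .loop 61 2 [63, 51, 52, 30, 34, 28, 2, 23, 25] 8 9 [⟨[24], 466, false, [1, 6, 2, 6, 5, 6, 2, 10, 5]⟩, ⟨[], 100, true, [2, 6, 10, 5, 6, 2, 4, 5, 10]⟩, ⟨[24, 23], 547, true, [0, 5, 6, 2, 6, 4, 5, 3, 6]⟩, ⟨[], 455, false, [0, 4, 10, 5, 3, 6, 5, 6, 4, 10]⟩] [⟨[23, 24], 736, false, [3, 4, 6, 2, 6, 5, 6, 5]⟩, ⟨[23], 1463, false, [6, 2, 10, 5, 6, 5, 3, 6, 4]⟩, ⟨[23, 24], 2134, true, [4, 6, 10, 5, 3, 6, 4, 6, 5, 6]⟩]),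
  (⟨false, 5, 9, [45, 43, 28, 30, 28, 2, 17, 22], [63, 47, 56, 33, 27, 31, 2, 17, 17, 17, 12], [59, 44, 55, 50, 31, 37, 29, 16, 18, 16, 8]⟩, .loop 60 2 [57, 35, 31, 34, 2, 23, 13, 23, 18] 10 11 [⟨[24], 722, false, [1, 3, 4, 5, 6, 4, 6, 2, 10]⟩, ⟨[], 547, true, [2, 4, 6, 10, 5, 6, 5, 3, 5]⟩, ⟨[], 963, true, [6, 1, 4, 6, 2, 10]⟩, ⟨[24], 1324, true, [4, 6, 4, 6, 2, 4, 5, 6, 5]⟩, ⟨[53, 29], 460, true, [5, 3, 5, 6, 4, 5, 6, 2, 6]⟩] [⟨[24], 1079, false, [1, 6, 10, 5, 6, 4, 6, 10]⟩, ⟨[], 2134, true, [2, 5, 6, 2, 6, 10, 5, 6]⟩]),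
  (⟨false, 9, 2, [63, 50, 44, 28, 41, 33, 17, 22, 6, 22], [59, 46, 44, 54, 35, 28, 32, 2, 17, 6], [66, 49, 47, 33, 35, 29, 2, 23, 13, 23, 6]⟩, .loop 52 2 [61, 44, 46, 35, 16, 2, 19, 6, 17] 4 5 [⟨[23], 145, true, [1, 3, 5, 6, 4, 6, 4, 5, 3]⟩, ⟨[23], 2164, false, [1, 4, 6, 2, 10, 5, 6, 5, 3, 5]⟩] [⟨[23], 111, true, [0, 4, 5, 10, 5, 6, 5, 3]⟩, ⟨[], 71, true, [3, 4, 5, 6, 4, 6, 5, 6]⟩, ⟨[61, 63, 61, 28], 56, true, [2, 6, 10, 5, 3, 6, 2, 4, 6]⟩, ⟨[21, 21], 2166, true, [4, 10, 5, 6]⟩, ⟨[1979, 1958, 1979, 1979], 2159, false, [0, 6, 5, 3, 6, 4, 5, 3, 6]⟩]),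
  (⟨false, 5, 9, [48, 47, 40, 30, 2, 17, 17, 11, 22], [63, 57, 30, 27, 19, 6, 23, 23], [66, 44, 43, 57, 31, 33, 36, 16, 8, 22]⟩, .loop 35 9 [66, 45, 56, 35, 31, 16, 11, 16] 6 7 [⟨[1979, 1958], 2122, false, [0, 3, 5, 6, 2, 5, 6, 10]⟩, ⟨[23, 24, 23], 336, true, [2, 3, 5, 6, 2, 6, 4, 5, 6, 5]⟩, ⟨[23, 24], 1036, false, [1, 2, 3, 6, 5, 6, 10]⟩] []),
  (⟨false, 9, 5, [59, 45, 46, 30, 27, 30, 16, 16, 20, 24], [62, 44, 43, 57, 31, 34, 2, 17, 18, 22, 24], [58, 45, 50, 42, 35, 28, 2, 17, 19, 22, 20]⟩, .loop 52 2 [59, 46, 43, 41, 37, 16, 10, 8, 16] 8 9 [⟨[24], 2164, false, [6, 2, 6, 5, 6, 4, 6]⟩, ⟨[1961, 1979, 1979], 2161, false, [1, 2, 5, 6, 4, 6, 5, 3, 6, 2]⟩, ⟨[24, 23], 132, false, [2, 3, 6, 1, 5]⟩, ⟨[50], 2166, true, [4, 5, 6, 4, 5, 6,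 2, 4, 5, 3]⟩] [⟨[], 130, true, [0, 4, 5, 6, 10, 5, 6, 4, 5, 3]⟩, ⟨[], 89, false, [2, 6, 2, 6, 5, 3, 6, 2, 6]⟩, ⟨[28, 27], 71, false, [1, 3, 6, 5, 6, 10, 5, 3, 6, 5, 6]⟩]),
  (⟨false, 2, 9, [66, 54, 43, 35, 31, 2, 17, 22, 22, 21], [67, 44, 48, 52, 28, 34, 36, 2, 23, 23, 18, 0], [66, 45, 46, 33, 41, 28, 2, 17, 0, 23, 16]⟩, .loop 34 2 [67, 46, 57, 35, 31, 26, 16, 19, 6, 17] 4 5 [⟨[23], 110, false, [2, 6, 5, 6, 2, 4, 6, 5, 3]⟩, ⟨[63, 61, 63, 29], 402, true, [0, 2, 4, 6, 2, 10, 5, 6, 4, 5, 10]⟩] [⟨[24], 1955, true, [6, 5, 3, 6, 4, 5, 6, 10, 5, 6]⟩]),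
  (⟨false, 9, 5, [59, 44, 55, 50, 38, 28, 31, 16, 16, 10, 13], [49, 42, 38, 32, 36, 2, 17, 23, 10, 16], [66, 48, 53, 30, 29, 26, 2, 23, 23, 16]⟩, .loop 51 2 [62, 44, 42, 51, 30, 32, 30, 16, 4, 11] 6 7 [⟨[23, 24], 128, true, [1, 3, 4, 6, 5, 3, 6, 2, 4, 6]⟩, ⟨[], 147, true, [0, 2, 6, 5, 3, 5, 6, 2, 6]⟩, ⟨[], 2000, true, [10, 5, 6, 4, 6, 2, 5, 6, 10]⟩] [⟨[23], 95, true, [6, 4, 6, 2, 6, 4, 5, 6]⟩, ⟨[37, 66, 38], 124, false, [6, 1, 5, 6, 10, 5, 3, 6, 5, 6]⟩, ⟨[23], 2013, false, [1, 2, 5, 3, 6, 5, 3, 6, 2, 6]⟩, ⟨[1958, 1979, 1979], 2141, false, [4, 5, 3, 6, 2, 6, 2, 5, 6, 10]⟩]),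
  (⟨false, 2, 9, [63, 54, 43, 34, 27, 28, 16, 18, 18], [63, 44, 42, 51, 31, 29, 40, 2, 23, 23, 11], [45, 43, 33, 35, 29, 16, 16, 8, 22, 22]⟩, .loop 19 9 [62, 44, 46, 48, 28, 41, 29, 2, 17, 17, 22] 4 5 [⟨[1961, 1958, 1979], 2055, true, [2, 10, 5, 6, 4, 6, 2, 5, 6]⟩, ⟨[66, 66, 38, 66], 355, true, [0, 4, 10, 5, 6, 4, 6, 4, 5, 3]⟩] [⟨[1979, 1979, 1958], 2112, false, [4, 5, 6, 5, 6, 4, 10, 5, 6]⟩])]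

/-- facts 2176 and on -/
def facts68 : List (Fact × Why) := [
  (⟨false, 9, 9, [61, 52, 48, 30, 37, 30, 2, 23, 23, 24], [44, 57, 33, 35, 29, 2, 17, 17, 17, 8], [62, 50, 42, 30, 26, 32, 16, 24, 18]⟩, .loop 32 2 [59, 49, 57, 35, 28, 40, 16, 2, 19, 6] 4 5 [⟨[24], 567, false, [1, 3, 6, 5, 10, 5, 6]⟩, ⟨[24, 23], 1969, true, [6, 10, 5, 3, 6, 4, 5, 6]⟩] [⟨[24, 23], 2042, true, [1, 4, 6, 5, 3]⟩]),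
  (⟨false, 9, 2, [66, 45, 50, 34, 33, 2, 23, 25], [62, 44, 42, 51, 31, 29, 27, 16, 24, 6], [45, 54, 45, 28, 26, 40, 16, 16, 20, 13]⟩, .loop 66 5 [61, 54, 47, 35, 38, 16, 8, 17, 17, 22] 2 3 [⟨[37], 2142, true, [4, 5, 3, 6, 2, 4, 5, 6]⟩] [⟨[66], 143, false, [4, 6, 1, 2, 5, 6, 4, 6, 5]⟩, ⟨[], 109, false, [5, 3, 6, 5, 3]⟩]),
  (⟨false, 2, 10, [59, 47, 53, 28, 31, 35, 2], [], []⟩, .defn),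
  (⟨false, 10, 7, [62, 44, 43, 33, 34, 38, 16, 8], [61, 47, 53, 34, 26, 29, 2, 23, 11], [67, 44, 42, 57, 33, 31, 16, 22, 19]⟩, .loop 67 7 [63, 52, 55, 28, 26, 37, 2, 23, 8] 6 7 [⟨[1583, 1583], 1673, true, [0, 5, 6, 4, 5, 3, 6, 4, 5]⟩, ⟨[1583, 1549], 1631, true, [3, 4, 5, 6, 10, 5, 3, 6, 4, 5]⟩, ⟨[23], 2178, false, [1, 2, 3, 6, 5, 3, 6, 5, 6, 4]⟩] []),
  (⟨false, 2, 10, [58, 55, 49, 31, 34, 41, 2, 23, 8, 17, 17], [59, 51, 30, 35, 29, 16, 24, 17, 6], [61, 55, 40, 38, 16, 16, 16, 4, 13]⟩, .loop 66 10 [66, 51, 43, 30, 34, 27, 16, 16, 2, 4, 23] 6 7 [⟨[], 2179, false, [2, 10, 5, 3, 6, 5, 6, 4, 6, 4]⟩, ⟨[1587, 1583, 1587], 1621, true, [0, 4, 6, 4, 5, 6, 4, 5]⟩, ⟨[], 104, false, [2, 6, 5, 6, 2, 5, 10]⟩] []),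
  (⟨false, 10, 2, [61, 50, 46, 36, 32, 26, 2, 23, 23, 4], [61, 49, 47, 40, 30, 16, 4, 11], [44, 46, 57, 34, 27, 29, 2, 17, 17, 17, 13]⟩, .loop 59 2 [62, 49, 51, 31, 32, 38, 16] 6 7 [⟨[23], 103, false, [1, 2, 6, 4, 6, 4, 5, 6, 4]⟩, ⟨[61], 103, true, [6, 1, 5, 6, 10, 5, 6]⟩, ⟨[], 2180, false, [3, 4, 6, 5, 6, 4, 6, 5]⟩] [⟨[23], 172, false, [1, 2, 6, 4, 6, 10, 5, 3]⟩, ⟨[], 170, true, [4, 5, 3, 5, 6, 2, 5, 6, 4, 5]⟩, ⟨[], 170, true, [1, 6, 2, 5, 3]⟩, ⟨[], 169, false, [0, 2, 3, 6, 5, 3, 6, 2]⟩]),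
  (⟨true, 10, 10, [224], [], [226]⟩, .coinc 2 [61, 49, 47, 40, 30, 16, 4, 11] ⟨[23], 2180, false, [6, 5, 6, 2]⟩ ⟨[], 2181, true, []⟩),
  (⟨false, 2, 10, [58, 46, 42, 51, 31, 33, 16, 11], [49, 51, 40, 40, 32, 16, 18, 23], [58, 50, 47, 28, 34, 30, 2, 17, 18, 22, 22]⟩, .loop 56 10 [58, 44, 42, 35, 30, 32, 16, 2, 19] 14 15 [⟨[], 2180, true, [0, 4, 5, 3, 6, 5, 6, 2, 4, 10, 5]⟩, ⟨[23], 173, false, [2, 10, 5, 6, 4, 6, 5, 6, 10]⟩, ⟨[23], 169, true, [0, 3, 4, 6, 5, 10, 5, 6, 4, 5, 10]⟩, ⟨[], 170, true, [3, 6, 2, 6, 5, 10, 5]⟩, ⟨[], 110, false, [4, 6, 2, 6, 4, 5, 3, 6, 2, 6]⟩, ⟨[30], 103, true, [3, 5, 3, 6, 5, 6, 2, 6, 10]⟩, ⟨[23], 157, true, [6, 2, 6, 5, 3, 6, 5, 3, 6]⟩] []),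
  (⟨false, 10, 7, [60, 55, 49, 30, 34, 16, 4, 17], [59, 51, 43, 31, 28, 36, 2, 23, 13, 23, 23], [58, 54, 44, 2, 17, 23, 11, 24]⟩, .loop 63 2 [61, 49, 47, 38, 28, 31, 17, 17, 23, 16] 4 5 [⟨[], 1481, false, [6, 10, 5, 6, 10, 5, 6, 2, 10]⟩, ⟨[23], 2178, false, [3, 6, 2, 6, 4, 6, 5]⟩] [⟨[23], 1417, false, [0, 10, 5, 6, 4, 5, 6, 2, 10, 5]⟩, ⟨[24], 1051, true, [3, 5, 6, 2, 10, 5, 6, 5, 10]⟩, ⟨[23], 1417, false, [1, 5, 3, 6, 2, 6, 4, 5, 3]⟩, ⟨[23], 1031, true, [1, 2, 10, 5, 3, 6, 4, 6, 2]⟩, ⟨[23], 1565, false, [2, 6, 5, 6, 10, 5, 6, 2, 4, 10]⟩]),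
  (⟨false, 10, 2, [67, 44, 48, 35, 29, 34, 16, 8, 17], [67, 49, 57, 36, 26, 26, 16, 16, 18, 21], [54, 35, 28, 35, 2, 17, 18]⟩, .loop 51 2 [61, 47, 44, 30, 32, 32, 2, 17, 23, 4, 20] 14 15 [⟨[], 171, false, [2, 5, 3, 6, 1, 4, 5, 3, 6, 5]⟩, ⟨[], 191, false, [0, 6, 5, 3, 5, 6, 4, 6]⟩, ⟨[], 104, false, [2, 10, 5, 6, 4, 5, 6, 4, 5]⟩, ⟨[], 191, false, [2, 6, 10, 5, 6, 4, 6]⟩, ⟨[], 198, false, [3, 5, 6, 1, 4, 10, 5, 6, 2, 4]⟩, ⟨[23, 24], 1752, false, [6, 2, 5, 6, 5, 6, 10, 5, 6]⟩, ⟨[1587, 1587], 2179, true, [0, 4, 5, 3, 6, 2, 6]⟩] []),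
  (⟨false, 2, 10, [60, 44, 42, 45, 34, 29, 41, 17, 23, 4], [58, 52, 44, 35, 30, 36, 16, 11, 16, 16], [66, 51, 55, 33, 31, 33, 2, 17, 17, 17, 10]⟩, .loop 29 10 [59, 55, 46, 28, 26, 30, 16, 21, 17] 6 7 [⟨[], 2185, false, [1, 2, 4, 6, 5, 3, 6, 2, 6, 4]⟩, ⟨[23], 1271, false, [0, 2, 3, 6, 5, 6, 4, 10, 5]⟩, ⟨[24, 23], 954, true, [1, 2, 3, 5, 6, 2, 4, 10, 5]⟩] []),
  (⟨false, 10, 2, [58, 48, 56, 35, 31, 32, 16, 2, 24], [58, 54, 46, 28, 30, 36, 2, 17, 17, 6, 24], [44, 51, 31, 29, 35, 17, 17, 17, 19]⟩, .loop 35 2 [62, 52, 30, 34, 34, 17, 22, 6, 22] 6 7 [⟨[], 1146, true, [1, 3, 5, 3, 6, 5, 10, 5, 6]⟩, ⟨[], 983, true, [1, 4, 6, 2, 6, 5, 6, 2, 4]⟩, ⟨[23], 2186, false, [5, 3, 6, 4, 6, 5, 6]⟩] []),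
  (⟨true, 10, 10, [228], [], [230]⟩, .coinc 2 [58, 54, 46, 28, 30, 36, 2, 17, 17, 6, 24] ⟨[23, 24, 23], 2186, false, [6, 1, 5, 6, 10, 5, 3, 6]⟩ ⟨[], 2187, true, []⟩),
  (⟨false, 4, 10, [45, 49, 31, 29, 37, 2, 23, 4, 19], [62, 49, 46, 38, 37, 16, 16, 16, 20], [59, 44, 55, 50, 38, 34, 2, 16, 6, 17, 17]⟩, .loop 65 2 [62, 54, 50, 33, 30, 32, 2, 17, 17, 13, 22] 4 5 [⟨[], 170, false, [1, 5, 6, 2, 6, 4, 10, 5, 3]⟩, ⟨[], 110, false, [5, 3, 6, 4, 5, 3]⟩] [⟨[23], 157, false, [5, 3, 6, 5, 6, 4, 10, 5, 10]⟩, ⟨[23], 172, false, [2, 10, 5, 3, 6, 5, 3]⟩, ⟨[23], 157, false, [1, 10, 5, 6, 2, 5, 3, 6, 4]⟩, ⟨[], 173, false, [0, 2, 3, 6, 5, 6, 4, 6, 2, 5]⟩, ⟨[], 2180, false, [0, 5, 6, 4, 5, 3, 5, 6, 5, 6]⟩]),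
  (⟨false, 10, 2, [66, 45, 56, 28, 34, 40, 17], [54, 56, 36, 35, 27, 16, 21, 16, 24], [63, 46, 48, 38, 32, 34, 16, 16, 24, 12]⟩, .loop 54 7 [60, 44, 48, 28, 26, 40, 38, 2, 23, 23, 25, 10] 8 9 [⟨[1587, 1587], 1607, false, [1, 6, 5, 3, 6, 4, 5, 10, 5, 6]⟩, ⟨[], 1091, true, [5, 6, 4, 10, 5, 6, 4, 6, 2, 4]⟩, ⟨[23, 24], 1051, true, [2, 6, 2, 10, 5, 6, 4, 5, 10]⟩, ⟨[23], 2178, false, [1, 4, 6, 5, 3, 6, 5, 3]⟩] [⟨[1549, 1549, 1583, 1549, 1549], 1565, true, [3, 6, 2]⟩, ⟨[24], 1051, true, [0, 3, 4, 5, 6, 2, 10, 5, 6, 4, 6]⟩, ⟨[], 1091, true, [6, 2, 10, 5, 6, 5, 3, 6, 4]⟩]),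
  (⟨true, 10, 10, [232], [], [234]⟩, .coinc 2 [54, 56, 36, 35, 27, 16, 21, 16, 24] ⟨[23], 2186, false, [6, 2, 4, 5, 6, 2, 6, 4, 5, 6, 10]⟩ ⟨[], 2190, true, []⟩),
  (⟨false, 2, 10, [46, 42, 51, 35, 28, 31, 16, 16, 2, 4, 24], [54, 56, 36, 28, 34, 16, 16, 8, 22, 21], [66, 50, 50, 36, 28, 38, 16, 16, 4, 16]⟩, .loop 34 10 [61, 47, 55, 31, 28, 38, 16, 16, 13, 24] 6 7 [⟨[2191, 2188], 2179, false, [5, 6, 1, 10, 5, 6, 2, 6, 5]⟩, ⟨[1587, 1587, 1583, 1549, 1549], 1733, true, [0, 2, 4, 5, 6, 5, 6, 2, 4]⟩, ⟨[23, 24, 23], 713, false, [2, 3, 6, 4, 6, 5, 6, 2]⟩] []),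
  (⟨false, 10, 10, [50, 49, 34, 26, 29, 16, 16, 24, 11], [67, 44, 43, 53, 31, 35, 2, 17, 22, 6], [58, 47, 53, 30, 30, 41, 16, 16, 2, 4, 23]⟩, .loop 71 4 [52, 49, 30, 26, 28, 17] 4 5 [⟨[61], 57, false, [0, 3, 6, 4, 5]⟩, ⟨[61], 2189, false, [6, 1, 5, 6, 4, 6, 2, 5]⟩] [⟨[30, 29, 27], 2189, false, [5, 3, 6, 2, 5, 6, 4, 6, 2]⟩]),
  (⟨false, 10, 7, [44, 42, 54, 28, 40, 30, 17, 23, 17], [60, 54, 43, 28, 40, 26, 16, 16, 11, 18], [46, 44, 54, 31, 28, 30, 16, 11, 16]⟩, .loop 32 7 [60, 47, 47, 52, 35, 40, 2, 17, 23, 21] 6 7 [⟨[1587], 1746, false, [2, 6, 5, 3, 6, 5, 10, 5, 6]⟩, ⟨[1583, 1583, 1587, 1587], 1670, false, [0, 5, 10, 5, 6, 4, 6, 4, 6]⟩, ⟨[24], 2185, true, [0, 2, 4, 6, 2, 6, 4, 5, 3]⟩] []),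
  (⟨false, 10, 7, [66, 45, 42, 51, 34, 26, 32, 16, 24, 16, 21], [48, 43, 38, 28, 41, 16, 10, 18, 23], [60, 52, 44, 36, 29, 33, 17, 22]⟩, .loop 19 7 [60, 45, 48, 31, 32, 2, 23, 23, 4] 6 7 [⟨[], 1672, false, [2, 3, 4, 5, 6, 4, 5, 6]⟩, ⟨[63], 73, false, [0, 4, 6, 5, 3, 5, 6]⟩, ⟨[29, 27], 2189, false, [1, 4, 5, 6, 2, 10, 5, 6, 5, 10]⟩] []),
  (⟨false, 10, 7, [67, 45, 42, 49, 28, 35, 27, 16, 10, 8, 16], [63, 46, 38, 32, 16, 18, 23], [46, 49, 28, 38, 30, 16, 16, 16, 11]⟩, .loop 20 2 [67, 44, 55, 52, 40, 35, 16, 25] 2 3 [⟨[], 2183, false, [2, 5, 6, 10, 5, 3, 6]⟩] [⟨[23], 88, false, [0, 5, 6, 4, 5, 3]⟩, ⟨[24], 1619, false, [4, 10, 5, 3, 6, 1, 2, 5, 6, 10]⟩])]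

end CfsgLib.Sporadic.ThPres
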