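import Cfsg.Agent.Lib.Sporadic.ThPres.FactsData0
import Cfsg.Agent.Lib.Sporadic.ThPres.FactsData1
import Cfsg.Agent.Lib.Sporadic.ThPres.FactsData2
import Cfsg.Agent.Lib.Sporadic.ThPres.FactsData3
import Cfsg.Agent.Lib.Sporadic.ThPres.FactsData4
import Cfsg.Agent.Lib.Sporadic.ThPres.FactsData5
import Cfsg.Agent.Lib.Sporadic.ThPres.FactsData6
import Cfsg.Agent.Lib.Sporadic.ThPres.FactsData7

set_option autoImplicit false
set_option maxRecDepth 20000

/-! Facts among double cosets (generated; owner: helper9). -/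

namespace CfsgLib.Sporadic.ThPres
open CfsgLib.Recog.SporBound (Q)

/-- the facts -/
noncomputable def factTree : Q (List (Fact × Why)) :=
  (.node (.node (.node (.node (.leaf facts0) (.leaf facts64) (.leaf []) (.leaf [])) (.node (.leaf facts16) (.leaf []) (.leaf []) (.leaf [])) (.node (.leaf facts32) (.leaf []) (.leaf []) (.leaf [])) (.node (.leaf facts48) (.leaf []) (.leaf []) (.leaf []))) (.node (.node (.leaf facts4) (.leaf facts68) (.leaf []) (.leaf [])) (.node (.leaf facts20) (.leaf []) (.leaf []) (.leaf [])) (.node (.leaf facts36) (.leaf []) (.leaf []) (.leaf [])) (.node (.leaf facts52) (.leaf []) (.leaf []) (.leaf []))) (.node (.node (.leaf facts8) (.leaf []) (.leaf []) (.leaf [])) (.node (.leaf facts24) (.leaf []) (.leaf []) (.leaf [])) (.node (.leaf facts40) (.leaf []) (.leaf []) (.leaf [])) (.node (.leaf facts56) (.leaf []) (.leaf []) (.leaf []))) (.node (.node (.leaf facts12) (.leaf [])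 (.leaf []) (.leaf [])) (.node (.leaf facts28) (.leaf []) (.leaf []) (.leaf [])) (.node (.leaf facts44) (.leaf []) (.leaf []) (.leaf [])) (.node (.leaf facts60) (.leaf []) (.leaf []) (.leaf [])))) (.node (.node (.node (.leaf facts1) (.leaf facts65) (.leaf []) (.leaf [])) (.node (.leaf facts17) (.leaf []) (.leaf []) (.leaf [])) (.node (.leaf facts33) (.leaf []) (.leaf []) (.leaf [])) (.node (.leaf facts49) (.leaf []) (.leaf []) (.leaf []))) (.node (.node (.leaf facts5) (.leaf []) (.leaf []) (.leaf [])) (.node (.leaf facts21) (.leaf []) (.leaf []) (.leaf [])) (.node (.leaf facts37) (.leaf []) (.leaf []) (.leaf [])) (.node (.leaf facts53) (.leaf []) (.leaf []) (.leaf []))) (.node (.node (.leaf facts9) (.leaf []) (.leaf []) (.leaf [])) (.node (.leaf facts25) (.leaf []) (.leaf []) (.leaf [])) (.node (.leaf facts41) (.leaf []) (.leaf []) (.leaf [])) (.node (.leaf facts57) (.leaf []) (.leaf []) (.leaf [])))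 (.node (.node (.leaf facts13) (.leaf []) (.leaf []) (.leaf [])) (.node (.leaf facts29) (.leaf []) (.leaf []) (.leaf [])) (.node (.leaf facts45) (.leaf []) (.leaf []) (.leaf [])) (.node (.leaf facts61) (.leaf []) (.leaf []) (.leaf [])))) (.node (.node (.node (.leaf facts2) (.leaf facts66) (.leaf []) (.leaf [])) (.node (.leaf facts18) (.leaf []) (.leaf []) (.leaf [])) (.node (.leaf facts34) (.leaf []) (.leaf []) (.leaf [])) (.node (.leaf facts50) (.leaf []) (.leaf []) (.leaf []))) (.node (.node (.leaf facts6) (.leaf []) (.leaf []) (.leaf [])) (.node (.leaf facts22) (.leaf []) (.leaf []) (.leaf [])) (.node (.leaf facts38) (.leaf []) (.leaf []) (.leaf [])) (.node (.leaf facts54) (.leaf []) (.leaf []) (.leaf []))) (.node (.node (.leaf facts10) (.leaf []) (.leaf []) (.leaf [])) (.node (.leaf facts26) (.leaf []) (.leaf []) (.leaf [])) (.node (.leaf facts42) (.leaf []) (.leaf []) (.leaf [])) (.node (.leaf facts58)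 (.leaf []) (.leaf []) (.leaf []))) (.node (.node (.leaf facts14) (.leaf []) (.leaf []) (.leaf [])) (.node (.leaf facts30) (.leaf []) (.leaf []) (.leaf [])) (.node (.leaf facts46) (.leaf []) (.leaf []) (.leaf [])) (.node (.leaf facts62) (.leaf []) (.leaf []) (.leaf [])))) (.node (.node (.node (.leaf facts3) (.leaf facts67) (.leaf []) (.leaf [])) (.node (.leaf facts19) (.leaf []) (.leaf []) (.leaf [])) (.node (.leaf facts35) (.leaf []) (.leaf []) (.leaf [])) (.node (.leaf facts51) (.leaf []) (.leaf []) (.leaf []))) (.node (.node (.leaf facts7) (.leaf []) (.leaf []) (.leaf [])) (.node (.leaf facts23) (.leaf []) (.leaf []) (.leaf [])) (.node (.leaf facts39) (.leaf []) (.leaf []) (.leaf [])) (.node (.leaf facts55) (.leaf []) (.leaf []) (.leaf []))) (.node (.node (.leaf facts11) (.leaf []) (.leaf []) (.leaf [])) (.node (.leaf facts27) (.leaf []) (.leaf []) (.leaf [])) (.node (.leaf facts43) (.leaf []) (.leaf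 []) (.leaf [])) (.node (.leaf facts59) (.leaf []) (.leaf []) (.leaf []))) (.node (.node (.leaf facts15) (.leaf []) (.leaf []) (.leaf [])) (.node (.leaf facts31) (.leaf []) (.leaf []) (.leaf [])) (.node (.leaf facts47) (.leaf []) (.leaf []) (.leaf [])) (.node (.leaf facts63) (.leaf []) (.leaf []) (.leaf [])))))

/-- the representatives -/
def reps : List (List (Option (List ℕ))) := [
  [],
  [some [], none],
  [some [], none, some [66, 49, 56, 30, 30, 36, 2], none],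
  [some [], none, some [49, 57, 33, 29, 16, 2, 24, 6], none],
  [some [], none, some [66, 51, 49, 31, 28, 35, 16, 10, 16, 25], none],
  [some [], none, some [59, 44, 51, 46, 28, 41, 35, 2], none],
  [some [], none, some [2], none],
  [some [], none, some [66, 49, 56, 30, 30, 36, 2], none, some [66, 50, 49, 28, 16, 4, 16, 19, 6], none],
  [some [], none, some [66, 49, 56, 30, 30, 36, 2], none, some [63, 46, 42, 51, 30, 37, 35, 2], none],
  [some [], none, some [66, 49, 56, 30, 30, 36, 2], none, some [59, 51, 31, 32, 36, 2, 23], none],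
  [some [], none, some [66, 49, 56, 30, 30, 36, 2], none, some [59, 47, 53, 28, 31, 35, 2], none]]

/-- the loops -/
def loops : List Loop := [
  ⟨[14, 14, 5, 1], false, 0, [none, some [], none, some [5, 1]]⟩,
  ⟨[14, 14, 5, 1], false, 1, [none, some [5, 1], none, some []]⟩,
  ⟨[14, 14, 5, 1], true, 2, [none, some [5, 1], none, some [5, 1, 0, 4]]⟩,
  ⟨[14, 14, 5, 1], true, 5, [none, some [5, 1, 0, 4], none, some [5, 1]]⟩,
  ⟨[15, 1, 14, 0], false, 0, [none, some [5, 1, 1], none, some [0]]⟩,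
  ⟨[15, 1, 14, 0], false, 4, [none, some [0], none, some [5, 1, 1]]⟩,
  ⟨[15, 1, 14, 0], true, 1, [none, some [5, 1, 0], none, some [1]]⟩,
  ⟨[15, 1, 14, 0], true, 5, [none, some [1], none, some [5, 1, 0]]⟩,
  ⟨[15, 5, 14, 4], false, 0, [none, some [5, 1, 5], none, some [4]]⟩,
  ⟨[15, 5, 14, 4], false, 4, [none, some [4], none, some [5, 1, 5]]⟩,
  ⟨[15, 5, 14, 4], true, 1, [none, some [5, 1, 4], none, some [5]]⟩,
  ⟨[15, 5, 14, 4], true, 5, [none, some [5], none, some [5, 1, 4]]⟩,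
  ⟨[15, 9, 14, 8], false, 0, [none, some [5, 1, 9], none, some [8]]⟩,
  ⟨[15, 9, 14, 8], false, 4, [none, some [8], none, some [5, 1, 9]]⟩,
  ⟨[15, 9, 14, 8], true, 1, [none, some [5, 1, 8], none, some [9]]⟩,
  ⟨[15, 9, 14, 8], true, 5, [none, some [9], none, some [5, 1, 8]]⟩,
  ⟨[6, 8, 15, 6, 14, 6, 8, 15, 6, 14], false, 2, [none, some [5, 1, 6], none, some [6, 8], none, some [5, 1, 6], none, some [6, 8]]⟩,
  ⟨[6, 8, 15, 6, 14, 6, 8, 15, 6, 14], false, 6, [none, some [6, 8], none, some [5, 1, 6], none, some [6, 8], none, some [5, 1, 6]]⟩,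
  ⟨[6, 8, 15, 6, 14, 6, 8, 15, 6, 14], false, 9, [none, some [5, 1, 6], none, some [6, 8], none, some [5, 1, 6], none, some [6, 8]]⟩,
  ⟨[6, 8, 15, 6, 14, 6, 8, 15, 6, 14], false, 13, [none, some [6, 8], none, some [5, 1, 6], none, some [6, 8], none, some [5, 1, 6]]⟩,
  ⟨[6, 8, 15, 6, 14, 6, 8, 15, 6, 14], true, 0, [none, some [5, 1, 7], none, some [9, 7], none, some [5, 1, 7], none, some [9, 7]]⟩,
  ⟨[6, 8, 15, 6, 14, 6, 8, 15, 6, 14], true, 4, [none, some [9, 7], none, some [5, 1, 7], none, some [9, 7], none, some [5, 1, 7]]⟩,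
  ⟨[6, 8, 15, 6, 14, 6, 8, 15, 6, 14], true, 7, [none, some [5, 1, 7], none, some [9, 7], none, some [5, 1, 7], none, some [9, 7]]⟩,
  ⟨[6, 8, 15, 6, 14, 6, 8, 15, 6, 14], true, 11, [none, some [9, 7], none, some [5, 1, 7], none, some [9, 7], none, some [5, 1, 7]]⟩,
  ⟨[15, 3, 5, 1, 2, 14, 3, 0, 4, 2, 9], false, 0, [none, some [5, 1, 3, 5, 1, 2], none, some [3, 0, 4, 2, 9]]⟩,
  ⟨[15, 3, 5, 1, 2, 14, 3, 0, 4, 2, 9], false, 7, [none, some [3, 0, 4, 2, 9], none, some [5, 1, 3, 5, 1, 2]]⟩,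
  ⟨[15, 3, 5, 1, 2, 14, 3, 0, 4, 2, 9], true, 5, [none, some [5, 1, 3, 0, 4, 2], none, some [8, 3, 5, 1, 2]]⟩,
  ⟨[15, 3, 5, 1, 2, 14, 3, 0, 4, 2, 9], true, 12, [none, some [8, 3, 5, 1, 2], none, some [5, 1, 3, 0, 4, 2]]⟩,
  ⟨[7, 15, 6, 3, 5, 1, 2, 7, 14, 6, 3, 0, 4, 2, 5, 9, 7, 15, 6, 3, 5, 1, 2, 9, 15], false, 1, [none, some [5, 1, 6, 3, 5, 1, 2, 7], none, some [6, 3, 0, 4, 2, 5, 9, 7], none, some [5, 1, 6, 3, 5, 1, 2, 9], none, some [5, 1, 7]]⟩,
  ⟨[7, 15, 6, 3, 5, 1, 2, 7, 14, 6, 3, 0, 4, 2, 5, 9, 7, 15, 6, 3, 5, 1, 2, 9, 15], false, 10, [none, some [6, 3, 0, 4, 2, 5, 9, 7], none, some [5, 1, 6, 3, 5, 1, 2, 9], none, some [5, 1, 7], none, some [5, 1, 6, 3, 5, 1, 2, 7]]⟩,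
  ⟨[7, 15, 6, 3, 5, 1, 2, 7, 14, 6, 3, 0, 4, 2, 5, 9, 7, 15, 6, 3, 5, 1, 2, 9, 15], false, 19, [none, some [5, 1, 6, 3, 5, 1, 2, 9], none, some [5, 1, 7], none, some [5, 1, 6, 3, 5, 1, 2, 7], none, some [6, 3, 0, 4, 2, 5, 9, 7]]⟩,
  ⟨[7, 15, 6, 3, 5, 1, 2, 7, 14, 6, 3, 0, 4, 2, 5, 9, 7, 15, 6, 3, 5, 1, 2, 9, 15], false, 28, [none, some [5, 1, 7], none, some [5, 1, 6, 3, 5, 1, 2, 7], none, some [6, 3, 0, 4, 2, 5, 9, 7], none, some [5, 1, 6, 3, 5, 1, 2, 9]]⟩,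
  ⟨[7, 15, 6, 3, 5, 1, 2, 7, 14, 6, 3, 0, 4, 2, 5, 9, 7, 15, 6, 3, 5, 1, 2, 9, 15], true, 0, [none, some [8, 3, 0, 4, 2, 7], none, some [6, 8, 4, 3, 5, 1, 2, 7], none, some [5, 1, 6, 3, 0, 4, 2, 7], none, some [6]]⟩,
  ⟨[7, 15, 6, 3, 5, 1, 2, 7, 14, 6, 3, 0, 4, 2, 5, 9, 7, 15, 6, 3, 5, 1, 2, 9, 15], true, 7, [none, some [6, 8, 4, 3, 5, 1, 2, 7], none, some [5, 1, 6, 3, 0, 4, 2, 7], none, some [6], none, some [8, 3, 0, 4, 2, 7]]⟩,
  ⟨[7, 15, 6, 3, 5, 1, 2, 7, 14, 6, 3, 0, 4, 2, 5, 9, 7, 15, 6, 3, 5, 1, 2, 9, 15], true, 16, [none, some [5, 1, 6, 3, 0, 4, 2, 7], none, some [6], none, some [8, 3, 0, 4, 2, 7], none, some [6, 8, 4, 3, 5, 1, 2, 7]]⟩,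
  ⟨[7, 15, 6, 3, 5, 1, 2, 7, 14, 6, 3, 0, 4, 2, 5, 9, 7, 15, 6, 3, 5, 1, 2, 9, 15], true, 25, [none, some [6], none, some [8, 3, 0, 4, 2, 7], none, some [6, 8, 4, 3, 5, 1, 2, 7], none, some [5, 1, 6, 3, 0, 4, 2, 7]]⟩,
  ⟨[15, 12, 14, 12], false, 0, [none, some [5, 1, 12], none, some [12]]⟩,
  ⟨[15, 12, 14, 12], false, 4, [none, some [12], none, some [5, 1, 12]]⟩,
  ⟨[15, 12, 14, 12], true, 1, [none, some [5, 1, 13], none, some [13]]⟩,
  ⟨[15, 12, 14, 12], true, 5, [none, some [13], none, some [5, 1, 13]]⟩,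
  ⟨[9, 11, 11, 15, 10, 10, 8, 11, 11, 14, 10, 10], false, 3, [none, some [5, 1, 10, 10, 8, 11, 11], none, some [10, 10, 9, 11, 11]]⟩,
  ⟨[9, 11, 11, 15, 10, 10, 8, 11, 11, 14, 10, 10], false, 11, [none, some [10, 10, 9, 11, 11], none, some [5, 1, 10, 10, 8, 11, 11]]⟩,
  ⟨[9, 11, 11, 15, 10, 10, 8, 11, 11, 14, 10, 10], true, 2, [none, some [5, 1, 10, 10, 9, 11, 11], none, some [10, 10, 8, 11, 11]]⟩,
  ⟨[9, 11, 11, 15, 10, 10, 8, 11, 11, 14, 10, 10], true, 10, [none, some [10, 10, 8, 11, 11], none, some [5, 1, 10, 10, 9, 11, 11]]⟩,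
  ⟨[0, 4, 11, 15, 11, 15, 11, 15], false, 3, [none, some [5, 1, 11], none, some [5, 1, 11], none, some [5, 1, 0, 4, 11]]⟩,
  ⟨[0, 4, 11, 15, 11, 15, 11, 15], false, 7, [none, some [5, 1, 11], none, some [5, 1, 0, 4, 11], none, some [5, 1, 11]]⟩,
  ⟨[0, 4, 11, 15, 11, 15, 11, 15], false, 11, [none, some [5, 1, 0, 4, 11], none, some [5, 1, 11], none, some [5, 1, 11]]⟩,
  ⟨[0, 4, 11, 15, 11, 15, 11, 15], true, 0, [none, some [10], none, some [10], none, some [10, 5, 1]]⟩,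
  ⟨[0, 4, 11, 15, 11, 15, 11, 15], true, 2, [none, some [10], none, some [10, 5, 1], none, some [10]]⟩,
  ⟨[0, 4, 11, 15, 11, 15, 11, 15], true, 4, [none, some [10, 5, 1], none, some [10], none, some [10]]⟩,
  ⟨[0, 4, 11, 15, 10, 14, 11, 15, 10, 14, 11, 15, 10, 14, 11, 15, 10, 14], false, 3, [none, some [5, 1, 10], none, some [11], none, some [5, 1, 10], none, some [11], none, some [5, 1, 10], none, some [11], none, some [5, 1, 10], none, some [0, 4, 11]]⟩,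
  ⟨[0, 4, 11, 15, 10, 14, 11, 15, 10, 14, 11, 15, 10, 14, 11, 15, 10, 14], false, 7, [none, some [11], none, some [5, 1, 10], none, some [11], none, some [5, 1, 10], none, some [11], none, some [5, 1, 10], none, some [0, 4, 11], none, some [5, 1, 10]]⟩,
  ⟨[0, 4, 11, 15, 10, 14, 11, 15, 10, 14, 11, 15, 10, 14, 11, 15, 10, 14], false, 9, [none, some [5, 1, 10], none, some [11], none, some [5, 1, 10], none, some [11], none, some [5, 1, 10], none, some [0, 4, 11], none, some [5, 1, 10], none, some [11]]⟩,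
  ⟨[0, 4, 11, 15, 10, 14, 11, 15, 10, 14, 11, 15, 10, 14, 11, 15, 10, 14], false, 13, [none, some [11], none, some [5, 1, 10], none, some [11], none, some [5, 1, 10], none, some [0, 4, 11], none, some [5, 1, 10], none, some [11], none, some [5, 1, 10]]⟩,
  ⟨[0, 4, 11, 15, 10, 14, 11, 15, 10, 14, 11, 15, 10, 14, 11, 15, 10, 14], false, 15, [none, some [5, 1, 10], none, some [11], none, some [5, 1, 10], none, some [0, 4, 11], none, some [5, 1, 10], none, some [11], none, some [5, 1, 10], none, some [11]]⟩,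
  ⟨[0, 4, 11, 15, 10, 14, 11, 15, 10, 14, 11, 15, 10, 14, 11, 15, 10, 14], false, 19, [none, some [11], none, some [5, 1, 10], none, some [0, 4, 11], none, some [5, 1, 10], none, some [11], none, some [5, 1, 10], none, some [11], none, some [5, 1, 10]]⟩,
  ⟨[0, 4, 11, 15, 10, 14, 11, 15, 10, 14, 11, 15, 10, 14, 11, 15, 10, 14], false, 21, [none, some [5, 1, 10], none, some [0, 4, 11], none, some [5, 1, 10], none, some [11], none, some [5, 1, 10], none, some [11], none, some [5, 1, 10], none, some [11]]⟩,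
  ⟨[0, 4, 11, 15, 10, 14, 11, 15, 10, 14, 11, 15, 10, 14, 11, 15, 10, 14], false, 25, [none, some [0, 4, 11], none, some [5, 1, 10], none, some [11], none, some [5, 1, 10], none, some [11], none, some [5, 1, 10], none, some [11], none, some [5, 1, 10]]⟩,
  ⟨[0, 4, 11, 15, 10, 14, 11, 15, 10, 14, 11, 15, 10, 14, 11, 15, 10, 14], true, 0, [none, some [5, 1, 11], none, some [10], none, some [5, 1, 11], none, some [10], none, some [5, 1, 11], none, some [10], none, some [5, 1, 11], none, some [10, 5, 1]]⟩,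
  ⟨[0, 4, 11, 15, 10, 14, 11, 15, 10, 14, 11, 15, 10, 14, 11, 15, 10, 14], true, 4, [none, some [10], none, some [5, 1, 11], none, some [10], none, some [5, 1, 11], none, some [10], none, some [5, 1, 11], none, some [10, 5, 1], none, some [5, 1, 11]]⟩,
  ⟨[0, 4, 11, 15, 10, 14, 11, 15, 10, 14, 11, 15, 10, 14, 11, 15, 10, 14], true, 6, [none, some [5, 1, 11], none, some [10], none, some [5, 1, 11], none, some [10], none, some [5, 1, 11], none, some [10, 5, 1], none, some [5, 1, 11], none, some [10]]⟩,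
  ⟨[0, 4, 11, 15, 10, 14, 11, 15, 10, 14, 11, 15, 10, 14, 11, 15, 10, 14], true, 10, [none, some [10], none, some [5, 1, 11], none, some [10], none, some [5, 1, 11], none, some [10, 5, 1], none, some [5, 1, 11], none, some [10], none, some [5, 1, 11]]⟩,
  ⟨[0, 4, 11, 15, 10, 14, 11, 15, 10, 14, 11, 15, 10, 14, 11, 15, 10, 14], true, 12, [none, some [5, 1, 11], none, some [10], none, some [5, 1, 11], none, some [10, 5, 1], none, some [5, 1, 11], none, some [10], none, some [5, 1, 11], none, some [10]]⟩,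
  ⟨[0, 4, 11, 15, 10, 14, 11, 15, 10, 14, 11, 15, 10, 14, 11, 15, 10, 14], true, 16, [none, some [10], none, some [5, 1, 11], none, some [10, 5, 1], none, some [5, 1, 11], none, some [10], none, some [5, 1, 11], none, some [10], none, some [5, 1, 11]]⟩,
  ⟨[0, 4, 11, 15, 10, 14, 11, 15, 10, 14, 11, 15, 10, 14, 11, 15, 10, 14], true, 18, [none, some [5, 1, 11], none, some [10, 5, 1], none, some [5, 1, 11], none, some [10], none, some [5, 1, 11], none, some [10], none, some [5, 1, 11], none, some [10]]⟩,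
  ⟨[0, 4, 11, 15, 10, 14, 11, 15, 10, 14, 11, 15, 10, 14, 11, 15, 10, 14], true, 22, [none, some [10, 5, 1], none, some [5, 1, 11], none, some [10], none, some [5, 1, 11], none, some [10], none, some [5, 1, 11], none, some [10], none, some [5, 1, 11]]⟩,
  ⟨[6, 11, 11, 14, 10, 10, 6, 11, 11, 14, 10, 10, 6, 11, 11, 14, 10, 10, 6, 11, 11, 14, 10, 10, 11, 11, 9, 7, 5, 6, 8, 10, 10, 10, 9, 7, 5, 6, 8, 11, 7, 5, 6, 5, 1], false, 3, [none, some [10, 10, 6, 11, 11], none, some [10, 10, 6, 11, 11], none, some [10, 10, 6, 11, 11], none, some [10, 10, 11, 11, 9, 7, 5, 6, 8, 10, 10, 10, 9, 7, 5, 6, 8, 11, 7, 5, 6, 5, 1, 6, 11, 11]]⟩,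
  ⟨[6, 11, 11, 14, 10, 10, 6, 11, 11, 14, 10, 10, 6, 11, 11, 14, 10, 10, 6, 11, 11, 14, 10, 10, 11, 11, 9, 7, 5, 6, 8, 10, 10, 10, 9, 7, 5, 6, 8, 11, 7, 5, 6, 5, 1], false, 9, [none, some [10, 10, 6, 11, 11], none, some [10, 10, 6, 11, 11], none, some [10, 10, 11, 11, 9, 7, 5, 6, 8, 10, 10, 10, 9, 7, 5, 6, 8, 11, 7, 5, 6, 5, 1, 6, 11, 11], none, some [10, 10, 6, 11, 11]]⟩,
  ⟨[6, 11, 11, 14, 10, 10, 6, 11, 11, 14, 10, 10, 6, 11, 11, 14, 10, 10, 6, 11, 11, 14, 10, 10, 11, 11, 9, 7, 5, 6, 8, 10, 10, 10, 9, 7, 5, 6, 8, 11, 7, 5, 6, 5, 1], false, 15, [none, some [10, 10, 6, 11, 11], none, some [10, 10, 11, 11, 9, 7, 5, 6, 8, 10, 10, 10, 9, 7, 5, 6, 8, 11, 7, 5, 6, 5, 1, 6, 11, 11], none, some [10, 10, 6, 11, 11], none, some [10, 10, 6, 11, 11]]⟩,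
  ⟨[6, 11, 11, 14, 10, 10, 6, 11, 11, 14, 10, 10, 6, 11, 11, 14, 10, 10, 6, 11, 11, 14, 10, 10, 11, 11, 9, 7, 5, 6, 8, 10, 10, 10, 9, 7, 5, 6, 8, 11, 7, 5, 6, 5, 1], false, 21, [none, some [10, 10, 11, 11, 9, 7, 5, 6, 8, 10, 10, 10, 9, 7, 5, 6, 8, 11, 7, 5, 6, 5, 1, 6, 11, 11], none, some [10, 10, 6, 11, 11], none, some [10, 10, 6, 11, 11], none, some [10, 10, 6, 11, 11]]⟩,
  ⟨[6, 11, 11, 14, 10, 10, 6, 11, 11, 14, 10, 10, 6, 11, 11, 14, 10, 10, 6, 11, 11, 14, 10, 10, 11, 11, 9, 7, 5, 6, 8, 10, 10, 10, 9, 7, 5, 6, 8, 11, 7, 5, 6, 5, 1], true, 23, [none, some [5, 1, 10, 10, 7, 11, 11], none, some [5, 1, 10, 10, 7, 11, 11], none, some [5, 1, 10, 10, 7, 11, 11], none, some [5, 1, 10, 10, 7, 0, 4, 7, 4, 6, 10, 9, 7, 4, 6, 8, 11, 11, 11, 9, 7, 4, 6, 8, 10, 10, 11, 11]]⟩,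
  ⟨[6, 11, 11, 14, 10, 10, 6, 11, 11, 14, 10, 10, 6, 11, 11, 14, 10, 10, 6, 11, 11, 14, 10, 10, 11, 11, 9, 7, 5, 6, 8, 10, 10, 10, 9, 7, 5, 6, 8, 11, 7, 5, 6, 5, 1], true, 31, [none, some [5, 1, 10, 10, 7, 11, 11], none, some [5, 1, 10, 10, 7, 11, 11], none, some [5, 1, 10, 10, 7, 0, 4, 7, 4, 6, 10, 9, 7, 4, 6, 8, 11, 11, 11, 9, 7, 4, 6, 8, 10, 10, 11, 11], none, some [5, 1, 10, 10, 7, 11, 11]]⟩,
  ⟨[6, 11, 11, 14, 10, 10, 6, 11, 11, 14, 10, 10, 6, 11, 11, 14, 10, 10, 6, 11, 11, 14, 10, 10, 11, 11, 9, 7, 5, 6, 8, 10, 10, 10, 9, 7, 5, 6, 8, 11, 7, 5, 6, 5, 1], true, 39, [none, some [5, 1, 10, 10, 7, 11, 11], none, some [5, 1, 10, 10, 7, 0, 4, 7, 4, 6, 10, 9, 7, 4, 6, 8, 11, 11, 11, 9, 7, 4, 6, 8, 10, 10, 11, 11], none, some [5, 1, 10, 10, 7, 11, 11], none, some [5, 1, 10, 10, 7, 11, 11]]⟩,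
  ⟨[6, 11, 11, 14, 10, 10, 6, 11, 11, 14, 10, 10, 6, 11, 11, 14, 10, 10, 6, 11, 11, 14, 10, 10, 11, 11, 9, 7, 5, 6, 8, 10, 10, 10, 9, 7, 5, 6, 8, 11, 7, 5, 6, 5, 1], true, 47, [none, some [5, 1, 10, 10, 7, 0, 4, 7, 4, 6, 10, 9, 7, 4, 6, 8, 11, 11, 11, 9, 7, 4, 6, 8, 10, 10, 11, 11], none, some [5, 1, 10, 10, 7, 11, 11], none, some [5, 1, 10, 10, 7, 11, 11], none, some [5, 1, 10, 10, 7, 11, 11]]⟩]

end CfsgLib.Sporadic.ThPres
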