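import Cfsg.Agent.Lib.Sporadic.ThPres.CoverDefs
import Cfsg.Agent.Lib.Sporadic.ThPres.CoverData1
import Cfsg.Agent.Lib.Sporadic.ThPres.Facts

set_option autoImplicit false
set_option maxRecDepth 20000
set_option Elab.async false

/-! The states are covered for one double coset (owner: helper9). -/

namespace CfsgLib.Sporadic.ThPres

/-- the cover of a double coset -/
noncomputable def cover1 : Cover := ⟨cvPts1, cvIdx1, cvCode1, cvGens1, cvEdges1, 12⟩

theorem cover1_steps0 : cover1.stepsPart 12 8594 = true := by decide +kernel

theorem cover1_steps1 : cover1.stepsPart 8606 8593 = true := by decide +kernel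

theorem cover1_low : (Nat.ble cover1.ne 17199 && cover1.gensOK factTree 2197 1) = true := by decide +kernel

theorem cover1_edges : CfsgLib.ThreeTrans.CosetIndex.forallFrom (cover1.edgeOK factTree 2197 1) 0 12 = true := by decide +kernel

theorem cover1_idx : CfsgLib.ThreeTrans.CosetIndex.forallFrom cover1.idxOK 0 17199 = true := by decide +kernel

theorem cover1_ok : cover1.ok factTree 2197 1 = true := by
  have h0 := cover1_steps0
  have h1 : cover1.stepsPart 12 17187 = true := cover1.stepsPart_cat h0 cover1_steps1 rfl rfl
  have hl := Bool.and_eq_true_iff.1 cover1_low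
  exact cover1.ok_intro _ _ _ hl.1 hl.2 cover1_edges h1
    cover1_idx

end CfsgLib.Sporadic.ThPres
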