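import Cfsg.Agent.Lib.Sporadic.ThPres.CoverDefs
import Cfsg.Agent.Lib.Sporadic.ThPres.CoverData2
import Cfsg.Agent.Lib.Sporadic.ThPres.Facts

set_option autoImplicit false
set_option maxRecDepth 20000
set_option Elab.async false

/-! The states are covered for one double coset (owner: helper9). -/

namespace CfsgLib.Sporadic.ThPres

/-- the cover of a double coset -/
noncomputable def cover2 : Cover := ⟨cvPts2, cvIdx2, cvCode2, cvGens2, cvEdges2, 2975⟩

theorem cover2_steps0 : cover2.stepsPart 2975 3556 = true := by decide +kernel

theorem cover2_steps1 : cover2.stepsPart 6531 3556 = true := by decide +kernel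

theorem cover2_steps2 : cover2.stepsPart 10087 3556 = true := by decide +kernel

theorem cover2_steps3 : cover2.stepsPart 13643 3556 = true := by decide +kernel

theorem cover2_low : (Nat.ble cover2.ne 17199 && cover2.gensOK factTree 2197 2) = true := by decide +kernel

theorem cover2_edges : CfsgLib.ThreeTrans.CosetIndex.forallFrom (cover2.edgeOK factTree 2197 2) 0 2975 = true := by decide +kernel

theorem cover2_idx : CfsgLib.ThreeTrans.CosetIndex.forallFrom cover2.idxOK 0 17199 = true := by decide +kernel

theorem cover2_ok : cover2.ok factTree 2197 2 = true := by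
  have h0 := cover2_steps0
  have h1 : cover2.stepsPart 2975 7112 = true := cover2.stepsPart_cat h0 cover2_steps1 rfl rfl
  have h2 : cover2.stepsPart 2975 10668 = true := cover2.stepsPart_cat h1 cover2_steps2 rfl rfl
  have h3 : cover2.stepsPart 2975 14224 = true := cover2.stepsPart_cat h2 cover2_steps3 rfl rfl
  have hl := Bool.and_eq_true_iff.1 cover2_low
  exact cover2.ok_intro _ _ _ hl.1 hl.2 cover2_edges h3
    cover2_idx

end CfsgLib.Sporadic.ThPres
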