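import Cfsg.Agent.Lib.Sporadic.ThPres.CoverDefs
import Cfsg.Agent.Lib.Sporadic.ThPres.CoverData0
import Cfsg.Agent.Lib.Sporadic.ThPres.Facts

set_option autoImplicit false
set_option maxRecDepth 20000
set_option Elab.async false

/-! The states are covered for one double coset (owner: helper9). -/

namespace CfsgLib.Sporadic.ThPres

/-- the cover of a double coset -/
noncomputable def cover0 : Cover := ⟨cvPts0, cvIdx0, cvCode0, cvGens0, cvEdges0, 1⟩

theorem cover0_steps0 : cover0.stepsPart 1 17198 = true := by decide +kernel

theorem cover0_low : (Nat.ble cover0.ne 17199 && cover0.gensOK factTree 2197 0) = true := by decide +kernel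

theorem cover0_edges : CfsgLib.ThreeTrans.CosetIndex.forallFrom (cover0.edgeOK factTree 2197 0) 0 1 = true := by decide +kernel

theorem cover0_idx : CfsgLib.ThreeTrans.CosetIndex.forallFrom cover0.idxOK 0 17199 = true := by decide +kernel

theorem cover0_ok : cover0.ok factTree 2197 0 = true := by
  have h0 := cover0_steps0
  have hl := Bool.and_eq_true_iff.1 cover0_low
  exact cover0.ok_intro _ _ _ hl.1 hl.2 cover0_edges h0
    cover0_idx

end CfsgLib.Sporadic.ThPres
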