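import Cfsg.Agent.Lib.Sporadic.ThPres.CoverDefs
import Cfsg.Agent.Lib.Sporadic.ThPres.CoverCheck0
import Cfsg.Agent.Lib.Sporadic.ThPres.CoverData3
import Cfsg.Agent.Lib.Sporadic.ThPres.Facts

set_option autoImplicit false
set_option maxRecDepth 20000
set_option Elab.async false

/-! The states are covered for one double coset (owner: helper9). -/

namespace CfsgLib.Sporadic.ThPres

/-- the cover of a double coset -/
noncomputable def cover3 : Cover := ⟨cvPts3, cvIdx3, cvCode3, cvGens3, cvEdges3, 56⟩

theorem cover3_steps0 : cover3.stepsPart 56 1905 = true := by decide +kernel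

theorem cover3_steps1 : cover3.stepsPart 1961 1905 = true := by decide +kernel

theorem cover3_steps2 : cover3.stepsPart 3866 1905 = true := by decide +kernel

theorem cover3_steps3 : cover3.stepsPart 5771 1905 = true := by decide +kernel

theorem cover3_steps4 : cover3.stepsPart 7676 1905 = true := by decide +kernel

theorem cover3_steps5 : cover3.stepsPart 9581 1905 = true := by decide +kernel

theorem cover3_steps6 : cover3.stepsPart 11486 1905 = true := by decide +kernel

theorem cover3_steps7 : cover3.stepsPart 13391 1905 = true := by decide +kernel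

theorem cover3_steps8 : cover3.stepsPart 15296 1903 = true := by decide +kernel

theorem cover3_low : (Nat.ble cover3.ne 17199 && cover3.gensOK factTree 2197 3) = true := by decide +kernel

theorem cover3_edges : CfsgLib.ThreeTrans.CosetIndex.forallFrom (cover3.edgeOK factTree 2197 3) 0 56 = true := by decide +kernel

theorem cover3_idx : CfsgLib.ThreeTrans.CosetIndex.forallFrom cover3.idxOK 0 17199 = true := by decide +kernel

theorem cover3_ok : cover3.ok factTree 2197 3 = true := by
  have h0 := cover3_steps0
  have h1 : cover3.stepsPart 56 3810 = true := cover3.stepsPart_cat h0 cover3_steps1 rfl rfl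
  have h2 : cover3.stepsPart 56 5715 = true := cover3.stepsPart_cat h1 cover3_steps2 rfl rfl
  have h3 : cover3.stepsPart 56 7620 = true := cover3.stepsPart_cat h2 cover3_steps3 rfl rfl
  have h4 : cover3.stepsPart 56 9525 = true := cover3.stepsPart_cat h3 cover3_steps4 rfl rfl
  have h5 : cover3.stepsPart 56 11430 = true := cover3.stepsPart_cat h4 cover3_steps5 rfl rfl
  have h6 : cover3.stepsPart 56 13335 = true := cover3.stepsPart_cat h5 cover3_steps6 rfl rfl
  have h7 : cover3.stepsPart 56 15240 = true := cover3.stepsPart_cat h6 cover3_steps7 rfl rfl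
  have h8 : cover3.stepsPart 56 17143 = true := cover3.stepsPart_cat h7 cover3_steps8 rfl rfl
  have hl := Bool.and_eq_true_iff.1 cover3_low
  exact cover3.ok_intro _ _ _ hl.1 hl.2 cover3_edges h8
    cover3_idx

end CfsgLib.Sporadic.ThPres
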