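import Cfsg.Agent.Lib.Sporadic.ThPres.CoverDefs
import Cfsg.Agent.Lib.Sporadic.ThPres.CoverCheck1
import Cfsg.Agent.Lib.Sporadic.ThPres.CoverData4
import Cfsg.Agent.Lib.Sporadic.ThPres.Facts

set_option autoImplicit false
set_option maxRecDepth 20000
set_option Elab.async false

/-! The states are covered for one double coset (owner: helper9). -/

namespace CfsgLib.Sporadic.ThPres

/-- the cover of a double coset -/
noncomputable def cover4 : Cover := ⟨cvPts4, cvIdx4, cvCode4, cvGens4, cvEdges4, 100⟩

theorem cover4_steps0 : cover4.stepsPart 100 2443 = true := by decide +kernel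

theorem cover4_steps1 : cover4.stepsPart 2543 2443 = true := by decide +kernel

theorem cover4_steps2 : cover4.stepsPart 4986 2443 = true := by decide +kernel

theorem cover4_steps3 : cover4.stepsPart 7429 2443 = true := by decide +kernel

theorem cover4_steps4 : cover4.stepsPart 9872 2443 = true := by decide +kernel

theorem cover4_steps5 : cover4.stepsPart 12315 2443 = true := by decide +kernel

theorem cover4_steps6 : cover4.stepsPart 14758 2441 = true := by decide +kernel

theorem cover4_low : (Nat.ble cover4.ne 17199 && cover4.gensOK factTree 2197 4) = true := by decide +kernel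

theorem cover4_edges : CfsgLib.ThreeTrans.CosetIndex.forallFrom (cover4.edgeOK factTree 2197 4) 0 100 = true := by decide +kernel

theorem cover4_idx : CfsgLib.ThreeTrans.CosetIndex.forallFrom cover4.idxOK 0 17199 = true := by decide +kernel

theorem cover4_ok : cover4.ok factTree 2197 4 = true := by
  have h0 := cover4_steps0
  have h1 : cover4.stepsPart 100 4886 = true := cover4.stepsPart_cat h0 cover4_steps1 rfl rfl
  have h2 : cover4.stepsPart 100 7329 = true := cover4.stepsPart_cat h1 cover4_steps2 rfl rfl
  have h3 : cover4.stepsPart 100 9772 = true := cover4.stepsPart_cat h2 cover4_steps3 rfl rfl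
  have h4 : cover4.stepsPart 100 12215 = true := cover4.stepsPart_cat h3 cover4_steps4 rfl rfl
  have h5 : cover4.stepsPart 100 14658 = true := cover4.stepsPart_cat h4 cover4_steps5 rfl rfl
  have h6 : cover4.stepsPart 100 17099 = true := cover4.stepsPart_cat h5 cover4_steps6 rfl rfl
  have hl := Bool.and_eq_true_iff.1 cover4_low
  exact cover4.ok_intro _ _ _ hl.1 hl.2 cover4_edges h6
    cover4_idx

end CfsgLib.Sporadic.ThPres
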