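import Cfsg.Agent.Lib.Sporadic.ThPres.CoverDefs
import Cfsg.Agent.Lib.Sporadic.ThPres.CoverCheck2
import Cfsg.Agent.Lib.Sporadic.ThPres.CoverData5
import Cfsg.Agent.Lib.Sporadic.ThPres.Facts

set_option autoImplicit false
set_option maxRecDepth 20000
set_option Elab.async false

/-! The states are covered for one double coset (owner: helper9). -/

namespace CfsgLib.Sporadic.ThPres

/-- the cover of a double coset -/
noncomputable def cover5 : Cover := ⟨cvPts5, cvIdx5, cvCode5, cvGens5, cvEdges5, 359⟩

theorem cover5_steps0 : cover5.stepsPart 359 1872 = true := by decide +kernel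

theorem cover5_steps1 : cover5.stepsPart 2231 1872 = true := by decide +kernel

theorem cover5_steps2 : cover5.stepsPart 4103 1872 = true := by decide +kernel

theorem cover5_steps3 : cover5.stepsPart 5975 1872 = true := by decide +kernel

theorem cover5_steps4 : cover5.stepsPart 7847 1872 = true := by decide +kernel

theorem cover5_steps5 : cover5.stepsPart 9719 1872 = true := by decide +kernel

theorem cover5_steps6 : cover5.stepsPart 11591 1872 = true := by decide +kernel

theorem cover5_steps7 : cover5.stepsPart 13463 1872 = true := by decide +kernel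

theorem cover5_steps8 : cover5.stepsPart 15335 1864 = true := by decide +kernel

theorem cover5_low : (Nat.ble cover5.ne 17199 && cover5.gensOK factTree 2197 5) = true := by decide +kernel

theorem cover5_edges : CfsgLib.ThreeTrans.CosetIndex.forallFrom (cover5.edgeOK factTree 2197 5) 0 359 = true := by decide +kernel

theorem cover5_idx : CfsgLib.ThreeTrans.CosetIndex.forallFrom cover5.idxOK 0 17199 = true := by decide +kernel

theorem cover5_ok : cover5.ok factTree 2197 5 = true := by
  have h0 := cover5_steps0
  have h1 : cover5.stepsPart 359 3744 = true := cover5.stepsPart_cat h0 cover5_steps1 rfl rfl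
  have h2 : cover5.stepsPart 359 5616 = true := cover5.stepsPart_cat h1 cover5_steps2 rfl rfl
  have h3 : cover5.stepsPart 359 7488 = true := cover5.stepsPart_cat h2 cover5_steps3 rfl rfl
  have h4 : cover5.stepsPart 359 9360 = true := cover5.stepsPart_cat h3 cover5_steps4 rfl rfl
  have h5 : cover5.stepsPart 359 11232 = true := cover5.stepsPart_cat h4 cover5_steps5 rfl rfl
  have h6 : cover5.stepsPart 359 13104 = true := cover5.stepsPart_cat h5 cover5_steps6 rfl rfl
  have h7 : cover5.stepsPart 359 14976 = true := cover5.stepsPart_cat h6 cover5_steps7 rfl rfl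
  have h8 : cover5.stepsPart 359 16840 = true := cover5.stepsPart_cat h7 cover5_steps8 rfl rfl
  have hl := Bool.and_eq_true_iff.1 cover5_low
  exact cover5.ok_intro _ _ _ hl.1 hl.2 cover5_edges h8
    cover5_idx

end CfsgLib.Sporadic.ThPres
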