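import Cfsg.Agent.Lib.Sporadic.ThPres.CoverDefs
import Cfsg.Agent.Lib.Sporadic.ThPres.CoverCheck3
import Cfsg.Agent.Lib.Sporadic.ThPres.CoverData6
import Cfsg.Agent.Lib.Sporadic.ThPres.Facts

set_option autoImplicit false
set_option maxRecDepth 20000
set_option Elab.async false

/-! The states are covered for one double coset (owner: helper9). -/

namespace CfsgLib.Sporadic.ThPres

/-- the cover of a double coset -/
noncomputable def cover6 : Cover := ⟨cvPts6, cvIdx6, cvCode6, cvGens6, cvEdges6, 12⟩

theorem cover6_steps0 : cover6.stepsPart 12 2149 = true := by decide +kernel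

theorem cover6_steps1 : cover6.stepsPart 2161 2149 = true := by decide +kernel

theorem cover6_steps2 : cover6.stepsPart 4310 2149 = true := by decide +kernel

theorem cover6_steps3 : cover6.stepsPart 6459 2149 = true := by decide +kernel

theorem cover6_steps4 : cover6.stepsPart 8608 2149 = true := by decide +kernel

theorem cover6_steps5 : cover6.stepsPart 10757 2149 = true := by decide +kernel

theorem cover6_steps6 : cover6.stepsPart 12906 2149 = true := by decide +kernel

theorem cover6_steps7 : cover6.stepsPart 15055 2144 = true := by decide +kernel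

theorem cover6_low : (Nat.ble cover6.ne 17199 && cover6.gensOK factTree 2197 6) = true := by decide +kernel

theorem cover6_edges : CfsgLib.ThreeTrans.CosetIndex.forallFrom (cover6.edgeOK factTree 2197 6) 0 12 = true := by decide +kernel

theorem cover6_idx : CfsgLib.ThreeTrans.CosetIndex.forallFrom cover6.idxOK 0 17199 = true := by decide +kernel

theorem cover6_ok : cover6.ok factTree 2197 6 = true := by
  have h0 := cover6_steps0
  have h1 : cover6.stepsPart 12 4298 = true := cover6.stepsPart_cat h0 cover6_steps1 rfl rfl
  have h2 : cover6.stepsPart 12 6447 = true := cover6.stepsPart_cat h1 cover6_steps2 rfl rfl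
  have h3 : cover6.stepsPart 12 8596 = true := cover6.stepsPart_cat h2 cover6_steps3 rfl rfl
  have h4 : cover6.stepsPart 12 10745 = true := cover6.stepsPart_cat h3 cover6_steps4 rfl rfl
  have h5 : cover6.stepsPart 12 12894 = true := cover6.stepsPart_cat h4 cover6_steps5 rfl rfl
  have h6 : cover6.stepsPart 12 15043 = true := cover6.stepsPart_cat h5 cover6_steps6 rfl rfl
  have h7 : cover6.stepsPart 12 17187 = true := cover6.stepsPart_cat h6 cover6_steps7 rfl rfl
  have hl := Bool.and_eq_true_iff.1 cover6_low
  exact cover6.ok_intro _ _ _ hl.1 hl.2 cover6_edges h7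
    cover6_idx

end CfsgLib.Sporadic.ThPres
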