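import Cfsg.Agent.Lib.Sporadic.ThPres.CoverDefs
import Cfsg.Agent.Lib.Sporadic.ThPres.CoverCheck4
import Cfsg.Agent.Lib.Sporadic.ThPres.CoverData7
import Cfsg.Agent.Lib.Sporadic.ThPres.Facts

set_option autoImplicit false
set_option maxRecDepth 20000
set_option Elab.async false

/-! The states are covered for one double coset (owner: helper9). -/

namespace CfsgLib.Sporadic.ThPres

/-- the cover of a double coset -/
noncomputable def cover7 : Cover := ⟨cvPts7, cvIdx7, cvCode7, cvGens7, cvEdges7, 262⟩

theorem cover7_steps0 : cover7.stepsPart 262 1694 = true := by decide +kernel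

theorem cover7_steps1 : cover7.stepsPart 1956 1694 = true := by decide +kernel

theorem cover7_steps2 : cover7.stepsPart 3650 1694 = true := by decide +kernel

theorem cover7_steps3 : cover7.stepsPart 5344 1694 = true := by decide +kernel

theorem cover7_steps4 : cover7.stepsPart 7038 1694 = true := by decide +kernel

theorem cover7_steps5 : cover7.stepsPart 8732 1694 = true := by decide +kernel

theorem cover7_steps6 : cover7.stepsPart 10426 1694 = true := by decide +kernel

theorem cover7_steps7 : cover7.stepsPart 12120 1694 = true := by decide +kernel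

theorem cover7_steps8 : cover7.stepsPart 13814 1694 = true := by decide +kernel

theorem cover7_steps9 : cover7.stepsPart 15508 1691 = true := by decide +kernel

theorem cover7_low : (Nat.ble cover7.ne 17199 && cover7.gensOK factTree 2197 7) = true := by decide +kernel

theorem cover7_edges : CfsgLib.ThreeTrans.CosetIndex.forallFrom (cover7.edgeOK factTree 2197 7) 0 262 = true := by decide +kernel

theorem cover7_idx : CfsgLib.ThreeTrans.CosetIndex.forallFrom cover7.idxOK 0 17199 = true := by decide +kernel

theorem cover7_ok : cover7.ok factTree 2197 7 = true := by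
  have h0 := cover7_steps0
  have h1 : cover7.stepsPart 262 3388 = true := cover7.stepsPart_cat h0 cover7_steps1 rfl rfl
  have h2 : cover7.stepsPart 262 5082 = true := cover7.stepsPart_cat h1 cover7_steps2 rfl rfl
  have h3 : cover7.stepsPart 262 6776 = true := cover7.stepsPart_cat h2 cover7_steps3 rfl rfl
  have h4 : cover7.stepsPart 262 8470 = true := cover7.stepsPart_cat h3 cover7_steps4 rfl rfl
  have h5 : cover7.stepsPart 262 10164 = true := cover7.stepsPart_cat h4 cover7_steps5 rfl rfl
  have h6 : cover7.stepsPart 262 11858 = true := cover7.stepsPart_cat h5 cover7_steps6 rfl rfl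
  have h7 : cover7.stepsPart 262 13552 = true := cover7.stepsPart_cat h6 cover7_steps7 rfl rfl
  have h8 : cover7.stepsPart 262 15246 = true := cover7.stepsPart_cat h7 cover7_steps8 rfl rfl
  have h9 : cover7.stepsPart 262 16937 = true := cover7.stepsPart_cat h8 cover7_steps9 rfl rfl
  have hl := Bool.and_eq_true_iff.1 cover7_low
  exact cover7.ok_intro _ _ _ hl.1 hl.2 cover7_edges h9
    cover7_idx

end CfsgLib.Sporadic.ThPres
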