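import Cfsg.Agent.Lib.Sporadic.ThPres.CoverDefs
import Cfsg.Agent.Lib.Sporadic.ThPres.CoverCheck5
import Cfsg.Agent.Lib.Sporadic.ThPres.CoverData8
import Cfsg.Agent.Lib.Sporadic.ThPres.Facts

set_option autoImplicit false
set_option maxRecDepth 20000
set_option Elab.async false

/-! The states are covered for one double coset (owner: helper9). -/

namespace CfsgLib.Sporadic.ThPres

/-- the cover of a double coset -/
noncomputable def cover8 : Cover := ⟨cvPts8, cvIdx8, cvCode8, cvGens8, cvEdges8, 160⟩

theorem cover8_steps0 : cover8.stepsPart 160 1704 = true := by decide +kernel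

theorem cover8_steps1 : cover8.stepsPart 1864 1704 = true := by decide +kernel

theorem cover8_steps2 : cover8.stepsPart 3568 1704 = true := by decide +kernel

theorem cover8_steps3 : cover8.stepsPart 5272 1704 = true := by decide +kernel

theorem cover8_steps4 : cover8.stepsPart 6976 1704 = true := by decide +kernel

theorem cover8_steps5 : cover8.stepsPart 8680 1704 = true := by decide +kernel

theorem cover8_steps6 : cover8.stepsPart 10384 1704 = true := by decide +kernel

theorem cover8_steps7 : cover8.stepsPart 12088 1704 = true := by decide +kernel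

theorem cover8_steps8 : cover8.stepsPart 13792 1704 = true := by decide +kernel

theorem cover8_steps9 : cover8.stepsPart 15496 1703 = true := by decide +kernel

theorem cover8_low : (Nat.ble cover8.ne 17199 && cover8.gensOK factTree 2197 8) = true := by decide +kernel

theorem cover8_edges : CfsgLib.ThreeTrans.CosetIndex.forallFrom (cover8.edgeOK factTree 2197 8) 0 160 = true := by decide +kernel

theorem cover8_idx : CfsgLib.ThreeTrans.CosetIndex.forallFrom cover8.idxOK 0 17199 = true := by decide +kernel

theorem cover8_ok : cover8.ok factTree 2197 8 = true := by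
  have h0 := cover8_steps0
  have h1 : cover8.stepsPart 160 3408 = true := cover8.stepsPart_cat h0 cover8_steps1 rfl rfl
  have h2 : cover8.stepsPart 160 5112 = true := cover8.stepsPart_cat h1 cover8_steps2 rfl rfl
  have h3 : cover8.stepsPart 160 6816 = true := cover8.stepsPart_cat h2 cover8_steps3 rfl rfl
  have h4 : cover8.stepsPart 160 8520 = true := cover8.stepsPart_cat h3 cover8_steps4 rfl rfl
  have h5 : cover8.stepsPart 160 10224 = true := cover8.stepsPart_cat h4 cover8_steps5 rfl rfl
  have h6 : cover8.stepsPart 160 11928 = true := cover8.stepsPart_cat h5 cover8_steps6 rfl rfl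
  have h7 : cover8.stepsPart 160 13632 = true := cover8.stepsPart_cat h6 cover8_steps7 rfl rfl
  have h8 : cover8.stepsPart 160 15336 = true := cover8.stepsPart_cat h7 cover8_steps8 rfl rfl
  have h9 : cover8.stepsPart 160 17039 = true := cover8.stepsPart_cat h8 cover8_steps9 rfl rfl
  have hl := Bool.and_eq_true_iff.1 cover8_low
  exact cover8.ok_intro _ _ _ hl.1 hl.2 cover8_edges h9
    cover8_idx

end CfsgLib.Sporadic.ThPres
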