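import Cfsg.Agent.Lib.Sporadic.ThPres.CoverDefs
import Cfsg.Agent.Lib.Sporadic.ThPres.CoverCheck6
import Cfsg.Agent.Lib.Sporadic.ThPres.CoverData9
import Cfsg.Agent.Lib.Sporadic.ThPres.Facts

set_option autoImplicit false
set_option maxRecDepth 20000
set_option Elab.async false

/-! The states are covered for one double coset (owner: helper9). -/

namespace CfsgLib.Sporadic.ThPres

/-- the cover of a double coset -/
noncomputable def cover9 : Cover := ⟨cvPts9, cvIdx9, cvCode9, cvGens9, cvEdges9, 256⟩

theorem cover9_steps0 : cover9.stepsPart 256 2118 = true := by decide +kernel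

theorem cover9_steps1 : cover9.stepsPart 2374 2118 = true := by decide +kernel

theorem cover9_steps2 : cover9.stepsPart 4492 2118 = true := by decide +kernel

theorem cover9_steps3 : cover9.stepsPart 6610 2118 = true := by decide +kernel

theorem cover9_steps4 : cover9.stepsPart 8728 2118 = true := by decide +kernel

theorem cover9_steps5 : cover9.stepsPart 10846 2118 = true := by decide +kernel

theorem cover9_steps6 : cover9.stepsPart 12964 2118 = true := by decide +kernel

theorem cover9_steps7 : cover9.stepsPart 15082 2117 = true := by decide +kernel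

theorem cover9_low : (Nat.ble cover9.ne 17199 && cover9.gensOK factTree 2197 9) = true := by decide +kernel

theorem cover9_edges : CfsgLib.ThreeTrans.CosetIndex.forallFrom (cover9.edgeOK factTree 2197 9) 0 256 = true := by decide +kernel

theorem cover9_idx : CfsgLib.ThreeTrans.CosetIndex.forallFrom cover9.idxOK 0 17199 = true := by decide +kernel

theorem cover9_ok : cover9.ok factTree 2197 9 = true := by
  have h0 := cover9_steps0
  have h1 : cover9.stepsPart 256 4236 = true := cover9.stepsPart_cat h0 cover9_steps1 rfl rfl
  have h2 : cover9.stepsPart 256 6354 = true := cover9.stepsPart_cat h1 cover9_steps2 rfl rfl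
  have h3 : cover9.stepsPart 256 8472 = true := cover9.stepsPart_cat h2 cover9_steps3 rfl rfl
  have h4 : cover9.stepsPart 256 10590 = true := cover9.stepsPart_cat h3 cover9_steps4 rfl rfl
  have h5 : cover9.stepsPart 256 12708 = true := cover9.stepsPart_cat h4 cover9_steps5 rfl rfl
  have h6 : cover9.stepsPart 256 14826 = true := cover9.stepsPart_cat h5 cover9_steps6 rfl rfl
  have h7 : cover9.stepsPart 256 16943 = true := cover9.stepsPart_cat h6 cover9_steps7 rfl rfl
  have hl := Bool.and_eq_true_iff.1 cover9_low
  exact cover9.ok_intro _ _ _ hl.1 hl.2 cover9_edges h7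
    cover9_idx

end CfsgLib.Sporadic.ThPres
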