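import Cfsg.Agent.Lib.Sporadic.ThPres.Facts
import Cfsg.Agent.Lib.Sporadic.ThPres.FactsPart2

set_option autoImplicit false
set_option maxRecDepth 20000
set_option Elab.async false

/-! Justification of consecutive facts (owner: helper9). -/

namespace CfsgLib.Sporadic.ThPres

theorem facts_part5 : factsOK factTree reps loops 1375 275 = true := by decide +kernel

end CfsgLib.Sporadic.ThPres
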