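import Cfsg.Agent.Lib.Sporadic.ThPres.MuImg

set_option autoImplicit false
set_option maxRecDepth 20000
set_option Elab.async false

/-! Checking the table of states (owner: helper9). -/

namespace CfsgLib.Sporadic.ThPres

open CfsgLib.ThreeTrans.CosetIndex (forallFrom)

theorem muOK7 : muOK 7 = true := by decide +kernel

theorem muOK8 : muOK 8 = true := by decide +kernel

theorem muOK9 : muOK 9 = true := by decide +kernel

theorem muOK10 : muOK 10 = true := by decide +kernel

theorem muOK11 : muOK 11 = true := by decide +kernel

theorem muOK12 : muOK 12 = true := by decide +kernel

theorem muOK13 : muOK 13 = true := by decide +kernel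

end CfsgLib.Sporadic.ThPres
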