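import Cfsg.Agent.Lib.Sporadic.ThPres.MuImg

set_option autoImplicit false
set_option maxRecDepth 20000
set_option Elab.async false

/-! Checking the table of states (owner: helper9). -/

namespace CfsgLib.Sporadic.ThPres

open CfsgLib.ThreeTrans.CosetIndex (forallFrom)

theorem muRels0_0 : muRels 0 270 = true := by decide +kernel

theorem muRels0_1 : muRels 270 270 = true := by decide +kernel

theorem muRels0_2 : muRels 540 270 = true := by decide +kernel

theorem muRels0_3 : muRels 810 270 = true := by decide +kernel

theorem muRels0_4 : muRels 1080 270 = true := by decide +kernel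

theorem muRels0_5 : muRels 1350 270 = true := by decide +kernel

theorem muRels0_6 : muRels 1620 270 = true := by decide +kernel

theorem muRels0_7 : muRels 1890 260 = true := by decide +kernel

theorem muRels0 : muRels 0 2150 = true := by
  have h0 := muRels0_0
  have h1 : muRels 0 540 = true := CfsgLib.Recog.SporBound.forallFrom_cat h0 muRels0_1 rfl rfl
  have h2 : muRels 0 810 = true := CfsgLib.Recog.SporBound.forallFrom_cat h1 muRels0_2 rfl rfl
  have h3 : muRels 0 1080 = true := CfsgLib.Recog.SporBound.forallFrom_cat h2 muRels0_3 rfl rfl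
  have h4 : muRels 0 1350 = true := CfsgLib.Recog.SporBound.forallFrom_cat h3 muRels0_4 rfl rfl
  have h5 : muRels 0 1620 = true := CfsgLib.Recog.SporBound.forallFrom_cat h4 muRels0_5 rfl rfl
  have h6 : muRels 0 1890 = true := CfsgLib.Recog.SporBound.forallFrom_cat h5 muRels0_6 rfl rfl
  have h7 : muRels 0 2150 = true := CfsgLib.Recog.SporBound.forallFrom_cat h6 muRels0_7 rfl rfl
  exact h7

end CfsgLib.Sporadic.ThPres
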