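import Cfsg.Agent.Lib.Sporadic.ThPres.MuImg

set_option autoImplicit false
set_option maxRecDepth 20000
set_option Elab.async false

/-! Checking the table of states (owner: helper9). -/

namespace CfsgLib.Sporadic.ThPres

open CfsgLib.ThreeTrans.CosetIndex (forallFrom)

theorem muRels2_0 : muRels 4300 270 = true := by decide +kernel

theorem muRels2_1 : muRels 4570 270 = true := by decide +kernel

theorem muRels2_2 : muRels 4840 270 = true := by decide +kernel

theorem muRels2_3 : muRels 5110 270 = true := by decide +kernel

theorem muRels2_4 : muRels 5380 270 = true := by decide +kernel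

theorem muRels2_5 : muRels 5650 270 = true := by decide +kernel

theorem muRels2_6 : muRels 5920 270 = true := by decide +kernel

theorem muRels2_7 : muRels 6190 260 = true := by decide +kernel

theorem muRels2 : muRels 4300 2150 = true := by
  have h0 := muRels2_0
  have h1 : muRels 4300 540 = true := CfsgLib.Recog.SporBound.forallFrom_cat h0 muRels2_1 rfl rfl
  have h2 : muRels 4300 810 = true := CfsgLib.Recog.SporBound.forallFrom_cat h1 muRels2_2 rfl rfl
  have h3 : muRels 4300 1080 = true := CfsgLib.Recog.SporBound.forallFrom_cat h2 muRels2_3 rfl rfl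
  have h4 : muRels 4300 1350 = true := CfsgLib.Recog.SporBound.forallFrom_cat h3 muRels2_4 rfl rfl
  have h5 : muRels 4300 1620 = true := CfsgLib.Recog.SporBound.forallFrom_cat h4 muRels2_5 rfl rfl
  have h6 : muRels 4300 1890 = true := CfsgLib.Recog.SporBound.forallFrom_cat h5 muRels2_6 rfl rfl
  have h7 : muRels 4300 2150 = true := CfsgLib.Recog.SporBound.forallFrom_cat h6 muRels2_7 rfl rfl
  exact h7

end CfsgLib.Sporadic.ThPres
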