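import Cfsg.Agent.Lib.Sporadic.ThPres.MuCheck0
import Cfsg.Agent.Lib.Sporadic.ThPres.MuCheck1
import Cfsg.Agent.Lib.Sporadic.ThPres.MuCheck2
import Cfsg.Agent.Lib.Sporadic.ThPres.MuCheck3
import Cfsg.Agent.Lib.Sporadic.ThPres.MuCheck4
import Cfsg.Agent.Lib.Sporadic.ThPres.MuCheck5
import Cfsg.Agent.Lib.Sporadic.ThPres.MuCheck6
import Cfsg.Agent.Lib.Sporadic.ThPres.MuCheck7
import Cfsg.Agent.Lib.Sporadic.ThPres.MuCheck8
import Cfsg.Agent.Lib.Sporadic.ThPres.MuCheck9

/-!
# The action on 17199 states (owner: helper9)
-/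

set_option autoImplicit false
set_option maxRecDepth 20000

namespace CfsgLib.Sporadic.ThPres

open CfsgLib.ThreeTrans.CosetIndex (forallFrom forallFrom_elim)

/-- The table of states. -/
noncomputable def tMu : Tab where
  n := 17199
  img := imgMu
  ok k hk x hx := by
    have hk' : muOK k = true := by
      interval_cases k
      exacts [muOK0, muOK1, muOK2, muOK3, muOK4, muOK5, muOK6, muOK7, muOK8, muOK9, muOK10, muOK11, muOK12, muOK13]
    have h := forallFrom_elim hk' (Nat.zero_le x) (by omega)
    simp only [Bool.and_eq_true, Nat.blt_eq, Nat.beq_eq] at h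
    exact h
  rels w hw x hx := by
    have h : (words27.all fun w => Nat.beq (rImg imgMu w x) x) = true := by
      rcases Nat.lt_or_ge x 2150 with h0 | h0
      · exact forallFrom_elim muRels0 (show 0 ≤ x by omega) (by omega)
      rcases Nat.lt_or_ge x 4300 with h1 | h1
      · exact forallFrom_elim muRels1 (show 2150 ≤ x by omega) (by omega)
      rcases Nat.lt_or_ge x 6450 with h2 | h2
      · exact forallFrom_elim muRels2 (show 4300 ≤ x by omega) (by omega)
      rcases Nat.lt_or_ge x 8600 with h3 | h3
      · exact forallFrom_elim muRels3 (show 6450 ≤ x by omega) (by omega)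
      rcases Nat.lt_or_ge x 10750 with h4 | h4
      · exact forallFrom_elim muRels4 (show 8600 ≤ x by omega) (by omega)
      rcases Nat.lt_or_ge x 12900 with h5 | h5
      · exact forallFrom_elim muRels5 (show 10750 ≤ x by omega) (by omega)
      rcases Nat.lt_or_ge x 15050 with h6 | h6
      · exact forallFrom_elim muRels6 (show 12900 ≤ x by omega) (by omega)
      exact forallFrom_elim muRels7 h6 (by omega)
    exact Nat.eq_of_beq_eq_true (List.all_eq_true.1 h w hw)

end CfsgLib.Sporadic.ThPres
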