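import Cfsg.Agent.Lib.Sporadic.ThPres.Words
import Cfsg.Agent.Lib.Sporadic.PairEnum.Sound

/-!
# Letters and certificates for the presented Thompson group and its 3D4(2):3 part (owner: helper9)
-/

set_option autoImplicit false
set_option maxRecDepth 20000

namespace CfsgLib.Sporadic.ThPres

open Cfsg
open CfsgLib.Sporadic.PairEnum (flp)

theorem flp_eq (k : ℕ) : flp k = k ^^^ 1 := rfl

theorem flp_half (k : ℕ) : flp k / 2 = k / 2 := by
  rw [flp_eq, ← Nat.shiftRight_one, Nat.shiftRight_xor_distrib, Nat.shiftRight_one]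
  simp

theorem flp_mod (k : ℕ) : flp k % 2 = 1 - k % 2 := by
  have := Nat.xor_mod_two_eq_one (a := k) (b := 1)
  rw [flp_eq]
  omega

/-- A letter as an element of the free group on `n` generators. -/
def frN (n k : ℕ) : FreeGroup (Fin n) :=
  if h : k / 2 < n then (if k % 2 = 0 then FreeGroup.of ⟨k / 2, h⟩ else (FreeGroup.of ⟨k / 2, h⟩)⁻¹) else 1

theorem frN_flp (n k : ℕ) : frN n (flp k) = (frN n k)⁻¹ := by
  have hm := flp_mod k
  have hd := flp_half k
  unfold frN
  by_cases h : k / 2 < n
  · have h' : flp k / 2 < n := by omega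
    rw [dif_pos h, dif_pos h', show (⟨flp k / 2, h'⟩ : Fin n) = ⟨k / 2, h⟩ from Fin.ext hd, hm]
    rcases Nat.mod_two_eq_zero_or_one k with hk | hk <;> simp [hk]
  · have h' : ¬ flp k / 2 < n := by omega
    rw [dif_neg h, dif_neg h', inv_one]

/-- The relators of the 3D4(2):3 part. -/
def rels7 : Set (FreeGroup (Fin 7)) := {r | ∃ w ∈ words27, (w.map (frN 7)).prod = r}

/-- The group on seven generators presented by the first 27 relators. -/
abbrev P0 : Type := PresentedGroup rels7

/-- A letter in `P0`. -/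
def L (k : ℕ) : P0 := PresentedGroup.mk rels7 (frN 7 k)

theorem L_flp (k : ℕ) : L (flp k) = (L k)⁻¹ := by rw [L, frN_flp, map_inv]; rfl

theorem L_big {k : ℕ} (h : 14 ≤ k) : L k = 1 := by
  have : ¬ k / 2 < 7 := by omega
  simp [L, frN, this]

theorem L_rel {w : List ℕ} (hw : w ∈ words27) : (w.map L).prod = 1 := by
  have h := PresentedGroup.one_of_mem (rels := rels7) (x := (w.map (frN 7)).prod) ⟨w, hw, rfl⟩
  rwa [map_list_prod, List.map_map] at h

theorem L_closure : Subgroup.closure {g | ∃ x ∈ ([0, 2, 4, 6, 8, 10, 12] : List ℕ), g = L x} = ⊤ := by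
  rw [eq_top_iff, ← PresentedGroup.closure_range_of rels7, Subgroup.closure_le]
  rintro _ ⟨i, rfl⟩
  refine Subgroup.subset_closure ⟨2 * i.val, ?_, ?_⟩
  · fin_cases i <;> simp
  · fin_cases i <;> rfl

/-- The images of the eight generators. -/
def imGen (i : Fin 8) : Spor.Th := PresentedGroup.of (genOf i)

/-- A letter in the Thompson group. -/
def thL (k : ℕ) : Spor.Th := FreeGroup.lift imGen (frN 8 k)

theorem thL_flp (k : ℕ) : thL (flp k) = (thL k)⁻¹ := by rw [thL, frN_flp, map_inv]; rfl

theorem thL_big {k : ℕ} (h : 16 ≤ k) : thL k = 1 := by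
  have : ¬ k / 2 < 8 := by omega
  simp [thL, frN, this]

theorem thL_code : ∀ p : Spor.Th.Gen × Bool,
    thL (code p) = cond p.2 (PresentedGroup.of p.1) (PresentedGroup.of p.1)⁻¹ := by
  rintro ⟨_ | _ | _ | _ | _ | _ | _ | _, _ | _⟩ <;>
    simp [code, genNo, thL, frN, imGen, genOf, FreeGroup.lift_apply_of]

theorem th_rel {w : List ℕ} (hw : w ∈ relWords) : (w.map thL).prod = 1 := by
  rw [← relWords_eq] at hw
  obtain ⟨r, hr, rfl⟩ := List.mem_map.1 hw
  have h1 : PresentedGroup.mk (Spor.coxRelators Spor.Th.edges ∪ {r | r ∈ Spor.Th.extra}) r = 1 :=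
    PresentedGroup.one_of_mem (Or.inr hr)
  rw [← h1]
  conv_rhs => rw [← FreeGroup.mk_toWord (x := r)]
  rw [lettersOf, List.map_map]
  generalize r.toWord = l
  induction l with
  | nil => simp [← FreeGroup.one_eq_mk]
  | cons p l ih =>
    rw [List.map_cons, List.prod_cons, ih,
      show FreeGroup.mk (p :: l) = FreeGroup.mk [p] * FreeGroup.mk l from rfl, map_mul]
    congr 1
    rw [Function.comp_apply, thL_code]
    obtain ⟨y, e⟩ := p
    cases e
    · show _ = PresentedGroup.mk _ (FreeGroup.of y)⁻¹
      rw [map_inv]; rfl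
    · rfl

/-- The map from `P0`. -/
def toTh : P0 →* Spor.Th :=
  PresentedGroup.toGroup (f := fun i : Fin 7 => imGen i.castSucc) (by
    rintro r ⟨w, hw, rfl⟩
    have hlt : ∀ k ∈ w, k < 14 := fun k hk => by
      simpa using List.all_eq_true.1 (List.all_eq_true.1 words27_lt w hw) k hk
    rw [map_list_prod, List.map_map]
    refine Eq.trans (congrArg List.prod (List.map_congr_left fun k hk => ?_))
      (th_rel (List.mem_of_mem_take hw))
    have := hlt k hk
    interval_cases k <;> simp [thL, frN, FreeGroup.lift_apply_of])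

theorem toTh_L {k : ℕ} (h : k < 14) : toTh (L k) = thL k := by
  show FreeGroup.lift (fun i : Fin 7 => imGen i.castSucc) (frN 7 k) = FreeGroup.lift imGen (frN 8 k)
  interval_cases k <;> simp [frN, FreeGroup.lift_apply_of]

/-- The numbering of the letters of a certificate. -/
def gl (ms : List ℕ) (k : ℕ) : ℕ := 2 * ms.getD (k / 2) 8 + k % 2

theorem gl_flp (ms : List ℕ) (k : ℕ) : gl ms (flp k) = flp (gl ms k) := by
  rw [gl, flp_half, flp_mod, flp_eq]
  set x := ms.getD (k / 2) 8
  have h1 := flp_half (gl ms k)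
  have h2 := flp_mod (gl ms k)
  rw [flp_eq] at h1 h2
  simp only [gl] at h1 h2 ⊢
  omega

/-- Free reduction by one letter. -/
def push : List ℕ → ℕ → List ℕ
  | [], a => [a]
  | b :: o, a => if b = flp' a then o else a :: b :: o
where
  /-- the inverse letter, computably -/
  flp' (a : ℕ) : ℕ := a ^^^ 1

/-- The free reduction of a word. -/
def red (w : List ℕ) : List ℕ := (w.foldl push []).reverse

section group

variable {G : Type*} [Group G] {l : ℕ → G} (hl : ∀ k, l (flp k) = (l k)⁻¹)
include hl

theorem prod_push : ∀ (o : List ℕ) (a : ℕ), ((push o a).reverse.map l).prod = (o.reverse.map l).prod * l a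
  | [], a => by simp [push]
  | b :: o, a => by
    rw [push]
    split_ifs with h
    · rw [h, show push.flp' a = flp a from rfl, List.reverse_cons, List.map_append, List.prod_append,
        List.map_singleton, List.prod_singleton, hl, inv_mul_cancel_right]
    · simp [List.prod_append, mul_assoc]

theorem prod_foldl : ∀ w o : List ℕ,
    ((w.foldl push o).reverse.map l).prod = (o.reverse.map l).prod * (w.map l).prod
  | [], o => by simp
  | a :: w, o => by
    rw [List.foldl_cons, prod_foldl w, prod_push hl, List.map_cons, List.prod_cons, mul_assoc]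

theorem prod_red (w : List ℕ) : ((red w).map l).prod = (w.map l).prod := by
  rw [red, prod_foldl hl]
  simp

omit hl

/-- The letters of a certificate act by the inverses of the images. -/
def act (l : ℕ → G) (ms : List ℕ) (k : ℕ) : G := (l (gl ms k))⁻¹

theorem prod_act (ms : List ℕ) (w : List ℕ) :
    (w.reverse.map (act l ms)).prod = ((w.map (gl ms)).map l).prod⁻¹ := by
  rw [List.prod_inv_reverse, List.map_map, List.map_map, ← List.map_reverse]
  rfl

include hl

theorem act_flp (ms : List ℕ) (k : ℕ) : act l ms (flp k) = (act l ms k)⁻¹ := by simp [act, gl_flp, hl]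

/-- The hypotheses of a certificate from a list of known relators. -/
theorem setup (hbig : ∀ k, 16 ≤ k → l k = 1) {C : PairEnum.Cert} (ms : List ℕ) (hms : ms.length ≤ 7)
    (R : List (List ℕ)) (hR : ∀ w ∈ R, (w.map l).prod = 1)
    (h : C.rels.all (fun w => R.contains (red (w.map (gl ms)))) = true) : C.Setup (act l ms) where
  inv := act_flp hl ms
  eq := by
    have he : gl ms CfsgLib.ThreeTrans.CosetIndex.eqLetter = 17 := by
      show 2 * ms.getD 7 8 + 1 = 17
      rw [List.getD_eq_default _ _ hms]
    rw [act, he, hbig 17 (by omega), inv_one]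
  rel w hw := by
    rw [prod_act, inv_eq_one, ← prod_red hl]
    exact hR _ (List.contains_iff_mem.1 (List.all_eq_true.1 h w hw))

/-- A word traced back to the base lies in the subgroup. -/
theorem closer_mem {C : PairEnum.Cert} (ms : List ℕ) (hS : C.Setup (act l ms))
    (hb : (Nat.beq (C.nodeOf 0) 0 && Nat.ble C.nd C.nf) = true)
    (hd : CfsgLib.ThreeTrans.CosetIndex.forallFrom C.defOK 0 C.nd = true)
    (hs : C.stepsPart C.allRels 0 C.stepChunks = true) (H : Subgroup G)
    (hsub : ∀ w ∈ C.subs, ((w.map (gl ms)).map l).prod ∈ H)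
    {E : List (List ℕ × ℕ)} (hE : E.all C.closesOK = true) {e : List ℕ × ℕ} (he : e ∈ E) :
    ((e.1.map (gl ms)).map l).prod ∈ H := by
  obtain ⟨v, hv0, good⟩ := PairEnum.Cert.exists_nodes hS hd hs H fun w hw => by
    rw [prod_act]; exact inv_mem (hsub w hw)
  rw [Bool.and_eq_true] at hb
  have h := List.all_eq_true.1 hE e he
  simp only [PairEnum.Cert.closesOK, Bool.and_eq_true, Nat.beq_eq] at h
  obtain ⟨h0, h⟩ := h
  unfold PairEnum.Cert.endsAt at h
  cases hw : C.walk C.nf e.2 2 (CfsgLib.ThreeTrans.CosetIndex.fld e.2 1) (0, e.1) with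
  | none => rw [hw] at h; simp at h
  | some r =>
    rw [hw] at h
    simp only [Bool.and_eq_true, Nat.beq_eq, List.isEmpty_iff] at h
    obtain ⟨u, hu, hu'⟩ := PairEnum.Cert.walk_sound hS.inv hS.eq good hw
    rw [h.2.2, List.append_nil] at hu
    dsimp only at hu hu'
    rw [← hu, h.2.1, h0, Nat.eq_of_beq_eq_true hb.1, hv0, CfsgLib.ThreeTrans.CosetIndex.actW_eq, prod_act,
      MulAction.Quotient.smul_coe, smul_eq_mul, mul_one, QuotientGroup.eq] at hu'
    simpa using hu'

end group

end CfsgLib.Sporadic.ThPres
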