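import Cfsg.Agent.Lib.Sporadic.ThPres.Alpha
import Cfsg.Agent.Lib.Sporadic.ThPres.StructData
import Cfsg.Prelude.Def_Exceptional

/-!
# The subgroup without the field automorphism is simple (owner: helper9)

A normal subgroup is transitive on the 819 points; the first generator is central in a point stabiliser, its
conjugates generate, and it is a commutator of two of them.
-/

set_option autoImplicit false
set_option maxRecDepth 20000
set_option Elab.async false

namespace CfsgLib.Sporadic.ThPres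

open CfsgLib.Sporadic
open CfsgLib.Sporadic.PairEnum (flp)
open CfsgLib.ThreeTrans.CosetIndex (forallFrom forallFrom_elim)

/-- The subgroup on six generators. -/
def P1 : Subgroup P0 := gen [0, 1, 2, 3, 4, 5]

/-- The subgroup fixing the first point. -/
def A5 : Subgroup P0 := gen [0, 2, 3, 4, 5]

theorem card_P1 : Nat.card P1 = 211341312 := by
  refine le_antisymm card_p1.2 ?_
  have h := card_step SubP.valid [0, 1, 2, 3, 4, 5, 6] [0, 1, 2, 3, 4, 5] (by simp) known known_eq_one p_rels
    (by decide +kernel) rfl (B := Nat.card P1) ⟨card_p1.1, le_rfl⟩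
  rw [gen_all, show SubP.cert.n = 3 from rfl, Nat.card_congr Subgroup.topEquiv.toEquiv, natCard_P0] at h
  omega

theorem card_A5 : Nat.card A5 = 258048 := by
  refine le_antisymm card_a.2 ?_
  have h := card_step SubP1.valid [0, 1, 2, 3, 4, 5] [0, 2, 3, 4, 5] (by simp) known known_eq_one p1_rels
    (by decide +kernel) rfl (B := Nat.card A5) ⟨card_a.1, le_rfl⟩
  rw [show gen [0, 1, 2, 3, 4, 5] = P1 from rfl, card_P1, show SubP1.cert.n = 819 from rfl] at h
  omega

theorem L_mem_P1 {k : ℕ} (hk : k < 12) : L k ∈ P1 := by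
  rcases Nat.mod_two_eq_zero_or_one k with h | h
  · rw [show k = 2 * (k / 2) by omega]
    exact L_mem_gen (by simp; omega)
  · have e : flp (2 * (k / 2)) = k := by
      have h1 := flp_half (2 * (k / 2)); have h2 := flp_mod (2 * (k / 2)); omega
    rw [← e, L_flp]
    exact inv_mem (L_mem_gen (by simp; omega))

theorem word_mem_P1 {w : List ℕ} (h : ∀ k ∈ w, k < 12) : (w.map L).prod ∈ P1 :=
  list_prod_mem fun g hg => by
    obtain ⟨k, hk, rfl⟩ := List.mem_map.1 hg
    exact L_mem_P1 (h k hk)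

theorem a5_fix : ([0, 4, 6, 8, 10] : List ℕ).all (fun k => Nat.beq (img819 k 0) 0) = true := by decide +kernel

theorem ract_A5 {g : P0} (hg : g ∈ A5) : t819.ract g 0 = 0 := by
  have hle : A5 ≤ t819.fix [0] := (Subgroup.closure_le _).2 (by
    rintro _ ⟨x, hx, rfl⟩ b hb
    obtain rfl := List.mem_singleton.1 hb
    have h14 : 2 * x < 14 := by simp at hx; omega
    rw [t819.ract_L h14 (show 0 < 819 by norm_num)]
    refine Nat.eq_of_beq_eq_true (List.all_eq_true.1 a5_fix (2 * x) ?_)
    simp at hx ⊢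
    omega)
  exact hle hg 0 (List.mem_singleton_self _)

theorem orbs_ok : (orbs.all fun o => Nat.blt o.r 819 && ((o.w.all fun k => Nat.blt k 12) &&
    (Nat.beq (rImg img819 o.w 0) o.r && (Nat.beq (pk 10 o.pts 0) o.r &&
    ((o.tree.all fun e => Nat.blt e.1 5) &&
    (treeOK (fun j x => img819 (([0, 4, 6, 8, 10] : List ℕ).getD j 0) x) 10 o.pts o.tree 1 &&
    (Nat.beq (pk 10 o.pts' 0) 0 && ((o.tree'.all fun e => Nat.blt e.1 6) &&
    (treeOK (fun j x => rImg img819 (([[0], [4], [6], [8], [10], o.w] : List (List ℕ)).getD j []) x) 10 o.pts'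
      o.tree' 1 &&
    (Nat.beq o.tree'.length 818 && distinct ((List.range 819).map (pk 10 o.pts')) 0)))))))))) = true := by
  decide +kernel

theorem orbs_cover : forallFrom (fun x => Nat.beq x 0 ||
    orbs.any (fun o => ((List.range (o.tree.length + 1)).map (pk 10 o.pts)).contains x)) 0 819 = true := by
  decide +kernel

theorem moved : forallFrom (fun x => ([0, 4, 6, 8, 10] : List ℕ).any fun k => !(Nat.beq (img819 k x) x)) 1 818 = true := by
  decide +kernel

theorem ract_A5_gen {j : ℕ} (hj : j < 5) :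
    L (([0, 4, 6, 8, 10] : List ℕ).getD j 0) ∈ A5 ∧ ([0, 4, 6, 8, 10] : List ℕ).getD j 0 < 12 := by
  interval_cases j
  · exact ⟨L_mem_gen (x := 0) (by simp), by simp⟩
  · exact ⟨L_mem_gen (x := 2) (by simp), by simp⟩
  · exact ⟨L_mem_gen (x := 3) (by simp), by simp⟩
  · exact ⟨L_mem_gen (x := 4) (by simp), by simp⟩
  · exact ⟨L_mem_gen (x := 5) (by simp), by simp⟩

/-- A nontrivial subgroup normalised by the six generators is transitive, if the six generators are. -/
theorem transitive_of_normal {N : Subgroup P0} (hN : ∀ g ∈ P1, ∀ n ∈ N, g⁻¹ * n * g ∈ N)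
    (hmove : ∃ n ∈ N, t819.ract n 0 ≠ 0) : ∀ x < 819, ∃ n ∈ N, t819.ract n 0 = x := by
  let B : ℕ → Prop := fun x => x < 819 ∧ ∃ n ∈ N, t819.ract n 0 = x
  have hclosed : ∀ g ∈ P1, B (t819.ract g 0) → ∀ x, B x → B (t819.ract g x) := by
    rintro g hg ⟨-, n0, hn0, e0⟩ x ⟨hx, n, hn, e⟩
    refine ⟨t819.ract_lt g hx, n0 * (g⁻¹ * n * g), mul_mem hn0 (hN g hg n hn), ?_⟩
    rw [t819.ract_mul, e0, t819.ract_mul, t819.ract_mul, t819.ract_inv, e]
  have hB0 : B 0 := ⟨by norm_num, 1, one_mem _, t819.ract_one 0⟩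
  obtain ⟨n, hn, hne⟩ := hmove
  have hp : t819.ract n 0 < 819 := t819.ract_lt n (show 0 < 819 by norm_num)
  have hcov := forallFrom_elim orbs_cover (Nat.zero_le _) (show t819.ract n 0 < 0 + 819 by omega)
  simp only [Bool.or_eq_true, Nat.beq_eq, List.any_eq_true, List.contains_iff_mem, List.mem_map, List.mem_range] at hcov
  rcases hcov with h0 | ⟨o, ho, j, hj, hjp⟩
  · exact absurd h0 hne
  have hok := List.all_eq_true.1 orbs_ok o ho
  simp only [Bool.and_eq_true, Nat.blt_eq, Nat.beq_eq, List.all_eq_true] at hok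
  obtain ⟨hr, hw, hw0, hp0, hgl, htree, hp0', hgl', htree', hlen, hd⟩ := hok
  have hwP : (o.w.map L).prod ∈ P1 := word_mem_P1 hw
  have hlt14 : ∀ k ∈ o.w, k < 14 := fun k hk => by have := hw k hk; omega
  have key : ∀ m < 1 + o.tree.length, pk 10 o.pts m < 819 ∧ (B (pk 10 o.pts m) → B o.r) := by
    refine treeOK_mem (P := fun p => p < 819 ∧ (B p → B o.r)) _ 1 (fun m hm => ?_) (fun e he x hx => ?_) htree
    · rw [Nat.lt_one_iff.1 hm, hp0]
      exact ⟨hr, fun h => h⟩
    · obtain ⟨hA, hlt⟩ := ract_A5_gen (hgl e he)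
      set k := ([0, 4, 6, 8, 10] : List ℕ).getD e.1 0
      have hk14 : k < 14 := by omega
      refine ⟨(t819.ok k hk14 x hx.1).1, fun hB => hx.2 ?_⟩
      have hfix : t819.ract (L k)⁻¹ 0 = 0 := ract_A5 (inv_mem hA)
      have h2 := hclosed _ (inv_mem (L_mem_P1 hlt)) (by rw [hfix]; exact hB0) _ hB
      rwa [show img819 k x = t819.ract (L k) x from (t819.ract_L hk14 hx.1).symm, t819.ract_inv] at h2
  have hBr : B o.r := (key j (by omega)).2 (hjp ▸ ⟨hp, n, hn, rfl⟩)
  have all : ∀ m < 1 + o.tree'.length, B (pk 10 o.pts' m) := by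
    refine treeOK_mem (P := B) _ 1 (fun m hm => ?_) (fun e he x hx => ?_) htree'
    · rw [Nat.lt_one_iff.1 hm, hp0']
      exact hB0
    · have hlt := hgl' e he
      rcases Nat.lt_or_ge e.1 5 with h5 | h5
      · obtain ⟨hA, hlt12⟩ := ract_A5_gen h5
        have heq : ([[0], [4], [6], [8], [10], o.w] : List (List ℕ)).getD e.1 [] =
            [([0, 4, 6, 8, 10] : List ℕ).getD e.1 0] := by
          generalize e.1 = i at h5
          interval_cases i <;> rfl
        rw [heq, rImg_cons, rImg_nil,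
          show img819 (([0, 4, 6, 8, 10] : List ℕ).getD e.1 0) x = t819.ract _ x from
            (t819.ract_L (by omega) hx.1).symm]
        exact hclosed _ (L_mem_P1 hlt12) (by rw [ract_A5 hA]; exact hB0) x hx
      · rw [show e.1 = 5 by omega]
        show B (rImg img819 o.w x)
        rw [show rImg img819 o.w x = t819.ract _ x from (t819.ract_prod hlt14 hx.1).symm]
        refine hclosed _ hwP ?_ x hx
        rw [t819.ract_prod hlt14 (show 0 < t819.n from Nat.succ_pos _)]
        exact (show rImg t819.img o.w 0 = o.r from hw0) ▸ hBr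
  intro x hx
  obtain ⟨hn', -⟩ := distinct_nodup hd
  have hmem : x ∈ (List.range 819).map (pk 10 o.pts') := by
    have hsub : ((List.range 819).map (pk 10 o.pts')).toFinset ⊆ Finset.range 819 := fun y hy => by
      rw [List.mem_toFinset, List.mem_map] at hy
      obtain ⟨m, hm, rfl⟩ := hy
      exact Finset.mem_range.2 (all m (by rw [List.mem_range] at hm; omega)).1
    have heq := Finset.eq_of_subset_of_card_le hsub (by
      rw [List.toFinset_card_of_nodup hn', List.length_map, List.length_range, Finset.card_range])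
    have hxr := Finset.mem_range.2 hx
    rwa [← heq, List.mem_toFinset] at hxr
  obtain ⟨m, hm, rfl⟩ := List.mem_map.1 hmem
  exact (all m (by rw [List.mem_range] at hm; omega)).2

theorem P1_transitive : ∀ x < 819, ∃ g ∈ P1, t819.ract g 0 = x :=
  transitive_of_normal (fun g hg n hn => mul_mem (mul_mem (inv_mem hg) hn) hg) ⟨L 2, L_mem_P1 (by norm_num), by
    rw [t819.ract_L (by norm_num) (show 0 < 819 by norm_num)]
    decide +kernel⟩

theorem eq_one_of_fixes {g : P0} (h : ∀ x < 819, t819.ract g x = x) : g = 1 :=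
  eq_one_of_bases fun b hb => h b (by simp [bases] at hb; omega)

/-- The stabiliser of the first point in the six generator group. -/
theorem stab_P1 {g : P0} (hg : g ∈ P1) (h0 : t819.ract g 0 = 0) : g ∈ A5 := by
  classical
  have hle : A5 ≤ P1 ⊓ t819.fix [0] := le_inf
    ((Subgroup.closure_le _).2 (by
      rintro _ ⟨x, hx, rfl⟩
      exact L_mem_P1 (by simp at hx; omega)))
    fun a ha b hb => by obtain rfl := List.mem_singleton.1 hb; exact ract_A5 ha
  choose f hfP hf0 using fun x : Fin 819 => P1_transitive x.val x.isLt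
  let Φ : Fin 819 × ↥(P1 ⊓ t819.fix [0]) → P1 := fun p => ⟨p.2.1 * f p.1, mul_mem p.2.2.1 (hfP p.1)⟩
  have hΦ : Function.Injective Φ := by
    rintro ⟨i, s⟩ ⟨i', s'⟩ he
    have he' : s.1 * f i = s'.1 * f i' := congrArg Subtype.val he
    have hi : i = i' := by
      have := congrArg (fun g => t819.ract g 0) he'
      simp only [t819.ract_mul, s.2.2 0 (List.mem_singleton_self _), s'.2.2 0 (List.mem_singleton_self _), hf0] at this
      exact Fin.ext this
    subst hi
    exact Prod.ext rfl (Subtype.ext (mul_right_cancel he'))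
  have hcard := Nat.card_le_card_of_injective Φ hΦ
  rw [Nat.card_prod, Nat.card_eq_fintype_card, Fintype.card_fin, card_P1] at hcard
  have he : A5 = P1 ⊓ t819.fix [0] := Subgroup.eq_of_le_of_card_ge hle (by rw [card_A5]; omega)
  rw [he]
  exact ⟨hg, fun b hb => by rw [List.mem_singleton.1 hb]; exact h0⟩

theorem a_central_check : ([0, 4, 6, 8, 10] : List ℕ).all (fun k => eqW [k, 0] [0, k]) = true := by decide +kernel

theorem a_central {h : P0} (hh : h ∈ A5) : h * L 0 = L 0 * h := by
  have hle : A5 ≤ Subgroup.centralizer {L 0} := (Subgroup.closure_le _).2 (by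
    rintro _ ⟨x, hx, rfl⟩
    refine Subgroup.mem_centralizer_singleton_iff.2 ?_
    have hx' : 2 * x ∈ ([0, 4, 6, 8, 10] : List ℕ) := by simp at hx ⊢; omega
    have e := (eqW_sound (List.all_eq_true.1 a_central_check _ hx')).2.2
    have h14 : 2 * x < 14 := by simp at hx; omega
    simp only [ev_cons, ev_nil, mul_one, valA_small h14, valA_small (show 0 < 14 by norm_num)] at e
    first | exact e | exact e.symm)
  have := Subgroup.mem_centralizer_singleton_iff.1 (hle hh)
  first | exact this | exact this.symm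

theorem conjs_ok : conjs.map Prod.fst = [0, 2, 4, 6, 8, 10] ∧
    (conjs.all fun e => (e.2.all fun w => w.all fun k => Nat.blt k 12) &&
      eqW [e.1] (e.2.flatMap fun w => winv w ++ [0] ++ w)) = true ∧
    (cConj.all fun k => Nat.blt k 12) = true ∧
    eqW [4] (winv cConj ++ [0] ++ cConj) = true ∧
    eqW [6, 4, 6] (winv (cConj ++ [6]) ++ [0] ++ (cConj ++ [6])) = true ∧
    eqW [0] (winv [4] ++ winv [6, 4, 6] ++ [4] ++ [6, 4, 6]) = true := by decide +kernel

/-- A subgroup normalised by the six generators and moving the first point contains them. -/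
theorem P1_le_of_normal {N : Subgroup P0} (hle : N ≤ P1) (hN : ∀ g ∈ P1, ∀ n ∈ N, g⁻¹ * n * g ∈ N)
    (hne : N ≠ ⊥) : N = P1 := by
  refine le_antisymm hle ?_
  have hmove : ∃ n ∈ N, t819.ract n 0 ≠ 0 := by
    by_contra hall
    push_neg at hall
    refine hne (Subgroup.eq_bot_iff_forall N |>.2 fun n hn => eq_one_of_fixes fun x hx => ?_)
    obtain ⟨g, hg, rfl⟩ := P1_transitive x hx
    have h1 := hall _ (hN g⁻¹ (inv_mem hg) n hn)
    rw [inv_inv, t819.ract_mul, t819.ract_mul] at h1
    calc t819.ract n (t819.ract g 0) = t819.ract g (t819.ract g⁻¹ (t819.ract n (t819.ract g 0))) := by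
          rw [← t819.ract_mul g⁻¹ g, inv_mul_cancel, t819.ract_one]
      _ = t819.ract g 0 := by rw [h1]
  have htr := transitive_of_normal hN hmove
  -- every conjugate of the first generator lies in its coset
  have hconj : ∀ g ∈ P1, (L 0)⁻¹ * (g⁻¹ * L 0 * g) ∈ N := by
    intro g hg
    obtain ⟨n, hn, hn0⟩ := htr (t819.ract g 0) (t819.ract_lt g (show 0 < 819 by norm_num))
    have hA : g * n⁻¹ ∈ A5 := stab_P1 (mul_mem hg (inv_mem (hle hn))) (by
      rw [t819.ract_mul, ← hn0, ← t819.ract_mul, mul_inv_cancel, t819.ract_one])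
    have hc := a_central hA
    have e : g⁻¹ * L 0 * g = n⁻¹ * L 0 * n := by
      calc g⁻¹ * L 0 * g = n⁻¹ * (g * n⁻¹)⁻¹ * (L 0 * (g * n⁻¹)) * n := by group
        _ = n⁻¹ * L 0 * n := by rw [← hc]; group
    rw [e, show (L 0)⁻¹ * (n⁻¹ * L 0 * n) = ((L 0)⁻¹ * n⁻¹ * L 0) * n by group]
    exact mul_mem (hN _ (L_mem_P1 (by norm_num)) _ (inv_mem hn)) hn
  obtain ⟨hfst, hprods, hcw, hc1, hc2, hcom⟩ := conjs_ok
  simp only [List.all_eq_true, Bool.and_eq_true, Nat.blt_eq] at hprods hcw
  have hev : ∀ w : List ℕ, (∀ k ∈ w, k < 12) → ev w = (w.map L).prod :=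
    fun w hw => ev_small fun k hk => by have := hw k hk; omega
  have hval : ∀ w : List ℕ, (∀ k ∈ w, k < 12) →
      ev (winv w ++ [0] ++ w) = (w.map L).prod⁻¹ * L 0 * (w.map L).prod := by
    intro w hw
    rw [ev_append, ev_append, ev_winv, hev w hw, ev_cons, ev_nil, mul_one, valA_small (by norm_num)]
  have h6 : ∀ k ∈ cConj ++ [6], k < 12 := by
    intro k hk
    rcases List.mem_append.1 hk with h | h
    · exact hcw k h
    · simp at h; omega
  have hxc := hconj _ (word_mem_P1 hcw)
  have hyc := hconj _ (word_mem_P1 h6)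
  rw [← hval _ hcw, ← (eqW_sound hc1).2.2] at hxc
  rw [← hval _ h6, ← (eqW_sound hc2).2.2] at hyc
  have ha : L 0 ∈ N := by
    have e := (eqW_sound hcom).2.2
    rw [ev_cons, ev_nil, mul_one, valA_small (by norm_num)] at e
    simp only [ev_append, ev_winv] at e
    set a := L 0
    set x := ev [4]
    set y := ev [6, 4, 6]
    have haP : a ∈ P1 := L_mem_P1 (by norm_num)
    obtain ⟨n1, hn1, hx⟩ : ∃ n ∈ N, x = a * n := ⟨_, hxc, by group⟩
    obtain ⟨n2, hn2, hy⟩ : ∃ n ∈ N, y = a * n := ⟨_, hyc, by group⟩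
    have : a = n1⁻¹ * (a⁻¹ * n2⁻¹ * a) * (a⁻¹ * a⁻¹ * a * a) * ((a⁻¹ * n1 * a) * n2) :=
      e.trans (by rw [hx, hy]; group)
    rw [this, show a⁻¹ * a⁻¹ * a * a = 1 by group, mul_one]
    exact mul_mem (mul_mem (inv_mem hn1) (hN a haP _ (inv_mem hn2))) (mul_mem (hN a haP _ hn1) hn2)
  rw [P1, gen, Subgroup.closure_le]
  rintro _ ⟨x, hx, rfl⟩
  have hx2 : 2 * x ∈ conjs.map Prod.fst := by rw [hfst]; simp at hx ⊢; omega
  obtain ⟨e, he, hex⟩ := List.mem_map.1 hx2
  obtain ⟨hlt, heq⟩ := hprods e he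
  have h' := (eqW_sound heq).2.2
  have h14 : 2 * x < 14 := by simp at hx; omega
  rw [ev_cons, ev_nil, mul_one, hex, valA_small h14] at h'
  rw [SetLike.mem_coe, h']
  clear heq h'
  revert hlt
  generalize e.2 = ws
  intro hlt
  induction ws with
  | nil => exact one_mem N
  | cons w l ih =>
    rw [List.flatMap_cons, ev_append]
    refine mul_mem ?_ (ih fun w' hw' => hlt w' (List.mem_cons_of_mem _ hw'))
    rw [hval w (hlt w List.mem_cons_self)]
    have hcn := mul_mem ha (hconj _ (word_mem_P1 (hlt w List.mem_cons_self)))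
    rwa [← mul_assoc, mul_inv_cancel, one_mul] at hcn

/-- The six generator group is simple. -/
theorem P1_simple : IsSimpleGroup ↥P1 := by
  have : Nontrivial ↥P1 := by
    rw [← Finite.one_lt_card_iff_nontrivial, card_P1]; norm_num
  refine ⟨fun M hM => ?_⟩
  by_cases hb : M = ⊥
  · exact Or.inl hb
  right
  have h := P1_le_of_normal (N := M.map P1.subtype) (Subgroup.map_subtype_le M) (fun g hg n hn => by
    obtain ⟨m, hm, rfl⟩ := hn
    exact ⟨_, hM.conj_mem' m hm ⟨g, hg⟩, rfl⟩) (fun h => hb ((Subgroup.map_eq_bot_iff_of_injective M P1.subtype_injective).1 h))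
  refine Subgroup.map_injective P1.subtype_injective ?_
  rw [h, ← MonoidHom.range_eq_map, Subgroup.range_subtype]

theorem t_normal_check : (([0, 2, 4, 6, 8, 10] : List ℕ).all fun k =>
    eqW [13, k, 12] (cond (Nat.beq k 10) [10, 10] [k]) &&
    eqW [12, k, 13] (cond (Nat.beq k 10) [10, 10, 10, 10] [k])) = true := by decide +kernel

instance P1_normal : P1.Normal := by
  refine ⟨fun n hn g => ?_⟩
  have key : ∀ k ∈ ([0, 2, 4, 6, 8, 10] : List ℕ), (L 13 * L k * L 12 ∈ P1) ∧ (L 12 * L k * L 13 ∈ P1) := by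
    intro k hk
    have h := List.all_eq_true.1 t_normal_check k hk
    rw [Bool.and_eq_true] at h
    have hk14 : k < 14 := by simp at hk; omega
    have h12 : ∀ (b : Bool) (l : List ℕ), (∀ j ∈ l, j < 12) → ∀ j ∈ cond b l [k], j < 12 := by
      intro b l hl j hj
      cases b
      · simp at hj hk ⊢; omega
      · exact hl j hj
    have e1 := (eqW_sound h.1).2.2
    have e2 := (eqW_sound h.2).2.2
    rw [ev_small (by simp [hk14]), ev_small (fun j hj => lt_of_lt_of_le (h12 _ [10, 10] (by simp) j hj) (by norm_num))] at e1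
    rw [ev_small (by simp [hk14]),
      ev_small (fun j hj => lt_of_lt_of_le (h12 _ [10, 10, 10, 10] (by simp) j hj) (by norm_num))] at e2
    simp only [List.map_cons, List.map_nil, List.prod_cons, List.prod_nil, mul_one, ← mul_assoc] at e1 e2
    exact ⟨e1 ▸ word_mem_P1 (h12 _ _ (by simp)), e2 ▸ word_mem_P1 (h12 _ _ (by simp))⟩
  have h13 : L 13 = (L 12)⁻¹ := L_flp 12
  have hnorm : (⊤ : Subgroup P0) ≤ Subgroup.normalizer (P1 : Set P0) := by
    rw [← L_closure, Subgroup.closure_le]
    rintro _ ⟨x, hx, rfl⟩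
    rcases Nat.lt_or_ge x 12 with hlt | hge
    · exact Subgroup.le_normalizer (L_mem_P1 hlt)
    · obtain rfl : x = 12 := by simp at hx; omega
      rw [SetLike.mem_coe, Subgroup.mem_normalizer_iff]
      have conj : ∀ {g : P0}, (∀ k ∈ ([0, 2, 4, 6, 8, 10] : List ℕ), g * L k * g⁻¹ ∈ P1) →
          ∀ h ∈ P1, g * h * g⁻¹ ∈ P1 := by
        intro g hg h hh
        have hle : P1 ≤ P1.comap (MulAut.conj g).toMonoidHom := (Subgroup.closure_le _).2 (by
          rintro _ ⟨y, hy, rfl⟩
          exact hg (2 * y) (by simp at hy ⊢; omega))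
        exact hle hh
      refine fun h => ⟨conj (fun k hk => ?_) h, fun hh => ?_⟩
      · rw [← h13]; exact (key k hk).2
      · have h2 := conj (g := L 13) (fun k hk => by rw [h13, inv_inv, ← h13]; exact (key k hk).1) _ hh
        rw [h13] at h2
        rwa [show (L 12)⁻¹ * (L 12 * h * (L 12)⁻¹) * (L 12)⁻¹⁻¹ = h by group] at h2
  exact (Subgroup.mem_normalizer_iff.1 (hnorm (Subgroup.mem_top g)) n).1 hn

/-- Every nontrivial normal subgroup contains the six generators. -/
theorem P1_le_normal {N : Subgroup P0} (hN : N.Normal) (hne : N ≠ ⊥) : P1 ≤ N := by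
  by_cases h : N ⊓ P1 = ⊥
  · exfalso
    refine hne ((Subgroup.eq_bot_iff_forall N).2 fun n hn => ?_)
    have hcomm : ∀ g ∈ P1, n * g = g * n := by
      intro g hg
      have hmem : n * g * n⁻¹ * g⁻¹ ∈ N ⊓ P1 :=
        ⟨by simpa [mul_assoc] using mul_mem hn (hN.conj_mem _ (inv_mem hn) g),
          P1.mul_mem (P1_normal.conj_mem g hg n) (P1.inv_mem hg)⟩
      rw [h, Subgroup.mem_bot] at hmem
      calc n * g = n * g * n⁻¹ * g⁻¹ * (g * n) := by group
        _ = g * n := by rw [hmem, one_mul]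
    have hn0 : t819.ract n 0 = 0 := by
      by_contra h0
      have hlt : t819.ract n 0 < 819 := t819.ract_lt n (show 0 < 819 by norm_num)
      have hm := forallFrom_elim moved (show 1 ≤ t819.ract n 0 by omega) (by omega)
      rw [List.any_eq_true] at hm
      obtain ⟨k, hk, hk'⟩ := hm
      obtain ⟨j, hj, rfl⟩ := List.mem_iff_getElem.1 hk
      obtain ⟨hA, hlt12⟩ := ract_A5_gen (j := j) (by simpa using hj)
      rw [List.getD_eq_getElem _ _ hj] at hA hlt12
      have e := congrArg (fun g => t819.ract g 0) (hcomm _ (L_mem_P1 hlt12))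
      simp only [t819.ract_mul, ract_A5 hA] at e
      rw [t819.ract_L (by omega) hlt] at e
      rw [Bool.not_eq_true', show img819 _ _ = t819.ract n 0 from e, Nat.beq_refl] at hk'
      exact absurd hk' (by simp)
    refine eq_one_of_fixes fun x hx => ?_
    obtain ⟨g, hg, rfl⟩ := P1_transitive x hx
    have e := congrArg (fun g => t819.ract g 0) (hcomm g hg)
    simp only [t819.ract_mul, hn0] at e
    exact e.symm
  · exact (P1_le_of_normal inf_le_right (fun g hg n hn =>
      ⟨hN.conj_mem' n hn.1 g, P1.mul_mem (P1.mul_mem (P1.inv_mem hg) hn.2) hg⟩) h).symm.le.trans inf_le_left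

/-- A map not killing the first generator is injective. -/
theorem injective_of_ne {G : Type*} [Group G] (f : P0 →* G) (h : f (L 0) ≠ 1) : Function.Injective f := by
  refine (MonoidHom.ker_eq_bot_iff f).1 (by_contra fun hk => h ?_)
  exact MonoidHom.mem_ker.1 (P1_le_normal inferInstance hk (L_mem_P1 (by norm_num)))

/-- The six generator group has the order and simplicity of 3D4(2). -/
theorem P1_is3D4 : IsSimpleGroup ↥P1 ∧ Nat.card ↥P1 = 211341312 := ⟨P1_simple, card_P1⟩

end CfsgLib.Sporadic.ThPres
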