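import Cfsg.Agent.Lib.Sporadic.ThPres.Sound
import Cfsg.Agent.Lib.Sporadic.ThPres.Structure
import Cfsg.Agent.Lib.Sporadic.ThPres.SubPair.Valid
import Cfsg.Agent.Lib.Sporadic.ThPres.Rep.Hom

/-!
# The last generator carries the generators of `K` to their images (owner: helper9)

All pairs but one follow from single relators; the last one is found in the subgroup by a small enumeration and
identified there by the faithful representation.
-/

set_option autoImplicit false
set_option maxRecDepth 20000
set_option Elab.async false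

namespace CfsgLib.Sporadic.ThPres

open Cfsg CfsgLib.Sporadic

/-- The word of the element paired with `d c d⁻¹`. -/
def h2W : List ℕ := macDefs.getD 0 []

theorem h2W_small : h2W.all (fun k => Nat.blt k 14) = true := by decide +kernel

theorem ne_check : Rep.evalWord Rep.mats [0] ≠ Rep.idEnc := by decide +kernel

theorem rho_toTh_L0 : Rep.rho (toTh (L 0)) ≠ 1 := by
  intro h
  refine ne_check ?_
  rw [Rep.evalWord_mat (by simp), ← Rep.enc_one, List.map_singleton, List.prod_singleton]
  rw [toTh_L (by norm_num), Rep.rho_thL (by norm_num)] at h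
  rw [← Rep.unit_val (by norm_num), h, Units.val_one]

theorem rho_toTh_injective : Function.Injective (Rep.rho.comp toTh) :=
  injective_of_ne _ rho_toTh_L0

theorem toTh_injective : Function.Injective toTh := fun g h e =>
  rho_toTh_injective (by rw [MonoidHom.comp_apply, MonoidHom.comp_apply, e])

theorem pair_rels : SubPair.cert.rels.all
    (fun w => relWords.contains (red (w.map (gl [0, 2, 3, 4, 5, 6, 7])))) = true := by decide +kernel

theorem pair_subs : (SubPair.cert.subs.all fun w => (w.map (gl [0, 2, 3, 4, 5, 6, 7])).all fun k => Nat.blt k 14) = true := by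
  decide +kernel

theorem pair_closer :
    SubPair.closers.map (fun e => e.1.map (gl [0, 2, 3, 4, 5, 6, 7])) = [[14, 6, 4, 7, 15]] := by decide +kernel

theorem pair_eval : Rep.evalWord Rep.mats [14, 6, 4, 7, 15] = Rep.evalWord Rep.mats h2W := by decide +kernel

theorem pair_six : evT h2W = U * evT [6, 4, 7] * U⁻¹ := by
  have hmem : (([14, 6, 4, 7, 15] : List ℕ).map thL).prod ∈ Hs := by
    obtain ⟨e, he, he'⟩ := List.mem_map.1 (pair_closer ▸ List.mem_singleton_self ([14, 6, 4, 7, 15] : List ℕ))
    rw [← he']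
    refine closer_mem thL_flp [0, 2, 3, 4, 5, 6, 7]
      (setup thL_flp (fun k hk => thL_big hk) _ (by simp) relWords (fun w hw => th_rel hw) pair_rels)
      SubPair.base_ok SubPair.defs_ok SubPair.steps_ok Hs (fun w hw => ?_) SubPair.closers_ok he
    have hlt : ∀ k ∈ w.map (gl [0, 2, 3, 4, 5, 6, 7]), k < 14 := fun k hk => by
      simpa using List.all_eq_true.1 (List.all_eq_true.1 pair_subs w hw) k hk
    rw [← evT_small hlt]
    exact evT_mem _
  obtain ⟨y, hy⟩ := hmem
  have hsmall : ∀ k ∈ h2W, k < 14 := fun k hk => by simpa using List.all_eq_true.1 h2W_small k hk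
  have hrho : Rep.rho (toTh y) = Rep.rho (evT h2W) := by
    rw [hy, evT_small hsmall]
    exact Rep.rho_eq_of_eval (by simp) (fun k hk => (hsmall k hk).trans (by norm_num)) pair_eval
  have e : evT h2W = toTh y := by
    have := rho_toTh_injective (a₁ := y) (a₂ := ev h2W) hrho
    rw [this]
    rfl
  rw [e, hy, evT_small (w := [6, 4, 7]) (by simp)]
  simp [show thL 15 = U⁻¹ from thL_flp 14, mul_assoc]

/-- A relator certificate for a pair: representatives, whether inverted, the rotation. -/
noncomputable def rotOK (w : List ℕ) (r : ℕ) (inv : Bool) (rot : ℕ) : Bool :=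
  let R := cond inv (PairEnum.winv (relWords.getD r [])) (relWords.getD r [])
  Nat.blt r relWords.length && decide (red w = R.drop rot ++ R.take rot)

theorem rotOK_sound {w : List ℕ} {r : ℕ} {inv : Bool} {rot : ℕ} (h : rotOK w r inv rot = true) :
    (w.map thL).prod = 1 := by
  simp only [rotOK, Bool.and_eq_true, Nat.blt_eq, decide_eq_true_eq] at h
  obtain ⟨hr, he⟩ := h
  set R := cond inv (PairEnum.winv (relWords.getD r [])) (relWords.getD r []) with hRdef
  have hR : (R.map thL).prod = 1 := by
    have h1 : ((relWords.getD r []).map thL).prod = 1 := th_rel (by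
      rw [List.getD_eq_getElem _ _ hr]; exact List.getElem_mem hr)
    rw [hRdef]
    cases inv
    · exact h1
    · rw [cond_true, PairEnum.prod_winv thL_flp, h1, inv_one]
  rw [← prod_red thL_flp, he, List.map_append, List.prod_append]
  refine mul_eq_one_comm.1 ?_
  rw [← List.prod_append, ← List.map_append, List.take_append_drop, hR]

theorem rot_zero : rotOK ([0] ++ [14] ++ PairEnum.winv [0] ++ [15]) 28 true 2 = true := by decide +kernel
theorem rot_one : rotOK ([4] ++ [14] ++ PairEnum.winv [4] ++ [15]) 29 true 2 = true := by decide +kernel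
theorem rot_two : rotOK ([8] ++ [14] ++ PairEnum.winv [8] ++ [15]) 30 true 2 = true := by decide +kernel
theorem rot_three : rotOK ([12] ++ [14] ++ PairEnum.winv [13] ++ [15]) 34 false 1 = true := by decide +kernel
theorem rot_five : rotOK ([10, 10, 8, 11, 11] ++ [14] ++ PairEnum.winv [10, 10, 8, 11, 11] ++ [15]) 35 false 4 = true := by
  decide +kernel

theorem pair_of_rot {g p : List ℕ} (hg : ∀ k ∈ g, k < 14) (hp : ∀ k ∈ p, k < 14) {r : ℕ} {inv : Bool} {rot : ℕ}
    (h : rotOK (g ++ [14] ++ PairEnum.winv p ++ [15]) r inv rot = true) : evT g * U = U * evT p := by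
  have e := rotOK_sound h
  simp only [List.map_append, List.prod_append, List.map_singleton, List.prod_singleton,
    PairEnum.prod_winv thL_flp, show thL 15 = U⁻¹ from thL_flp 14, ← evT_small hg, ← evT_small hp] at e
  calc evT g * U = evT g * U * (evT p)⁻¹ * U⁻¹ * (U * evT p) := by group
    _ = U * evT p := by rw [e, one_mul]

theorem four_check : eqW [3, 5, 1, 3] [3, 5, 1, 2] = true ∧ eqW [8, 3, 5, 1, 3] [8, 3, 5, 1, 2] = true ∧
    eqW [2] [3] = true := by decide +kernel

theorem pair_four : evT [3, 5, 1, 3] * U = U * evT [8, 3, 5, 1, 3] := by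
  rw [evT_eqW four_check.1, evT_eqW four_check.2.1]
  have h := th_rel (w := [15, 3, 5, 1, 2, 14, 3, 0, 4, 2, 9]) (by decide +kernel)
  simp only [List.map_cons, List.map_nil, List.prod_cons, List.prod_nil, mul_one] at h
  rw [evT_small (by simp), evT_small (by simp)]
  simp only [List.map_cons, List.map_nil, List.prod_cons, List.prod_nil, mul_one]
  have h15 : thL 15 = (thL 14)⁻¹ := thL_flp 14
  have h9 : thL 9 = (thL 8)⁻¹ := thL_flp 8
  have h3 : thL 3 = (thL 2)⁻¹ := thL_flp 2
  have h5 : thL 5 = (thL 4)⁻¹ := thL_flp 4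
  have h1 : thL 1 = (thL 0)⁻¹ := thL_flp 0
  rw [h15, h9, h3, h5, h1] at h
  rw [h3, h5, h1]
  set a := thL 0
  set b := thL 2
  set c := thL 4
  set e := thL 8
  set u := thL 14
  calc b⁻¹ * (c⁻¹ * (a⁻¹ * b)) * u = u * (u⁻¹ * (b⁻¹ * (c⁻¹ * (a⁻¹ * (b * (u * (b⁻¹ * (a * (c * (b * e⁻¹))))))))))
        * (e * (b⁻¹ * (c⁻¹ * (a⁻¹ * b)))) := by group
    _ = u * (e * (b⁻¹ * (c⁻¹ * (a⁻¹ * b)))) := by rw [h, mul_one]

theorem valA_macro : valA 14 = ev h2W ∧ valA 15 = (ev h2W)⁻¹ := by
  have hsmall : ∀ k ∈ h2W, k < 14 := fun k hk => by simpa using List.all_eq_true.1 h2W_small k hk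
  have e : (h2W.map (valF 111)).prod = ev h2W := by
    rw [ev_small hsmall]
    exact congrArg List.prod (List.map_congr_left fun k hk => by
      rw [show valF 111 k = if k < 14 then L k else _ from rfl, if_pos (hsmall k hk)])
  constructor <;> rw [valA, valF, if_neg (by norm_num)] <;> norm_num <;> exact e

/-- The pairs hold. -/
theorem pairsHold : PairsHold := by
  have inv_pair : ∀ {g p : Spor.Th}, g * U = U * p → g⁻¹ * U = U * p⁻¹ := fun {g p} h => by
    calc g⁻¹ * U = g⁻¹ * (U * p) * p⁻¹ := by group
      _ = U * p⁻¹ := by rw [← h]; group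
  have p0 : evT [0] * U = U * evT [0] := pair_of_rot (by simp) (by simp) rot_zero
  have p1 : evT [4] * U = U * evT [4] := pair_of_rot (by simp) (by simp) rot_one
  have p2 : evT [8] * U = U * evT [8] := pair_of_rot (by simp) (by simp) rot_two
  have p3 : evT [12] * U = U * evT [13] := pair_of_rot (by simp) (by simp) rot_three
  have p5 : evT [10, 10, 8, 11, 11] * U = U * evT [10, 10, 8, 11, 11] :=
    pair_of_rot (by simp) (by simp) rot_five
  have p6 : evT [14] * U = U * evT [6, 4, 7] := by
    rw [show evT [14] = evT h2W by rw [evT, evT, ev_cons, ev_nil, mul_one, valA_macro.1], pair_six,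
      inv_mul_cancel_right]
  have inv1 : ∀ k, evT [PairEnum.flp k] = (evT [k])⁻¹ := fun k => evT_winv [k]
  intro j
  match j with
  | 0 => exact p0
  | 1 => exact p1
  | 2 => exact p2
  | 3 => exact p3
  | 4 => exact pair_four
  | 5 => exact p5
  | 6 => exact p6
  | 7 => exact (inv1 0) ▸ inv_pair p0
  | 8 => exact (inv1 4) ▸ inv_pair p1
  | 9 => exact (inv1 8) ▸ inv_pair p2
  | 10 =>
    have := inv_pair p3
    rwa [← inv1 12, ← inv1 13] at this
  | 11 =>
    have := inv_pair pair_four
    rwa [← evT_winv, ← evT_winv] at this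
  | 12 =>
    have := inv_pair p5
    rwa [← evT_winv] at this
  | 13 =>
    have := inv_pair p6
    rwa [← evT_winv, ← evT_winv] at this
  | n + 14 => simp [Kg, Kp, evT_nil]

end CfsgLib.Sporadic.ThPres
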