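import Cfsg.Agent.Lib.Sporadic.ThPres.CoverCheck0
import Cfsg.Agent.Lib.Sporadic.ThPres.CoverCheck1
import Cfsg.Agent.Lib.Sporadic.ThPres.CoverCheck2
import Cfsg.Agent.Lib.Sporadic.ThPres.CoverCheck3
import Cfsg.Agent.Lib.Sporadic.ThPres.CoverCheck4
import Cfsg.Agent.Lib.Sporadic.ThPres.CoverCheck5
import Cfsg.Agent.Lib.Sporadic.ThPres.CoverCheck6
import Cfsg.Agent.Lib.Sporadic.ThPres.CoverCheck7
import Cfsg.Agent.Lib.Sporadic.ThPres.CoverCheck8
import Cfsg.Agent.Lib.Sporadic.ThPres.CoverCheck9
import Cfsg.Agent.Lib.Sporadic.ThPres.CoverCheck10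
import Cfsg.Agent.Lib.Sporadic.ThPres.FactsPart0
import Cfsg.Agent.Lib.Sporadic.ThPres.FactsPart1
import Cfsg.Agent.Lib.Sporadic.ThPres.FactsPart2
import Cfsg.Agent.Lib.Sporadic.ThPres.FactsPart3
import Cfsg.Agent.Lib.Sporadic.ThPres.FactsPart4
import Cfsg.Agent.Lib.Sporadic.ThPres.FactsPart5
import Cfsg.Agent.Lib.Sporadic.ThPres.FactsPart6
import Cfsg.Agent.Lib.Sporadic.ThPres.FactsPart7
import Cfsg.Agent.Lib.Sporadic.ThPres.Mu
import Cfsg.Agent.Lib.Sporadic.ThPres.Pairs
import Cfsg.Agent.Lib.Sporadic.ThPres.StabData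
import Cfsg.Agent.Lib.Sporadic.ThPres.KData

/-!
# The index is at most 143127000 (owner: helper9)
-/

set_option autoImplicit false
set_option maxRecDepth 20000
set_option Elab.async false

namespace CfsgLib.Sporadic.ThPres

open Cfsg CfsgLib.Sporadic
open CfsgLib.ThreeTrans.CosetIndex (forallFrom forallFrom_elim)

theorem loops_ok : loops.all loopOK = true := by decide +kernel

theorem reps_first : reps.getD 0 [] = [] ∧ reps.getD 1 [] = [some [], none] := by decide +kernel

theorem facts_ok : factsOK factTree reps loops 0 2197 = true := by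
  have h0 := facts_part0
  have c {a b m l : ℕ} (h1 : factsOK factTree reps loops 0 a = true) (h2 : factsOK factTree reps loops m b = true)
      (hm : Nat.beq (0 + a) m = true) (hl : Nat.beq (a + b) l = true) : factsOK factTree reps loops 0 l = true :=
    CfsgLib.Recog.SporBound.forallFrom_cat h1 h2 hm hl
  have h1 := c (l := 550) h0 facts_part1 rfl rfl
  have h2 := c (l := 825) h1 facts_part2 rfl rfl
  have h3 := c (l := 1100) h2 facts_part3 rfl rfl
  have h4 := c (l := 1375) h3 facts_part4 rfl rfl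
  have h5 := c (l := 1650) h4 facts_part5 rfl rfl
  have h6 := c (l := 1925) h5 facts_part6 rfl rfl
  exact c (l := 2197) h6 facts_part7 rfl rfl

/-- Every fact holds. -/
theorem holds : HoldsUpTo factTree reps 2197 :=
  facts_sound pairsHold (fun L hL => List.all_eq_true.1 loops_ok L hL) reps_first.1 reps_first.2
    fun q hq => forallFrom_elim facts_ok (Nat.zero_le q) (by omega)

/-- A representative. -/
noncomputable def Wr (i : ℕ) : Spor.Th := Wv reps i

theorem Wr_zero : Wr 0 = 1 := by rw [Wr, Wv, reps_first.1]; rfl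

/-- The stabiliser of a double coset. -/
noncomputable def stabP (i : ℕ) : Subgroup P0 :=
  Hs.comap ((MulAut.conj (Wr i)).toMonoidHom.comp toTh)

theorem mem_stabP {i : ℕ} {p : P0} : p ∈ stabP i ↔ Wr i * toTh p * (Wr i)⁻¹ ∈ Hs := Iff.rfl

/-- The covers. -/
noncomputable def coverAt (i : ℕ) : Cover :=
  [cover0, cover1, cover2, cover3, cover4, cover5, cover6, cover7, cover8, cover9, cover10].getD i cover0

theorem coverAt_ok {i : ℕ} (hi : i < 11) : (coverAt i).ok factTree 2197 i = true := by
  interval_cases i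
  exacts [cover0_ok, cover1_ok, cover2_ok, cover3_ok, cover4_ok, cover5_ok, cover6_ok, cover7_ok, cover8_ok,
    cover9_ok, cover10_ok]

theorem stab_of_fact {i q : ℕ} (hq : q < 2197) (hst : (factAt factTree q).1.st = true)
    (hi : (factAt factTree q).1.i = i) : ev (factAt factTree q).1.a ∈ stabP i := by
  have h := holds q hq
  rw [Holds, hst, if_pos rfl, hi] at h
  rw [mem_stabP, show Wr i * toTh (ev (factAt factTree q).1.a) * (Wr i)⁻¹ = evT (factAt factTree q).1.n by
    show Wv reps i * evT (factAt factTree q).1.a * (Wv reps i)⁻¹ = _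
    rw [h, mul_inv_cancel_right]]
  exact evT_mem _

theorem rImgMu_eq {w : List ℕ} (h : ∀ k ∈ w, k < 14) {x : ℕ} (hx : x < 17199) :
    rImg imgMu w x = tMu.ract (w.map L).prod x := (tMu.ract_prod h hx).symm

theorem Lwinv (w : List ℕ) : ((PairEnum.winv w).map L).prod = (w.map L).prod⁻¹ := PairEnum.prod_winv L_flp w

theorem winv_lt {w : List ℕ} (h : ∀ k ∈ w, k < 14) : ∀ k ∈ PairEnum.winv w, k < 14 := by
  intro k hk
  simp only [PairEnum.winv, List.mem_map, List.mem_reverse] at hk
  obtain ⟨x, hx, rfl⟩ := hk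
  have := h x hx
  have := flp_half x
  omega

/-- Every state is reached from the inverse of an edge word by the stabiliser. -/
theorem cover_reach {i : ℕ} (hi : i < 11) {x : ℕ} (hx : x < 17199) : ∃ q rev, q < 2197 ∧
    (factAt factTree q).1.st = false ∧ cond rev (factAt factTree q).1.k (factAt factTree q).1.i = i ∧
    ∃ s ∈ stabP i, tMu.ract ((ev (cond rev (factAt factTree q).1.m (factAt factTree q).1.a))⁻¹ * s) 0 = x := by
  have hok := coverAt_ok hi
  set C := coverAt i
  simp only [Cover.ok, Bool.and_eq_true, Nat.ble_eq] at hok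
  obtain ⟨hne, hg, he, hs, hidx⟩ := hok
  have key : ∀ j < 17199, C.pt j < 17199 ∧ ∃ q rev, q < 2197 ∧
      (factAt factTree q).1.st = false ∧ cond rev (factAt factTree q).1.k (factAt factTree q).1.i = i ∧
      ∃ s ∈ stabP i, tMu.ract ((ev (cond rev (factAt factTree q).1.m (factAt factTree q).1.a))⁻¹ * s) 0 = C.pt j := by
    intro j
    induction j using Nat.strong_induction_on with
    | _ j ih =>
      intro hj
      rcases Nat.lt_or_ge j C.ne with hjne | hjne
      · have h := forallFrom_elim he (Nat.zero_le j) (by omega)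
        simp only [Cover.edgeOK, Bool.and_eq_true, List.all_eq_true, Nat.blt_eq, Nat.beq_eq, Bool.not_eq_true'] at h
        obtain ⟨hlt, hq, hst, hii, heq, hpt⟩ := h
        have e := (eqW_sound heq).2.2
        rw [ev_small hlt] at e
        have hr := rImgMu_eq (winv_lt hlt) (x := 0) (by norm_num)
        rw [Lwinv] at hr
        rw [hpt, hr]
        refine ⟨tMu.ract_lt _ (show 0 < 17199 by norm_num), (C.edge j).1, (C.edge j).2.1, hq, hst, hii, 1, one_mem _,
          by rw [mul_one, e]⟩
      · have h := forallFrom_elim hs hjne (by omega)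
        simp only [Cover.stepOK, Bool.and_eq_true, Nat.blt_eq, Nat.beq_eq] at h
        obtain ⟨hpar, hsw, hpt⟩ := h
        set m := Nat.land (C.codeAt j) 15
        have hmem : C.stepWords.getD m [] ∈ C.stepWords := by
          rw [List.getD_eq_getElem _ _ hsw]; exact List.getElem_mem hsw
        have hword : (∀ k ∈ C.stepWords.getD m [], k < 14) ∧ ((C.stepWords.getD m []).map L).prod ∈ stabP i := by
          revert hmem
          generalize C.stepWords.getD m [] = w
          intro hmem
          have hgen : ∀ e ∈ C.gens, (∀ k ∈ e.2, k < 14) ∧ (e.2.map L).prod ∈ stabP i := fun e he' => by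
            have h := List.all_eq_true.1 hg e he'
            simp only [Bool.and_eq_true, List.all_eq_true, Nat.blt_eq, Nat.beq_eq] at h
            obtain ⟨hlt, hq, hst, hii, heq⟩ := h
            have e' := (eqW_sound heq).2.2
            rw [ev_small hlt] at e'
            exact ⟨hlt, e' ▸ stab_of_fact hq hst hii⟩
          simp only [Cover.stepWords, List.mem_append, List.mem_map] at hmem
          rcases hmem with ⟨e, he', rfl⟩ | ⟨e, he', rfl⟩
          · exact hgen e he'
          · obtain ⟨h1, h2⟩ := hgen e he'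
            exact ⟨winv_lt h1, by rw [Lwinv]; exact inv_mem h2⟩
        obtain ⟨hparlt, q, rev, hq, hst, hii, s, hsS, hsx⟩ := ih _ hpar (hpar.trans hj)
        rw [hpt, rImgMu_eq hword.1 hparlt]
        refine ⟨tMu.ract_lt _ hparlt, q, rev, hq, hst, hii, s * _, mul_mem hsS hword.2, ?_⟩
        rw [← mul_assoc, tMu.ract_mul, hsx]
  have h := forallFrom_elim hidx (Nat.zero_le x) (by omega)
  simp only [Cover.idxOK, Bool.and_eq_true, Nat.blt_eq, Nat.beq_eq] at h
  have := (key _ h.1).2
  rwa [h.2] at this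

theorem tMu_transitive {x : ℕ} (hx : x < 17199) : ∃ g : P0, tMu.ract g 0 = x := by
  obtain ⟨q, rev, -, -, -, s, -, h⟩ := cover_reach (i := 0) (by norm_num) hx
  exact ⟨_, h⟩

/-- The subgroup of the generators of `K`. -/
noncomputable def kSub : Subgroup P0 := Subgroup.closure (Set.range fun j => ev (Kg.getD j []))

theorem kSub_conj {k : P0} (hk : k ∈ kSub) : ∃ k', toTh k * U = U * toTh k' := by
  induction hk using Subgroup.closure_induction with
  | mem g hg =>
    obtain ⟨j, rfl⟩ := hg
    exact ⟨ev (Kp.getD j []), pairsHold j⟩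
  | one => exact ⟨1, by simp⟩
  | mul g g' _ _ hg hg' =>
    obtain ⟨a, ha⟩ := hg
    obtain ⟨b, hb⟩ := hg'
    exact ⟨a * b, by rw [map_mul, map_mul, mul_assoc, hb, ← mul_assoc, ha, mul_assoc]⟩
  | inv g _ hg =>
    obtain ⟨a, ha⟩ := hg
    refine ⟨a⁻¹, ?_⟩
    rw [map_inv, map_inv]
    calc (toTh g)⁻¹ * U = (toTh g)⁻¹ * (U * toTh a) * (toTh a)⁻¹ := by group
      _ = U * (toTh a)⁻¹ := by rw [← ha]; group

theorem kg_fix : (List.range 14).all (fun j =>
    Nat.beq (rImg imgMu ((Kg.getD j []).flatMap fun y => cond (Nat.blt y 14) [y]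
      (cond (Nat.beq y 14) h2W (PairEnum.winv h2W))) 0) 0) = true := by decide +kernel

theorem kg_items : Kg.all (fun w => w.all fun y => Nat.blt y 16) = true := by decide +kernel

theorem kSub_le : kSub ≤ tMu.fix [0] := by
  refine (Subgroup.closure_le _).2 ?_
  rintro _ ⟨j, rfl⟩ b hb
  obtain rfl := List.mem_singleton.1 hb
  show tMu.ract (ev (Kg.getD j [])) 0 = 0
  rcases Nat.lt_or_ge j Kg.length with hj | hj
  · have hsmall : ∀ k ∈ h2W, k < 14 := fun k hk => by simpa using List.all_eq_true.1 h2W_small k hk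
    set ex := fun y => cond (Nat.blt y 14) [y] (cond (Nat.beq y 14) h2W (PairEnum.winv h2W))
    have hex : ∀ y < 16, (∀ k ∈ ex y, k < 14) ∧ valA y = ((ex y).map L).prod := by
      intro y hy
      rcases Nat.lt_or_ge y 14 with h | h
      · simp [ex, show Nat.blt y 14 = true by simpa using h, valA_small h, h]
      · interval_cases y
        · exact ⟨hsmall, by rw [valA_macro.1, ev_small hsmall]; rfl⟩
        · exact ⟨winv_lt hsmall, by rw [valA_macro.2, ev_small hsmall, ← Lwinv]; rfl⟩
    have hw : ∀ y ∈ Kg.getD j [], y < 16 := fun y hy => by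
      rw [List.getD_eq_getElem _ _ hj] at hy
      simpa using List.all_eq_true.1 (List.all_eq_true.1 kg_items _ (List.getElem_mem hj)) y hy
    have e : ∀ w : List ℕ, (∀ y ∈ w, y < 16) → (∀ k ∈ w.flatMap ex, k < 14) ∧ ev w = ((w.flatMap ex).map L).prod := by
      intro w hw
      induction w with
      | nil => simp
      | cons y w ih =>
        obtain ⟨h1, h2⟩ := ih fun z hz => hw z (List.mem_cons_of_mem _ hz)
        obtain ⟨h3, h4⟩ := hex y (hw y List.mem_cons_self)
        refine ⟨fun k hk => ?_, ?_⟩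
        · rw [List.flatMap_cons, List.mem_append] at hk
          exact hk.elim (h3 k) (h1 k)
        · rw [ev_cons, h2, h4, List.flatMap_cons, List.map_append, List.prod_append]
    obtain ⟨h1, h2⟩ := e _ hw
    rw [h2, ← rImgMu_eq h1 (by norm_num)]
    exact Nat.eq_of_beq_eq_true (List.all_eq_true.1 kg_fix j (List.mem_range.2 (by
      have : Kg.length = 14 := rfl
      omega)))
  · rw [List.getD_eq_default _ _ hj, ev_nil, tMu.ract_one]

/-- Membership of a word in `K`. -/
noncomputable def inK (w : List ℕ) (ks : List ℕ) : Bool := eqW w (kgW ks)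

theorem kLvls_ok : (lvlsOK (fun w => rImg imgA (kgW w)) 819 10 kLvls && Nat.beq (orbitProd kLvls) 36864 &&
    (gensOf kLvls).all (fun w => isA (kgW w))) = true := by decide +kernel

theorem kgW_mem : ∀ w : List ℕ, ev (kgW w) ∈ kSub
  | [] => one_mem _
  | j :: w => by
    rw [show kgW (j :: w) = Kg.getD j [] ++ kgW w from List.flatMap_cons, ev_append]
    exact mul_mem (Subgroup.subset_closure ⟨j, rfl⟩) (kgW_mem w)

theorem card_fix_le : Nat.card (tMu.fix [0]) ≤ 36864 := by
  choose f hf using fun x : Fin 17199 => tMu_transitive x.isLt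
  let Φ : Fin 17199 × ↥(tMu.fix [0]) → P0 := fun p => p.2.1 * f p.1
  have hΦ : Function.Injective Φ := by
    rintro ⟨i, s⟩ ⟨i', s'⟩ he
    have hi : i = i' := by
      have := congrArg (fun g => tMu.ract g 0) (show s.1 * f i = s'.1 * f i' from he)
      simp only [tMu.ract_mul, s.2 0 (List.mem_singleton_self _), s'.2 0 (List.mem_singleton_self _), hf] at this
      exact Fin.ext this
    subst hi
    exact Prod.ext rfl (Subtype.ext (mul_right_cancel he))
  have := Nat.card_le_card_of_injective Φ hΦ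
  rw [Nat.card_prod, Nat.card_eq_fintype_card, Fintype.card_fin, natCard_P0] at this
  omega

theorem kSub_eq : kSub = tMu.fix [0] := by
  have hok := kLvls_ok
  simp only [Bool.and_eq_true, Nat.beq_eq, List.all_eq_true] at hok
  obtain ⟨⟨hl, hp⟩, hg⟩ := hok
  have hle := orbitProd_le t819 (fun w => ev (kgW w)) (fun w => rImg imgA (kgW w)) 10
    (fun w => isA (kgW w) = true) (fun w hw x hx => ev_ract hw hx) kSub hl hg (fun w _ => kgW_mem w)
  rw [hp] at hle
  have h0 : 0 < Nat.card (kSub ⊓ t819.fix (kLvls.map Lvl.base) : Subgroup P0) := Nat.card_pos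
  exact Subgroup.eq_of_le_of_card_ge kSub_le (card_fix_le.trans (le_trans (Nat.le_mul_of_pos_right _ h0) hle))

/-- The union of the listed double cosets. -/
def dcUnion : Set Spor.Th := {g | ∃ h ∈ Hs, ∃ i < 11, ∃ p : P0, g = h * Wr i * toTh p}

theorem dcUnion_one : (1 : Spor.Th) ∈ dcUnion := ⟨1, one_mem _, 0, by norm_num, 1, by simp [Wr_zero]⟩

theorem dcUnion_mul {g : Spor.Th} (hg : g ∈ dcUnion) (p : P0) : g * toTh p ∈ dcUnion := by
  obtain ⟨h, hh, i, hi, q, rfl⟩ := hg
  exact ⟨h, hh, i, hi, q * p, by simp [mul_assoc]⟩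

theorem fact_lt : forallFrom (fun q => Nat.blt (factAt factTree q).1.i 11 && Nat.blt (factAt factTree q).1.k 11) 0 2197 = true := by
  decide +kernel

theorem dcUnion_U {g : Spor.Th} (hg : g ∈ dcUnion) : g * U ∈ dcUnion := by
  obtain ⟨h, hh, i, hi, p, rfl⟩ := hg
  obtain ⟨q, rev, hq, hst, hii, s, hs, hsx⟩ :=
    cover_reach hi (x := tMu.ract p⁻¹ 0) (tMu.ract_lt _ (show 0 < 17199 by norm_num))
  set f := (factAt factTree q).1 with hf
  set A := cond rev f.m f.a with hA
  have hk : (ev A)⁻¹ * s * p ∈ kSub := by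
    rw [kSub_eq]
    intro b hb
    obtain rfl := List.mem_singleton.1 hb
    rw [tMu.ract_mul, hsx, ← tMu.ract_mul, inv_mul_cancel, tMu.ract_one]
  obtain ⟨k', hk'⟩ := kSub_conj hk
  have he : ∃ n ∈ Hs, ∃ M : P0, Wr i * evT A * U = n * Wr (cond rev f.i f.k) * toTh M := by
    have he := holds q hq
    rw [Holds, ← hf, hst] at he
    simp only [Bool.false_eq_true, if_false] at he
    rw [hA]
    cases rev with
    | false => exact ⟨evT f.n, evT_mem _, ev f.m, by rw [← hii]; exact he⟩
    | true =>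
      refine ⟨evT (winv f.n), evT_mem _, ev (f.a ++ acW), ?_⟩
      rw [← hii]
      show Wv reps f.k * evT f.m * U = evT (winv f.n) * Wv reps f.i * evT (f.a ++ acW)
      rw [evT_winv, evT_append, ← U_sq]
      calc Wv reps f.k * evT f.m * U = (evT f.n)⁻¹ * (evT f.n * Wv reps f.k * evT f.m) * U := by group
        _ = _ := by rw [← he]; group
  obtain ⟨n, hn, M, hM⟩ := he
  have hsW : Wr i * toTh s⁻¹ * (Wr i)⁻¹ ∈ Hs := (stabP i).inv_mem hs
  have hlt : cond rev f.i f.k < 11 := by
    have h := forallFrom_elim fact_lt (Nat.zero_le q) (by omega)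
    rw [← hf, Bool.and_eq_true, Nat.blt_eq, Nat.blt_eq] at h
    cases rev
    · exact h.2
    · exact h.1
  refine ⟨h * (Wr i * toTh s⁻¹ * (Wr i)⁻¹) * n, mul_mem (mul_mem hh hsW) hn, _, hlt, M * k', ?_⟩
  calc h * Wr i * toTh p * U
      = h * (Wr i * toTh s⁻¹ * (Wr i)⁻¹) * (Wr i * evT A * (toTh ((ev A)⁻¹ * s * p) * U)) := by
        simp only [map_mul, map_inv, evT]; group
    _ = h * (Wr i * toTh s⁻¹ * (Wr i)⁻¹) * (Wr i * evT A * U * toTh k') := by rw [hk']; group
    _ = _ := by rw [hM, map_mul]; group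

theorem dcUnion_L {g : Spor.Th} (hg : g ∈ dcUnion) {k : ℕ} (hk : k < 16) : g * thL k ∈ dcUnion := by
  rcases Nat.lt_or_ge k 14 with h | h
  · rw [← toTh_L h]
    exact dcUnion_mul hg _
  · interval_cases k
    · exact dcUnion_U hg
    · rw [show thL 15 = U⁻¹ from thL_flp 14, U_inv, ← mul_assoc]
      exact dcUnion_mul (dcUnion_U hg) _

theorem mem_dcUnion (g : Spor.Th) : g ∈ dcUnion := by
  have hgen : ∀ y : Spor.Th.Gen, ∃ k, k + 1 < 16 ∧ k % 2 = 0 ∧ PresentedGroup.of y = thL k := by
    intro y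
    refine ⟨2 * genNo y, by cases y <;> simp [genNo], by omega, ?_⟩
    exact (thL_code (y, true)).symm
  have : ∀ x : Spor.Th, x ∈ Subgroup.closure (Set.range (PresentedGroup.of (rels := _))) →
      ∀ a ∈ dcUnion, a * x ∈ dcUnion ∧ a * x⁻¹ ∈ dcUnion := by
    intro x hx
    induction hx using Subgroup.closure_induction with
    | mem y hy =>
      obtain ⟨y, rfl⟩ := hy
      obtain ⟨k, hk, h2, e⟩ := hgen y
      intro a ha
      rw [e]
      refine ⟨dcUnion_L ha (by omega), ?_⟩
      rw [← thL_flp]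
      refine dcUnion_L ha ?_
      have h1 := flp_half k
      omega
    | one => simp
    | mul y z _ _ hy hz =>
      intro a ha
      exact ⟨by rw [← mul_assoc]; exact (hz _ (hy a ha).1).1,
        by rw [mul_inv_rev, ← mul_assoc]; exact (hy _ (hz a ha).2).2⟩
    | inv y _ hy =>
      intro a ha
      rw [inv_inv]
      exact ⟨(hy a ha).2, (hy a ha).1⟩
  have h := (this g (by rw [PresentedGroup.closure_range_of]; exact Subgroup.mem_top g) 1 dcUnion_one).1
  rwa [one_mul] at h

/-- The orders of the stabilisers. -/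
def stabOrders : List ℕ := [634023936, 36864, 6, 486, 288, 54, 13824, 72, 126, 78, 3528]

/-- The levels of a stabiliser. -/
def lvlsAt (i : ℕ) : List Lvl :=
  [[], stabLvls1, stabLvls2, stabLvls3, stabLvls4, stabLvls5, stabLvls6, stabLvls7, stabLvls8, stabLvls9,
    stabLvls10].getD i []

/-- The generators of the levels are words in the items of stabilising facts. -/
noncomputable def lvlsFrom (i : ℕ) : Bool :=
  let items := (coverAt i).gens.map fun e => (factAt factTree e.1).1.a.getD 0 999
  (coverAt i).gens.all (fun e => Nat.beq (factAt factTree e.1).1.a.length 1) &&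
    ((gensOf (lvlsAt i)).all fun w => w.all fun y => items.contains y || items.contains (Nat.xor y 1))

theorem stab_lvls_ok : forallFrom (fun i => lvlsOK (rImg imgA) 819 10 (lvlsAt i) &&
    (Nat.beq (orbitProd (lvlsAt i)) (stabOrders.getD i 0) && ((gensOf (lvlsAt i)).all isA && lvlsFrom i))) 1 10 = true := by
  decide +kernel

theorem card_stabP_ge {i : ℕ} (hi : i < 11) : stabOrders.getD i 0 ≤ Nat.card (stabP i) := by
  rcases Nat.eq_zero_or_pos i with rfl | hpos
  · have : stabP 0 = ⊤ := eq_top_iff.2 fun p _ => by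
      rw [mem_stabP, Wr_zero, one_mul, inv_one, mul_one]
      exact ⟨p, rfl⟩
    rw [this, Subgroup.card_top, natCard_P0]
    rfl
  have hok := forallFrom_elim stab_lvls_ok hpos (show i < 1 + 10 by omega)
  simp only [Bool.and_eq_true, Nat.beq_eq] at hok
  obtain ⟨hl, hp, hg, hfrom⟩ := hok
  simp only [lvlsFrom, Bool.and_eq_true, List.all_eq_true, Nat.beq_eq, Bool.or_eq_true, List.contains_iff_mem] at hfrom
  obtain ⟨hlen, hfrom⟩ := hfrom
  have hgens := (coverAt_ok hi)
  simp only [Cover.ok, Bool.and_eq_true] at hgens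
  have hitem : ∀ y ∈ (coverAt i).gens.map (fun e => (factAt factTree e.1).1.a.getD 0 999), valA y ∈ stabP i := by
    intro y hy
    obtain ⟨e, he, rfl⟩ := List.mem_map.1 hy
    have h := List.all_eq_true.1 hgens.2.1 e he
    simp only [Bool.and_eq_true, Nat.blt_eq, Nat.beq_eq] at h
    have hm := stab_of_fact h.2.1 h.2.2.1 h.2.2.2.1
    obtain ⟨z, hz⟩ := List.length_eq_one_iff.1 (hlen e he)
    rw [hz] at hm ⊢
    simpa using hm
  have hmem : ∀ w ∈ gensOf (lvlsAt i), ev w ∈ stabP i := fun w hw => list_prod_mem fun g hg' => by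
    obtain ⟨y, hy, rfl⟩ := List.mem_map.1 hg'
    rcases hfrom w hw y hy with h | h
    · exact hitem y h
    · have h2 := inv_mem (hitem _ h)
      rw [show valA (Nat.xor y 1) = (valA y)⁻¹ from valF_flp 112 y, inv_inv] at h2
      exact h2
  have hle := orbitProd_le t819 ev (rImg imgA) 10 (fun w => isA w = true) (fun w hw x hx => ev_ract hw hx)
    (stabP i) hl (List.all_eq_true.1 hg) hmem
  rw [hp] at hle
  exact le_trans (Nat.le_mul_of_pos_right _ Nat.card_pos) hle

theorem orders_sum : (∑ i : Fin 11, 634023936 / stabOrders.getD i 0) = 143127000 ∧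
    ∀ i : Fin 11, 0 < stabOrders.getD i 0 := by decide +kernel

theorem finite_quot_and_index_le : Finite (Spor.Th ⧸ Hs) ∧ Hs.index ≤ 143127000 := by
  classical
  let F : (Σ i : Fin 11, P0 ⧸ stabP i) → Spor.Th ⧸ Hs := fun x =>
    Quotient.liftOn' x.2 (fun p => ((toTh p * (Wr x.1)⁻¹ : Spor.Th) : Spor.Th ⧸ Hs)) (fun a b hab => by
      rw [QuotientGroup.leftRel_apply] at hab
      rw [QuotientGroup.eq]
      rw [mem_stabP, map_mul, map_inv] at hab
      simpa [mul_assoc] using hab)
  have hsurj : Function.Surjective F := by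
    intro q
    obtain ⟨g, rfl⟩ := QuotientGroup.mk_surjective q
    obtain ⟨h, hh, i, hi, p, hg⟩ := mem_dcUnion g⁻¹
    refine ⟨⟨⟨i, hi⟩, ((p⁻¹ : P0) : P0 ⧸ stabP i)⟩, ?_⟩
    show ((toTh p⁻¹ * (Wr i)⁻¹ : Spor.Th) : Spor.Th ⧸ Hs) = g
    rw [QuotientGroup.eq, show g = (h * Wr i * toTh p)⁻¹ by rw [← hg, inv_inv]]
    simpa [mul_assoc] using inv_mem hh
  refine ⟨Finite.of_surjective F hsurj, ?_⟩
  rw [Subgroup.index_eq_card]
  refine (Nat.card_le_card_of_surjective F hsurj).trans ?_
  rw [Nat.card_sigma, ← orders_sum.1]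
  refine Finset.sum_le_sum fun i _ => ?_
  rw [← Subgroup.index_eq_card]
  have h1 := (stabP i).index_mul_card
  rw [natCard_P0] at h1
  rw [Nat.le_div_iff_mul_le (orders_sum.2 i), ← h1]
  exact Nat.mul_le_mul_left _ (card_stabP_ge i.isLt)

instance finite_Th : Finite Spor.Th := by
  have := finite_quot_and_index_le.1
  have : Finite ↥Hs := Finite.of_surjective _ toTh.rangeRestrict_surjective
  exact Finite.of_equiv _ (Subgroup.groupEquivQuotientProdSubgroup (s := Hs)).symm

theorem card_Hs : Nat.card ↥Hs = 634023936 := by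
  rw [← natCard_P0]
  exact (Nat.card_congr (MonoidHom.ofInjective toTh_injective).toEquiv).symm

theorem card_le : Nat.card Spor.Th ≤ 90745943887872000 := by
  rw [← Hs.index_mul_card, card_Hs]
  exact (Nat.mul_le_mul_right _ finite_quot_and_index_le.2).trans (by norm_num)

end CfsgLib.Sporadic.ThPres
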