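import Cfsg.Agent.Lib.Sporadic.ThPres.Letters

/-!
# Actions of the 3D4(2):3 part on points, read from the right, and orbit chains (owner: helper9)
-/

set_option autoImplicit false
set_option maxRecDepth 20000

namespace CfsgLib.Sporadic.ThPres

open CfsgLib.Sporadic.PairEnum (flp)
open CfsgLib.ThreeTrans.CosetIndex (forallFrom forallFrom_elim)

/-- The image of a point under a word, the first letter first. -/
noncomputable def rImg (img : ℕ → ℕ → ℕ) (w : List ℕ) : ℕ → ℕ :=
  List.rec (motive := fun _ => ℕ → ℕ) (fun x => x) (fun k _ ih x => ih (img k x)) w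

theorem rImg_nil (img : ℕ → ℕ → ℕ) (x : ℕ) : rImg img [] x = x := rfl

theorem rImg_cons (img : ℕ → ℕ → ℕ) (k : ℕ) (w : List ℕ) (x : ℕ) :
    rImg img (k :: w) x = rImg img w (img k x) := rfl

/-- A table of the letters acting from the right. -/
structure Tab where
  /-- number of points -/
  n : ℕ
  /-- the image of a point under a letter -/
  img : ℕ → ℕ → ℕ
  /-- letters permute the points -/
  ok : ∀ k < 14, ∀ x < n, img k x < n ∧ img (k ^^^ 1) (img k x) = x
  /-- the relators fix every point -/
  rels : ∀ w ∈ words27, ∀ x < n, rImg img w x = x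

theorem xor_one_lt {k : ℕ} (h : k < 14) : k ^^^ 1 < 14 := by interval_cases k <;> decide

namespace Tab

variable (T : Tab)

/-- A letter as a permutation, acting from the left by the inverse. -/
noncomputable def perm (k : ℕ) : Equiv.Perm (Fin T.n) :=
  if h : k < 14 then
    { toFun := fun i => ⟨T.img (k ^^^ 1) i, (T.ok _ (xor_one_lt h) i i.isLt).1⟩
      invFun := fun i => ⟨T.img k i, (T.ok k h i i.isLt).1⟩
      left_inv := fun i => Fin.ext (by
        have := (T.ok _ (xor_one_lt h) i i.isLt).2
        rwa [Nat.xor_assoc, Nat.xor_self, Nat.xor_zero] at this)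
      right_inv := fun i => Fin.ext (T.ok k h i i.isLt).2 }
  else 1

theorem perm_flp {k : ℕ} (h : k < 14) : T.perm (k ^^^ 1) = (T.perm k)⁻¹ := by
  refine Equiv.ext fun i => Fin.ext ?_
  rw [perm, dif_pos (xor_one_lt h), perm, dif_pos h]
  show T.img (k ^^^ 1 ^^^ 1) i = T.img k i
  rw [Nat.xor_assoc, Nat.xor_self, Nat.xor_zero]

theorem rImg_lt : ∀ {w : List ℕ}, (∀ k ∈ w, k < 14) → ∀ {x : ℕ}, x < T.n → rImg T.img w x < T.n
  | [], _, _, hx => hx
  | k :: w, h, x, hx => rImg_lt (fun j hj => h j (List.mem_cons_of_mem _ hj)) (T.ok k (h k List.mem_cons_self) x hx).1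

theorem prod_perm_inv_apply : ∀ {w : List ℕ}, (∀ k ∈ w, k < 14) → ∀ i : Fin T.n,
    ((((w.map T.perm).prod)⁻¹ i : Fin T.n) : ℕ) = rImg T.img w i
  | [], _, i => by simp [rImg_nil]
  | k :: w, h, i => by
    have hk := h k List.mem_cons_self
    rw [List.map_cons, List.prod_cons, mul_inv_rev, Equiv.Perm.mul_apply,
      prod_perm_inv_apply (fun j hj => h j (List.mem_cons_of_mem _ hj)), rImg_cons]
    congr 1
    rw [← T.perm_flp hk, perm, dif_pos (xor_one_lt hk)]
    show T.img (k ^^^ 1 ^^^ 1) i = T.img k i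
    rw [Nat.xor_assoc, Nat.xor_self, Nat.xor_zero]

theorem lift_frN {k : ℕ} (h : k < 14) :
    FreeGroup.lift (fun i : Fin 7 => T.perm (2 * i.val)) (frN 7 k) = T.perm k := by
  interval_cases k <;> simp [frN, FreeGroup.lift_apply_of] <;> exact (T.perm_flp (by norm_num)).symm

/-- The action. -/
noncomputable def psi : P0 →* Equiv.Perm (Fin T.n) :=
  PresentedGroup.toGroup (f := fun i : Fin 7 => T.perm (2 * i.val)) (by
    rintro r ⟨w, hw, rfl⟩
    have hlt : ∀ k ∈ w, k < 14 := fun k hk => by
      simpa using List.all_eq_true.1 (List.all_eq_true.1 words27_lt w hw) k hk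
    rw [map_list_prod, List.map_map,
      List.map_congr_left (f := FreeGroup.lift (fun i : Fin 7 => T.perm (2 * i.val)) ∘ frN 7) (g := T.perm)
        fun k hk => T.lift_frN (hlt k hk), ← inv_eq_one]
    exact Equiv.ext fun i => Fin.ext (by
      rw [T.prod_perm_inv_apply hlt]; exact T.rels w hw i i.isLt))

/-- The right action on numbers. -/
noncomputable def ract (g : P0) (x : ℕ) : ℕ :=
  if h : x < T.n then ((T.psi g)⁻¹ ⟨x, h⟩ : Fin T.n) else x

theorem ract_one (x : ℕ) : T.ract 1 x = x := by
  unfold ract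
  split <;> simp

theorem ract_lt (g : P0) {x : ℕ} (hx : x < T.n) : T.ract g x < T.n := by
  rw [ract, dif_pos hx]; exact Fin.isLt _

theorem ract_mul (g h : P0) (x : ℕ) : T.ract (g * h) x = T.ract h (T.ract g x) := by
  by_cases hx : x < T.n
  · conv_rhs => rw [ract, dif_pos (T.ract_lt g hx)]
    rw [ract, dif_pos hx, map_mul, mul_inv_rev, Equiv.Perm.mul_apply]
    congr 3
    exact Fin.ext (by show _ = T.ract g x; rw [ract, dif_pos hx])
  · have e : ∀ a, T.ract a x = x := fun a => by rw [ract, dif_neg hx]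
    rw [e, e, e]

theorem ract_inv (g : P0) (x : ℕ) : T.ract g⁻¹ (T.ract g x) = x := by
  rw [← ract_mul, mul_inv_cancel, ract_one]

theorem ract_inj (g : P0) {x y : ℕ} (h : T.ract g x = T.ract g y) : x = y := by
  rw [← T.ract_inv g x, h, ract_inv]

theorem psi_L {k : ℕ} (h : k < 14) : T.psi (L k) = T.perm k := T.lift_frN h

theorem ract_prod {w : List ℕ} (h : ∀ k ∈ w, k < 14) {x : ℕ} (hx : x < T.n) :
    T.ract (w.map L).prod x = rImg T.img w x := by
  rw [ract, dif_pos hx, map_list_prod, List.map_map,
    List.map_congr_left (f := T.psi ∘ L) fun k hk => T.psi_L (h k hk), T.prod_perm_inv_apply h]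

theorem ract_L {k : ℕ} (h : k < 14) {x : ℕ} (hx : x < T.n) : T.ract (L k) x = T.img k x := by
  have := T.ract_prod (w := [k]) (by simpa using h) hx
  simpa [rImg_cons, rImg_nil] using this

/-- The elements fixing given points. -/
def fix (bs : List ℕ) : Subgroup P0 where
  carrier := {g | ∀ b ∈ bs, T.ract g b = b}
  one_mem' b _ := T.ract_one b
  mul_mem' {g h} hg hh b hb := by rw [ract_mul, hg b hb, hh b hb]
  inv_mem' {g} hg b hb := by
    have := T.ract_inv g b
    rwa [hg b hb] at this

theorem mem_fix {bs : List ℕ} {g : P0} : g ∈ T.fix bs ↔ ∀ b ∈ bs, T.ract g b = b := Iff.rfl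

end Tab

/-- All entries are different, by a bit mask. -/
def distinct : List ℕ → ℕ → Bool
  | [], _ => true
  | a :: l, seen => !(Nat.testBit seen a) && distinct l (seen ||| 2 ^ a)

theorem distinct_nodup : ∀ {l : List ℕ} {seen : ℕ}, distinct l seen = true →
    l.Nodup ∧ ∀ a ∈ l, Nat.testBit seen a = false
  | [], _, _ => by simp
  | a :: l, seen, h => by
    simp only [distinct, Bool.and_eq_true, Bool.not_eq_true'] at h
    obtain ⟨hn, hs⟩ := distinct_nodup h.2
    refine ⟨List.nodup_cons.2 ⟨fun ha => ?_, hn⟩, ?_⟩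
    · have := hs a ha
      simp at this
    · intro x hx
      rcases List.mem_cons.1 hx with rfl | hx
      · exact h.1
      · have := hs x hx
        simp only [Nat.testBit_or, Bool.or_eq_false_iff] at this
        exact this.1

/-- A field of a packed number. -/
noncomputable def pk (wd p i : ℕ) : ℕ :=
  Nat.mod (Nat.shiftRight p (Nat.mul wd i)) (Nat.pow 2 wd)

/-- One level: a base point, generators first used here, the orbit as points and tree. -/
structure Lvl where
  /-- the base point -/
  base : ℕ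
  /-- generators first used at this level -/
  gens : List (List ℕ)
  /-- the orbit, packed -/
  pts : ℕ
  /-- for every further point: the generator and the position of an earlier point -/
  tree : List (ℕ × ℕ)

/-- The generators of a list of levels. -/
def gensOf : List Lvl → List (List ℕ)
  | [] => []
  | l :: ls => l.gens ++ gensOf ls

/-- The product of the orbit lengths. -/
def orbitProd : List Lvl → ℕ
  | [] => 1
  | l :: ls => (l.tree.length + 1) * orbitProd ls

/-- The points follow the tree. -/
noncomputable def treeOK (act : ℕ → ℕ → ℕ) (wd N : ℕ) (tree : List (ℕ × ℕ)) : ℕ → Bool :=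
  List.rec (motive := fun _ => ℕ → Bool) (fun _ => true)
    (fun e _ ih i => Nat.blt e.2 i && (Nat.beq (pk wd N i) (act e.1 (pk wd N e.2)) && ih (Nat.succ i))) tree

/-- Checking levels against the images of their generators. -/
noncomputable def lvlsOK (imgW : List ℕ → ℕ → ℕ) (n wd : ℕ) : List Lvl → Bool
  | [] => true
  | l :: ls => Nat.blt l.base n && ((gensOf ls).all (fun w => Nat.beq (imgW w l.base) l.base) &&
      (Nat.beq (pk wd l.pts 0) l.base &&
      ((l.tree.all fun e => Nat.blt e.1 (gensOf (l :: ls)).length) &&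
      (treeOK (fun j x => imgW ((gensOf (l :: ls)).getD j []) x) wd l.pts l.tree 1 &&
      (distinct ((List.range (l.tree.length + 1)).map (pk wd l.pts)) 0 && lvlsOK imgW n wd ls)))))

theorem treeOK_mem {act : ℕ → ℕ → ℕ} {wd N : ℕ} {P : ℕ → Prop} : ∀ (tree : List (ℕ × ℕ)) (i : ℕ),
    (∀ j < i, P (pk wd N j)) → (∀ e ∈ tree, ∀ x, P x → P (act e.1 x)) → treeOK act wd N tree i = true →
    ∀ j < i + tree.length, P (pk wd N j)
  | [], i, h, _, _, j, hj => h j (by simpa using hj)
  | e :: tree, i, h, hP, ht, j, hj => by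
    have ht' : (Nat.blt e.2 i && (Nat.beq (pk wd N i) (act e.1 (pk wd N e.2)) &&
      treeOK act wd N tree (i + 1))) = true := ht
    simp only [Bool.and_eq_true, Nat.blt_eq, Nat.beq_eq] at ht'
    refine treeOK_mem tree (i + 1) (fun j' hj' => ?_) (fun e' he' => hP e' (List.mem_cons_of_mem _ he')) ht'.2.2 j
      (by rw [List.length_cons] at hj; omega)
    rcases Nat.lt_or_ge j' i with h' | h'
    · exact h j' h'
    · rw [show j' = i by omega, ht'.2.1]
      exact hP e List.mem_cons_self _ (h _ ht'.1)

/-- The orbit lengths bound a subgroup containing the generators, words being read by `val`. -/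
theorem orbitProd_le (T : Tab) (val : List ℕ → P0) (imgW : List ℕ → ℕ → ℕ) (wd : ℕ)
    (good : List ℕ → Prop) (hval : ∀ w, good w → ∀ x < T.n, T.ract (val w) x = imgW w x) :
    ∀ {ls : List Lvl} (K : Subgroup P0) [Finite K], lvlsOK imgW T.n wd ls = true →
    (∀ w ∈ gensOf ls, good w) → (∀ w ∈ gensOf ls, val w ∈ K) →
    orbitProd ls * Nat.card (K ⊓ T.fix (ls.map Lvl.base) : Subgroup P0) ≤ Nat.card K
  | [], K, _, _, _, _ => by
    have : T.fix ([] : List ℕ) = ⊤ := eq_top_iff.2 fun g _ => T.mem_fix.2 fun b hb => by simp at hb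
    simp [orbitProd, this]
  | l :: ls, K, hfinK, h, hgood, hK => by
    simp only [lvlsOK, Bool.and_eq_true, Nat.blt_eq, List.all_eq_true, Nat.beq_eq] at h
    obtain ⟨hb, hfix, hp0, hgl, htree, hd, hrest⟩ := h
    have hsub : ∀ w ∈ gensOf ls, w ∈ gensOf (l :: ls) := fun w hw => List.mem_append_right _ hw
    set S : Subgroup P0 := T.fix [l.base] with hS
    have : Finite ↥(K ⊓ S) := Finite.of_injective _ (Subgroup.inclusion_injective (inf_le_left : K ⊓ S ≤ K))
    have hrec := orbitProd_le T val imgW wd good hval (ls := ls) (K ⊓ S) hrest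
      (fun w hw => hgood w (hsub w hw)) fun w hw => ⟨hK w (hsub w hw), fun b hb' => by
        obtain rfl := List.mem_singleton.1 hb'
        rw [hval w (hgood w (hsub w hw)) _ hb, hfix w hw]⟩
    have e : (K ⊓ S ⊓ T.fix (ls.map Lvl.base) : Subgroup P0) = K ⊓ T.fix ((l :: ls).map Lvl.base) := by
      ext g
      simp [hS, Tab.mem_fix, and_assoc]
    rw [e] at hrec
    suffices hstep : (l.tree.length + 1) * Nat.card (K ⊓ S : Subgroup P0) ≤ Nat.card K by
      calc orbitProd (l :: ls) * Nat.card (K ⊓ T.fix ((l :: ls).map Lvl.base) : Subgroup P0)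
          = (l.tree.length + 1) * (orbitProd ls * Nat.card (K ⊓ T.fix ((l :: ls).map Lvl.base) : Subgroup P0)) := by
            rw [orbitProd, mul_assoc]
        _ ≤ _ := (Nat.mul_le_mul_left _ hrec).trans hstep
    obtain ⟨hn, -⟩ := distinct_nodup hd
    have hmem : ∀ j < 1 + l.tree.length, pk wd l.pts j < T.n ∧ ∃ g ∈ K, T.ract g l.base = pk wd l.pts j := by
      refine treeOK_mem (P := fun p => p < T.n ∧ ∃ g ∈ K, T.ract g l.base = p) _ 1 (fun j hj => ?_)
        (fun e he x hx => ?_) htree
      · rw [Nat.lt_one_iff.1 hj, hp0]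
        exact ⟨hb, 1, one_mem K, T.ract_one _⟩
      · obtain ⟨hxn, g, hg, hgx⟩ := hx
        have hl := hgl e he
        rw [List.getD_eq_getElem _ _ hl]
        have hw := List.getElem_mem hl
        rw [← hval _ (hgood _ hw) x hxn]
        exact ⟨T.ract_lt _ hxn, g * _, mul_mem hg (hK _ hw), by rw [T.ract_mul, hgx]⟩
    choose f hfK hfb using fun j : Fin (l.tree.length + 1) => (hmem j.val (by omega)).2
    let Φ : Fin (l.tree.length + 1) × ↥(K ⊓ S) → K := fun x =>
      ⟨x.2.1 * f x.1, mul_mem x.2.2.1 (hfK x.1)⟩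
    have hΦ : Function.Injective Φ := by
      rintro ⟨i, s⟩ ⟨i', s'⟩ he
      have he' : s.1 * f i = s'.1 * f i' := congrArg Subtype.val he
      have hs : T.ract s.1 l.base = l.base := s.2.2 _ (List.mem_singleton_self _)
      have hs' : T.ract s'.1 l.base = l.base := s'.2.2 _ (List.mem_singleton_self _)
      have hi : i = i' := by
        have := congrArg (fun g => T.ract g l.base) he'
        simp only [T.ract_mul, hs, hs', hfb] at this
        have h2 := (List.Nodup.getElem_inj_iff hn
          (i := i.val) (j := i'.val) (hi := by simp; omega) (hj := by simp; omega)).1 (by simpa using this)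
        exact Fin.ext h2
      subst hi
      exact Prod.ext rfl (Subtype.ext (mul_right_cancel he'))
    have := Nat.card_le_card_of_injective Φ hΦ
    rwa [Nat.card_prod, Nat.card_eq_fintype_card, Fintype.card_fin] at this

end CfsgLib.Sporadic.ThPres
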