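import Cfsg.Agent.Lib.Sporadic.ThPres.Bound
import Cfsg.Agent.Lib.Sporadic.ThPres.AlphaData

/-!
# Words in short names, decided by four points (owner: helper9)

Items below 14 are letters; items `14 + 2 * i` and `15 + 2 * i` are the `i`-th abbreviation and its inverse.
-/

set_option autoImplicit false
set_option maxRecDepth 20000
set_option Elab.async false

namespace CfsgLib.Sporadic.ThPres

open CfsgLib.Sporadic.PairEnum (flp)
open CfsgLib.ThreeTrans.CosetIndex (forallFrom forallFrom_elim)

/-- The value of an item, with a bound on the nesting. -/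
noncomputable def valF : ℕ → ℕ → P0
  | 0, j => L j
  | f + 1, j =>
    if j < 14 then L j
    else if j % 2 = 0 then ((macDefs.getD ((j - 14) / 2) []).map (valF f)).prod
    else ((macDefs.getD ((j - 14) / 2) []).map (valF f)).prod⁻¹

/-- The value of an item. -/
noncomputable def valA (j : ℕ) : P0 := valF 112 j

/-- The value of a word of items. -/
noncomputable def ev (w : List ℕ) : P0 := (w.map valA).prod

@[simp] theorem ev_nil : ev [] = 1 := rfl
@[simp] theorem ev_cons (k : ℕ) (w : List ℕ) : ev (k :: w) = valA k * ev w := by simp [ev]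
@[simp] theorem ev_append (u v : List ℕ) : ev (u ++ v) = ev u * ev v := by simp [ev]

theorem valA_small {j : ℕ} (h : j < 14) : valA j = L j := by rw [valA, valF, if_pos h]

theorem ev_small : ∀ {w : List ℕ}, (∀ k ∈ w, k < 14) → ev w = (w.map L).prod
  | [], _ => rfl
  | k :: w, h => by
    rw [ev_cons, List.map_cons, List.prod_cons, valA_small (h k List.mem_cons_self),
      ev_small fun j hj => h j (List.mem_cons_of_mem _ hj)]

/-- The image of a point under an item. -/
noncomputable def imgA (j x : ℕ) : ℕ := g10 (alphaTree.get j) x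

theorem imgA_letters : forallFrom (fun k => forallFrom (fun x => Nat.beq (imgA k x) (img819 k x)) 0 819) 0 14 = true := by
  decide +kernel

theorem imgA_macros : forallFrom (fun i =>
    (macDefs.getD i []).all (fun y => Nat.blt y (14 + 2 * i)) && forallFrom (fun x =>
      Nat.beq (imgA (14 + 2 * i) x) (rImg imgA (macDefs.getD i []) x) &&
      (Nat.blt (imgA (15 + 2 * i) x) 819 && Nat.beq (imgA (14 + 2 * i) (imgA (15 + 2 * i) x)) x)) 0 819) 0 111 = true := by
  decide +kernel

theorem ract_word {img : ℕ → ℕ → ℕ} (val : ℕ → P0) : ∀ {w : List ℕ},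
    (∀ k ∈ w, ∀ x < 819, t819.ract (val k) x = img k x ∧ img k x < 819) →
    ∀ x < 819, t819.ract (w.map val).prod x = rImg img w x ∧ rImg img w x < 819
  | [], _, x, hx => ⟨t819.ract_one x, hx⟩
  | k :: w, h, x, hx => by
    obtain ⟨h1, h2⟩ := h k List.mem_cons_self x hx
    rw [List.map_cons, List.prod_cons, t819.ract_mul, h1]
    exact ract_word val (fun j hj => h j (List.mem_cons_of_mem _ hj)) _ h2

theorem valF_ract : ∀ f j, j < 236 → (j < 14 ∨ (j - 14) / 2 < f) → ∀ x < 819,
    t819.ract (valF f j) x = imgA j x ∧ imgA j x < 819 := by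
  have hlett : ∀ j < 14, ∀ x < 819, t819.ract (L j) x = imgA j x ∧ imgA j x < 819 := fun j hj x hx => by
    have h := Nat.eq_of_beq_eq_true
      (forallFrom_elim (forallFrom_elim imgA_letters (Nat.zero_le j) (by omega)) (Nat.zero_le x) (by omega))
    rw [h]
    exact ⟨t819.ract_L hj hx, (t819.ok j hj x hx).1⟩
  intro f
  induction f with
  | zero =>
    intro j _ h x hx
    exact hlett j (by omega) x hx
  | succ f ih =>
    intro j hj h x hx
    rw [valF]
    by_cases h14 : j < 14
    · rw [if_pos h14]
      exact hlett j h14 x hx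
    rw [if_neg h14]
    have hi : (j - 14) / 2 < f + 1 := by omega
    generalize hidef : (j - 14) / 2 = i at hi
    have hm := forallFrom_elim imgA_macros (Nat.zero_le i) (show i < 0 + 111 by omega)
    rw [Bool.and_eq_true, List.all_eq_true] at hm
    have hw : ∀ y < 819, t819.ract ((macDefs.getD i []).map (valF f)).prod y = imgA (14 + 2 * i) y ∧
        imgA (14 + 2 * i) y < 819 := by
      intro y hy
      have hm' := forallFrom_elim hm.2 (Nat.zero_le y) (show y < 0 + 819 by omega)
      simp only [Bool.and_eq_true, Nat.beq_eq] at hm'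
      rw [hm'.1]
      refine ract_word (valF f) (fun k hk => ?_) y hy
      have hk' : k < 14 + 2 * i := by simpa using hm.1 k hk
      exact ih k (by omega) (by omega)
    rcases Nat.mod_two_eq_zero_or_one j with h2 | h2
    · rw [if_pos h2, show j = 14 + 2 * i by omega]
      exact hw x hx
    · rw [if_neg (by omega), show j = 15 + 2 * i by omega]
      have hm' := forallFrom_elim hm.2 (Nat.zero_le x) (show x < 0 + 819 by omega)
      simp only [Bool.and_eq_true, Nat.beq_eq, Nat.blt_eq] at hm'
      obtain ⟨-, hlt, hback⟩ := hm'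
      refine ⟨?_, hlt⟩
      have e : t819.ract ((macDefs.getD i []).map (valF f)).prod (imgA (15 + 2 * i) x) = x :=
        (hw _ hlt).1.trans hback
      conv_lhs => rw [← e]
      exact t819.ract_inv _ _

theorem valA_ract {j : ℕ} (hj : j < 236) {x : ℕ} (hx : x < 819) : t819.ract (valA j) x = imgA j x ∧ imgA j x < 819 :=
  valF_ract 112 j hj (by omega) x hx

/-- The items are in range. -/
noncomputable def isA (w : List ℕ) : Bool := w.all fun k => Nat.blt k 236

theorem isA_iff {w : List ℕ} : isA w = true ↔ ∀ k ∈ w, k < 236 := by simp [isA, List.all_eq_true]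

theorem ev_ract {w : List ℕ} (h : isA w = true) {x : ℕ} (hx : x < 819) : t819.ract (ev w) x = rImg imgA w x :=
  (ract_word valA (fun k hk y hy => valA_ract (isA_iff.1 h k hk) hy) x hx).1

theorem aLvls_ok : (lvlsOK (rImg imgA) 819 10 aLvls && Nat.beq (orbitProd aLvls) 634023936 &&
    (gensOf aLvls).all isA) = true := by decide +kernel

theorem aLvls_bases : aLvls.map Lvl.base = [0, 1, 40, 45] := by decide +kernel

/-- The four points. -/
def bases : List ℕ := [0, 1, 40, 45]

/-- An element fixing the four points is trivial. -/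
theorem eq_one_of_bases {g : P0} (h : ∀ b ∈ bases, t819.ract g b = b) : g = 1 := by
  have hok := aLvls_ok
  simp only [Bool.and_eq_true, Nat.beq_eq, List.all_eq_true] at hok
  obtain ⟨⟨hl, hp⟩, hg⟩ := hok
  have hle := orbitProd_le t819 ev (rImg imgA) 10 (fun w => isA w = true) (fun w hw x hx => ev_ract hw hx) ⊤ hl hg
    (fun _ _ => Subgroup.mem_top _)
  rw [hp, aLvls_bases, top_inf_eq, Subgroup.card_top] at hle
  have hP := card_P0.2
  have h1 : Nat.card (t819.fix bases) ≤ 1 := by
    have := hle.trans hP
    show Nat.card (t819.fix [0, 1, 40, 45]) ≤ 1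
    omega
  have hm : g ∈ t819.fix bases := h
  rwa [Subgroup.eq_bot_of_card_le _ h1, Subgroup.mem_bot] at hm

/-- The order of the presented group. -/
theorem natCard_P0 : Nat.card P0 = 634023936 := by
  refine le_antisymm card_P0.2 ?_
  have hok := aLvls_ok
  simp only [Bool.and_eq_true, Nat.beq_eq, List.all_eq_true] at hok
  obtain ⟨⟨hl, hp⟩, hg⟩ := hok
  have hle := orbitProd_le t819 ev (rImg imgA) 10 (fun w => isA w = true) (fun w hw x hx => ev_ract hw hx) ⊤ hl hg
    (fun _ _ => Subgroup.mem_top _)
  rw [hp, aLvls_bases, top_inf_eq, Subgroup.card_top] at hle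
  have h0 : 0 < Nat.card (t819.fix [0, 1, 40, 45]) := Nat.card_pos
  exact le_trans (Nat.le_mul_of_pos_right _ h0) hle

/-- Two elements moving the four points alike are equal. -/
theorem eq_of_bases {g h : P0} (he : ∀ b ∈ bases, t819.ract g b = t819.ract h b) : g = h := by
  refine mul_inv_eq_one.1 (eq_one_of_bases fun b hb => ?_)
  rw [t819.ract_mul, he b hb, t819.ract_inv]

/-- Equality of two words. -/
noncomputable def eqW (u v : List ℕ) : Bool :=
  isA u && (isA v && bases.all fun b => Nat.beq (rImg imgA u b) (rImg imgA v b))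

theorem eqW_sound {u v : List ℕ} (h : eqW u v = true) : isA u = true ∧ isA v = true ∧ ev u = ev v := by
  simp only [eqW, Bool.and_eq_true, List.all_eq_true, Nat.beq_eq] at h
  obtain ⟨hu, hv, hb⟩ := h
  refine ⟨hu, hv, eq_of_bases fun b hb' => ?_⟩
  have hlt : b < 819 := by
    simp only [bases, List.mem_cons, List.not_mem_nil, or_false] at hb'
    omega
  rw [ev_ract hu hlt, ev_ract hv hlt, hb b hb']

/-- The inverse word. -/
noncomputable def winv (w : List ℕ) : List ℕ := PairEnum.winv w

theorem valF_flp : ∀ f j, valF f (flp j) = (valF f j)⁻¹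
  | 0, j => L_flp j
  | f + 1, j => by
    have hd := flp_half j
    have hm := flp_mod j
    rw [valF, valF]
    by_cases h : j < 14
    · rw [if_pos h, if_pos (show flp j < 14 by omega), L_flp]
    rw [if_neg h, if_neg (show ¬ flp j < 14 by omega), show (flp j - 14) / 2 = (j - 14) / 2 by omega, hm]
    rcases Nat.mod_two_eq_zero_or_one j with h2 | h2 <;> simp [h2]

theorem ev_winv (w : List ℕ) : ev (winv w) = (ev w)⁻¹ := PairEnum.prod_winv (valF_flp 112) w

theorem isA_append {u v : List ℕ} : isA (u ++ v) = (isA u && isA v) := by simp [isA, List.all_append]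

theorem isA_winv {w : List ℕ} (h : isA w = true) : isA (winv w) = true := by
  rw [isA_iff] at h ⊢
  intro k hk
  simp only [winv, PairEnum.winv, List.mem_map, List.mem_reverse] at hk
  obtain ⟨x, hx, rfl⟩ := hk
  have := h x hx
  have := flp_half x
  omega

end CfsgLib.Sporadic.ThPres
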