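import Cfsg.Agent.Lib.Sporadic.ThPres.P819
import Cfsg.Agent.Lib.Sporadic.ThPres.ULvls
import Cfsg.Agent.Lib.Sporadic.ThPres.SubUA.Valid
import Cfsg.Agent.Lib.Sporadic.ThPres.SubU.Valid
import Cfsg.Agent.Lib.Sporadic.ThPres.SubZ.Valid
import Cfsg.Agent.Lib.Sporadic.ThPres.SubDS.Valid
import Cfsg.Agent.Lib.Sporadic.ThPres.SubDES.Valid
import Cfsg.Agent.Lib.Sporadic.ThPres.SubA.Valid
import Cfsg.Agent.Lib.Sporadic.ThPres.SubP1.Valid
import Cfsg.Agent.Lib.Sporadic.ThPres.SubP.Valid

/-!
# A bound for the order of the 3D4(2):3 presentation (owner: helper9)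

The subgroup on five generators has order at most 12096 and acts faithfully on 819 points; this gives the
ninth power relator, after which the enumerations up the chain are small.
-/

set_option autoImplicit false
set_option maxRecDepth 20000
set_option Elab.async false

namespace CfsgLib.Sporadic.ThPres

open CfsgLib.Sporadic
open CfsgLib.ThreeTrans.CosetIndex (forallFrom forallFrom_elim)

/-- The subgroup on the given generators. -/
def gen (ms : List ℕ) : Subgroup P0 := Subgroup.closure {g | ∃ x ∈ ms, g = L (2 * x)}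

theorem L_mem_gen {ms : List ℕ} {x : ℕ} (h : x ∈ ms) : L (2 * x) ∈ gen ms := Subgroup.subset_closure ⟨x, h, rfl⟩

/-- The subgroup words are generators in a given list. -/
def subsOK (subs : List (List ℕ)) (ms xs : List ℕ) : Bool :=
  subs.all fun w => match w with
    | [x] => Nat.beq (x % 2) 0 && xs.contains (ms.getD (x / 2) 8)
    | _ => false

theorem sub_mem {subs : List (List ℕ)} {ms xs : List ℕ} (h : subsOK subs ms xs = true) {w : List ℕ}
    (hw : w ∈ subs) : ((w.map (gl ms)).map L).prod ∈ gen xs := by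
  have h' := List.all_eq_true.1 h w hw
  match w with
  | [x] =>
    simp only [Bool.and_eq_true, Nat.beq_eq, List.contains_iff_mem] at h'
    rw [List.map_singleton, List.map_singleton, List.prod_singleton, gl, h'.1, Nat.add_zero]
    exact L_mem_gen h'.2
  | [] => simp at h'
  | _ :: _ :: _ => simp at h'

theorem card_step {C : PairEnum.Cert} (hC : C.OK) (ms xs : List ℕ) (hms : ms.length ≤ 7)
    (R : List (List ℕ)) (hR : ∀ w ∈ R, (w.map L).prod = 1)
    (hrels : C.rels.all (fun w => R.contains (red (w.map (gl ms)))) = true)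
    (hsubs : subsOK C.subs ms xs = true) (hkl : C.kl = (List.range ms.length).map (2 * ·)) {B : ℕ}
    (hB : Finite (gen xs) ∧ Nat.card (gen xs) ≤ B) : Finite (gen ms) ∧ Nat.card (gen ms) ≤ C.n * B := by
  obtain ⟨_, hle⟩ := hB
  have h := PairEnum.Cert.card_le (setup L_flp (fun k hk => L_big (by omega)) ms hms R hR hrels) hC (gen xs) (gen ms)
    (fun w hw => by rw [prod_act]; exact inv_mem (sub_mem hsubs hw)) (by
      rw [gen, Subgroup.closure_le]
      rintro _ ⟨x, hx, rfl⟩
      have hi : ms.idxOf x < ms.length := List.idxOf_lt_length_iff.mpr hx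
      have := inv_mem (Subgroup.subset_closure (k := {g | ∃ y ∈ C.kl, g = act L ms y})
        ⟨2 * ms.idxOf x, by rw [hkl]; exact List.mem_map.2 ⟨_, List.mem_range.2 hi, rfl⟩, rfl⟩)
      have e : gl ms (2 * ms.idxOf x) = 2 * x := by
        rw [gl, Nat.mul_div_cancel_left _ two_pos, List.getD_eq_getElem _ _ hi, List.getElem_idxOf,
          Nat.mul_mod_right, Nat.add_zero]
      simpa [act, e] using this)
  exact ⟨h.1, h.2.trans (Nat.mul_le_mul_left _ hle)⟩

theorem gen_nil : Finite (gen []) ∧ Nat.card (gen []) ≤ 1 := by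
  have h : gen [] = ⊥ := by simp [gen]
  rw [h]
  exact ⟨inferInstance, by simp⟩

theorem ua_rels : SubUA.cert.rels.all (fun w => words27.contains (red (w.map (gl [0, 2, 3, 4])))) = true := by
  decide +kernel

theorem card_ua : Finite (gen [0, 2, 3, 4]) ∧ Nat.card (gen [0, 2, 3, 4]) ≤ 96 := by
  simpa [show SubUA.cert.n = 96 from rfl] using
    card_step SubUA.valid [0, 2, 3, 4] [] (by simp) words27 (fun _ h => L_rel h) ua_rels rfl rfl gen_nil

theorem u_rels : SubU.cert.rels.all (fun w => words27.contains (red (w.map (gl [0, 1, 2, 3, 4])))) = true := by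
  decide +kernel

theorem card_u : Finite (gen [0, 1, 2, 3, 4]) ∧ Nat.card (gen [0, 1, 2, 3, 4]) ≤ 12096 := by
  simpa [show SubU.cert.n = 126 from rfl] using
    card_step SubU.valid [0, 1, 2, 3, 4] [0, 2, 3, 4] (by simp) words27 (fun _ h => L_rel h) u_rels
      (by decide +kernel) rfl card_ua

/-- The ninth power word. -/
def zWord : List ℕ := (List.replicate 9 [6, 8, 10, 4]).flatten

theorem z_rels : SubZ.cert.rels.all (fun w => words27.contains (red (w.map (gl [0, 1, 2, 3, 4, 5])))) = true := by
  decide +kernel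

theorem z_closer : SubZ.closers.map (fun e => e.1.map (gl [0, 1, 2, 3, 4, 5])) = [zWord] := by decide +kernel

theorem z_mem : (zWord.map L).prod ∈ gen [0, 1, 2, 3, 4] := by
  obtain ⟨e, he, he'⟩ := List.mem_map.1 (z_closer ▸ List.mem_singleton_self zWord)
  rw [← he']
  exact closer_mem L_flp [0, 1, 2, 3, 4, 5]
    (setup L_flp (fun k hk => L_big (by omega)) _ (by simp) words27 (fun _ h => L_rel h) z_rels)
    SubZ.base_ok SubZ.defs_ok SubZ.steps_ok _ (fun w hw => sub_mem (xs := [0, 1, 2, 3, 4]) (by decide +kernel) hw)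
    SubZ.closers_ok he

theorem uLvls_ok : (lvlsOK (rImg img819) 819 10 uLvls && Nat.beq (orbitProd uLvls) 12096 &&
    (gensOf uLvls).all (fun w => w.all fun k => Nat.blt k 10)) = true := by decide +kernel

theorem z_fix : forallFrom (fun x => Nat.beq (rImg img819 zWord x) x) 0 819 = true := by decide +kernel

theorem uLvls_bases : ((uLvls.map Lvl.base).all fun b => Nat.blt b 819) = true := by decide +kernel

theorem z_eq_one : (zWord.map L).prod = 1 := by
  have h := uLvls_ok
  simp only [Bool.and_eq_true, Nat.beq_eq, List.all_eq_true, Nat.blt_eq] at h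
  obtain ⟨⟨hok, hprod⟩, hlt⟩ := h
  obtain ⟨_, hle⟩ := card_u
  have hb := orbitProd_le t819 (fun w => (w.map L).prod) (rImg img819) 10 (fun w => ∀ k ∈ w, k < 14)
    (fun w hw x hx => t819.ract_prod hw hx) (gen [0, 1, 2, 3, 4]) hok (fun w hw k hk => by have := hlt w hw k hk; omega)
    (fun w hw => list_prod_mem fun g hg => by
      obtain ⟨k, hk, rfl⟩ := List.mem_map.1 hg
      have h10 := hlt w hw k hk
      rcases Nat.mod_two_eq_zero_or_one k with hk2 | hk2
      · rw [show k = 2 * (k / 2) by omega]
        exact L_mem_gen (by simp; omega)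
      · have := inv_mem (L_mem_gen (ms := [0, 1, 2, 3, 4]) (x := k / 2) (by simp; omega))
        rwa [← L_flp, show PairEnum.flp (2 * (k / 2)) = k by
          have h1 := flp_half (2 * (k / 2)); have h2 := flp_mod (2 * (k / 2)); omega] at this)
  rw [hprod] at hb
  have hmem : (zWord.map L).prod ∈ gen [0, 1, 2, 3, 4] ⊓ t819.fix (uLvls.map Lvl.base) := by
    refine ⟨z_mem, fun b hb' => ?_⟩
    have hb819 : b < t819.n := by simpa [t819] using List.all_eq_true.1 uLvls_bases b hb'
    rw [t819.ract_prod (by decide +kernel) hb819]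
    exact Nat.eq_of_beq_eq_true (forallFrom_elim z_fix (Nat.zero_le b) (by simpa [t819] using hb819))
  have h1 : Nat.card (gen [0, 1, 2, 3, 4] ⊓ t819.fix (uLvls.map Lvl.base) : Subgroup P0) ≤ 1 := by omega
  have : Finite ↥(gen [0, 1, 2, 3, 4] ⊓ t819.fix (uLvls.map Lvl.base) : Subgroup P0) :=
    Finite.of_injective _ (Subgroup.inclusion_injective inf_le_left)
  rwa [Subgroup.eq_bot_of_card_le _ h1, Subgroup.mem_bot] at hmem

/-- The relators with the ninth power added. -/
def known : List (List ℕ) := zWord :: words27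

theorem known_eq_one : ∀ w ∈ known, (w.map L).prod = 1
  | _, List.Mem.head _ => z_eq_one
  | _, List.Mem.tail _ h => L_rel h

theorem ds_rels : SubDS.cert.rels.all (fun w => known.contains (red (w.map (gl [3, 5])))) = true := by decide +kernel
theorem des_rels : SubDES.cert.rels.all (fun w => known.contains (red (w.map (gl [3, 4, 5])))) = true := by
  decide +kernel
theorem a_rels : SubA.cert.rels.all (fun w => known.contains (red (w.map (gl [0, 2, 3, 4, 5])))) = true := by
  decide +kernel
theorem p1_rels : SubP1.cert.rels.all (fun w => known.contains (red (w.map (gl [0, 1, 2, 3, 4, 5])))) = true := by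
  decide +kernel
theorem p_rels : SubP.cert.rels.all (fun w => known.contains (red (w.map (gl [0, 1, 2, 3, 4, 5, 6])))) = true := by
  decide +kernel

theorem card_ds : Finite (gen [3, 5]) ∧ Nat.card (gen [3, 5]) ≤ 14 := by
  simpa [show SubDS.cert.n = 14 from rfl] using
    card_step SubDS.valid [3, 5] [] (by simp) known known_eq_one ds_rels rfl rfl gen_nil

theorem card_des : Finite (gen [3, 4, 5]) ∧ Nat.card (gen [3, 4, 5]) ≤ 504 := by
  simpa [show SubDES.cert.n = 36 from rfl] using
    card_step SubDES.valid [3, 4, 5] [3, 5] (by simp) known known_eq_one des_rels (by decide +kernel) rfl card_ds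

theorem card_a : Finite (gen [0, 2, 3, 4, 5]) ∧ Nat.card (gen [0, 2, 3, 4, 5]) ≤ 258048 := by
  simpa [show SubA.cert.n = 512 from rfl] using
    card_step SubA.valid [0, 2, 3, 4, 5] [3, 4, 5] (by simp) known known_eq_one a_rels (by decide +kernel) rfl
      card_des

theorem card_p1 : Finite (gen [0, 1, 2, 3, 4, 5]) ∧ Nat.card (gen [0, 1, 2, 3, 4, 5]) ≤ 211341312 := by
  simpa [show SubP1.cert.n = 819 from rfl] using
    card_step SubP1.valid [0, 1, 2, 3, 4, 5] [0, 2, 3, 4, 5] (by simp) known known_eq_one p1_rels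
      (by decide +kernel) rfl card_a

theorem gen_all : gen [0, 1, 2, 3, 4, 5, 6] = ⊤ := by
  rw [eq_top_iff, ← L_closure, Subgroup.closure_le]
  rintro _ ⟨x, hx, rfl⟩
  have h2 : 2 * (x / 2) = x ∧ x / 2 ∈ ([0, 1, 2, 3, 4, 5, 6] : List ℕ) := by
    simp only [List.mem_cons, List.not_mem_nil, or_false] at hx
    rcases hx with rfl | rfl | rfl | rfl | rfl | rfl | rfl <;> simp
  rw [← h2.1]
  exact L_mem_gen h2.2

theorem card_P0 : Finite P0 ∧ Nat.card P0 ≤ 634023936 := by
  have h := card_step SubP.valid [0, 1, 2, 3, 4, 5, 6] [0, 1, 2, 3, 4, 5] (by simp) known known_eq_one p_rels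
    (by decide +kernel) rfl card_p1
  rw [gen_all, show SubP.cert.n = 3 from rfl] at h
  obtain ⟨hf, hle⟩ := h
  refine ⟨Finite.of_equiv _ Subgroup.topEquiv.toEquiv, ?_⟩
  rwa [Nat.card_congr Subgroup.topEquiv.toEquiv] at hle

instance finite_P0 : Finite P0 := card_P0.1

end CfsgLib.Sporadic.ThPres
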