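import Cfsg.Agent.Lib.Sporadic.ThPres.Alpha

/-!
# Checking deductions among double cosets of the 3D4(2):3 subgroup (owner: helper9)

An edge `(i, a, k, m, n)` says `W i · a · u = n · W k · m`; a stabilising fact `(i, a, n)` says `W i · a = n · W i`.
-/

set_option autoImplicit false
set_option maxRecDepth 20000

namespace CfsgLib.Sporadic.ThPres

open CfsgLib.Recog.SporBound (Q)

/-- A fact. -/
structure Fact where
  /-- whether it is a stabilising fact -/
  st : Bool
  /-- source representative -/
  i : ℕ
  /-- target representative -/
  k : ℕ
  /-- source word -/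
  a : List ℕ
  /-- target word -/
  m : List ℕ
  /-- left word -/
  n : List ℕ

/-- Using an edge: stabilising facts, the edge, its direction, a word in the generators of `K`. -/
structure Use where
  /-- stabilising facts -/
  h : List ℕ
  /-- the edge -/
  f : ℕ
  /-- whether it is read backwards -/
  rev : Bool
  /-- numbers of generators of `K` -/
  kw : List ℕ

/-- The reason for a fact. -/
inductive Why
  | defn
  | base
  | pair (kw : List ℕ)
  | loop (l li : ℕ) (h0 : List ℕ) (f b : ℕ) (u1 u2 : List Use)
  | coinc (li : ℕ) (h0 : List ℕ) (u1 u2 : Use)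

/-- Generators of `K` as words. -/
def Kg : List (List ℕ) := [[0], [4], [8], [12], [3, 5, 1, 3], [10, 10, 8, 11, 11], [14],
  [1], [5], [9], [13], [2, 0, 4, 2], [10, 10, 9, 11, 11], [15]]

/-- Their images under conjugation by the last generator. -/
def Kp : List (List ℕ) := [[0], [4], [8], [13], [8, 3, 5, 1, 3], [10, 10, 8, 11, 11], [6, 4, 7],
  [1], [5], [9], [12], [2, 0, 4, 2, 9], [10, 10, 9, 11, 11], [6, 5, 7]]

/-- A word in the generators of `K`. -/
noncomputable def kgW (kw : List ℕ) : List ℕ := kw.flatMap fun j => Kg.getD j []

/-- Its image. -/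
noncomputable def kpW (kw : List ℕ) : List ℕ := kw.flatMap fun j => Kp.getD j []

/-- A loop: a relator, possibly inverted, rotated, split at the last generator. -/
structure Loop where
  /-- the relator -/
  r : List ℕ
  /-- whether it is inverted -/
  inv : Bool
  /-- the rotation -/
  rot : ℕ
  /-- the steps, `none` for the last generator -/
  ops : List (Option (List ℕ))

/-- The inverse of the square of the last generator. -/
def iac : List ℕ := [5, 1]

/-- The square of the last generator. -/
def acW : List ℕ := [0, 4]

/-- The steps of a word in the letters. -/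
noncomputable def opsOf (w : List ℕ) : List (Option (List ℕ)) :=
  w.flatMap fun y => cond (Nat.beq y 14) [none] (cond (Nat.beq y 15) [none, some iac] [some [y]])

/-- Writing the inverse of the last generator with the generator itself. -/
noncomputable def posU (w : List ℕ) : List ℕ := w.flatMap fun y => cond (Nat.beq y 15) [14, 5, 1] [y]

/-- A loop is justified by a relator. -/
noncomputable def loopOK (L : Loop) : Bool :=
  let w := posU (cond L.inv (PairEnum.winv L.r) L.r)
  relWords.contains (red L.r) &&
    ((L.ops.all fun o => match o with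
      | none => true
      | some w => w.all fun k => Nat.blt k 14) &&
    decide ((L.ops.flatMap fun o => o.getD [14]) = w.drop L.rot ++ w.take L.rot))

section
variable (F : Q (List (Fact × Why)))

/-- A fact of the tree. -/
noncomputable def factAt (q : ℕ) : Fact × Why :=
  (F.get (Nat.shiftRight q 5)).getD (Nat.land q 31) (⟨false, 99, 99, [], [], []⟩, Why.defn)

/-- The product of stabilising facts. -/
noncomputable def hWord (lim i : ℕ) (h : List ℕ) : Option (List ℕ × List ℕ) :=
  List.rec (motive := fun _ => Option (List ℕ × List ℕ)) (some ([], []))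
    (fun g _ ih => Option.rec none (fun r =>
      cond (Nat.blt g lim && ((factAt F g).1.st && Nat.beq (factAt F g).1.i i))
        (some ((factAt F g).1.a ++ r.1, (factAt F g).1.n ++ r.2)) none) ih) h

/-- The result of one step of the last generator. -/
noncomputable def useRes (lim i : ℕ) (a : List ℕ) (u : Use) : Option (ℕ × List ℕ × List ℕ) :=
  match hWord F lim i u.h with
  | some (hw, hn) =>
    let e := (factAt F u.f).1
    cond (Nat.blt u.f lim && (!e.st && (Nat.beq (cond u.rev e.k e.i) i &&
        eqW a (hw ++ (cond u.rev e.m e.a ++ kgW u.kw)))))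
      (some (cond u.rev e.i e.k, cond u.rev (e.a ++ acW) e.m ++ kpW u.kw, hn ++ cond u.rev (winv e.n) e.n)) none
  | none => none

/-- Tracing steps. -/
noncomputable def trace (lim : ℕ) : List (Option (List ℕ)) → List Use → ℕ × List ℕ × List ℕ → Option (ℕ × List ℕ × List ℕ)
  | [], [], s => some s
  | [], _ :: _, _ => none
  | some w :: ops, us, (i, a, n) => trace lim ops us (i, a ++ w, n)
  | none :: _, [], _ => none
  | none :: ops, u :: us, (i, a, n) =>
    match useRes F lim i a u with
    | none => none
    | some (k, m, n') => trace lim ops us (k, m, n ++ n')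

/-- Tracing steps backwards. -/
noncomputable def traceBack (lim : ℕ) : List (Option (List ℕ)) → List Use → ℕ × List ℕ × List ℕ → Option (ℕ × List ℕ × List ℕ)
  | [], [], s => some s
  | [], _ :: _, _ => none
  | some w :: ops, us, (i, a, n) => traceBack lim ops us (i, a ++ winv w, n)
  | none :: _, [], _ => none
  | none :: ops, u :: us, (i, a, n) =>
    match useRes F lim i (a ++ iac) u with
    | none => none
    | some (k, m, n') => traceBack lim ops us (k, m, n ++ n')

variable (W : List (List (Option (List ℕ)))) (Ls : List Loop)

/-- A fact is justified. -/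
noncomputable def factOK (q : ℕ) (e : Fact) : Why → Bool
  | .defn => !e.st && (e.m.isEmpty && (e.n.isEmpty && (Nat.blt e.k W.length &&
      decide (W.getD e.k [] = W.getD e.i [] ++ [some e.a, none]))))
  | .base => e.st && (Nat.beq e.i 0 && eqW e.a e.n)
  | .pair kw => e.st && (Nat.beq e.i 1 && (eqW e.a (kpW kw) && eqW e.n (kgW kw)))
  | .loop l li h0 f b u1 u2 =>
    let ops := (Ls.getD l ⟨[], false, 0, []⟩).ops
    Nat.blt l Ls.length &&
    match trace F q (ops.take f) u1 (li, h0, []), traceBack F q (ops.drop b).reverse u2 (li, h0, []) with
    | some (k1, m1, n1), some (k2, m2, n2) =>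
      Nat.beq e.i k1 && (eqW e.n (winv n1 ++ n2) &&
      cond e.st (Nat.beq k1 k2 && (Nat.beq b f && eqW e.a (m1 ++ winv m2)))
        (Nat.beq e.k k2 && (Nat.beq b (f + 1) && (decide (ops[f]? = some none) && (eqW e.a m1 && eqW e.m m2)))))
    | _, _ => false
  | .coinc li h0 u1 u2 =>
    match useRes F q li h0 u1, useRes F q li h0 u2 with
    | some (k1, m1, n1), some (k2, m2, n2) =>
      e.st && (Nat.beq e.i k1 && (Nat.beq k1 k2 && (eqW e.a (m2 ++ winv m1) && eqW e.n (winv n2 ++ n1))))
    | _, _ => false

/-- A word in the letters is trivial, by tracing it from the first representative. -/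
noncomputable def isOne (lim : ℕ) (w : List ℕ) (us : List Use) : Bool :=
  w.all (fun k => Nat.blt k 16) &&
  match trace F lim (opsOf w) us (0, [], []) with
  | some (k, m, n) => Nat.beq k 0 && eqW (n ++ m) []
  | none => false

/-- Consecutive facts are justified. -/
noncomputable def factsOK (lo len : ℕ) : Bool :=
  CfsgLib.ThreeTrans.CosetIndex.forallFrom (fun q => factOK F W Ls q (factAt F q).1 (factAt F q).2) lo len

end

end CfsgLib.Sporadic.ThPres
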