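import Cfsg.Agent.Lib.Sporadic.ThPres.CoverDefs
import Cfsg.Agent.Lib.Sporadic.ThPres.CoverCheck7
import Cfsg.Agent.Lib.Sporadic.ThPres.CoverData10
import Cfsg.Agent.Lib.Sporadic.ThPres.Facts

set_option autoImplicit false
set_option maxRecDepth 20000
set_option Elab.async false

/-! The states are covered for one double coset (owner: helper9). -/

namespace CfsgLib.Sporadic.ThPres

/-- the cover of a double coset -/
noncomputable def cover10 : Cover := ⟨cvPts10, cvIdx10, cvCode10, cvGens10, cvEdges10, 16⟩

theorem cover10_steps0 : cover10.stepsPart 16 1910 = true := by decide +kernel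

theorem cover10_steps1 : cover10.stepsPart 1926 1910 = true := by decide +kernel

theorem cover10_steps2 : cover10.stepsPart 3836 1910 = true := by decide +kernel

theorem cover10_steps3 : cover10.stepsPart 5746 1910 = true := by decide +kernel

theorem cover10_steps4 : cover10.stepsPart 7656 1910 = true := by decide +kernel

theorem cover10_steps5 : cover10.stepsPart 9566 1910 = true := by decide +kernel

theorem cover10_steps6 : cover10.stepsPart 11476 1910 = true := by decide +kernel

theorem cover10_steps7 : cover10.stepsPart 13386 1910 = true := by decide +kernel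

theorem cover10_steps8 : cover10.stepsPart 15296 1903 = true := by decide +kernel

theorem cover10_low : (Nat.ble cover10.ne 17199 && cover10.gensOK factTree 2197 10) = true := by decide +kernel

theorem cover10_edges : CfsgLib.ThreeTrans.CosetIndex.forallFrom (cover10.edgeOK factTree 2197 10) 0 16 = true := by decide +kernel

theorem cover10_idx : CfsgLib.ThreeTrans.CosetIndex.forallFrom cover10.idxOK 0 17199 = true := by decide +kernel

theorem cover10_ok : cover10.ok factTree 2197 10 = true := by
  have h0 := cover10_steps0
  have h1 : cover10.stepsPart 16 3820 = true := cover10.stepsPart_cat h0 cover10_steps1 rfl rfl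
  have h2 : cover10.stepsPart 16 5730 = true := cover10.stepsPart_cat h1 cover10_steps2 rfl rfl
  have h3 : cover10.stepsPart 16 7640 = true := cover10.stepsPart_cat h2 cover10_steps3 rfl rfl
  have h4 : cover10.stepsPart 16 9550 = true := cover10.stepsPart_cat h3 cover10_steps4 rfl rfl
  have h5 : cover10.stepsPart 16 11460 = true := cover10.stepsPart_cat h4 cover10_steps5 rfl rfl
  have h6 : cover10.stepsPart 16 13370 = true := cover10.stepsPart_cat h5 cover10_steps6 rfl rfl
  have h7 : cover10.stepsPart 16 15280 = true := cover10.stepsPart_cat h6 cover10_steps7 rfl rfl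
  have h8 : cover10.stepsPart 16 17183 = true := cover10.stepsPart_cat h7 cover10_steps8 rfl rfl
  have hl := Bool.and_eq_true_iff.1 cover10_low
  exact cover10.ok_intro _ _ _ hl.1 hl.2 cover10_edges h8
    cover10_idx

end CfsgLib.Sporadic.ThPres
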