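import Cfsg.Agent.Lib.Sporadic.ThPres.MuData0
import Cfsg.Agent.Lib.Sporadic.ThPres.MuData1
import Cfsg.Agent.Lib.Sporadic.ThPres.MuData2

set_option autoImplicit false
set_option maxRecDepth 20000

/-! Generated table (owner: helper9). -/

namespace CfsgLib.Sporadic.ThPres
open CfsgLib.Recog.SporBound (Q)

/-- the table of a letter -/
noncomputable def muTree (k : ℕ) : Q ℕ :=
  Q.get (.node (.node (.leaf muTree0) (.leaf muTree4) (.leaf muTree8) (.leaf muTree12)) (.node (.leaf muTree1) (.leaf muTree5) (.leaf muTree9) (.leaf muTree13)) (.node (.leaf muTree2) (.leaf muTree6) (.leaf muTree10) (.leaf muTree13)) (.node (.leaf muTree3) (.leaf muTree7) (.leaf muTree11) (.leaf muTree13))) k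

end CfsgLib.Sporadic.ThPres
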