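import Cfsg.Agent.Lib.Sporadic.ThPres.Act
import Cfsg.Agent.Lib.Sporadic.ThPres.MuData

/-!
# Images of the 17199 states (owner: helper9)
-/

set_option autoImplicit false
set_option maxRecDepth 20000

namespace CfsgLib.Sporadic.ThPres

open CfsgLib.ThreeTrans.CosetIndex (forallFrom forallFrom_elim)

/-- The image of a state under a letter. -/
noncomputable def imgMu (k x : ℕ) : ℕ :=
  Nat.land (Nat.shiftRight ((muTree k).get (Nat.shiftRight x 8)) (Nat.mul 15 (Nat.land x 255))) 32767

/-- Letters permute the states. -/
noncomputable def muOK (k : ℕ) : Bool :=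
  forallFrom (fun x => Nat.blt (imgMu k x) 17199 && Nat.beq (imgMu (Nat.xor k 1) (imgMu k x)) x) 0 17199

/-- Relators fix a block of states. -/
noncomputable def muRels (lo len : ℕ) : Bool :=
  forallFrom (fun x => words27.all fun w => Nat.beq (rImg imgMu w x) x) lo len

end CfsgLib.Sporadic.ThPres
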