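import Cfsg.Agent.Lib.Sporadic.ThPres.Check
import Cfsg.Agent.Lib.Sporadic.ThPres.MuImg

/-!
# Checking that the double cosets are closed under the last generator (owner: helper9)
-/

set_option autoImplicit false
set_option maxRecDepth 20000

namespace CfsgLib.Sporadic.ThPres

open CfsgLib.Recog.SporBound (Q)
open CfsgLib.ThreeTrans.CosetIndex (forallFrom)

/-- A cover of the states for one double coset. -/
structure Cover where
  /-- states in order -/
  pts : Q ℕ
  /-- the position of a state -/
  idx : Q ℕ
  /-- the tree -/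
  code : Q ℕ
  /-- stabilising facts with short words -/
  gens : List (ℕ × List ℕ)
  /-- edges with short words -/
  edges : List (List (ℕ × Bool × List ℕ))
  /-- number of edges -/
  ne : ℕ

namespace Cover

variable (C : Cover)

/-- A state. -/
noncomputable def pt (j : ℕ) : ℕ :=
  Nat.land (Nat.shiftRight (C.pts.get (Nat.shiftRight j 8)) (Nat.mul 15 (Nat.land j 255))) 32767

/-- The position of a state. -/
noncomputable def pos (x : ℕ) : ℕ :=
  Nat.land (Nat.shiftRight (C.idx.get (Nat.shiftRight x 8)) (Nat.mul 15 (Nat.land x 255))) 32767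

/-- The code of a tree step: the parent and the word number. -/
noncomputable def codeAt (j : ℕ) : ℕ :=
  Nat.land (Nat.shiftRight (C.code.get (Nat.shiftRight j 7)) (Nat.mul 20 (Nat.land j 127))) 1048575

/-- An edge. -/
noncomputable def edge (j : ℕ) : ℕ × Bool × List ℕ :=
  (C.edges.getD (Nat.shiftRight j 6) []).getD (Nat.land j 63) (0, false, [])

/-- The words of the steps. -/
noncomputable def stepWords : List (List ℕ) :=
  C.gens.map Prod.snd ++ C.gens.map fun e => PairEnum.winv e.2

variable (F : Q (List (Fact × Why))) (lim i : ℕ)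

/-- The stabilising facts are as claimed. -/
noncomputable def gensOK : Bool :=
  C.gens.all fun e => (e.2.all fun k => Nat.blt k 14) &&
    (Nat.blt e.1 lim && ((factAt F e.1).1.st && (Nat.beq (factAt F e.1).1.i i && eqW (factAt F e.1).1.a e.2)))

/-- An edge is as claimed, and its state is listed. -/
noncomputable def edgeOK (j : ℕ) : Bool :=
  let e := C.edge j
  let f := (factAt F e.1).1
  (e.2.2.all fun k => Nat.blt k 14) &&
    (Nat.blt e.1 lim && (!f.st && (Nat.beq (cond e.2.1 f.k f.i) i &&
      (eqW (cond e.2.1 f.m f.a) e.2.2 && Nat.beq (C.pt j) (rImg imgMu (PairEnum.winv e.2.2) 0)))))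

/-- A step of the tree. -/
noncomputable def stepOK (sw : List (List ℕ)) (j : ℕ) : Bool :=
  let c := C.codeAt j
  Nat.blt (Nat.shiftRight c 4) j && (Nat.blt (Nat.land c 15) sw.length &&
    Nat.beq (C.pt j) (rImg imgMu (sw.getD (Nat.land c 15) []) (C.pt (Nat.shiftRight c 4))))

/-- Every state is listed. -/
noncomputable def idxOK (x : ℕ) : Bool := Nat.blt (C.pos x) 17199 && Nat.beq (C.pt (C.pos x)) x

/-- All checks. -/
noncomputable def ok : Bool :=
  Nat.ble C.ne 17199 && (C.gensOK F lim i && (forallFrom (C.edgeOK F lim i) 0 C.ne &&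
    (forallFrom (C.stepOK C.stepWords) C.ne (17199 - C.ne) && forallFrom C.idxOK 0 17199)))

/-- The steps of a block. -/
noncomputable def stepsPart (lo len : ℕ) : Bool := forallFrom (C.stepOK C.stepWords) lo len

theorem stepsPart_cat {s l₁ m l₂ l : ℕ} (h₁ : C.stepsPart s l₁ = true) (h₂ : C.stepsPart m l₂ = true)
    (hm : Nat.beq (s + l₁) m = true) (hl : Nat.beq (l₁ + l₂) l = true) : C.stepsPart s l = true :=
  CfsgLib.Recog.SporBound.forallFrom_cat h₁ h₂ hm hl

theorem ok_intro (h1 : Nat.ble C.ne 17199 = true) (h2 : C.gensOK F lim i = true)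
    (h3 : forallFrom (C.edgeOK F lim i) 0 C.ne = true) (h4 : C.stepsPart C.ne (17199 - C.ne) = true)
    (h5 : forallFrom C.idxOK 0 17199 = true) : C.ok F lim i = true := by
  rw [Cover.ok, h1, h2, h3, h5, show forallFrom (C.stepOK C.stepWords) C.ne (17199 - C.ne) = true from h4]
  rfl

end Cover

end CfsgLib.Sporadic.ThPres
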