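import Cfsg.Agent.Lib.Sporadic.ThPres.Check

set_option autoImplicit false
set_option maxRecDepth 20000

/-! Facts among double cosets (generated; owner: helper9). -/

namespace CfsgLib.Sporadic.ThPres
open CfsgLib.Recog.SporBound (Q)

/-- facts 0 and on -/
def facts0 : List (Fact × Why) := [
  (⟨true, 0, 0, [74], [], [74]⟩, .base),
  (⟨true, 0, 0, [76], [], [76]⟩, .base),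
  (⟨true, 0, 0, [78], [], [78]⟩, .base),
  (⟨true, 0, 0, [80], [], [80]⟩, .base),
  (⟨true, 0, 0, [82], [], [82]⟩, .base),
  (⟨true, 0, 0, [84], [], [84]⟩, .base),
  (⟨true, 0, 0, [86], [], [86]⟩, .base),
  (⟨false, 0, 1, [], [], []⟩, .defn),
  (⟨true, 1, 1, [88], [], [88]⟩, .pair [0]),
  (⟨true, 1, 1, [90], [], [90]⟩, .pair [1]),
  (⟨true, 1, 1, [92], [], [92]⟩, .pair [2]),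
  (⟨true, 1, 1, [94], [], [96]⟩, .pair [10]),
  (⟨true, 1, 1, [98], [], [100]⟩, .pair [6]),
  (⟨true, 1, 1, [102], [], [104]⟩, .pair [10, 5, 3]),
  (⟨true, 1, 1, [106], [], [108]⟩, .pair [4]),
  (⟨false, 1, 1, [61, 45, 49, 33, 34, 40, 17], [66, 45, 56, 50, 28, 30, 26, 17], [46, 44, 54]⟩, .loop 44 1 [59, 48, 48, 38, 32, 36, 17] 4 5 [⟨[], 7, true, [1, 3, 6, 4, 6, 5, 6, 2, 10, 5]⟩, ⟨[3, 5, 3], 7, false, [2, 6, 4, 5, 3, 6, 2, 5, 6, 10]⟩] []),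
  (⟨false, 1, 2, [66, 49, 56, 30, 30, 36, 2], [], []⟩, .defn),
  (⟨false, 2, 2, [66, 48, 56, 28, 36, 40, 36, 16, 4, 17], [63, 45, 50, 31, 26, 26, 17], [66, 47, 49, 38, 29, 17]⟩, .loop 44 1 [61, 55, 42, 40, 30, 17, 22, 6, 22] 2 3 [⟨[], 16, false, [0, 2, 3, 6, 4, 5, 6, 2]⟩] [⟨[10, 12, 14, 13, 12, 11, 13, 12], 16, false, [1, 6, 10, 5, 3, 6, 4, 6, 2, 6]⟩]),
  (⟨false, 1, 3, [49, 57, 33, 29, 16, 2, 24, 6], [], []⟩, .defn),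
  (⟨false, 3, 2, [59, 45, 54, 35, 30, 36, 16, 4, 17], [67, 48, 45, 36, 34], [48, 52, 34, 41, 17]⟩, .loop 49 1 [58, 46, 38, 33, 40, 2, 17, 23, 10, 21] 2 3 [⟨[10, 9], 18, false, [5, 6, 2, 4, 5, 3, 6, 2]⟩] [⟨[12, 10, 12, 14, 11, 13, 11, 8], 16, false, [2, 3, 6, 2, 5, 10]⟩]),
  (⟨false, 3, 2, [62, 49, 49, 33, 36, 38, 16, 4, 17], [62, 45, 42, 47, 33, 34, 33], [62, 46, 44, 41, 28, 32, 17]⟩, .loop 47 1 [58, 51, 51, 41, 2, 17, 19, 22] 2 3 [⟨[11, 10], 18, false, [1, 6, 5, 6, 4, 5, 3, 6, 5, 10]⟩] [⟨[13, 12, 14, 13, 11, 11, 8], 16, false, [2, 3, 6, 1, 5, 6, 10, 5, 6]⟩]),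
  (⟨true, 3, 3, [110], [], [110]⟩, .coinc 2 [62, 45, 42, 47, 33, 34, 33] ⟨[], 19, true, [1, 2, 3, 5, 6, 2, 10, 5, 6, 2]⟩ ⟨[], 20, true, []⟩),
  (⟨true, 3, 3, [112], [], [114]⟩, .loop 46 3 [62, 44, 57, 30, 27, 31, 17] 6 6 [⟨[21, 21], 19, false, [2, 4, 5, 3, 6, 1, 5, 10, 5]⟩, ⟨[], 17, false, [6, 1, 5, 10, 5, 6, 5, 10]⟩, ⟨[], 19, true, [1, 6, 2, 4, 6, 5, 6, 2, 10]⟩] []),
  (⟨true, 2, 2, [116], [], [118]⟩, .coinc 3 [58, 56, 53, 28, 41, 34] ⟨[22, 21], 19, false, [1, 10, 5, 3, 6, 2, 5, 6]⟩ ⟨[], 19, false, [0, 2, 5, 6, 4, 10, 5, 6, 10, 5, 10]⟩),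
  (⟨true, 2, 2, [120], [], [122]⟩, .coinc 2 [58, 45, 52, 36, 28, 17] ⟨[23], 17, false, []⟩ ⟨[], 17, false, [1, 3, 5, 6, 5, 10, 5, 6, 5, 6]⟩),
  (⟨false, 1, 4, [66, 51, 49, 31, 28, 35, 16, 10, 16, 25], [], []⟩, .defn),
  (⟨false, 4, 4, [59, 47, 44, 33, 33, 31, 17], [59, 54, 56, 36, 40, 37, 17], [67, 47, 42, 30, 30, 41]⟩, .loop 47 4 [59, 47, 52, 33, 34, 17] 4 5 [⟨[], 25, true, [2, 6, 1, 4, 6, 2, 5, 3, 6, 2]⟩, ⟨[11, 13, 12, 10, 12, 11, 10], 25, false, [3, 5, 6, 10, 5, 6, 4, 6, 5, 6]⟩] []),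
  (⟨true, 4, 4, [124], [], [126]⟩, .loop 46 4 [59, 44, 56, 46, 40, 28] 6 6 [⟨[], 26, true, [1, 3, 6, 5, 6, 4, 10, 5]⟩, ⟨[], 25, true, [1, 10, 5, 6, 5, 3, 5, 6, 2]⟩, ⟨[12, 13, 12, 13, 11, 13], 25, false, [0, 4, 5, 6, 10, 5, 6, 2, 4, 5]⟩] []),
  (⟨true, 4, 4, [128], [], [130]⟩, .coinc 4 [60, 46, 48, 54, 28, 34, 28, 17] ⟨[27], 26, false, []⟩ ⟨[], 26, false, [1, 3, 6, 2, 4, 5, 6, 10]⟩),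
  (⟨true, 4, 4, [132], [], [134]⟩, .coinc 4 [55, 47, 28, 30, 34, 17] ⟨[27], 26, true, []⟩ ⟨[], 26, true, [2, 3, 6, 4, 5, 10, 5, 6, 2]⟩),
  (⟨true, 4, 4, [136], [], [138]⟩, .loop 47 4 [59, 48, 53, 31, 33] 6 6 [⟨[], 26, true, [3, 6, 5, 6, 4, 6, 2]⟩, ⟨[], 26, true, [4, 5, 10, 5, 6, 1, 2, 5, 6, 10]⟩, ⟨[], 26, true, [4, 5, 3, 5, 6, 1, 5]⟩] []),
  (⟨false, 1, 5, [59, 44, 51, 46, 28, 41, 35, 2], [], []⟩, .defn)]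

/-- facts 32 and on -/
def facts1 : List (Fact × Why) := [
  (⟨false, 5, 3, [62, 47, 55, 34, 37], [61, 44, 47, 44, 28, 34, 30, 17], [58, 45, 43, 30, 27, 36]⟩, .loop 48 1 [62, 44, 51, 33, 34, 41, 2, 17, 17, 17, 18] 2 3 [⟨[11], 31, false, [1, 5, 6, 5, 6, 10, 5, 3, 6, 5]⟩] [⟨[10, 12, 11, 13, 10], 18, false, [1, 6, 4, 6, 4, 6, 10]⟩]),
  (⟨false, 5, 2, [63, 44, 42, 48, 30, 29, 34, 16, 4, 17], [60, 44, 42, 54, 35, 31, 34, 17], [63, 48, 55, 33, 29, 16, 4, 17]⟩, .loop 46 2 [61, 44, 42, 48, 33, 34, 17] 4 5 [⟨[], 16, true, [2, 6, 4, 10, 5, 6, 2, 6, 10, 5]⟩, ⟨[14, 10, 12, 14, 13, 12, 11, 13, 8], 31, false, [6, 1, 2, 5, 6, 4, 10, 5, 6, 10]⟩] []),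
  (⟨false, 2, 5, [59, 48, 56, 28, 30, 30, 17], [67, 51, 46, 34, 26, 29], [44, 43, 53, 28, 36, 29, 27, 17]⟩, .loop 56 5 [60, 44, 57, 55, 30, 32, 16, 4, 17] 10 11 [⟨[], 31, true, [5, 6, 4, 6, 2, 5]⟩, ⟨[14, 10, 12, 14, 13, 12, 11, 13, 11], 31, false, [2, 4, 6, 1, 5, 10, 5, 6, 5, 10]⟩, ⟨[], 33, false, [1, 2, 6, 2, 5, 6, 2, 6]⟩, ⟨[], 17, true, [4, 5, 10, 5, 6, 4, 5, 6, 5, 10]⟩, ⟨[], 17, true, [0, 2, 4, 6, 5, 3, 5, 6, 5, 6]⟩] [⟨[], 32, false, [4, 6, 5, 3, 6, 5, 10, 5, 6]⟩, ⟨[22], 32, true, [6, 5, 3, 5, 6, 5, 6, 2, 6]⟩]),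
  (⟨false, 2, 5, [66, 47, 44, 51, 28, 26, 17], [59, 44, 47, 52, 33, 27, 34, 17], [66, 44, 56, 46, 31, 28, 32]⟩, .loop 47 5 [60, 47, 49, 38, 26, 17] 4 5 [⟨[], 32, false, [4, 5, 6, 1, 2, 6, 5, 3]⟩, ⟨[22], 19, false, [2, 3, 5, 6, 5, 3, 6, 4]⟩] []),
  (⟨false, 5, 5, [58, 55, 47, 38, 33, 40, 17], [66, 52, 49, 38, 26, 33, 17], [59, 49, 56, 30, 28, 35]⟩, .loop 56 3 [58, 55, 43, 28, 35, 32] 6 7 [⟨[], 19, false, [1, 3, 4, 5, 6, 4, 5, 6, 2, 5]⟩, ⟨[], 17, true, [1, 6, 5, 3, 6, 5, 3]⟩, ⟨[], 33, true, [10, 5, 6, 2, 6, 5, 6, 2]⟩] [⟨[], 32, true, [5, 6, 5, 6, 2, 4, 6, 10, 5]⟩, ⟨[], 35, true, [1, 4, 5, 6, 2, 4, 5, 6, 4]⟩, ⟨[], 16, true, [0, 2, 10, 5, 6, 4, 5, 10, 5, 6]⟩, ⟨[14, 10, 12, 14, 13, 12, 11, 13, 8], 31, false, [0, 2, 3, 4, 5, 6, 5, 6, 2]⟩]),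
  (⟨true, 5, 5, [140], [], [142]⟩, .loop 63 5 [63, 44, 42, 57, 41, 26, 17] 16 16 [⟨[], 32, false, [2, 5, 6, 10, 5, 3, 6, 2, 4]⟩, ⟨[], 18, true, [0, 3, 5, 6, 2, 6]⟩, ⟨[13, 12, 10, 12, 14, 10], 16, false, [6, 4, 6, 4]⟩, ⟨[], 17, true, [1, 5, 6, 10, 5, 3, 6, 5, 6, 2]⟩, ⟨[], 35, false, [6, 2, 6, 5, 3, 6, 5, 6, 2]⟩, ⟨[], 33, false, [1, 2, 4, 10, 5, 6, 5, 10, 5]⟩, ⟨[], 35, false, [3, 4, 6, 2, 6, 5, 6, 5, 3]⟩, ⟨[], 36, false, [0, 10, 5, 6, 2, 6, 4, 5]⟩] []),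
  (⟨true, 5, 5, [144], [], [146]⟩, .loop 65 5 [63, 46, 42, 30, 38, 28] 16 16 [⟨[], 31, true, [2, 4, 6, 1, 5, 3, 6, 2, 4, 5]⟩, ⟨[13, 12, 14, 10, 12, 13, 12, 11], 16, false, [2, 6, 4, 10, 5, 6, 10, 5, 6]⟩, ⟨[], 17, false, [2, 10, 5, 6, 5, 3]⟩, ⟨[], 34, false, [3, 4, 6, 1, 2, 5, 6, 4, 5, 3, 6]⟩, ⟨[], 36, true, [0, 4, 10, 5, 6, 2, 5, 6, 2, 10]⟩, ⟨[], 32, false, [2, 6, 1, 5, 10, 5, 6, 2, 6]⟩, ⟨[21], 19, false, [0, 5, 6, 2, 5, 6, 10, 5]⟩, ⟨[], 35, false, [0, 4, 5, 3, 6, 5, 6, 5, 10]⟩] []),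
  (⟨false, 1, 6, [2], [], []⟩, .defn),
  (⟨false, 1, 6, [63, 46, 44, 54, 33, 36], [59, 44, 42, 45, 33, 36, 30, 16, 11, 17, 6], [67, 48, 53, 30, 40, 34, 16, 4, 23]⟩, .loop 32 0 [61, 47, 55, 31, 37, 35, 17, 22, 6] 2 3 [⟨[1], 7, false, [0, 2, 4, 6, 2, 6, 10]⟩] [⟨[2, 3, 0, 1], 7, false, [4, 6, 4, 6, 4, 10]⟩, ⟨[10, 12, 14, 12, 8], 39, false, [3, 4, 6, 4, 6, 2]⟩]),
  (⟨false, 6, 1, [61, 44, 48, 43, 28, 35, 28, 16, 4, 16, 22], [58, 48, 45, 28, 26, 37, 16, 8], [63, 45, 50, 45, 34, 26, 31, 16, 10, 18]⟩, .loop 30 0 [61, 44, 57, 49, 34, 26, 31, 16, 4, 17] 4 5 [⟨[5], 7, false, [4, 6, 4, 10, 5]⟩, ⟨[12, 14, 13, 10], 40, false, [3, 5, 6, 5, 6, 2, 4, 10]⟩] [⟨[3, 2, 3, 4, 1, 2, 3, 5, 4, 2, 3, 5, 5, 1], 7, false, [1, 4, 6, 2, 5, 6, 4, 10]⟩]),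
  (⟨true, 6, 6, [148], [], [150]⟩, .coinc 1 [58, 48, 45, 28, 26, 37, 16, 8] ⟨[11, 13, 12, 14, 13, 10, 12], 39, false, [1, 2, 5, 6, 4, 6, 2]⟩ ⟨[], 41, true, []⟩),
  (⟨false, 6, 1, [61, 55, 43, 30, 26, 30, 16, 22], [58, 47, 42, 34, 26, 32, 16, 25], [59, 46, 46, 35, 28, 40, 16, 4]⟩, .loop 31 6 [62, 49, 42, 28, 35, 16, 16, 16, 11] 4 5 [⟨[], 40, true, [0, 6, 4, 6, 4, 5, 10, 5, 6, 2]⟩, ⟨[12, 13, 12, 14, 13, 12, 8], 39, false, [2, 4, 10, 5, 6, 4, 6, 2]⟩] [⟨[42, 42], 40, true, [6, 1, 10, 5, 6, 2, 6, 5, 10]⟩]),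
  (⟨true, 6, 6, [152], [], [154]⟩, .coinc 1 [58, 47, 42, 34, 26, 32, 16, 25] ⟨[13, 12, 13, 10, 12, 14, 12, 8], 39, false, [2, 5, 6, 4, 6, 2, 6]⟩ ⟨[], 43, true, []⟩),
  (⟨false, 4, 6, [46, 35, 36, 16, 4, 17], [62, 52, 49, 33, 29, 37, 2, 23, 23, 13, 10], [60, 50, 47, 28, 30, 28, 2, 23, 17, 19, 22]⟩, .loop 49 6 [46, 42, 51, 30, 34, 27, 2, 23, 13, 23, 6] 4 5 [⟨[42, 44], 39, true, [1, 2, 4, 6, 2, 5, 6, 4, 10, 5]⟩, ⟨[12, 13, 12, 10, 12, 11, 13, 11], 25, false, [5, 10, 5, 6, 4, 5, 6, 2, 4]⟩] []),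
  (⟨false, 4, 4, [61, 51, 46, 30, 27, 32], [61, 44, 46, 57, 36, 35], [66, 55, 46, 33, 38, 2, 17, 17, 25, 21]⟩, .loop 22 1 [67, 49, 31, 41, 36, 16, 10, 18, 23] 2 3 [⟨[], 25, false, [2, 5, 6, 5, 6, 10, 5, 3]⟩] [⟨[13, 10, 12], 39, false, [0, 6, 4, 10, 5, 3, 6, 2, 5]⟩, ⟨[42, 44, 42, 42, 44, 42, 42], 45, true, [0, 6, 2, 6, 5, 3, 6, 2, 4]⟩]),
  (⟨false, 1, 6, [59, 49, 51, 34, 26, 29, 18, 23], [60, 44, 47, 47, 28, 38, 16, 16, 24, 22], [62, 44, 42, 51, 33, 35, 41, 16, 16, 4, 23]⟩, .loop 31 6 [66, 46, 51, 28, 35, 28, 16, 4, 16, 20, 22] 6 7 [⟨[], 40, true, [2, 4, 6, 5, 6, 2, 5, 3]⟩, ⟨[12, 14, 12], 39, false, [2, 6, 4, 5, 6, 2, 5]⟩, ⟨[42, 44, 42, 42, 44], 39, true, [1, 4, 6, 2, 6, 5, 3, 6, 4]⟩] []),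
  (⟨false, 6, 6, [63, 44, 46, 48, 40, 40, 32, 2, 23, 23, 0, 13], [67, 46, 49, 28, 31, 28, 38, 17, 23, 18, 23], [67, 50, 44, 33, 31, 38, 2, 16, 6, 23, 20]⟩, .loop 71 1 [58, 45, 53, 48, 38, 27, 17] 4 5 [⟨[], 15, true, [3, 6, 4, 6, 2, 6, 5, 6, 2, 10]⟩, ⟨[11, 13, 12, 11, 11], 47, false, [0, 4, 6, 2, 6, 4, 5, 3, 5, 6]⟩] [⟨[13, 10, 12, 11], 47, false, [0, 2, 4, 6, 10, 5, 6, 4, 5, 3]⟩]),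
  (⟨false, 3, 1, [60, 54, 50, 36, 29, 31, 16, 22], [67, 44, 48, 31, 28, 35, 2, 17, 18], [66, 45, 53, 48, 38, 33, 19]⟩, .loop 33 6 [66, 54, 46, 34, 33, 17, 17] 4 5 [⟨[42, 42], 40, true, [2, 4, 6, 4, 5, 3]⟩, ⟨[13, 12, 14, 13, 12, 11, 10], 18, false, [6, 4, 5, 6, 5, 3, 6, 2]⟩] [⟨[44], 39, true, [0, 3, 5, 6, 10]⟩]),
  (⟨true, 3, 3, [156], [], [158]⟩, .coinc 1 [67, 44, 48, 31, 28, 35, 2, 17, 18] ⟨[10, 12, 13, 12, 11, 13, 10, 12, 9], 18, false, [0, 6, 5, 6, 4, 6, 5, 3, 6]⟩ ⟨[], 49, true, []⟩),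
  (⟨false, 6, 6, [63, 44, 47, 44, 28, 36, 2, 23, 17, 2, 6], [62, 49, 49, 30, 28, 30, 2, 17, 17, 18, 23], [62, 50, 42, 31, 26, 34, 2, 17, 23, 10, 19]⟩, .loop 70 1 [66, 49, 46, 31, 29, 29] 2 3 [⟨[13], 40, false, [2, 3, 6, 2, 5, 6, 5, 3, 6]⟩] [⟨[11], 15, false, [1, 5, 3, 6, 5, 3, 6, 4, 6, 2, 5]⟩, ⟨[14, 11, 13, 10, 12, 11, 11], 47, false, [4, 10, 5, 6, 2, 5, 6, 2, 4]⟩]),
  (⟨true, 6, 6, [160], [], [162]⟩, .coinc 6 [62, 49, 49, 30, 28, 30, 2, 17, 17, 18, 23] ⟨[42], 48, false, [5, 3, 5, 6, 5, 6, 2, 6, 10]⟩ ⟨[], 51, true, []⟩),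
  (⟨true, 4, 4, [164], [], [166]⟩, .coinc 6 [62, 44, 47, 28, 38, 31, 16, 16, 19, 17] ⟨[52, 44, 44, 44, 42, 44, 42], 45, true, [3, 6, 5, 6, 4, 6, 4, 10]⟩ ⟨[42, 44, 44, 44, 52], 45, true, [0, 3, 4, 6, 4, 6, 5, 6, 10]⟩),
  (⟨false, 1, 1, [59, 45, 43, 33, 34, 38, 2, 23, 17, 2, 6], [60, 44, 55, 28, 41, 34, 17, 23, 16, 6], [67, 48, 52, 38, 26, 33, 16, 16, 19, 23]⟩, .loop 63 6 [66, 46, 44, 54, 34, 37, 18, 23, 17] 8 9 [⟨[52], 48, false, [3, 6, 4, 5, 6, 2, 10]⟩, ⟨[42, 52], 47, true, [2, 4, 6, 2, 5, 3, 6, 2, 5, 6]⟩, ⟨[12, 14, 13, 10], 40, false, [0, 2, 5, 6, 4, 5, 6, 4]⟩, ⟨[52, 52, 44, 42], 47, true, [4, 5, 6, 2, 4, 5, 6, 2, 6, 10]⟩] [⟨[44, 52, 52], 47, true, [1, 2, 3, 5, 6, 4, 10, 5, 3, 6]⟩, ⟨[12, 14, 13, 10], 40, false, [4, 6, 4, 5, 10, 5, 6, 5,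 3, 6]⟩, ⟨[52, 52, 44, 42], 47, true, [6, 2, 5, 3, 6, 4, 5, 3, 6]⟩]),
  (⟨false, 4, 4, [60, 51, 55, 28, 26, 37], [52, 55, 38, 32, 36], [63, 44, 46, 28, 30, 30, 2, 17, 17, 25, 21]⟩, .loop 72 4 [62, 45, 56, 50, 30, 40, 30] 6 7 [⟨[], 25, true, [4, 6, 2, 4, 5, 6, 4, 6]⟩, ⟨[11, 13, 10, 12, 11], 47, false, [2, 10, 5, 6, 1, 2, 4, 5]⟩, ⟨[52, 44, 44], 45, true, [0, 6, 4, 5, 3, 6, 2, 5, 6, 10]⟩] []),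
  (⟨false, 3, 4, [66, 54, 43, 36, 28, 37, 16, 25], [62, 44, 43, 28, 30, 26, 16, 25], [62, 46, 42, 51, 36, 32, 30, 16, 10, 17]⟩, .loop 31 6 [67, 46, 42, 51, 35, 37, 38, 16, 24, 16, 21] 4 5 [⟨[42], 39, true, [5, 3, 5, 6, 1, 2, 5, 3]⟩, ⟨[12, 14, 13, 11, 13, 10, 12, 13, 8], 18, false, [1, 4, 5, 6, 10, 5, 6, 4]⟩] [⟨[44, 52, 52, 42, 44, 52], 45, true, [0, 6, 2, 4, 6, 10, 5, 6, 2, 5, 10]⟩]),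
  (⟨false, 4, 4, [61, 54, 52, 34, 31, 41], [52, 44, 41, 27], [62, 51, 57, 30, 38, 37, 2, 17, 17, 11, 22]⟩, .loop 72 1 [66, 51, 43, 30, 38, 29, 16, 21, 23, 23] 4 5 [⟨[13, 10, 12], 39, false, [0, 6, 4, 10, 5, 6, 10, 5, 3, 6, 5]⟩, ⟨[52, 52, 52, 44, 44], 45, true, [6, 4, 6, 2, 10, 5, 6, 5, 3]⟩] [⟨[14, 12, 10, 12, 14, 10], 25, false, [2, 6, 1, 5, 10, 5, 6, 5]⟩]),
  (⟨false, 1, 4, [60, 44, 47, 52, 36, 35, 16, 25], [46, 44, 54, 28, 16, 8], [67, 51, 57, 33, 29, 30, 17]⟩, .loop 33 1 [54, 52, 30, 40, 34] 2 3 [⟨[], 15, true, [0, 4, 5, 6, 2]⟩] [⟨[14, 11, 13, 10, 12, 11], 54, false, [0, 6, 2, 4, 5, 3, 6, 4]⟩, ⟨[14, 11, 13, 12, 13, 11, 10], 25, false, [1, 6]⟩]),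
  (⟨false, 6, 4, [66, 44, 42, 48, 31, 29, 40, 2, 17, 17, 17, 18], [60, 50, 55, 28, 35, 36, 16, 8], [58, 44, 48, 31, 29, 35, 16, 16, 22, 2]⟩, .loop 73 1 [54, 36, 35, 16, 16, 19, 23] 2 3 [⟨[], 47, false, [1, 3, 4, 5, 6, 2, 6, 5, 6, 4]⟩] [⟨[14, 10, 12, 14, 11, 11, 13, 11], 58, false, [3, 4, 6, 1, 5, 10, 5, 6, 4]⟩, ⟨[], 55, true, [2, 4, 5, 3, 6, 5, 6, 2, 10]⟩]),
  (⟨false, 4, 6, [54, 52, 28, 41, 35, 16, 22, 19], [66, 50, 42, 33, 40, 38, 2, 17, 22, 16, 10], [66, 48, 53, 30, 28, 28, 16, 18, 18, 6]⟩, .loop 45 6 [60, 57, 55, 28, 26, 16, 16, 10, 18] 4 5 [⟨[42], 39, true, [0, 2, 4, 6, 2, 6, 10, 5, 6, 5, 10]⟩, ⟨[12, 14, 13, 12, 11, 11], 58, false, [0, 2, 5, 6, 4, 6, 5, 6, 5]⟩] []),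
  (⟨true, 4, 4, [168], [], [170]⟩, .coinc 6 [66, 50, 42, 33, 40, 38, 2, 17, 22, 16, 10] ⟨[42, 52, 44, 44, 44, 52], 59, false, [6, 4, 6, 4, 10, 5, 6, 2]⟩ ⟨[], 60, true, []⟩),
  (⟨false, 4, 4, [45, 57, 31, 41], [66, 49, 35, 40, 17], [66, 49, 45, 36, 35, 27, 16, 11, 23, 16, 16]⟩, .loop 72 6 [67, 44, 53, 30, 34, 2, 23, 23, 18, 17] 4 5 [⟨[44, 44, 42], 48, false, [2, 6, 4, 5, 10, 5, 6, 5, 10]⟩, ⟨[44, 44, 52, 52, 44, 42], 45, true, [2, 6, 1, 4, 5, 3, 6, 2, 5]⟩] [⟨[44, 52, 44, 42, 42, 42, 42], 59, false, [1, 5, 6, 4, 5, 3, 6, 2, 6, 4]⟩]),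
  (⟨true, 4, 4, [172], [], [174]⟩, .coinc 4 [66, 49, 35, 40, 17] ⟨[], 62, false, [0, 5, 3, 6, 4, 6, 5, 10, 5, 6]⟩ ⟨[], 62, true, []⟩)]

/-- facts 64 and on -/
def facts2 : List (Fact × Why) := [
  (⟨false, 4, 4, [46, 49, 38, 29], [63, 57, 55, 34, 29, 36], [60, 46, 42, 51, 31, 41, 28, 2, 17, 17, 11, 22]⟩, .loop 72 4 [63, 47, 50, 28, 26, 31] 4 5 [⟨[], 57, false, [1, 5, 6, 5, 3]⟩, ⟨[61, 61], 46, false, [1, 3, 4, 6, 2, 6, 4, 5, 6]⟩] [⟨[61, 61], 46, false, [2, 3, 6, 2, 5, 6, 10]⟩]),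
  (⟨false, 5, 1, [62, 44, 48, 43, 30, 30, 35, 16, 18, 18, 6], [61, 44, 42, 54, 34, 26, 2, 17, 17, 2], [44, 49, 34, 29, 16, 21]⟩, .loop 35 1 [63, 48, 45, 30, 27, 32, 16, 10] 6 7 [⟨[], 58, false, [0, 5, 10, 5, 6, 2, 6, 5, 6, 10]⟩, ⟨[61, 61], 58, true, [1, 4, 5, 6, 2, 4, 5, 6, 4]⟩, ⟨[12, 14, 10, 12, 13, 12, 14, 10, 9], 31, false, [4, 6, 4, 10, 5, 6, 2, 5, 3]⟩] []),
  (⟨true, 5, 5, [176], [], [178]⟩, .coinc 1 [61, 44, 42, 54, 34, 26, 2, 17, 17, 2] ⟨[11, 13, 12, 13, 11, 13, 12, 10, 12], 31, false, [2, 6, 2, 6, 5, 6, 4, 10]⟩ ⟨[], 65, true, []⟩),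
  (⟨false, 4, 4, [58, 44, 42, 45, 34, 33, 17], [62, 48, 52, 30, 27, 30, 17, 23, 18], [67, 46, 51, 38, 29, 30, 2, 17, 17, 25, 21]⟩, .loop 65 1 [58, 44, 42, 45, 33, 36, 30, 17, 17] 8 9 [⟨[12, 10], 58, false, [2, 5, 6, 4, 5, 3, 6, 2, 6, 2]⟩, ⟨[63, 61, 61], 46, true, [1, 2, 5, 6, 10, 5, 3, 6, 4]⟩, ⟨[61], 26, true, [0, 10, 5, 6, 2, 6, 5, 10, 5]⟩, ⟨[], 26, true, [2, 6, 4, 5, 3, 6, 2, 5]⟩] [⟨[13, 11, 9], 58, false, [4, 6, 1, 10, 5, 3, 6]⟩, ⟨[61], 59, true, [4, 5, 3, 5, 6, 4, 6, 2]⟩, ⟨[42, 42, 42, 44, 42, 42], 59, false, [1, 3, 5, 6, 4, 6, 5, 6, 2, 10]⟩]),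
  (⟨false, 4, 4, [58, 51, 53, 33, 30, 17], [60, 46, 46, 28, 31, 16, 21, 17], [66, 44, 47, 47, 28, 31, 34, 16, 16, 16, 8]⟩, .loop 44 4 [67, 45, 50, 42, 30, 37, 31, 17] 2 3 [⟨[], 46, false, [4, 5, 3, 6, 4, 6, 2, 5]⟩] [⟨[61], 67, false, [0, 4, 6, 2, 4, 5, 3, 6, 5, 6]⟩]),
  (⟨false, 4, 4, [59, 47, 53, 30, 16, 11, 17], [66, 48, 55, 36, 32, 30, 17], [47, 49, 56, 34, 28, 37, 2, 23, 23, 18, 18]⟩, .loop 61 4 [62, 50, 42, 34, 31, 41, 16, 21, 17] 10 11 [⟨[63], 68, false, [0, 4, 10, 5, 6, 4, 6, 4, 5, 6, 10]⟩, ⟨[63, 61], 46, true, [0, 2, 4, 6, 10, 5, 6, 5, 10]⟩, ⟨[61], 26, false, [0, 4, 5, 6, 4, 6, 5, 3, 6, 2]⟩, ⟨[], 45, false, [0, 5, 6, 10, 5, 6, 2, 6, 5]⟩, ⟨[42, 52, 42, 44, 52, 44], 59, false, [10, 5, 6, 4, 10, 5, 6, 5, 6]⟩] [⟨[61], 58, true, [4, 5,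 6, 1, 2, 10, 5, 6]⟩, ⟨[12, 11, 11, 13, 12, 14, 11, 8], 25, false, [1, 3, 6, 5, 6, 2, 6, 4, 5]⟩]),
  (⟨false, 4, 4, [61, 51, 38, 35], [62, 52, 49, 38, 33, 40, 16, 10, 8], [49, 47, 38, 33, 16, 16, 20, 16]⟩, .loop 72 4 [60, 44, 43, 57, 40, 16, 4] 6 7 [⟨[], 59, true, [1, 2, 4, 6, 5, 3, 6, 4, 6]⟩, ⟨[42, 52, 52, 52, 42], 59, false, [1, 4, 6, 2, 6, 4, 5, 3]⟩, ⟨[61, 61], 69, false, [2, 3, 6, 5, 6, 2, 4, 5]⟩] []),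
  (⟨false, 4, 5, [60, 45, 46, 34, 29, 36, 16, 11, 17, 6], [67, 54, 56, 30, 27, 38, 2, 17, 0], [67, 44, 53, 41, 30, 28, 16, 11, 16, 24]⟩, .loop 33 4 [46, 44, 54, 31, 36, 16, 4, 17] 2 3 [⟨[], 55, false, [10, 5, 3, 6, 5, 6, 2, 4, 5, 6]⟩] [⟨[61, 61], 58, true, [1, 4, 6, 2, 10, 5, 6, 2]⟩, ⟨[14, 13, 12, 10, 12, 14, 13], 31, false, [0, 3, 6, 4, 6, 2, 6]⟩]),
  (⟨false, 5, 5, [61, 45, 50, 30, 37, 16, 16, 4, 13, 17], [63, 46, 49, 38, 36], [58, 48, 43, 28, 30, 26, 34, 16, 16, 19, 23]⟩, .loop 67 1 [59, 54, 43, 28, 38, 30, 18, 23, 17] 4 5 [⟨[], 58, false, [0, 4, 6, 4, 5, 10, 5, 6, 5, 3]⟩, ⟨[29], 71, false, [3, 5, 6, 5, 10, 5, 6, 5, 6]⟩] [⟨[12, 10, 12, 13, 12, 14, 12, 11], 31, false, [6, 2, 6, 5, 6, 10, 5, 6]⟩]),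
  (⟨false, 4, 4, [67, 44, 48, 28, 26, 31, 33, 16, 4, 17], [58, 45, 56, 33, 31, 34, 16, 4, 17], [67, 51, 55, 38, 29, 16, 11, 18, 23, 23]⟩, .loop 53 4 [67, 57, 53, 36, 40, 16, 4, 17] 12 13 [⟨[61], 57, false, [1, 6, 4, 6, 2, 4, 10]⟩, ⟨[63, 63, 61], 70, true, [1, 5, 6, 4, 5, 6, 5, 10, 5]⟩, ⟨[61, 61], 70, false, [2, 3, 4, 5, 6, 5, 3, 6, 5, 6, 4]⟩, ⟨[61], 70, true, [3, 6, 1, 2, 5, 6, 4, 6, 2, 10]⟩, ⟨[], 64, false, [2, 4, 5, 6, 1, 4, 5, 10]⟩, ⟨[], 64, false, [3, 4, 6, 5, 6, 10, 5, 6, 10]⟩] [⟨[], 57, false, [0, 3, 6, 4, 5, 6, 2, 4, 10]⟩]),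
  (⟨false, 5, 4, [66, 44, 47, 47, 28, 26, 37, 16, 25], [63, 49, 30, 27, 16, 25], [58, 44, 53, 35, 31, 29, 16, 11, 18, 23, 23]⟩, .loop 32 4 [58, 44, 48, 36, 27, 35, 17] 6 7 [⟨[], 45, false, [5, 3, 6, 1, 5, 10, 5, 6, 4, 6, 5]⟩, ⟨[52, 52, 44, 42], 47, true, [0, 4, 6, 5, 6, 10, 5, 6]⟩, ⟨[13, 12, 11, 13, 12, 8], 31, false, [6, 1, 10, 5, 3, 6, 2, 6, 5, 10]⟩] []),
  (⟨false, 4, 5, [58, 46, 43, 41, 26, 37, 16, 16, 25], [60, 50, 55, 30, 38, 40, 16, 25], [58, 45, 48, 41, 27, 2, 17, 17, 18, 21]⟩, .loop 32 4 [60, 46, 44, 28, 41, 33, 17] 4 5 [⟨[], 45, false, [2, 4, 6, 2, 5, 3, 6, 5, 6, 10]⟩, ⟨[52, 42, 52, 44, 44], 59, false, [0, 4, 6, 2, 6, 4, 5, 6, 10, 5]⟩] [⟨[30, 27], 74, true, [3, 4, 5, 6, 4, 5, 6, 4, 5, 6, 10]⟩]),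
  (⟨false, 3, 3, [61, 45, 43, 33, 40, 38, 17], [59, 45, 45, 30, 41, 27, 17], [52, 50, 31, 41, 36]⟩, .loop 72 4 [60, 47, 53, 34, 40, 29, 16, 4, 16, 19, 23] 4 5 [⟨[], 68, true, [0, 3, 6, 2, 6, 5, 6, 10, 5, 3]⟩, ⟨[30, 29], 56, true, [2, 6, 5, 6, 2, 6, 5, 3, 6]⟩] [⟨[61, 29, 63], 56, true, [1, 2, 6, 5, 6, 2, 5]⟩]),
  (⟨false, 4, 4, [66, 50, 48, 28, 36, 40, 17], [63, 45, 57, 28, 36, 34], [60, 45, 53, 33, 28, 16, 11, 18, 23, 23]⟩, .loop 66 6 [66, 46, 53, 28, 30, 30, 17, 23, 16, 22] 4 5 [⟨[42], 40, true, [1, 2, 6, 5, 6, 4, 6, 10]⟩, ⟨[11, 13, 12, 11, 11, 9], 58, false, [1, 2, 4, 6, 10, 5, 6, 2, 4]⟩] [⟨[44, 42, 42, 52, 52, 52], 45, true, [2, 4, 6, 1, 10, 5, 6, 2, 6, 4]⟩]),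
  (⟨false, 3, 5, [61, 46, 43, 41, 29, 16, 25], [51, 46, 36, 30, 16, 16, 20, 16], [59, 46, 51, 30, 40, 34, 16, 16, 16, 22]⟩, .loop 35 5 [67, 44, 55, 52, 28, 40, 33, 16, 10, 17] 6 7 [⟨[37, 66], 36, false, [4, 6, 1, 5, 6, 4, 10, 5, 6]⟩, ⟨[38, 66], 72, false, [4, 5, 6, 4, 6, 4, 10]⟩, ⟨[37, 66], 32, false, [1, 10, 5, 6, 2, 5, 6, 4, 5, 3]⟩] []),
  (⟨false, 2, 5, [66, 48, 55, 31, 28, 27, 16, 8], [67, 44, 48, 34, 26, 30, 16, 16, 2, 11, 12], [60, 52, 55, 28, 34, 36, 16, 18, 16, 4]⟩, .loop 69 3 [60, 44, 57, 49, 31, 33, 16, 22, 22, 8] 4 5 [⟨[50, 50, 50], 18, true, [1, 6, 5, 3, 5, 6, 5, 3, 6, 2]⟩, ⟨[14, 12, 14, 11, 11, 13, 12, 11, 13], 16, false, [3, 6, 5, 3, 6, 2, 4, 6]⟩] [⟨[21, 50, 21, 50], 78, false, [2, 6, 1, 5, 6, 10, 5]⟩]),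
  (⟨false, 3, 5, [61, 47, 56, 35, 28, 35, 16, 11, 11], [45, 42, 45, 30, 38, 29, 2, 23, 6, 23, 8], [59, 51, 44, 33, 27, 27]⟩, .loop 48 5 [66, 45, 56, 30, 37, 27, 2, 17, 17, 22, 16] 4 5 [⟨[], 71, true, [1, 6, 2, 6, 5, 3, 6, 5]⟩, ⟨[61, 63, 61, 28], 56, true, [4, 6, 5, 6, 4, 5, 6, 2, 6]⟩] []),
  (⟨false, 3, 2, [67, 46, 46, 28, 30, 26, 34, 16, 8], [66, 44, 42, 45, 28, 30, 28, 16, 24, 6], [67, 44, 43, 53, 36, 32]⟩, .loop 73 1 [63, 49, 46, 30, 16, 16, 10, 21, 17] 2 3 [⟨[8], 18, false, [1, 4, 6, 2, 5, 3, 6, 5]⟩] [⟨[14, 12, 14, 12, 11, 13, 10, 8], 31, false, [0, 2, 4, 5, 3, 6, 4, 5, 6, 4]⟩, ⟨[66, 66, 37, 66, 38], 79, true, [1, 3, 5, 6, 2, 5, 6, 2, 10, 5]⟩]),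
  (⟨false, 4, 2, [66, 50, 49, 30, 40, 31, 16, 10, 16, 25], [60, 54, 52, 31, 29, 29, 16, 11, 17, 6], [59, 44, 56, 46, 30, 27, 32, 2, 17, 17, 22, 24]⟩, .loop 35 1 [63, 52, 50, 28, 40, 26, 2, 23, 8, 17, 17] 4 5 [⟨[], 39, false, [2, 6, 4, 6, 5, 10, 5, 6]⟩, ⟨[52, 52, 42, 44, 42], 59, false, [0, 4, 10, 5, 3, 6, 2, 6, 2, 4]⟩] [⟨[10, 9, 12, 13, 11, 11], 16, false, [10, 5, 3, 6, 2, 6, 4, 5]⟩]),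
  (⟨false, 2, 2, [60, 44, 48, 43, 34, 38, 28], [61, 44, 55, 52, 31, 27, 32, 2, 23, 23, 13], [62, 47, 51, 30, 38, 37, 16, 18, 18]⟩, .loop 20 3 [59, 51, 53, 38, 32, 34, 2, 17, 17, 24, 23] 2 3 [⟨[22, 21, 50], 19, false, [4, 5, 6, 2, 6, 2, 4, 10, 5, 6]⟩] [⟨[50, 22, 50], 56, false, [2, 3, 6, 5, 6]⟩, ⟨[61, 63, 63, 61, 29], 82, false, [0, 3, 6, 5, 3]⟩]),
  (⟨false, 2, 3, [44, 42, 51, 31, 34, 28, 16, 11, 25], [67, 45, 43, 33, 38, 16, 21], [66, 49, 57, 28, 30, 41, 17, 23, 17, 17]⟩, .loop 44 5 [66, 44, 48, 43, 30, 27, 27, 16, 10] 2 3 [⟨[66], 79, true, [3, 5, 6, 1, 2, 6, 5, 3, 5]⟩] [⟨[37, 66, 66], 80, true, [0, 4, 6, 4, 6, 2, 4, 10]⟩]),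
  (⟨false, 5, 5, [60, 45, 42, 47, 28, 30, 41, 16, 24, 17, 6], [63, 44, 51, 48, 36, 40, 37, 16, 2, 11, 11], [59, 45, 28, 40, 31, 16, 19, 22]⟩, .loop 46 3 [60, 49, 46, 31, 41, 18, 23, 17] 2 3 [⟨[], 78, false, [5, 10, 5, 6, 5, 6, 4, 10]⟩] [⟨[21], 78, false, [0, 4, 5, 3, 6, 2, 5, 6, 2, 10]⟩]),
  (⟨false, 2, 2, [62, 50, 55, 28, 41, 27, 32, 16, 10, 13], [60, 44, 42, 46, 30, 35, 35, 16, 10, 8], [62, 45, 31, 33, 31, 16, 4, 17]⟩, .loop 16 3 [45, 42, 47, 41, 28, 17] 4 5 [⟨[], 76, false, [6, 2, 5, 6, 5, 3, 6, 4, 6]⟩, ⟨[22, 22, 50], 81, false, [0, 5, 6, 10, 5, 3, 6, 2]⟩] [⟨[22, 21, 50], 81, false, [1, 2, 6, 5, 10, 5]⟩]),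
  (⟨false, 5, 5, [61, 44, 42, 33, 29, 37, 17, 17], [66, 48, 42, 28, 30, 41, 41, 17, 22], [59, 57, 33, 36, 41, 2, 23, 23, 21, 16]⟩, .loop 47 5 [63, 44, 46, 57, 41, 33, 17, 23] 4 5 [⟨[37], 74, false, [3, 6, 2, 4, 6, 5, 6, 5, 3]⟩, ⟨[61, 63, 63, 27], 75, false, [2, 6, 10, 5, 6, 4, 5, 6, 5, 6]⟩] []),
  (⟨false, 2, 2, [55, 49, 31, 35, 16, 10, 8], [58, 50, 55, 28, 35, 16, 8], [62, 47, 53, 31, 36, 35, 16, 4, 17]⟩, .loop 66 2 [59, 47, 44, 51, 36, 35, 17] 6 7 [⟨[], 19, true, [2, 6, 1, 5, 3, 6, 4]⟩, ⟨[21, 22], 76, false, [0, 3, 5, 6, 2, 6, 4, 5, 6]⟩, ⟨[22, 22, 50, 22, 22], 84, true, [1, 2, 10, 5, 3, 6, 5, 6, 2, 10]⟩] []),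
  (⟨false, 2, 4, [60, 45, 50, 38, 35, 16, 11, 11], [59, 45, 54, 56, 31, 27, 34, 18, 23, 17, 6], [61, 49, 49, 33, 34, 26, 17]⟩, .loop 73 4 [63, 55, 46, 34, 28, 37, 16, 16, 19, 23] 6 7 [⟨[], 58, true, [0, 2, 4, 5, 6, 2, 10]⟩, ⟨[14, 12, 14, 13, 12], 16, false, [1, 6, 2, 5, 3, 6, 2, 4, 5, 6]⟩, ⟨[], 88, false, [4, 6, 4, 10, 5, 6, 4, 6, 5]⟩] []),
  (⟨false, 4, 2, [63, 45, 46, 40, 35, 26, 16, 25], [61, 51, 51, 28, 34, 33, 2, 17], [61, 44, 57, 49, 36, 31, 17, 17, 23, 18]⟩, .loop 33 4 [67, 52, 30, 26, 34] 2 3 [⟨[], 64, false, [4, 6, 4, 5, 3, 6, 4, 5, 6]⟩] [⟨[], 25, true, [2, 5, 6, 4, 6, 5, 6, 2, 5]⟩, ⟨[12, 13, 10, 12, 11, 11, 10], 16, false, [1, 3, 5, 6, 5, 6, 4, 6, 2]⟩]),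
  (⟨false, 2, 2, [66, 47, 47, 52, 30, 41, 34, 16, 25], [63, 44, 42, 47, 31, 33, 36, 16, 19, 6, 10], [67, 44, 42, 51, 38, 29, 17]⟩, .loop 21 2 [60, 52, 55, 35, 40, 31, 2, 23, 17, 18] 6 7 [⟨[], 90, true, [1, 6, 10, 5, 3, 6, 5, 10, 5]⟩, ⟨[61, 27], 74, true, [10, 5, 6, 10]⟩, ⟨[37, 66], 35, true, [0, 3, 4, 5, 6, 10, 5, 6, 2, 4, 5]⟩] []),
  (⟨false, 4, 2, [60, 54, 56, 28, 31, 29, 2, 23, 17, 2, 6], [59, 45, 42, 45, 33, 27, 27, 2, 17, 17, 24, 23], [62, 49, 57, 36, 31, 16, 8, 22, 6]⟩, .loop 45 2 [60, 47, 49, 56, 33, 36, 30, 16, 16, 2, 4, 23] 4 5 [⟨[24], 83, false, [0, 6, 4, 10, 5, 6, 10]⟩, ⟨[], 90, true, [3, 6, 2, 5, 6, 4, 6, 2, 5]⟩] []),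
  (⟨false, 2, 5, [60, 54, 52, 28, 34, 30, 16, 24, 6], [63, 56, 50, 41, 33, 17, 23, 23, 21], [60, 54, 43, 31, 37, 35, 16, 24]⟩, .loop 16 5 [62, 51, 52, 34, 28, 37, 16, 11, 18, 23] 6 7 [⟨[], 80, true, [0, 10, 5, 6, 5, 10, 5, 6, 2, 5]⟩, ⟨[21, 21], 56, false, [4, 5, 3, 6, 5, 10, 5, 6, 4, 6]⟩, ⟨[63, 63, 61, 29], 89, true, [6, 10, 5, 3, 6, 2, 5, 6]⟩] []),
  (⟨false, 2, 2, [59, 45, 57, 30, 27, 30, 16, 25], [67, 45, 56, 50, 35, 31, 29, 16, 11, 17], [62, 46, 57, 28, 41, 27, 17]⟩, .loop 34 1 [59, 47, 35, 36, 30, 17, 23, 18] 4 5 [⟨[11], 54, false, [3, 6, 4, 6, 4, 5]⟩, ⟨[11, 13, 12, 14, 13, 12, 8], 16, false, [2, 3, 4, 6, 4, 6, 2]⟩] [⟨[13, 11, 13, 12, 11, 13, 8], 16, false, [3, 6, 4, 5, 6, 4, 6, 2, 5, 10]⟩]),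
  (⟨false, 5, 2, [59, 52, 44, 30, 29, 2, 16], [59, 51, 47, 30, 34, 29], [67, 45, 54, 30, 27, 32, 2, 23, 23, 17, 12]⟩, .loop 68 2 [62, 54, 43, 16, 8] 4 5 [⟨[], 81, true, [2, 6, 5, 6, 2, 10, 5, 6, 5]⟩, ⟨[50, 22, 21, 50], 78, false, [1, 6, 2, 6, 2, 5, 6, 10, 5]⟩] [⟨[], 17, false, [6, 1, 5, 3, 5, 6, 2, 4, 5]⟩])]

/-- facts 96 and on -/
def facts3 : List (Fact × Why) := [
  (⟨false, 2, 2, [60, 47, 47, 52, 34, 27, 38, 17, 23, 16], [67, 44, 47, 44, 30, 35, 40, 16, 4], [45, 42, 47, 30, 38, 29, 16, 11, 17]⟩, .loop 21 1 [59, 44, 56, 46, 28, 34, 30, 29, 16, 2, 19, 6] 4 5 [⟨[12], 16, false, [10, 5, 6, 4, 10]⟩, ⟨[], 94, false, [1, 2, 6, 10, 5, 6, 2, 6, 5, 3]⟩] [⟨[13, 12, 14, 13], 16, false, [0, 3, 5, 6, 10, 5, 3, 6, 4]⟩]),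
  (⟨false, 6, 2, [63, 44, 53, 56, 38, 32, 34, 16, 16, 4, 13, 17], [58, 44, 51, 30, 32, 35, 16, 4, 11], [45, 43, 45, 28, 30, 27, 31, 16, 21, 16, 19]⟩, .loop 68 4 [54, 46, 34, 40, 2, 23, 23, 10, 17] 2 3 [⟨[61], 59, true, [6, 2, 6, 4, 10, 5, 6, 5]⟩] [⟨[30], 89, true, [1, 10, 5, 6, 2, 5, 6, 2]⟩, ⟨[24, 23], 86, false, [6, 2, 6, 5, 6, 10, 5, 6, 2, 5]⟩]),
  (⟨false, 5, 2, [62, 48, 47, 28, 41, 33, 16, 18, 18, 6], [66, 44, 43, 57, 33, 40, 38, 2, 23, 17, 25], [62, 44, 48, 43, 33, 40, 38, 16, 11, 17]⟩, .loop 32 2 [59, 51, 30, 27, 27, 16, 4, 17] 4 5 [⟨[], 16, true, [1, 6, 4, 5, 3, 6, 4, 5, 10, 5]⟩, ⟨[14, 12, 14, 11, 13, 12, 13, 10], 31, false, [1, 5, 3, 6, 5, 6, 4, 5, 3]⟩] [⟨[], 96, true, [10, 5, 6, 2, 5, 10]⟩]),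
  (⟨false, 3, 2, [63, 55, 46, 28, 34, 30, 16, 24, 6], [60, 47, 31, 28, 35], [63, 57, 53, 30, 26, 31, 16, 16, 4, 17]⟩, .loop 67 3 [58, 44, 43, 38, 32, 34, 2, 23, 10, 17, 0] 4 5 [⟨[50, 50, 50], 81, false, [1, 3, 5, 6, 2, 6, 2, 5, 6]⟩, ⟨[], 84, false, [4, 6, 1, 2, 6, 4, 5, 3]⟩] [⟨[50, 50, 50, 22], 19, false, [4, 10, 5, 6, 4, 6, 4, 5]⟩]),
  (⟨false, 2, 5, [67, 55, 47, 30, 34, 34, 16, 24, 16, 16], [63, 49, 53, 35, 35, 35, 16, 16, 22, 25], [63, 48, 28, 36, 29, 16, 16, 24, 19]⟩, .loop 31 3 [66, 47, 51, 33, 29, 37, 16, 4, 16, 19, 23] 4 5 [⟨[50, 50, 22], 19, false, [5, 6, 4, 10, 5, 6, 2, 6, 2, 4]⟩, ⟨[], 83, false, [5, 6, 5, 6, 10, 5, 6, 5, 3]⟩] [⟨[22, 50, 21], 78, false, [2, 6, 2, 5, 6, 2, 10, 5]⟩]),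
  (⟨false, 2, 5, [61, 47, 47, 34, 31, 35, 16, 25], [66, 45, 42, 49, 30, 32, 31, 16, 10, 8], [60, 46, 48, 54, 36, 26, 26, 16, 4, 16, 19, 23]⟩, .loop 69 5 [52, 55, 41, 30, 28, 17] 2 3 [⟨[], 34, true, [2, 6, 4, 6, 5, 6, 2, 5]⟩] [⟨[66, 38, 66, 37], 74, false, [4, 6, 10, 5, 6, 4, 10, 5, 10]⟩, ⟨[61, 63, 63, 28], 75, false, [1, 4, 6, 10, 5, 6, 4, 6, 2, 6, 10]⟩]),
  (⟨false, 2, 2, [61, 52, 38, 29, 30, 16, 11, 11], [58, 45, 56, 50, 28, 36, 33, 16, 10], [67, 44, 47, 30, 32, 36]⟩, .loop 68 2 [59, 55, 31, 26, 26, 16, 21] 6 7 [⟨[23, 24], 101, false, [1, 4, 5, 6, 2, 6, 4, 10, 5, 3]⟩, ⟨[37], 80, true, [0, 6, 4, 5, 6, 5, 6, 4, 10, 5, 3]⟩, ⟨[21], 84, true, [2, 6, 4, 6, 10, 5, 6, 2, 4, 10]⟩] []),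
  (⟨false, 2, 4, [67, 48, 43, 31, 28, 16, 16, 16, 16], [67, 50, 47, 31, 32, 38, 16, 25], [60, 50, 50, 33, 29, 35, 17, 17]⟩, .loop 31 4 [67, 51, 55, 28, 36, 32, 16, 2, 16, 2] 4 5 [⟨[63, 61], 59, true, [1, 2, 6, 5, 10, 5, 6, 2, 4, 5]⟩, ⟨[44, 52, 42, 44, 52, 52, 42, 44], 97, false, [0, 4, 5, 6, 2, 5, 6, 4, 5, 10]⟩] [⟨[63, 63, 61], 64, false, [4, 5, 6, 4, 6, 4, 5, 3, 6, 2]⟩]),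
  (⟨false, 2, 2, [67, 44, 42, 57, 31, 37, 37, 16, 10, 8, 16], [58, 44, 55, 50, 30, 37, 31, 16, 19, 6], [59, 55, 28, 34, 31, 32, 16, 11, 17]⟩, .loop 18 4 [62, 49, 51, 33, 41, 29, 18, 23, 17, 6] 4 5 [⟨[63, 30, 63], 103, true, [3, 5, 6, 4, 6, 2, 6, 4, 5, 6]⟩, ⟨[23, 24], 94, false, [1, 2, 3, 6, 5, 6, 2, 5, 6, 4]⟩] [⟨[63, 63, 29], 103, true, [0, 4, 6, 4, 5, 3, 5, 6, 2, 4]⟩]),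
  (⟨false, 5, 2, [58, 44, 57, 30, 28, 41, 16, 25], [44, 47, 52, 28, 36, 33], [45, 56, 50, 30, 27, 30, 16, 4, 17]⟩, .loop 66 3 [67, 44, 42, 48, 30, 40, 34, 2, 23, 17, 6, 12] 4 5 [⟨[50, 50, 50], 18, true, [6, 5, 3, 5, 6, 4, 5, 6, 10, 5]⟩, ⟨[14, 10, 12, 13, 10, 12, 13, 11], 31, false, [5, 3, 5, 6, 4, 6, 5, 6, 10]⟩] [⟨[22, 50, 21], 99, false, [2, 6, 5, 6, 5, 10, 5, 6, 2]⟩]),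
  (⟨false, 2, 2, [67, 49, 49, 28, 31, 33, 16, 21, 16, 4], [66, 48, 28, 30, 28, 16, 4, 11], [61, 54, 46, 30, 32, 36, 16, 11, 17]⟩, .loop 22 6 [60, 47, 47, 52, 34, 33, 34, 2, 17, 17, 6, 24] 4 5 [⟨[44], 59, false, [0, 6, 2, 6, 4, 5, 6, 5, 6]⟩, ⟨[30, 28, 27], 82, false, [1, 4, 6, 10, 5, 3, 6, 4]⟩] [⟨[44, 42, 44, 52, 44, 52, 52], 97, false, [2, 4, 6, 5, 3, 5, 6, 4]⟩]),
  (⟨false, 5, 2, [63, 46, 49, 30, 40, 29, 16, 4, 16, 4], [60, 46, 49, 30, 26, 35], [58, 45, 48, 28, 36, 28, 2, 23, 23, 18, 17]⟩, .loop 44 2 [58, 55, 35, 31, 26] 4 5 [⟨[24], 93, false, [1, 3, 6, 4, 6, 2, 6, 4, 5, 6]⟩, ⟨[37, 37], 87, false, [1, 6, 5, 10, 5, 6, 2, 4, 5, 10]⟩] []),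
  (⟨false, 3, 5, [61, 46, 42, 34, 26, 34, 16, 11, 25], [60, 48, 42, 36, 35, 16, 8], [62, 51, 42, 30, 27, 35, 16, 21]⟩, .loop 71 2 [57, 53, 30, 29, 34] 2 3 [⟨[23], 84, false, [6, 5, 3, 5, 6, 2, 6]⟩] [⟨[], 16, true, [1, 3, 5, 6, 5, 6, 10, 5, 6, 2, 5]⟩, ⟨[14, 12, 14, 13, 9, 12, 11, 13], 31, false, [0, 10, 5, 6, 2, 4, 5, 6, 2, 6]⟩]),
  (⟨false, 2, 2, [62, 54, 52, 30, 30, 40, 16, 2, 16, 2], [67, 47, 49, 56, 31, 32, 16], [58, 44, 51, 30, 34, 34, 16, 18, 18]⟩, .loop 47 2 [59, 51, 46, 28, 26, 31, 33, 18, 23] 4 5 [⟨[], 88, false, [1, 6, 10, 5, 6, 10, 5, 3, 6, 5, 6, 10]⟩, ⟨[], 94, false, [3, 5, 6, 10, 5, 3, 6, 2]⟩] []),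
  (⟨false, 2, 4, [61, 47, 50, 33, 31, 16, 16, 8], [60, 47, 47, 30, 26, 28, 16, 25], [62, 51, 55, 40, 35, 2, 17, 25, 19]⟩, .loop 35 1 [61, 55, 42, 41, 28, 16, 24, 17, 22] 4 5 [⟨[9], 16, false, [0, 4, 6, 5, 10, 5, 6]⟩, ⟨[23, 24], 94, false, [1, 2, 6, 4, 6, 10, 5, 6, 2, 4]⟩] [⟨[11, 11, 13, 12, 14, 12, 11, 8], 25, false, [0, 6, 5, 6, 10, 5, 6, 2, 6, 5]⟩]),
  (⟨false, 5, 2, [60, 46, 57, 36, 29, 33, 2, 16, 16, 22, 24], [44, 47, 47, 28, 34, 38, 16, 22, 22, 4], [58, 52, 44, 36, 17, 23, 18]⟩, .loop 49 4 [61, 45, 42, 47, 30, 27, 36, 2, 17, 0, 23, 20] 2 3 [⟨[61, 27], 71, false, [2, 3, 6, 1, 5, 3, 6, 2, 6]⟩] [⟨[61, 61, 53], 82, false, [2, 5, 6, 10, 5, 3, 6, 2]⟩]),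
  (⟨false, 2, 5, [67, 46, 48, 54, 31, 28, 41, 2, 23, 23, 25, 19], [61, 45, 50, 45, 31, 36, 34, 2, 17, 17, 11, 19], [58, 44, 43, 53, 41, 34, 16, 24, 16]⟩, .loop 48 5 [62, 50, 47, 28, 34, 40, 19, 6, 17, 0] 4 5 [⟨[66, 66], 75, true, [2, 6, 1, 4, 6, 10, 5, 6, 10, 5]⟩, ⟨[63, 61, 29], 90, false, [2, 6, 4, 5, 3, 6, 4, 6, 5]⟩] []),
  (⟨false, 2, 4, [62, 44, 47, 44, 34, 40, 18, 23, 17, 6], [66, 48, 48, 36, 28, 16, 8], [59, 48, 45, 30, 40, 29, 2, 23, 4, 19]⟩, .loop 16 4 [60, 51, 53, 34, 38, 28, 16, 4, 17] 6 7 [⟨[], 26, true, [2, 6, 2, 10, 5, 6, 5, 3, 6]⟩, ⟨[61, 29, 61], 92, false, [1, 6, 4, 10, 5, 6, 5, 3, 5]⟩, ⟨[], 94, false, [2, 6, 5, 3, 6, 5, 10]⟩] []),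
  (⟨false, 2, 5, [59, 49, 51, 31, 35, 30, 2, 17, 25], [62, 44, 48, 52, 28, 34, 41, 16, 8, 17, 17, 22], [47, 51, 28, 36, 28, 2, 23, 10, 23, 6]⟩, .loop 18 5 [61, 46, 51, 55, 41, 33, 16, 16, 2, 25] 6 7 [⟨[38, 66], 33, false, [0, 10, 5, 6, 4, 6, 2, 5, 3]⟩, ⟨[23, 24], 92, true, [6, 4, 5, 6, 2, 5, 6, 10, 5]⟩, ⟨[27], 90, false, [4, 6, 5, 10, 5, 6, 4, 6, 5, 3]⟩] []),
  (⟨false, 2, 2, [63, 45, 45, 31, 41, 2, 16, 6, 23, 17], [52, 49, 41, 26, 37, 16, 19, 6, 17], [59, 47, 49, 56, 34, 27, 28]⟩, .loop 67 4 [66, 44, 43, 57, 33, 36, 38, 16, 16, 4, 17] 4 5 [⟨[63, 61], 57, false, [0, 4, 6, 5, 10, 5, 6, 2, 5, 6]⟩, ⟨[30, 27], 103, true, [3, 4, 6, 4, 5, 10, 5, 6, 4]⟩] [⟨[63, 28, 27], 110, true, [5, 6, 4, 5, 6, 2, 6, 4]⟩]),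
  (⟨false, 2, 4, [66, 44, 53, 56, 31, 28, 41, 16, 11, 16, 25], [61, 45, 42, 34, 40, 29, 16, 25], [63, 45, 53, 48, 31, 33, 38, 2, 23, 4, 19]⟩, .loop 68 4 [66, 51, 46, 31, 36, 17] 6 7 [⟨[], 73, false, [1, 6, 2, 10, 5, 6, 5, 3, 5, 6]⟩, ⟨[29, 61], 103, true, [1, 3, 4, 5, 6, 2, 6, 4, 5]⟩, ⟨[], 86, false, [3, 5, 3, 6, 1, 2, 4, 5]⟩] []),
  (⟨false, 2, 2, [58, 44, 42, 54, 41, 36, 17, 22, 6, 16], [63, 47, 44, 30, 40, 30, 16, 16, 16, 24], [58, 57, 55, 28, 31, 33, 16, 21, 17]⟩, .loop 49 4 [67, 44, 42, 46, 28, 34, 16, 8, 17] 2 3 [⟨[61, 29], 113, true, [3, 6, 5, 6, 4, 10, 5]⟩] [⟨[29], 90, false, [1, 2, 6, 4, 6, 4, 5, 6]⟩]),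
  (⟨false, 2, 2, [60, 55, 43, 41, 16, 16, 2, 10], [61, 47, 44, 51, 34, 27, 31, 16, 16, 10, 20, 16], [59, 52, 49, 30, 34, 31, 2, 23, 17, 24, 6]⟩, .loop 48 4 [59, 44, 42, 40, 37, 16, 8, 17] 2 3 [⟨[61], 116, true, [6, 2, 6, 4, 5, 3, 6, 2, 6]⟩] [⟨[30], 116, true, [0, 1, 2, 4, 10]⟩]),
  (⟨false, 3, 2, [66, 45, 48, 34, 33, 40, 16, 10, 17], [59, 51, 51, 34, 31, 35, 17, 17, 23, 18], [63, 52, 48, 41, 33, 17, 23, 18]⟩, .loop 46 2 [61, 47, 50, 34, 31, 37, 17] 2 3 [⟨[], 99, true, [6, 1, 5, 10, 5, 6, 4]⟩] [⟨[23], 96, true, [1, 6, 10, 5, 6, 4, 6, 10, 5, 6]⟩]),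
  (⟨false, 5, 2, [62, 50, 40, 28, 40, 16, 11, 17], [66, 57, 55, 30, 32, 35, 2, 23, 23, 21, 16], [63, 44, 53, 31, 28, 27, 16, 18, 16, 22]⟩, .loop 46 4 [67, 47, 56, 30, 27, 30, 16, 2, 16, 2] 2 3 [⟨[], 74, true, [6, 10, 5, 3, 6, 2, 6, 5, 6, 4]⟩] [⟨[61, 28, 61, 27], 90, false, [1, 6, 5, 6, 2, 6, 4, 5]⟩]),
  (⟨false, 2, 2, [62, 48, 42, 36, 29, 31, 16, 11], [62, 54, 56, 38, 30, 16, 25], [58, 47, 47, 52, 30, 35, 37]⟩, .loop 66 5 [58, 44, 47, 52, 36, 35, 16, 16, 25, 25] 4 5 [⟨[66, 37], 87, false, [0, 4, 10, 5, 6, 2, 5, 6, 10]⟩, ⟨[66, 38, 66, 37], 101, true, [3, 6, 1, 2, 6, 5]⟩] [⟨[66, 66, 38, 66], 34, true, [1, 5, 3, 6, 2, 4, 5, 6, 10]⟩]),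
  (⟨false, 5, 2, [54, 46, 33, 31, 32, 2, 17, 6], [58, 45, 50, 45, 35, 40, 16, 4, 16, 19, 23], [63, 50, 46, 30, 32, 30]⟩, .loop 48 2 [67, 45, 42, 47, 38, 29, 17, 23, 16, 6] 4 5 [⟨[24, 23], 81, true, [6, 1, 5, 3, 6, 4, 6]⟩, ⟨[22, 50, 21, 22], 108, false, [4, 6, 10, 5, 6, 2, 6, 10]⟩] []),
  (⟨false, 2, 2, [62, 31, 26, 36, 16, 21], [58, 44, 51, 48, 31, 35, 16, 4, 17], [63, 47, 51, 31, 28, 37, 16, 16, 2, 4, 23]⟩, .loop 44 2 [62, 45, 43, 31, 27, 35, 16, 4, 17] 4 5 [⟨[24], 94, false, [6, 1, 5, 3, 6, 4, 6, 5]⟩, ⟨[], 115, false, [2, 10, 5, 6, 4, 5, 10, 5]⟩] []),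
  (⟨false, 5, 2, [61, 47, 54, 36, 29, 16, 21, 16, 10], [62, 44, 55, 50, 31, 34, 33, 18, 23], [61, 44, 47, 44, 31, 28, 38, 17, 23, 18]⟩, .loop 71 4 [62, 47, 49, 56, 30, 37, 16, 18, 23] 2 3 [⟨[], 71, false, [4, 5, 6, 4, 6, 4, 6, 10, 5]⟩] [⟨[63, 28, 61, 61], 56, true, [2, 4, 6, 10, 5, 6, 4, 10, 5, 10]⟩, ⟨[50, 50, 21, 22], 81, false, [4, 6, 5, 10, 5, 6, 4, 6, 5]⟩]),
  (⟨false, 2, 2, [60, 48, 56, 34, 27, 31, 2, 16, 6, 23, 17], [66, 46, 51, 30, 41, 36, 2, 17, 17, 6, 13], [61, 47, 49, 28, 30, 41, 16, 18, 18]⟩, .loop 48 3 [62, 46, 51, 55, 30, 29, 41, 16, 4, 16, 19, 23] 2 3 [⟨[21, 21], 81, false, [1, 2, 3, 4, 5, 6, 10]⟩] [⟨[22, 50, 22, 22], 119, false, [4, 5, 3, 6, 4, 5, 3, 6, 5]⟩]),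
  (⟨false, 2, 2, [60, 44, 47, 52, 41, 30, 16, 24], [44, 51, 48, 30, 40, 16, 4, 11], [67, 57, 31, 28, 37]⟩, .loop 20 2 [44, 51, 48, 30, 40, 16, 24, 6] 6 7 [⟨[24], 95, true, [0, 10, 5, 6, 10, 5, 6, 2, 10]⟩, ⟨[37, 66, 37], 75, true, [5, 6, 5, 6, 10, 5, 3, 6, 5, 10]⟩, ⟨[63, 30, 61], 92, false, [6, 4, 6, 2, 5, 6, 5, 3, 6]⟩] []),
  (⟨false, 3, 2, [44, 42, 38, 30, 16, 25], [61, 48, 45, 28, 34, 37, 2, 23, 17, 23, 11], [66, 44, 47, 34, 37, 34, 16, 18, 18]⟩, .loop 16 2 [60, 44, 43, 57, 31, 41, 16, 11, 16, 10] 6 7 [⟨[], 90, true, [5, 3, 6, 2, 6, 5, 6, 2, 6, 10]⟩, ⟨[61, 63, 61, 63], 75, false, [1, 6, 10, 5, 6, 10, 5, 3, 6, 5, 10]⟩, ⟨[66, 37, 66], 32, false, [0, 5, 3, 5, 6, 4, 6, 5, 3, 5]⟩] [])]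

/-- facts 128 and on -/
def facts4 : List (Fact × Why) := [
  (⟨false, 2, 2, [63, 44, 43, 36, 31, 16, 18, 16], [63, 54, 52, 30, 28, 28, 16, 10, 13], [47, 47, 52, 41, 28, 32, 16, 10, 8]⟩, .loop 19 2 [61, 46, 42, 51, 33, 38, 37, 16, 11, 25] 6 7 [⟨[24], 99, true, [10, 5, 6, 1, 10, 5, 3, 6, 5]⟩, ⟨[50, 50, 22], 19, false, [6, 10, 5, 6, 4, 5, 10, 5]⟩, ⟨[24], 83, false, [1, 5, 6, 5, 10, 5, 6, 5, 10]⟩] []),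
  (⟨false, 2, 5, [60, 49, 53, 31, 29, 41, 18, 23, 23, 23], [59, 44, 42, 46, 28, 35, 31, 41, 16, 8], [59, 44, 56, 38, 34, 16, 11, 25]⟩, .loop 66 2 [62, 48, 42, 33, 28, 35, 16, 24, 16, 10] 2 3 [⟨[], 117, true, [3, 6, 2, 6, 4, 6, 5, 3, 6, 2]⟩] [⟨[], 127, true, [1, 4, 6, 2, 6, 4, 6, 10]⟩, ⟨[22], 32, true, [5, 10, 5, 6, 4, 5, 3, 6, 2, 4]⟩]),
  (⟨false, 2, 2, [67, 45, 42, 33, 33, 16, 8], [66, 52, 34, 28, 40, 16, 11, 19, 6], [59, 50, 48, 31, 33, 38]⟩, .loop 20 2 [67, 50, 45, 31, 27, 34, 16, 10, 16, 24] 6 7 [⟨[24, 23], 111, true, [2, 5, 6, 10, 5, 6, 2, 6, 5]⟩, ⟨[66, 66], 31, true, [1, 2, 3, 5, 6, 2, 4, 5, 6, 10]⟩, ⟨[11, 13, 12, 13, 12, 11, 11, 9], 16, false, [0, 2, 5, 3, 6, 2, 4, 5, 6, 10]⟩] []),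
  (⟨false, 2, 2, [59, 48, 52, 28, 41, 28, 2, 23, 17, 2], [60, 44, 42, 54, 41, 30, 37, 16, 21], [62, 46, 36, 40, 16]⟩, .loop 46 2 [60, 55, 38, 28, 41, 18, 23] 4 5 [⟨[24], 95, true, [5, 3, 5, 6, 1, 5, 3, 5]⟩, ⟨[66, 66, 38, 66], 129, true, [0, 2, 6, 10, 5, 3, 6, 5, 6, 2]⟩] []),
  (⟨false, 2, 3, [63, 44, 42, 54, 30, 35, 40, 28, 16, 16, 25, 25], [62, 50, 44, 31, 36, 34, 2, 17, 23, 10, 19], [58, 48, 56, 31, 27, 16, 4, 16, 2, 11]⟩, .loop 47 3 [66, 46, 43, 31, 33, 31, 2, 23, 23, 12] 4 5 [⟨[50, 21], 84, true, [4, 6, 5, 10, 5, 6, 2, 4]⟩, ⟨[23, 24], 91, false, [0, 3, 5, 3, 6]⟩] []),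
  (⟨false, 5, 5, [67, 44, 49, 36, 35, 40], [61, 47, 47, 52, 30, 41, 16, 16, 11, 12], [61, 45, 56, 55, 28, 36, 29, 17, 17, 17]⟩, .loop 71 5 [61, 48, 46, 36, 31, 31] 2 3 [⟨[], 36, true, [1, 6, 5, 6, 4, 6, 2, 6, 10]⟩] [⟨[66, 66, 37, 66, 38], 85, true, [0, 3, 5, 6, 2, 6, 4, 6, 10, 5]⟩, ⟨[37, 66, 37], 87, false, [0, 6, 4, 10, 5, 6, 4, 5, 6]⟩]),
  (⟨false, 2, 2, [60, 44, 42, 57, 30, 27, 28, 2, 23, 23, 10, 17], [45, 41, 29, 40, 16, 16, 11, 23], [60, 50, 50, 28, 34, 38, 16, 11, 17]⟩, .loop 45 5 [63, 44, 42, 57, 30, 28, 37, 17, 23, 18, 22] 2 3 [⟨[], 124, false, [5, 6, 4, 5, 6, 5, 10]⟩] [⟨[66, 66], 129, true, [5, 3, 6, 4, 6, 5, 6, 2, 6]⟩]),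
  (⟨false, 2, 2, [59, 47, 56, 28, 35, 31, 41, 16, 21], [60, 46, 49, 30, 30, 40, 16, 4, 16, 13], [61, 45, 46, 28, 34, 36, 17]⟩, .loop 23 2 [66, 45, 54, 56, 35, 31, 29, 16, 4] 4 5 [⟨[], 134, false, [6, 4, 5, 6, 10, 5, 6, 5, 10]⟩, ⟨[23, 24], 130, true, [0, 10, 5, 6, 2, 6, 10, 5, 10]⟩] [⟨[], 109, false, [6, 1, 2, 6, 4, 5, 10, 5, 6]⟩]),
  (⟨false, 5, 2, [61, 44, 57, 55, 36, 27, 40, 16], [45, 48, 36, 28, 16, 16, 24, 19], [60, 45, 42, 45, 31, 35, 26, 17]⟩, .loop 18 2 [46, 51, 38, 34, 17] 4 5 [⟨[], 16, true, [3, 6, 1, 5, 6, 4]⟩, ⟨[13, 12, 13, 10, 12, 14, 12, 13, 9], 31, false, [1, 6, 2, 4, 5, 3, 6, 5, 3]⟩] [⟨[23, 24], 128, true, [2, 4, 6, 4, 6, 4, 5, 3, 6]⟩]),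
  (⟨false, 2, 2, [67, 52, 31, 35, 29, 16, 22], [59, 45, 50, 30, 40, 27, 16, 10, 17, 6], [66, 44, 42, 34, 31, 31, 2, 23, 17, 2, 6]⟩, .loop 31 5 [58, 47, 49, 56, 30, 34, 28, 2, 17] 4 5 [⟨[66, 38, 66], 35, true, [6, 1, 4, 10, 5, 3, 6, 5, 6]⟩, ⟨[], 123, false, [0, 3, 4, 6, 2, 6, 4, 5, 6, 2]⟩] [⟨[66, 66, 38, 66, 37], 101, true, [6, 2, 6, 10, 5, 3, 6, 5, 10]⟩]),
  (⟨false, 2, 2, [67, 45, 42, 47, 30, 28, 30, 16, 25], [63, 44, 55, 52, 28, 41, 38, 16, 18, 18, 6], [61, 54, 43, 28, 26, 31, 16, 16, 2, 4, 23]⟩, .loop 31 2 [60, 48, 57, 31, 41, 26] 4 5 [⟨[], 35, false, [1, 6, 10, 5, 6, 4, 6, 10]⟩, ⟨[37], 105, false, [1, 5, 6, 5, 6]⟩] [⟨[], 123, false, [5, 3, 6, 5, 6, 5, 3, 5, 6]⟩]),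
  (⟨false, 2, 2, [67, 47, 51, 28, 35, 32, 16, 10, 17], [58, 51, 46, 34, 26, 32, 16, 8, 17], [63, 47, 42, 31, 35, 30, 16, 4, 17]⟩, .loop 44 2 [62, 48, 52, 28, 38, 26, 16, 11, 17] 4 5 [⟨[23], 136, true, [3, 4, 6, 4, 6, 5, 10]⟩, ⟨[66, 37, 37], 101, true, [1, 3, 6, 4, 6, 5, 3, 6, 5]⟩] []),
  (⟨false, 2, 5, [63, 44, 53, 35, 36, 30, 16], [61, 49, 51, 28, 35, 35, 16, 16, 10, 20], [61, 48, 55, 38, 27, 16, 22, 19]⟩, .loop 70 5 [60, 44, 43, 53, 30, 40, 34, 16, 10, 16] 6 7 [⟨[38], 80, true, [1, 6, 5, 10, 5, 6, 5, 3, 6, 2]⟩, ⟨[50, 50], 19, false, [1, 5, 3, 6, 4, 6, 5, 3]⟩, ⟨[23, 24], 126, true, [5, 6, 4, 10, 5, 6, 2, 6, 2, 4]⟩] []),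
  (⟨false, 2, 5, [62, 47, 44, 51, 30, 40, 34, 2, 17, 18, 22, 6], [58, 46, 57, 35, 29, 2, 17, 22], [62, 46, 48, 54, 28, 30, 41, 41, 16, 24, 16, 25]⟩, .loop 23 5 [61, 45, 50, 33, 28, 35, 16, 2, 21] 6 7 [⟨[66, 66, 37, 66], 31, true, [4, 5, 6, 1, 4, 5, 3, 6, 5]⟩, ⟨[12, 14, 13, 10, 12, 13, 11, 8], 31, false, [2, 4, 5, 3, 6, 4, 6, 4, 6]⟩, ⟨[37, 66], 111, false, [4, 5, 6, 10, 5, 3, 6, 4, 6]⟩] []),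
  (⟨false, 2, 2, [59, 45, 54, 45, 35, 28, 40, 16, 19, 22, 16], [62, 46, 49, 28, 26, 30, 18], [60, 54, 46, 33, 33, 31, 16, 24, 17]⟩, .loop 46 2 [60, 52, 48, 30, 38, 29, 2, 23, 17, 2, 6] 2 3 [⟨[], 106, true, [10, 5, 6, 5, 6, 4, 6, 4, 10]⟩] [⟨[], 125, false, [2, 5, 6, 10, 5, 6, 4, 6, 5, 6]⟩]),
  (⟨false, 5, 2, [60, 51, 51, 35, 31, 29], [66, 49, 49, 28, 30, 38, 16, 8, 22], [60, 52, 49, 28, 40, 37, 16, 18, 18]⟩, .loop 22 1 [62, 48, 45, 28, 35, 32, 2, 23, 23, 23, 24] 2 3 [⟨[14, 9], 31, false, [0, 4, 6, 4, 6, 4, 5, 6, 2, 5, 10]⟩] [⟨[12, 11, 13, 10, 12, 10, 12, 9], 31, false, [6, 2, 6, 4, 5, 3, 5, 6, 5]⟩, ⟨[38], 136, false, [0, 6, 2, 5, 6, 5, 3, 5, 6, 5]⟩]),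
  (⟨false, 2, 5, [62, 45, 42, 51, 30, 30, 41, 16, 10, 16, 24], [60, 45, 42, 33, 34, 31, 16, 16, 24, 13], [60, 47, 50, 30, 30, 2, 17, 17, 24]⟩, .loop 72 2 [66, 47, 31, 41, 28, 2, 17, 22, 6] 2 3 [⟨[], 142, false, [0, 2, 5, 3, 6, 4, 6, 5, 10]⟩] [⟨[], 143, true, [2, 4, 5, 6, 2, 6, 4, 5, 3]⟩, ⟨[37, 66, 37, 37], 87, false, [3, 5, 6, 5, 3, 6, 2, 4]⟩]),
  (⟨false, 2, 2, [61, 45, 49, 38, 40, 18, 23, 17, 6], [63, 47, 52, 28, 38, 37, 17, 23, 16, 11], [58, 48, 43, 36, 32, 37, 16, 10, 17]⟩, .loop 68 2 [58, 49, 47, 28, 34, 34] 2 3 [⟨[], 123, true, [0, 6, 2, 4, 5, 6, 2, 6, 10]⟩] [⟨[24], 126, false, [4, 10, 5, 6, 4, 6, 4, 10, 5, 6, 2]⟩, ⟨[], 94, false, [0, 4, 6, 2, 5, 6, 4, 5, 10]⟩]),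
  (⟨false, 2, 4, [63, 48, 36, 30, 33, 2, 17, 17, 17, 18], [67, 49, 42, 33, 34, 17, 17], [63, 51, 42, 31, 32, 30, 17, 23, 23, 17]⟩, .loop 46 3 [60, 45, 42, 31, 34, 30, 2, 17, 17, 10, 21] 2 3 [⟨[50, 22], 127, false, [2, 4, 6, 2, 5, 3, 6, 5, 10, 5]⟩] [⟨[22, 50, 50], 56, false, [0, 2, 3, 4, 5, 6, 4, 6, 5]⟩]),
  (⟨false, 2, 2, [63, 45, 52, 30, 29, 41, 16, 16, 11, 25], [61, 44, 56, 46, 34, 27, 31, 2, 16, 16, 16], [51, 47, 31, 28, 37, 18, 23, 17]⟩, .loop 67 2 [59, 46, 44, 31, 33, 31, 2, 23, 23, 25, 10] 6 7 [⟨[], 136, true, [5, 6, 2, 5, 3, 6, 2]⟩, ⟨[66], 80, true, [10, 5, 6, 1, 2, 6, 5, 10, 5]⟩, ⟨[21, 50, 21, 50, 21], 132, true, [3, 4, 5, 6, 5, 6, 4, 6]⟩] []),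
  (⟨false, 2, 2, [58, 48, 52, 30, 26, 40, 16, 16, 18, 24], [67, 44, 55, 52, 30, 37, 31, 2, 23, 17, 2], [67, 44, 43, 57, 36, 31, 26, 16, 25]⟩, .loop 29 2 [62, 57, 33, 31, 33, 16, 11, 25] 6 7 [⟨[23, 24], 126, false, [1, 2, 6, 2, 5, 3, 6, 5, 6, 2]⟩, ⟨[], 107, true, [1, 5, 3, 6, 5, 6, 2]⟩, ⟨[38, 66, 37, 37], 143, false, [0, 3, 4, 5, 6, 5, 6]⟩] []),
  (⟨false, 4, 2, [59, 52, 30, 40, 27, 16, 19, 22, 25], [44, 51, 30, 28, 33, 17, 23, 16, 11], [62, 45, 54, 45, 33, 41, 29, 16, 24, 17]⟩, .loop 34 6 [60, 50, 55, 31, 36, 34, 16, 16, 10, 18] 2 3 [⟨[52, 42], 59, false, [0, 4, 6, 2, 6, 4, 5, 6, 2, 6, 10]⟩] [⟨[44, 42, 44, 44, 52, 42], 97, false, [2, 5, 6, 5, 3, 5, 6, 2, 5, 3]⟩, ⟨[23, 24], 94, false, [5, 6, 1, 4, 10]⟩]),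
  (⟨false, 2, 2, [63, 49, 56, 31, 16, 16, 22, 8], [67, 44, 42, 45, 28, 30, 16, 16, 4, 25], [58, 46, 44, 31, 33, 36, 16, 24, 17]⟩, .loop 32 5 [62, 45, 43, 45, 33, 35, 41, 17, 23, 23, 21] 4 5 [⟨[66], 32, false, [3, 5, 6, 2, 5, 6, 2, 4]⟩, ⟨[50, 22, 50, 50, 21], 132, true, [2, 5, 3, 6, 1, 2]⟩] [⟨[66, 66, 37], 140, true, [0, 4, 6, 2, 6, 4, 5, 6, 2, 10]⟩]),
  (⟨false, 5, 2, [45, 43, 45, 31, 33, 36, 16, 16, 18, 17], [58, 34, 36, 16, 16, 24], [62, 45, 53, 33, 35, 41, 16, 11, 16, 18]⟩, .loop 44 2 [58, 44, 51, 28, 30, 41, 16, 8] 2 3 [⟨[], 79, false, [2, 3, 6, 4, 6, 5, 6, 2, 4]⟩] [⟨[23, 24], 130, false, [2, 5, 6, 5, 6, 10, 5, 6, 2, 5, 6]⟩]),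
  (⟨false, 2, 3, [44, 57, 55, 31, 32, 30, 2, 17, 17, 22, 11], [59, 44, 55, 50, 28, 34, 30, 16, 8, 17], [59, 44, 43, 57, 30, 26, 38, 17, 22, 6, 22]⟩, .loop 47 5 [62, 47, 49, 56, 30, 41, 34, 16, 16, 22, 11] 2 3 [⟨[38, 66], 136, false, [0, 4, 10, 5, 6, 5, 6, 10, 5]⟩] [⟨[38, 66], 108, true, [6, 1, 2, 6, 4, 10, 5, 10]⟩]),
  (⟨false, 2, 2, [60, 45, 54, 45, 36, 40, 37, 16, 2], [61, 45, 48, 30, 26, 40, 16, 11, 25], [60, 46, 44, 54, 38, 36, 16]⟩, .loop 20 4 [60, 49, 51, 28, 30, 16, 8, 22, 19] 4 5 [⟨[], 68, true, [4, 5, 6, 1, 4, 10, 5, 10]⟩, ⟨[30, 28, 27], 146, true, [6, 2, 6, 4, 5, 6, 5, 10]⟩] [⟨[61, 29, 61], 89, true, [6, 5, 6, 2, 6, 5, 6]⟩]),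
  (⟨false, 2, 2, [59, 47, 52, 30, 30, 38, 16, 16, 4, 23], [58, 45, 43, 34, 28, 40, 2, 23, 8, 17, 6], [59, 45, 49, 28, 41, 27, 2, 17, 17, 25, 13]⟩, .loop 45 4 [58, 28, 30, 37, 2, 17, 17, 6, 13] 2 3 [⟨[61, 30, 28], 149, false, [0, 3, 4, 6, 5, 10, 5, 6, 2, 6]⟩] [⟨[53, 63, 28], 116, true, [0, 2, 3, 6, 4, 6, 5, 3]⟩]),
  (⟨false, 2, 2, [67, 44, 48, 43, 33, 28, 2, 23, 23, 17, 2], [63, 48, 44, 36, 27, 27, 2, 17, 17, 17, 12], [63, 47, 47, 52, 36, 40, 26, 16, 16, 2, 20]⟩, .loop 46 2 [61, 45, 52, 35, 16, 4, 16, 16, 10] 4 5 [⟨[], 149, true, [1, 3, 5, 6, 4, 6, 2, 4]⟩, ⟨[30, 61], 149, false, [2, 6, 4, 5, 3, 6, 4]⟩] []),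
  (⟨false, 2, 5, [59, 48, 35, 35, 16, 11, 16, 11], [62, 51, 47, 30, 37, 35, 16, 25], [60, 51, 52, 33, 41, 28, 16, 4]⟩, .loop 19 5 [44, 42, 54, 35, 40, 16, 25] 4 5 [⟨[66], 93, true, [2, 6, 4, 6, 2, 6, 4, 10, 5, 3]⟩, ⟨[], 128, true, [2, 5, 6, 10, 5, 6]⟩] [⟨[], 36, true, [0, 6, 2, 6, 4, 5, 3, 5, 6, 4]⟩]),
  (⟨false, 2, 2, [44, 51, 34, 40, 16, 25], [58, 49, 51, 31, 27, 16, 8], [58, 46, 51, 34, 40, 27, 2, 17, 23, 12, 10]⟩, .loop 34 5 [60, 45, 50, 30, 35, 29, 16, 16, 25] 2 3 [⟨[66, 66], 33, false, [1, 10, 5, 6, 10, 5, 6, 2, 4]⟩] [⟨[66, 37, 37], 101, true, [1, 4, 5, 6, 2, 6, 4, 5, 10, 5]⟩, ⟨[24, 23], 123, false, [5, 6, 4, 5, 10, 5, 6, 4, 6]⟩]),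
  (⟨false, 3, 2, [60, 51, 33, 36, 38, 2, 17, 19], [58, 45, 52, 34, 28, 40, 2, 17, 0, 17], [66, 49, 51, 41, 32, 29, 16, 18, 18]⟩, .loop 28 1 [59, 44, 55, 41, 34, 30, 2, 17, 22, 6, 16] 2 3 [⟨[], 18, false, [1, 6, 2, 5, 6, 4, 6, 10, 5]⟩] [⟨[14, 11, 13, 10, 12, 14, 11, 9], 16, false, [4, 6, 2, 6, 5, 3, 6, 2]⟩, ⟨[24, 23], 96, true, [2, 4, 5, 6, 1, 10, 5, 3, 6, 4, 5]⟩]),
  (⟨false, 3, 2, [58, 48, 44, 34, 38, 28, 16, 8, 17, 6], [66, 57, 53, 28, 30, 38, 16, 18, 18, 22], [44, 42, 31, 26, 26, 2, 17, 17, 22]⟩, .loop 32 3 [63, 46, 53, 31, 29, 40, 2, 17, 17, 19, 10] 4 5 [⟨[50], 32, true, [6, 1, 2, 5, 6, 4, 6, 10]⟩, ⟨[66, 66, 38, 66, 38], 78, true, [4, 5, 3, 6, 1, 5, 6, 2, 4, 10]⟩] [⟨[21, 50, 21, 50, 21], 152, true, [1, 5, 3, 6, 4, 6, 2, 4, 5, 10]⟩])]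

/-- facts 160 and on -/
def facts5 : List (Fact × Why) := [
  (⟨false, 4, 2, [67, 52, 50, 28, 35, 36, 2, 16], [63, 50, 45, 34, 36, 31, 2, 17, 17, 2, 22], [67, 54, 56, 33, 29, 35, 2, 17, 23, 18]⟩, .loop 34 1 [61, 46, 57, 30, 27, 38, 16, 16, 8, 22, 22] 2 3 [⟨[14], 58, false, [2, 5, 6, 4, 5, 6]⟩] [⟨[14, 11, 13, 12, 13, 10, 9], 31, false, [0, 5, 6, 2, 6, 10]⟩, ⟨[37, 66], 111, false, [0, 4, 5, 6, 4, 10, 5, 6, 2]⟩]),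
  (⟨false, 2, 2, [62, 49, 57, 35, 30, 2, 23, 25], [67, 44, 42, 57, 35, 28, 28, 16, 11, 16, 16], [59, 56, 50, 31, 27, 35, 16, 24, 17]⟩, .loop 49 4 [66, 45, 50, 42, 33, 31, 32, 17, 23, 18] 2 3 [⟨[61, 29], 116, true, [0, 3, 5, 6, 4, 6, 5, 6, 2, 10]⟩] [⟨[61, 63, 63, 29], 149, false, [0, 2, 3, 6, 5, 3, 6, 4]⟩]),
  (⟨false, 2, 2, [67, 54, 50, 31, 29, 27, 16, 4, 16, 13], [59, 47, 54, 38, 27, 16, 2], [58, 51, 57, 31, 27, 32, 16, 11, 17]⟩, .loop 17 4 [66, 45, 56, 50, 30, 27, 35, 17] 4 5 [⟨[61], 57, false, [2, 4, 10, 5, 3, 6, 1, 4, 6, 5]⟩, ⟨[61, 61, 29, 27], 110, true, [0, 2, 4, 6, 2, 5, 3, 6, 4]⟩] [⟨[30, 61, 61], 110, true, [4, 6, 1, 4, 10, 5, 6, 4, 5, 6, 5]⟩]),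
  (⟨false, 2, 2, [59, 54, 44, 31, 38, 16, 10, 16], [61, 50, 44, 30, 27, 31, 16, 24, 16], [44, 56, 46, 30, 40, 29, 17, 17, 23, 18]⟩, .loop 16 2 [67, 47, 47, 52, 36, 27, 27, 16, 21, 16, 8] 6 7 [⟨[], 118, true, [6, 4, 10, 5, 3, 6, 4, 6]⟩, ⟨[], 115, false, [0, 3, 4, 6, 2, 5, 6, 2, 4]⟩, ⟨[], 155, true, [4, 5, 6, 5, 3, 6, 5, 6, 4, 6]⟩] []),
  (⟨false, 3, 2, [58, 48, 48, 40, 38, 16, 8, 17, 6], [63, 44, 47, 44, 28, 30, 41, 41, 16, 16, 18, 11, 16], [62, 47, 55, 34, 36, 2, 23, 17, 17, 19]⟩, .loop 32 2 [67, 46, 49, 31, 32, 29, 18, 23] 2 3 [⟨[23], 99, true, [4, 10, 5, 6, 10, 5, 6, 2, 4, 10]⟩] [⟨[], 97, true, [2, 6, 10, 5, 6, 10, 5, 6, 2]⟩, ⟨[52, 44, 42, 42, 52, 52, 42, 52, 42], 97, false, [6, 4, 6, 2, 5, 6, 2, 10]⟩]),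
  (⟨false, 2, 2, [62, 48, 48, 38, 33, 16, 16, 4, 25], [67, 45, 56, 31, 29, 37, 17, 23, 16, 11], [61, 50, 44, 28, 30, 2, 17, 23, 23, 8]⟩, .loop 70 2 [60, 51, 52, 28, 38, 30, 17, 23, 16, 6] 6 7 [⟨[23, 24], 94, false, [0, 6, 4, 6]⟩, ⟨[], 154, false, [6, 2, 4, 10, 5, 6, 5]⟩, ⟨[], 109, false, [1, 3, 4, 6, 5, 6, 2, 6, 4, 10]⟩] []),
  (⟨false, 5, 2, [63, 47, 34, 27, 41, 16, 8], [60, 51, 57, 33, 41, 2, 17, 23, 11, 25], [59, 44, 48, 43, 28, 34, 31, 16, 18, 18]⟩, .loop 70 2 [63, 50, 46, 35, 30, 32, 17, 23, 16, 11] 4 5 [⟨[24], 100, false, [1, 3, 6, 4, 5, 6, 2, 5, 3, 6]⟩, ⟨[66, 66, 37, 66], 133, true, [0, 4, 5, 3, 5, 6, 4, 5, 3, 5]⟩] [⟨[23], 145, false, [0, 10, 5, 6, 4, 6, 2, 5, 6, 5]⟩]),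
  (⟨false, 2, 2, [60, 51, 53, 35, 36, 30, 16, 16, 11, 18, 23], [45, 50, 35, 38, 16, 16, 4, 25], [58, 51, 53, 30, 26, 31, 2, 23, 23, 10, 17]⟩, .loop 72 4 [60, 45, 48, 33, 29, 37, 16, 11, 18] 4 5 [⟨[53], 160, false, [10, 5, 6, 4, 6, 2, 6, 4, 5]⟩, ⟨[], 145, true, [0, 10, 5, 6, 4, 5, 6, 2, 10, 5]⟩] [⟨[30, 27], 89, true, [0, 2, 6, 2, 5, 6, 4, 6, 2, 5, 6]⟩]),
  (⟨false, 5, 2, [44, 47, 47, 31, 41, 28, 16, 8], [61, 46, 48, 54, 30, 28, 30, 16, 24, 16], [58, 44, 49, 33, 34, 33, 17]⟩, .loop 20 2 [67, 46, 46, 36, 40, 26, 2, 23, 17, 24, 23] 6 7 [⟨[23], 123, true, [5, 6, 1, 2, 5, 3, 6]⟩, ⟨[23], 107, true, [5, 3, 6, 5, 3, 6, 5, 6]⟩, ⟨[38, 66], 36, true, [6, 2, 6, 5, 6, 4, 5, 10, 5]⟩] []),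
  (⟨false, 2, 2, [61, 45, 42, 45, 34, 37, 37, 16, 18, 16, 24], [62, 52, 30, 29, 41, 16, 10, 13], [58, 44, 48, 28, 26, 31, 33, 16, 16, 4, 13, 17]⟩, .loop 18 2 [67, 45, 43, 36, 27, 27, 16, 10] 6 7 [⟨[23], 149, true, [1, 4, 5, 10, 5, 6, 4, 5, 6, 4]⟩, ⟨[61, 29], 149, false, [0, 4, 5, 10, 5, 6, 4, 6, 4, 5, 3]⟩, ⟨[], 118, false, [0, 2, 3, 6, 5, 6, 4, 10, 5, 10]⟩] []),
  (⟨false, 2, 2, [66, 45, 54, 56, 33, 41, 28, 16, 19, 22], [61, 45, 57, 31, 34, 33, 16, 19, 6], [62, 44, 47, 47, 38, 30, 26, 16, 16, 2, 10, 21]⟩, .loop 16 2 [66, 52, 49, 28, 16, 2, 0] 2 3 [⟨[], 155, false, [5, 6, 4, 6, 2, 5, 6, 2]⟩] [⟨[23], 123, true, [4, 5, 3, 6, 2, 5, 6, 5, 10, 5]⟩, ⟨[], 165, false, [1, 2, 6, 5, 6, 2, 5, 6, 10]⟩]),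
  (⟨false, 2, 2, [60, 54, 43, 31, 29, 40, 16, 24, 17, 6], [66, 52, 50, 28, 26, 37, 17, 23, 16, 11], [63, 46, 38, 40, 2, 23, 25, 19]⟩, .loop 31 5 [62, 46, 48, 54, 33, 35, 29, 16, 16, 4, 13, 17] 4 5 [⟨[], 72, false, [1, 5, 6, 5, 3, 5, 6, 4]⟩, ⟨[37, 37], 140, true, [1, 6, 2, 6, 5, 3, 6, 5, 6, 10]⟩] [⟨[66, 66], 129, true, [0, 4, 5, 10, 5, 6, 4, 6, 4]⟩]),
  (⟨false, 2, 2, [59, 51, 52, 35, 35, 35, 2, 17, 17, 6, 20], [67, 45, 54, 45, 28, 30, 28, 2, 23, 6, 17, 6], [59, 47, 55, 31, 29, 41, 16, 16, 2, 20]⟩, .loop 47 2 [67, 47, 47, 52, 34, 27, 16, 16, 8, 22, 22] 4 5 [⟨[], 110, false, [5, 6, 2, 5, 6, 4, 6]⟩, ⟨[30, 61, 61], 103, true, [2, 6, 4, 6, 2, 5]⟩] []),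
  (⟨false, 2, 2, [66, 49, 49, 31, 34, 28, 16, 4, 23], [59, 52, 50, 30, 32, 32, 16, 16, 4, 23], [60, 51, 47, 28, 26, 31, 2, 23, 10]⟩, .loop 48 2 [58, 51, 43, 34, 41, 2, 16, 6, 17, 6] 2 3 [⟨[24, 23], 169, false, [5, 10, 5, 6, 5, 3, 6, 4, 6]⟩] [⟨[24, 23], 172, true, [5, 3, 6, 1, 4, 5, 6, 4, 5, 6]⟩]),
  (⟨false, 5, 2, [59, 44, 51, 41, 28, 33, 16, 18, 18, 6], [45, 54, 45, 28, 31, 27, 31, 16, 16, 11, 18], [66, 49, 44, 35, 28, 28, 16, 11, 18, 17]⟩, .loop 29 5 [66, 45, 48, 28, 30, 28, 2, 23, 17, 6, 22] 2 3 [⟨[66, 37], 72, false, [0, 5, 6, 4, 5, 10, 5, 6, 5, 3]⟩] [⟨[66], 122, false, [0, 2, 3, 6, 2, 4, 5, 6, 5, 3]⟩, ⟨[24, 23], 96, true, [6, 10, 5, 10]⟩]),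
  (⟨false, 2, 2, [59, 47, 53, 28, 38, 26, 16, 8, 17, 23, 8], [63, 50, 47, 33, 40, 2, 23, 23, 17, 2], [63, 44, 42, 46, 38, 32, 35, 2, 17, 17, 10]⟩, .loop 46 4 [60, 57, 53, 34, 38, 28, 2, 16, 6, 23, 17] 2 3 [⟨[], 116, true, [0, 2, 4, 10, 5, 3, 6, 5]⟩] [⟨[63, 63, 61, 61, 30], 149, false, [0, 10, 5, 6, 5, 3, 5, 6, 4, 6]⟩]),
  (⟨false, 2, 4, [62, 54, 43, 36, 29, 31, 2, 17, 17, 22, 22], [59, 44, 42, 48, 33, 34, 38, 16, 19, 22, 25], [45, 54, 56, 34, 27, 29, 18, 23, 17, 6]⟩, .loop 30 4 [58, 54, 50, 34, 26, 35, 16, 24, 6] 6 7 [⟨[], 56, true, [2, 4, 6, 2, 6, 4, 10, 5, 6, 2]⟩, ⟨[50, 50, 21], 19, false, [0, 4, 5, 6, 5, 6, 2, 4, 6, 10]⟩, ⟨[23], 106, true, [3, 5, 3, 6]⟩] []),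
  (⟨false, 2, 2, [61, 51, 53, 30, 29, 16, 16, 2, 10, 21], [58, 46, 46, 33, 41, 16, 11, 17, 6], [61, 46, 51, 55, 28, 30, 41, 41, 16, 4, 23]⟩, .loop 69 2 [62, 48, 56, 35, 28, 32, 16, 10, 17] 6 7 [⟨[23, 24], 121, true, [3, 4, 5, 6, 1, 5, 3, 5, 6]⟩, ⟨[23, 24, 23], 148, true, [1, 3, 5, 6, 10, 5, 6, 2, 10, 5]⟩, ⟨[], 147, false, [1, 6, 2, 4, 6, 5, 3, 6, 5, 10]⟩] []),
  (⟨false, 2, 4, [59, 46, 46, 31, 28, 16, 21, 16, 22], [61, 45, 54, 40, 28, 2, 17, 23, 12, 24], [60, 45, 43, 45, 28, 35, 36, 2, 23, 23, 23, 24]⟩, .loop 30 4 [59, 46, 48, 33, 27, 40, 16, 16, 4, 13, 17] 6 7 [⟨[63], 25, true, [0, 5, 6, 4, 6, 2, 4]⟩, ⟨[10, 12, 14, 11, 13, 12, 14, 11, 8], 16, false, [1, 3, 4, 6, 2, 6, 4, 5, 6, 2]⟩, ⟨[24], 94, false, [4, 6, 4, 5, 6, 4, 6]⟩] []),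
  (⟨false, 2, 2, [44, 57, 55, 33, 34, 31, 16, 16, 2, 11, 12], [61, 57, 53, 34, 37, 34, 2, 17, 17, 23, 13], [58, 44, 47, 47, 35, 2, 23, 10]⟩, .loop 49 2 [60, 45, 42, 51, 36, 40, 37, 16, 8, 17, 17, 22] 4 5 [⟨[], 163, true, [3, 4, 5, 6, 4, 5, 3, 6, 2]⟩, ⟨[], 162, false, [0, 6, 4, 10, 5, 3, 6, 2, 6, 2]⟩] []),
  (⟨false, 4, 2, [59, 45, 54, 30, 38, 16, 10, 23, 17], [48, 45, 28, 34, 27, 2, 17, 22, 16, 21], [60, 44, 46, 57, 31, 41, 36, 16, 16, 18, 18]⟩, .loop 34 1 [67, 48, 52, 28, 40, 30, 17, 17] 2 3 [⟨[], 58, false, [1, 4, 5, 6, 4, 5, 6, 5, 10]⟩] [⟨[13, 10, 9, 12, 13, 11, 10], 16, false, [2, 3, 4, 6, 2, 6]⟩, ⟨[23, 24], 128, true, [2, 6, 2, 6, 4, 5, 6, 5, 6, 10]⟩]),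
  (⟨false, 2, 2, [61, 46, 46, 33, 31, 33, 2, 17, 23, 17, 22], [46, 53, 35, 30, 26, 18, 23], [66, 46, 42, 31, 29, 27, 2, 23, 17, 2, 6]⟩, .loop 19 2 [67, 45, 45, 35, 30, 16, 24] 2 3 [⟨[23], 165, false, [1, 3, 5, 3, 6, 5, 10, 5, 6, 2]⟩] [⟨[23], 155, true, [4, 5, 6, 2, 6, 10, 5, 3, 6, 4]⟩, ⟨[], 169, false, [3, 6, 4, 6, 5, 6, 2, 4]⟩]),
  (⟨false, 2, 2, [59, 44, 51, 48, 28, 26, 31, 33, 16, 2, 0, 16], [61, 44, 43, 57, 40, 28, 40, 16, 25], [63, 45, 54, 56, 35, 35, 16, 22, 19]⟩, .loop 34 2 [44, 57, 55, 33, 31] 6 7 [⟨[], 105, true, [0, 2, 3, 4, 6, 5, 3, 6, 2, 4]⟩, ⟨[66, 66, 37, 66, 38], 85, true, [0, 3, 6, 4, 5, 6, 4, 5, 6, 10, 5]⟩, ⟨[37, 38], 141, true, [3, 4, 6, 2, 5, 6, 2, 4, 5, 3]⟩] []),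
  (⟨false, 2, 2, [63, 50, 48, 30, 34, 17, 23, 16, 10], [67, 56, 30, 35, 41, 2, 17, 17, 23, 11], [62, 44, 53, 56, 28, 38, 30, 16, 11, 17]⟩, .loop 68 4 [60, 44, 51, 48, 31, 34, 28, 2, 23, 23, 19] 2 3 [⟨[27, 61], 89, true, [3, 6, 1, 2, 6, 4, 5, 6, 5, 10]⟩] [⟨[28, 63, 27], 176, true, [5, 6, 4, 5, 3, 6, 2, 6, 4]⟩, ⟨[], 145, false, [0, 3, 6, 5, 3, 6, 4, 6, 2]⟩]),
  (⟨false, 4, 2, [60, 47, 48, 28, 26, 41, 16, 22], [67, 50, 55, 30, 34, 27, 2, 17, 23, 17], [45, 50, 30, 28, 34, 16, 18, 18]⟩, .loop 28 1 [58, 46, 49, 34, 33, 34, 2, 17, 17, 11, 22] 2 3 [⟨[], 25, false, [5, 6, 4, 10, 5, 6, 2, 6, 2]⟩] [⟨[13, 12, 13, 11, 11, 9], 16, false, [2, 5, 6, 2, 6, 10, 5, 3]⟩, ⟨[], 96, true, [6, 5, 6, 2, 5, 3, 6]⟩]),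
  (⟨false, 2, 2, [47, 47, 52, 30, 26, 2, 23, 17, 24, 17], [67, 44, 57, 55, 31, 33, 2, 17, 17, 17, 13], [49, 42, 30, 29, 26, 17, 17, 22]⟩, .loop 35 2 [66, 45, 49, 30, 38, 40, 17, 17, 23, 10] 6 7 [⟨[], 129, false, [1, 6, 5, 6, 2, 5, 6, 4, 6, 10]⟩, ⟨[38, 66, 37], 124, false, [0, 6, 4, 6, 5, 10, 5, 6, 2, 5]⟩, ⟨[23], 123, true, [3, 4, 5, 6, 1, 4, 10, 5, 6, 5]⟩] []),
  (⟨false, 5, 2, [66, 54, 56, 30, 28, 33, 16, 18, 18, 6], [67, 55, 43, 40, 40, 16, 18, 18, 22], [67, 55, 46, 31, 33, 36, 16, 18, 18]⟩, .loop 31 2 [58, 48, 45, 28, 38, 2, 17, 19] 6 7 [⟨[], 90, true, [1, 3, 6]⟩, ⟨[61], 25, true, [2, 6, 5, 6, 4, 5, 6, 5]⟩, ⟨[13, 10, 12, 10, 12, 11, 11], 31, false, [2, 6, 5, 3, 6, 4, 6, 2, 4, 5]⟩] []),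
  (⟨false, 2, 2, [45, 42, 47, 36, 26, 26, 16, 24, 16, 25], [60, 46, 44, 54, 41, 27, 34, 16, 19, 22, 25], [67, 47, 42, 30, 30, 2, 17, 17, 22, 24]⟩, .loop 66 2 [61, 51, 51, 33, 35, 29, 16, 4, 17] 2 3 [⟨[], 123, true, [6, 1, 10, 5, 3, 6, 2, 4, 5]⟩] [⟨[], 173, false, [0, 5, 6, 2, 6, 10, 5, 3, 6, 4]⟩, ⟨[23, 24], 94, false, [6, 4, 6, 5, 6, 5, 3, 5, 6]⟩]),
  (⟨false, 2, 4, [59, 47, 51, 34, 28, 37, 2, 23, 23, 8, 18], [44, 43, 57, 30, 27, 35, 2, 17, 17, 10], [55, 49, 30, 37, 31, 16, 19, 6, 18]⟩, .loop 29 4 [66, 46, 43, 41, 36, 16, 16, 2, 4, 23] 6 7 [⟨[], 58, true, [0, 6, 5, 6, 4, 6, 2, 4, 10, 5]⟩, ⟨[12, 11, 11, 13, 12, 13, 10], 31, false, [4, 5, 3, 6, 5, 3, 6, 5]⟩, ⟨[37], 143, false, [6, 5, 6, 2, 5, 6, 4]⟩] []),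
  (⟨false, 2, 2, [47, 47, 52, 30, 28, 30, 16, 18, 18, 6], [61, 56, 28, 40, 37, 2, 17, 23, 23, 19], [60, 45, 56, 28, 31, 40, 16]⟩, .loop 32 2 [60, 46, 57, 28, 38, 30, 16, 4, 17] 4 5 [⟨[], 16, true, [1, 2, 6, 4, 5, 6, 2, 4, 10]⟩, ⟨[13, 12, 14, 12, 13, 12, 11, 10, 8], 16, false, [0, 2, 3, 4, 6, 5, 10, 5, 6, 2]⟩] [⟨[23, 24], 130, false, [0, 2, 4, 6, 10, 5, 6, 2, 4, 6]⟩]),
  (⟨false, 2, 2, [60, 52, 31, 28, 38, 2, 17, 22, 22, 10], [44, 46, 38, 36, 2, 17, 23, 11, 11], [66, 45, 42, 45, 35, 36, 29, 16, 21, 17]⟩, .loop 46 2 [66, 48, 55, 33, 33, 31, 2, 17, 23, 24, 21] 2 3 [⟨[], 179, false, [3, 6, 2, 6, 5, 3, 6, 2, 4]⟩] [⟨[], 163, false, [4, 6, 2, 4, 5, 6, 2, 6, 10]⟩]),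
  (⟨false, 2, 2, [47, 48, 28, 16, 16, 16, 22], [67, 44, 48, 52, 31, 36, 33, 19, 6, 23], [60, 44, 48, 30, 41, 36, 2, 23, 17, 24, 6]⟩, .loop 18 2 [58, 57, 53, 41, 32, 16, 2, 24, 6] 2 3 [⟨[24, 23], 118, true, [0, 6, 4, 10, 5, 3, 6, 4, 5]⟩] [⟨[24, 23], 155, false, [5, 6, 2, 6, 5, 3, 6, 4]⟩, ⟨[], 165, false, [6, 2, 6, 5, 3, 6, 2, 5, 6, 10]⟩])]

/-- facts 192 and on -/
def facts6 : List (Fact × Why) := [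
  (⟨false, 2, 2, [67, 56, 50, 28, 35, 31, 17, 17, 17, 19], [67, 45, 42, 47, 28, 34, 40, 16, 16, 4, 13, 17], [66, 55, 49, 35, 28, 31, 2, 17, 23, 12, 10]⟩, .loop 46 2 [57, 53, 35, 35, 35, 2, 17, 17, 24, 23] 4 5 [⟨[23], 162, false, [2, 6, 2, 6, 5, 3, 6, 4, 6]⟩, ⟨[], 165, false, [1, 6, 2, 5, 3, 6, 4, 6, 5, 10]⟩] []),
  (⟨false, 2, 2, [67, 44, 42, 57, 36, 31, 16, 16, 20, 24], [63, 48, 56, 31, 36, 34, 2, 16, 16, 16, 24], [48, 50, 35, 35, 35, 16, 24, 17]⟩, .loop 70 2 [63, 51, 57, 30, 35, 35, 16, 18, 16, 25] 2 3 [⟨[24, 23], 155, false, [1, 5, 6, 4, 5, 6, 2, 6, 5, 3]⟩] [⟨[24, 23], 161, false, [1, 6, 2, 5, 6, 4, 5, 3, 6]⟩, ⟨[], 191, false, [10, 5, 6, 1, 2, 5, 6]⟩]),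
  (⟨false, 2, 2, [46, 36, 27, 27, 16, 16, 16, 19], [45, 56, 55, 30, 26, 40, 2, 17, 22], [59, 51, 55, 35, 31, 34, 18, 23, 17]⟩, .loop 50 2 [55, 49, 36, 27, 16, 10, 18, 23] 4 5 [⟨[], 162, false, [6, 1, 4, 10, 5, 3, 6, 5, 6, 4]⟩, ⟨[], 179, false, [6, 4, 6, 4, 5, 6, 5]⟩] [⟨[], 193, false, [5, 6, 1, 5, 3, 5, 6, 5, 3]⟩, ⟨[23], 192, true, [6, 4, 10, 5, 6, 10, 5, 6, 10]⟩, ⟨[], 165, true, [1, 6, 10, 5, 3, 6, 2]⟩, ⟨[], 163, false, [1, 2, 5, 6, 2, 10, 5, 6, 2]⟩, ⟨[], 190, false, [6, 4, 5, 3, 6, 5, 6]⟩]),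
  (⟨false, 2, 2, [66, 54, 47, 33, 30, 36, 2, 17, 22, 22, 16], [67, 49, 51, 28, 26, 41, 2, 17, 17, 23], [60, 51, 53, 35, 35, 41, 16, 11, 17]⟩, .loop 52 2 [63, 51, 44, 31, 29, 27, 16, 10, 17] 12 13 [⟨[23], 193, false, [4, 10, 5]⟩, ⟨[], 181, false, [1, 2, 6, 2, 5, 6, 4]⟩, ⟨[23], 165, false, [4, 10, 5, 6, 5, 6, 10, 5]⟩, ⟨[], 163, true, [0, 4, 5, 6, 2, 5, 6, 5]⟩, ⟨[23], 192, true, [0, 4, 5, 6, 5, 3]⟩, ⟨[], 194, false, [0, 2, 6, 4, 6, 4, 5, 3, 6]⟩] [⟨[23], 179, false, [0, 6, 2, 6, 5, 3, 6, 4, 6]⟩]),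
  (⟨false, 2, 2, [50, 45, 28, 30, 41, 16, 16, 8, 22], [66, 44, 47, 35, 38, 16, 8], [62, 45, 43, 34, 27, 28, 2, 17, 25, 19]⟩, .loop 35 2 [62, 45, 50, 45, 30, 35, 40] 6 7 [⟨[23], 124, true, [4, 5, 6, 4, 10, 5, 6, 4, 5, 6, 5]⟩, ⟨[66, 66], 36, true, [6, 1, 4, 6, 5, 3, 6, 2]⟩, ⟨[38], 156, true, [1, 4, 6, 2, 5, 6, 4]⟩] []),
  (⟨false, 3, 2, [60, 51, 42, 30, 29, 35, 16, 25], [66, 46, 36, 28, 38, 16, 16, 22, 8], [63, 49, 57, 28, 35, 26, 16, 18, 18]⟩, .loop 31 2 [60, 51, 43, 36, 40, 35, 16, 4, 17] 4 5 [⟨[], 19, true, [0, 2, 4, 5, 6, 5, 3]⟩, ⟨[22, 22], 76, false, [0, 3, 4, 5, 6, 2, 6, 2, 5, 10]⟩] [⟨[23], 83, false, [3, 4, 6, 1, 2, 5, 6, 4, 10]⟩]),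
  (⟨false, 2, 2, [67, 46, 31, 38, 16, 16, 4, 11], [62, 55, 42, 34, 29, 36, 16, 11, 23, 16], [63, 47, 47, 52, 36, 40, 26, 16, 4, 16, 19, 11]⟩, .loop 72 2 [48, 42, 30, 27, 31, 16, 16, 4, 13] 6 7 [⟨[23], 192, true, [4, 6, 2, 4, 5]⟩, ⟨[], 191, false, [6, 2, 6, 10, 5, 6, 10, 5, 10]⟩, ⟨[], 170, true, [4, 6, 1, 4, 6, 4, 10, 5]⟩] []),
  (⟨false, 2, 3, [62, 44, 42, 57, 30, 30, 30, 2, 17, 22, 16, 2], [59, 47, 48, 34, 26, 32, 16, 16, 16, 16], [61, 49, 42, 30, 27, 36, 2, 17, 17, 17, 21]⟩, .loop 66 3 [67, 55, 43, 34, 16, 16, 4, 17] 6 7 [⟨[], 80, false, [0, 6, 5, 10, 5, 6, 4, 5, 6, 4]⟩, ⟨[66, 37, 37, 66], 100, true, [1, 6, 2, 10, 5, 6, 2, 5, 10]⟩, ⟨[], 147, true, [0, 4, 6, 10, 5, 3, 6, 5, 6]⟩] []),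
  (⟨false, 2, 5, [58, 46, 51, 55, 30, 37, 40, 2, 23, 17, 24, 17], [62, 47, 53, 30, 35, 41, 17, 23, 18, 22], [66, 44, 56, 30, 30, 16, 16, 24, 21]⟩, .loop 31 5 [60, 47, 55, 35, 36, 30, 17, 22, 6, 23] 4 5 [⟨[], 71, true, [0, 2, 4, 10, 5, 6, 4, 5, 3, 6]⟩, ⟨[63, 30, 61], 178, true, [0, 4, 5, 6, 4, 5, 6, 2, 6, 10]⟩] [⟨[37, 37], 87, false, [5, 6, 5, 6, 4, 6, 2]⟩]),
  (⟨false, 2, 5, [44, 46, 48, 36, 27, 40, 2, 17, 23, 12], [50, 50, 28, 31, 27, 16, 11, 16, 25], [62, 48, 45, 28, 34, 38, 17]⟩, .loop 29 2 [62, 44, 42, 45, 35, 38, 16, 8] 2 3 [⟨[23], 189, false, [0, 4, 10, 5, 6, 4, 6, 4, 5, 3]⟩] [⟨[24], 137, true, [1, 2, 3, 4, 6, 5, 6, 4, 6, 2, 6]⟩, ⟨[23], 136, true, [4, 5, 10, 5, 6, 4, 5]⟩]),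
  (⟨false, 2, 2, [58, 44, 42, 47, 40, 40, 32, 16, 16, 10, 20, 16], [59, 50, 28, 26, 36, 16, 4, 16, 25], [60, 54, 56, 31, 26, 40, 16, 8, 22, 19]⟩, .loop 72 2 [60, 44, 53, 56, 30, 29, 26, 2, 23, 17, 24, 23] 2 3 [⟨[23], 142, false, [0, 3, 4, 6, 2, 5, 6, 2, 4, 10]⟩] [⟨[], 138, true, [1, 2, 3, 6, 5, 6, 2, 5, 6]⟩, ⟨[24], 126, false, [3, 6, 2, 4, 6, 5, 6, 5, 10]⟩]),
  (⟨false, 2, 2, [63, 45, 56, 50, 28, 26, 31, 2, 17, 17, 17, 0], [60, 49, 44, 34, 33, 28, 16, 21, 16, 20], [44, 42, 48, 33, 41, 28, 16, 16, 16, 11]⟩, .loop 32 2 [66, 55, 43, 30, 30, 41, 17, 23, 18, 23] 2 3 [⟨[], 163, false, [4, 10, 5, 6, 5, 6, 4, 10, 5]⟩] [⟨[], 103, false, [0, 2, 4, 10, 5, 6, 4, 6, 4]⟩, ⟨[61, 61, 53], 160, false, [1, 3, 4, 6, 2, 4, 5, 6, 5]⟩]),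
  (⟨false, 2, 5, [61, 50, 44, 28, 30, 28, 2, 23, 23, 18, 0], [60, 44, 53, 31, 37, 35, 2, 23, 17, 22], [59, 49, 28, 26, 31, 33, 16, 24, 16, 19]⟩, .loop 30 5 [60, 45, 53, 48, 28, 35, 32, 2, 23, 23, 25] 6 7 [⟨[66, 66], 31, true, [3, 4, 5, 6, 1, 4, 5, 3, 6, 2]⟩, ⟨[12, 13, 12, 11, 13, 12, 11, 9], 31, false, [1, 4, 6, 5, 6, 2, 10, 5, 6, 5]⟩, ⟨[38, 66], 111, false, [1, 5, 10, 5, 6, 5, 6]⟩] []),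
  (⟨false, 2, 2, [58, 51, 49, 34, 31, 31, 16, 16, 10, 21, 17], [44, 42, 57, 30, 32, 34, 2, 23, 23, 10], [59, 50, 49, 31, 37, 18, 23]⟩, .loop 22 2 [66, 46, 46, 38, 36, 16, 25, 17] 6 7 [⟨[], 96, true, [0, 4, 5, 3, 6, 2, 4, 5, 6]⟩, ⟨[], 178, false, [1, 5, 6, 2, 6, 5, 6, 2, 6, 10]⟩, ⟨[63, 27], 184, false, [2, 10, 5, 6, 5, 3, 5, 6, 5]⟩] []),
  (⟨false, 2, 2, [67, 55, 46, 28, 30, 41, 16, 11, 17, 6], [59, 45, 50, 42, 30, 32, 30, 2, 23, 25, 19, 17], [51, 46, 34, 27, 31, 16, 11, 17]⟩, .loop 32 5 [44, 43, 57, 30, 30, 28] 4 5 [⟨[], 31, true, [0, 4, 5, 6, 2, 4, 5, 6, 4, 6]⟩, ⟨[13, 12, 13, 11, 13, 12, 13, 9], 16, false, [2, 3, 4, 5, 6, 5, 3, 6, 2, 6]⟩] [⟨[37], 136, false, [1, 10, 5, 6, 2, 6, 5]⟩]),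
  (⟨false, 2, 2, [61, 51, 46, 36, 40, 35, 2, 17, 0, 23, 17], [59, 48, 46, 34, 40, 16, 25], [60, 44, 47, 41, 33, 16, 10, 8]⟩, .loop 66 2 [62, 44, 46, 57, 36, 30, 16, 4, 17] 6 7 [⟨[24], 92, true, [1, 3, 6, 2, 5, 6, 4, 10, 5, 3]⟩, ⟨[61, 63, 63, 28], 178, true, [5, 6, 5, 6, 10]⟩, ⟨[], 142, true, [4, 5, 6, 5, 6, 2, 6, 5]⟩] []),
  (⟨false, 2, 2, [58, 47, 53, 28, 40, 16, 16, 25], [63, 46, 49, 34, 27, 41, 16, 16, 25, 25], [59, 45, 42, 45, 28, 41, 28, 2, 23, 23, 25]⟩, .loop 32 5 [61, 46, 56, 33, 27, 31, 16, 21, 17] 4 5 [⟨[38, 66], 124, false, [10, 5, 6, 4, 5, 3, 6, 2, 5, 6]⟩, ⟨[23, 24], 126, true, [1, 2, 3, 5, 6, 5, 6, 2, 6, 10]⟩] [⟨[66, 66, 37, 66, 37], 166, false, [2, 4, 5, 3, 6, 5, 10, 5, 6, 4]⟩]),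
  (⟨false, 2, 2, [58, 44, 42, 46, 30, 29, 27, 2, 17, 23, 12, 10], [62, 44, 48, 34, 26, 34, 2, 17, 23, 20], [60, 45, 54, 45, 31, 28, 36, 2, 17, 23, 17, 24]⟩, .loop 48 2 [62, 44, 48, 34, 26, 34, 2, 17, 23, 13] 4 5 [⟨[], 159, true, [1, 6, 2, 5, 6, 5]⟩, ⟨[22, 22, 50, 50, 21], 199, true, [1, 2, 3, 6, 4, 6, 5, 3, 6]⟩] []),
  (⟨false, 2, 5, [58, 45, 49, 35, 36, 30, 2, 17, 17, 20, 8], [58, 45, 52, 30, 37, 27, 16, 11, 16, 25], [45, 53, 34, 31, 37, 17, 23, 18]⟩, .loop 18 2 [44, 55, 50, 30, 35, 41, 16, 4, 17] 2 3 [⟨[23], 96, true, [2, 3, 4, 5, 6, 1, 10, 5]⟩] [⟨[], 138, false, [2, 4, 6, 4, 10, 5, 3, 6, 2, 4]⟩, ⟨[23], 136, true, [1, 6, 5, 6, 2, 6, 4, 10, 5]⟩]),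
  (⟨false, 2, 2, [63, 44, 46, 34, 36, 31, 17, 23, 23, 21], [66, 45, 56, 28, 26, 31, 2, 23, 25, 19, 17], [67, 56, 28, 35, 28, 2, 23, 17, 18]⟩, .loop 49 4 [63, 54, 56, 34, 27, 29, 2, 17, 17, 13, 24] 2 3 [⟨[], 176, true, [2, 3, 4, 5, 6, 1, 5, 3, 5, 6]⟩] [⟨[63, 61, 63, 61], 176, true, [5, 10, 5, 6, 4, 5, 3, 6]⟩]),
  (⟨false, 2, 2, [63, 44, 46, 33, 35, 16, 16, 16, 16], [67, 49, 47, 34, 36, 31, 18, 23], [58, 48, 53, 31, 29, 18, 23, 17, 6]⟩, .loop 35 4 [66, 50, 44, 30, 28, 41, 16, 11, 17] 4 5 [⟨[], 59, true, [3, 6, 2, 4, 5, 6, 4, 6, 5]⟩, ⟨[52, 42, 44, 44, 44, 52, 42, 52], 97, false, [1, 5, 6, 4, 6, 2, 6, 4, 5, 6]⟩] [⟨[29, 63, 61, 28], 180, false, [6, 4, 6]⟩]),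
  (⟨false, 3, 2, [67, 44, 46, 28, 40, 16, 16, 19, 10], [66, 48, 50, 34, 29, 16, 18, 16, 4], [55, 43, 30, 38, 29, 16, 16, 4, 23]⟩, .loop 33 5 [60, 45, 43, 31, 36, 41, 2, 17, 22, 6] 2 3 [⟨[38, 66, 37], 108, true, [1, 2, 5, 6, 4, 5, 6, 5, 10]⟩] [⟨[66, 66, 37, 37, 66], 174, false, [3, 5, 6, 5, 6, 4, 6, 2, 4]⟩, ⟨[24, 23], 185, true, [5, 3, 6, 1, 2, 5]⟩]),
  (⟨false, 5, 2, [46, 44, 54, 31, 27, 2, 17, 19], [59, 46, 44, 31, 41, 36, 16, 11, 16, 16], [63, 44, 56, 46, 34, 29, 41, 16, 18, 24]⟩, .loop 30 6 [58, 44, 47, 47, 30, 27, 28, 2, 23, 23, 4] 4 5 [⟨[], 45, true, [1, 3, 4, 6, 4, 5, 6, 4, 5, 6]⟩, ⟨[28], 74, true, [0, 3, 6, 4, 6, 5, 3, 6, 2]⟩] [⟨[42, 52, 44, 44, 42, 44, 42, 44, 42], 97, false, [1, 10, 5, 3, 6, 5, 6, 2, 4]⟩]),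
  (⟨false, 5, 2, [59, 45, 54, 30, 41, 26, 16, 18, 16, 4], [61, 44, 55, 52, 41, 29, 17, 17, 17], [67, 45, 45, 31, 29, 35, 19, 6, 23, 23]⟩, .loop 35 2 [59, 56, 50, 28, 35, 28, 16, 16, 4, 22] 6 7 [⟨[24], 139, true, [1, 3, 4, 6, 2, 6, 5, 6]⟩, ⟨[], 19, true, [3, 4, 6, 2, 5]⟩, ⟨[50, 50, 21], 78, false, [0, 3, 4, 6, 4, 6, 4, 6, 5, 3]⟩] []),
  (⟨false, 2, 2, [51, 53, 31, 26, 26, 16, 25], [58, 47, 49, 56, 28, 31, 33, 16, 25, 22, 6], [67, 44, 47, 47, 33, 31, 32, 16, 11, 17]⟩, .loop 31 5 [61, 47, 49, 33, 30, 36, 2, 17, 17, 25, 21] 4 5 [⟨[66], 31, true, [1, 6, 5, 3, 6, 4, 6, 5, 10]⟩, ⟨[13, 12, 14, 12, 13, 12, 11, 11, 9], 16, false, [6, 1, 2, 6, 5, 3]⟩] [⟨[66, 37, 37], 143, false, [0, 2, 5, 3, 6, 5, 3, 6, 5]⟩]),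
  (⟨false, 2, 5, [66, 48, 53, 34, 28, 40, 16, 16, 20], [51, 51, 34, 41, 41, 2, 17, 17, 23, 11], [46, 48, 35, 35, 31, 2, 16, 6, 23, 23]⟩, .loop 28 2 [58, 51, 57, 28, 34, 31, 32, 16, 22, 19] 4 5 [⟨[23], 149, true, [6, 2, 6, 4, 6, 5, 6, 2, 10]⟩, ⟨[61, 28, 63, 27], 180, false, [6, 2, 6, 4, 5, 3, 5, 6, 2, 6]⟩] [⟨[24], 98, true, [1, 4, 6, 5, 3, 6, 2, 5, 6, 5]⟩]),
  (⟨false, 5, 2, [63, 44, 57, 33, 27, 31, 2, 23, 23, 17], [47, 47, 41, 36, 2, 16, 16, 6], [62, 46, 31, 36, 35, 2, 17, 23, 24, 21]⟩, .loop 30 2 [63, 44, 43, 28, 30, 34, 16, 4, 23] 6 7 [⟨[], 109, false, [6, 2, 10, 5, 6, 5, 3, 5, 6, 5]⟩, ⟨[], 17, false, [2, 6, 5, 3, 5, 6, 5, 3, 5]⟩, ⟨[23], 107, true, [5, 3, 6, 2, 5]⟩] []),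
  (⟨false, 5, 2, [62, 48, 44, 31, 34, 28, 16, 25], [67, 45, 45, 30, 41, 16, 25, 22], [55, 42, 35, 31, 29, 16, 11, 17]⟩, .loop 28 5 [62, 44, 43, 51, 28, 31, 27, 31] 4 5 [⟨[], 31, true, [0, 5, 3]⟩, ⟨[11, 13, 12, 13, 11, 11], 31, false, [1, 4, 5, 6, 2, 6, 4, 6, 10]⟩] [⟨[37], 136, false, [3, 5, 3, 6, 5, 3, 6, 5, 6]⟩]),
  (⟨false, 2, 2, [61, 45, 54, 35, 36, 38, 16, 10, 17, 6], [67, 45, 43, 45, 36, 28, 34, 2, 17, 0], [63, 46, 42, 51, 36, 32, 31, 2, 23, 17, 24, 23]⟩, .loop 23 2 [59, 48, 47, 28, 36, 40, 17, 17] 6 7 [⟨[23], 143, true, [4, 6, 4, 5, 6, 5, 6, 10, 5, 6]⟩, ⟨[66, 66, 37, 38], 100, true, [5, 6, 1, 4, 6, 2, 10]⟩, ⟨[], 130, true, [0, 4, 10, 5, 3, 6, 4, 6, 2, 5]⟩] []),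
  (⟨false, 2, 2, [46, 43, 33, 41, 2, 17, 17, 25, 21], [63, 44, 48, 33, 27, 40, 2, 23, 23, 23], [59, 45, 56, 50, 35, 29, 35, 2, 23, 17, 2, 6]⟩, .loop 28 2 [62, 45, 57, 35, 29, 31, 16, 19, 6, 17] 2 3 [⟨[23], 172, true, [4, 6, 2, 5, 3, 6, 4, 5]⟩] [⟨[], 182, false, [0, 3, 4, 6, 4, 5, 6]⟩, ⟨[23], 96, true, [5, 6, 5, 3, 6, 4, 6, 2, 4, 5]⟩]),
  (⟨false, 2, 2, [58, 45, 42, 47, 28, 34, 41, 16, 11, 16, 25], [66, 46, 44, 54, 31, 27, 2, 17, 17, 11, 19], [45, 54, 45, 28, 31, 33, 16, 11, 17]⟩, .loop 23 4 [67, 55, 28, 35, 28, 16, 16, 19, 10] 4 5 [⟨[61, 29, 27], 180, false, [0, 10, 5, 3, 6, 5, 3, 6, 5, 3]⟩, ⟨[], 128, false, [0, 2, 6, 4, 10, 5, 6, 4, 6, 2]⟩] [⟨[30, 61, 30], 160, false, [3, 6, 5, 6, 2, 6, 5, 10]⟩]),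
  (⟨false, 2, 2, [54, 43, 31, 35, 30, 16, 16, 22, 11], [61, 46, 42, 41, 28, 2, 17, 17, 25, 8], [59, 47, 50, 30, 27, 16, 16, 2, 19]⟩, .loop 31 2 [67, 46, 57, 30, 32, 32, 16, 16, 8, 21] 4 5 [⟨[], 163, true, [0, 4, 6, 5, 6, 2, 4, 10]⟩, ⟨[23], 123, true, [3, 4, 5, 6, 5, 6, 10]⟩] [⟨[24], 203, false, [2, 4, 6, 2, 6, 4, 5, 6, 2, 5]⟩])]

/-- facts 224 and on -/
def facts7 : List (Fact × Why) := [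
  (⟨false, 2, 2, [46, 53, 41, 32, 29, 2, 17, 17, 11, 19], [67, 44, 46, 44, 30, 30, 34, 16, 16, 2], [66, 46, 57, 35, 37, 38, 16, 11, 23, 16, 16]⟩, .loop 30 2 [63, 46, 51, 36, 17, 22, 6, 22] 6 7 [⟨[], 191, true, [2, 4, 10, 5, 6, 5, 3, 6, 4, 5]⟩, ⟨[], 172, false, [6, 2, 4, 5, 3, 6, 2, 6, 4, 5]⟩, ⟨[23], 182, false, [3, 5, 6, 5, 3, 6, 4, 6, 4]⟩] []),
  (⟨false, 2, 2, [61, 52, 48, 38, 34, 16, 8, 17, 6], [62, 47, 47, 30, 30, 2, 17], [47, 49, 34, 27, 28, 2, 17, 0, 23, 13]⟩, .loop 21 2 [50, 46, 30, 30, 28, 16, 22, 19] 6 7 [⟨[23], 99, true, [6, 2, 5, 6, 2, 4, 5]⟩, ⟨[], 164, false, [0, 3, 4, 6, 4, 5, 6, 4, 10]⟩, ⟨[24], 212, false, [0, 5, 6, 2, 10, 5, 6, 4, 5, 10]⟩] []),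
  (⟨false, 2, 5, [62, 46, 57, 33, 35, 41, 16, 2, 24, 6, 17], [63, 45, 42, 51, 40, 28, 16, 16, 25], [67, 54, 52, 31, 41, 36, 2, 17, 25, 19]⟩, .loop 34 5 [66, 48, 43, 40, 28, 40, 16, 24] 6 7 [⟨[], 156, true, [0, 4, 6, 2, 5, 3, 6, 2, 4, 5, 10]⟩, ⟨[23, 24, 23], 215, true, [0, 4, 5, 6, 10, 5, 3, 6, 4, 5, 3]⟩, ⟨[37, 66, 38], 111, false, [1, 4, 5, 10, 5, 6, 2]⟩] []),
  (⟨false, 2, 2, [51, 30, 32, 34, 2, 23, 17, 22], [61, 46, 49, 28, 30, 30, 16, 16, 21, 22], [66, 54, 43, 30, 34, 29, 16, 18]⟩, .loop 35 2 [67, 49, 49, 31, 32, 16, 4, 16, 13] 6 7 [⟨[24], 160, true, [0, 2, 10, 5, 6, 2, 4, 5, 6, 5]⟩, ⟨[61, 28], 110, true, [0, 6, 4, 5, 6, 5, 6, 2, 10]⟩, ⟨[], 191, true, [0, 5]⟩] []),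
  (⟨false, 2, 2, [60, 47, 42, 33, 38, 36, 16, 16, 19, 10], [61, 48, 44, 30, 32, 26, 16, 11, 16, 4], [60, 44, 42, 46, 35, 28, 31, 16, 10, 19]⟩, .loop 28 4 [66, 45, 45, 35, 36, 16, 16, 2, 4, 23] 4 5 [⟨[], 74, true, [6, 2, 6, 2, 4, 5, 6, 4, 5, 10]⟩, ⟨[38, 66], 140, true, [3, 5, 6, 2, 4, 10, 5, 6, 4, 6]⟩] [⟨[61, 28, 63], 184, false, [2, 3, 5, 6, 1, 4, 5, 6, 4]⟩]),
  (⟨false, 5, 2, [55, 43, 30, 32, 40, 16, 24, 17, 6], [58, 55, 46, 33, 28, 37, 16, 4, 16, 8], [58, 44, 57, 55, 31, 28, 36, 17, 23, 23, 8]⟩, .loop 19 2 [59, 48, 52, 40, 16, 21, 17] 6 7 [⟨[23], 141, false, [0, 2, 5, 6, 4, 5, 3, 6, 2, 6]⟩, ⟨[66, 66, 38], 174, false, [3, 6, 1, 5, 6, 2, 6, 5]⟩, ⟨[24], 174, true, [1, 10, 5, 6, 2, 6, 5]⟩] []),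
  (⟨false, 3, 2, [60, 44, 42, 47, 31, 28, 17, 22, 6], [58, 49, 53, 30, 32, 31, 16, 18, 23, 6], [62, 45, 42, 28, 26, 40, 38, 17, 23, 23, 18]⟩, .loop 45 2 [67, 48, 48, 33, 29, 30, 16, 24, 16, 25] 2 3 [⟨[], 158, true, [4, 6, 1, 2, 6, 10, 5, 6, 10]⟩] [⟨[], 185, false, [0, 2, 5, 3, 6, 4, 6, 2]⟩]),
  (⟨false, 2, 2, [61, 46, 35, 36, 16, 11, 16, 21, 22], [58, 46, 44, 30, 29, 40, 16, 8], [63, 46, 48, 36, 28, 2, 17, 17, 25, 20]⟩, .loop 32 5 [66, 49, 45, 33, 27, 34, 16, 10, 25] 4 5 [⟨[], 108, true, [1, 2, 4, 6, 5, 3, 6, 4, 5]⟩, ⟨[50, 22, 21, 50], 213, false, [6, 5, 6, 2, 5, 3]⟩] [⟨[], 105, false, [0, 5, 6, 10, 5, 6, 2]⟩]),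
  (⟨false, 2, 4, [66, 47, 42, 31, 34, 16, 16, 2, 11], [58, 46, 42, 36, 32, 16, 24, 16, 8], [45, 50, 35, 28, 32, 2, 23, 23, 12]⟩, .loop 21 5 [59, 51, 57, 28, 41, 28, 2, 17, 23, 23, 8] 2 3 [⟨[37, 66, 38], 136, false, [0, 5, 3, 5, 6, 2, 6, 4]⟩] [⟨[37, 66, 38], 186, false, [1, 2, 6, 2, 10, 5, 6, 5, 3, 6]⟩, ⟨[], 90, true, [6, 2, 4, 5, 6, 5, 3, 6, 2]⟩]),
  (⟨false, 2, 2, [66, 47, 42, 28, 26, 36, 2, 16, 16, 16], [45, 53, 31, 32, 36, 16, 10, 23, 23], [61, 50, 42, 41, 38, 16, 24, 16, 19]⟩, .loop 47 4 [59, 50, 42, 36, 29, 17, 23, 23, 18] 2 3 [⟨[30], 188, true, [1, 6, 4, 6, 2, 10, 5, 6, 5, 10]⟩] [⟨[61, 27], 232, true, [10, 5, 6, 1, 4, 6, 4, 5, 10]⟩]),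
  (⟨false, 2, 2, [60, 44, 42, 33, 28, 37, 16, 16, 2, 21], [60, 48, 55, 36, 32, 26, 2, 23, 13, 23, 6], [60, 49, 44, 30, 38, 2, 23, 23, 23, 21]⟩, .loop 16 5 [66, 46, 44, 34, 33, 28, 16, 10, 13] 2 3 [⟨[37], 210, true, [4, 6, 2, 6, 2, 4, 10, 5]⟩] [⟨[66, 37, 66], 174, false, [0, 6, 5, 6, 4, 6, 10, 5, 6]⟩, ⟨[23, 24, 23], 177, true, [0, 3, 4, 6, 2, 5, 6, 2, 5, 10]⟩]),
  (⟨false, 2, 2, [67, 45, 48, 30, 40, 29, 2, 16, 6], [59, 46, 42, 51, 30, 29, 41, 2, 16, 16, 22], [59, 45, 43, 45, 28, 35, 31, 16, 10]⟩, .loop 33 4 [60, 44, 57, 55, 30, 35, 40, 16, 18] 2 3 [⟨[63, 29, 28], 178, true, [2, 4, 6, 2, 5, 3, 6, 2, 4]⟩] [⟨[61, 63, 61, 63, 28], 90, false, [2, 4, 6, 1, 10, 5, 3, 6, 2, 4, 6]⟩, ⟨[23, 24], 94, false, [0, 3, 4, 5, 6, 2, 6, 5, 10]⟩]),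
  (⟨false, 2, 2, [58, 55, 43, 36, 30, 2, 17, 17, 10, 25], [60, 47, 48, 28, 30, 27, 16, 16, 19, 4], [58, 46, 56, 34, 40, 16, 25]⟩, .loop 48 5 [46, 46, 38, 33, 40, 2, 17, 17, 22, 11] 2 3 [⟨[38, 37], 174, false, [1, 3, 6, 5, 6, 4, 6, 2, 5, 10]⟩] [⟨[38, 66, 37, 37], 219, false, [1, 2, 4, 5, 6, 4, 5, 3, 6, 4, 5]⟩]),
  (⟨false, 2, 2, [61, 47, 41, 30, 37, 18, 23, 17, 6], [60, 45, 42, 51, 41, 28, 32, 17, 17, 17, 10], [61, 47, 49, 56, 28, 41, 28, 16]⟩, .loop 23 2 [67, 50, 49, 30, 40, 27, 2, 17, 17, 13] 2 3 [⟨[], 128, false, [2, 3, 5, 6, 10, 5, 6, 4, 6, 5, 6]⟩] [⟨[], 196, false, [1, 2, 5, 3, 6, 5, 3, 6, 5]⟩, ⟨[24], 130, false, [5, 6, 2, 6, 2, 4, 10, 5]⟩]),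
  (⟨false, 2, 5, [58, 45, 42, 28, 34, 30, 29, 2, 17, 0, 17, 25], [62, 52, 50, 34, 26, 29, 2, 23, 23, 8, 17], [59, 50, 49, 36, 30, 33, 16, 16, 25, 16]⟩, .loop 34 5 [63, 45, 54, 45, 41, 29, 40, 16, 16, 4, 13, 17] 6 7 [⟨[66, 37, 66], 31, true, [1, 4, 6, 4, 5, 6, 4, 5, 3, 5]⟩, ⟨[10, 12, 13, 11, 13, 12, 14, 10, 8], 16, false, [1, 6, 2, 5, 3, 6, 4, 6]⟩, ⟨[23, 24], 128, true, [1, 2, 5, 6, 10]⟩] []),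
  (⟨false, 3, 2, [61, 44, 47, 47, 30, 32, 36, 16, 16, 24, 6], [63, 47, 44, 51, 40, 28, 40, 16, 10, 17, 6, 23], [61, 45, 56, 50, 31, 26, 16, 4, 16, 19, 11]⟩, .loop 71 5 [67, 47, 35, 31, 27, 2, 17, 23, 4, 10] 4 5 [⟨[66, 38], 204, true, [3, 6, 1, 5, 6]⟩, ⟨[23, 24], 213, true, [4, 5, 6, 1, 4, 5, 3, 6, 2]⟩] [⟨[66, 66, 37, 66, 37], 215, false, [1, 2, 5, 6, 5, 3, 5, 6, 2, 6]⟩]),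
  (⟨false, 2, 5, [61, 47, 47, 33, 34, 41, 16, 18, 18, 6], [66, 49, 44, 28, 41, 28, 17, 22, 6, 16], [67, 30, 34, 16, 2, 19, 16]⟩, .loop 35 5 [62, 44, 42, 47, 30, 26, 33, 2, 17, 23, 11, 11] 6 7 [⟨[37], 85, false, [1, 2, 3, 5, 6, 5, 3, 6, 2, 4]⟩, ⟨[66, 66, 38, 66], 35, true, [0, 3, 5, 6, 2, 5]⟩, ⟨[], 123, false, [2, 5, 3, 6, 5, 10, 5]⟩] []),
  (⟨false, 5, 2, [58, 56, 33, 27, 27, 16, 11], [67, 45, 43, 28, 38, 30, 16, 8, 22, 6], [62, 45, 50, 45, 30, 29, 32, 2, 17, 23, 10, 19]⟩, .loop 48 2 [66, 47, 44, 51, 38, 32, 16, 10, 19, 6] 4 5 [⟨[], 221, false, [3, 6, 5, 6, 4, 6, 10, 5, 6, 5]⟩, ⟨[23], 166, true, [0, 4, 6, 4, 5, 6, 4, 5, 6]⟩] []),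
  (⟨false, 2, 5, [60, 52, 44, 41, 37, 16, 4, 16, 22, 22], [58, 51, 46, 38, 2, 23, 18, 6, 22], [67, 47, 44, 31, 26, 26, 2, 17, 17, 13, 17]⟩, .loop 23 5 [61, 45, 53, 48, 31, 33, 16, 4, 17] 2 3 [⟨[], 143, false, [1, 3, 5, 6, 2, 4, 5, 6, 10, 5]⟩] [⟨[37], 226, true, [3, 5, 6, 5, 3]⟩, ⟨[], 111, true, [6, 2, 6, 5, 6, 4, 6, 2, 10]⟩]),
  (⟨false, 2, 5, [66, 44, 48, 52, 30, 35, 40, 2, 17, 17, 17, 2], [59, 47, 44, 51, 35, 35, 29, 2, 17, 23, 8], [62, 44, 51, 48, 36, 26, 2, 17, 17, 2]⟩, .loop 28 2 [58, 49, 57, 33, 31, 34, 16, 8, 17, 6] 2 3 [⟨[], 235, true, [2, 6, 2, 10, 5, 6, 5]⟩] [⟨[], 96, true, [0, 2, 4, 6, 2, 5, 3, 6, 5, 10, 5]⟩, ⟨[], 144, false, [5, 6, 2, 6, 5, 6, 2, 6, 10]⟩]),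
  (⟨false, 3, 2, [62, 44, 46, 28, 35, 31, 16, 8], [61, 44, 51, 48, 31, 41, 2, 17, 23, 13], [63, 45, 50, 42, 35, 28, 31, 16, 4]⟩, .loop 19 2 [63, 45, 42, 30, 26, 30, 16, 16, 25, 17] 6 7 [⟨[], 130, true, [0, 10, 5, 3, 6, 5, 6, 4]⟩, ⟨[24], 196, true, [2, 3, 5, 6, 1, 5, 3]⟩, ⟨[], 197, true, [2, 4, 6, 2, 5, 3, 6, 4]⟩] []),
  (⟨true, 3, 3, [180], [], [182]⟩, .coinc 2 [61, 44, 51, 48, 31, 41, 2, 17, 23, 13] ⟨[], 213, true, [6, 1, 4, 10, 5, 3, 6]⟩ ⟨[], 244, true, []⟩),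
  (⟨false, 2, 2, [63, 50, 47, 28, 30, 28, 16, 11, 11], [63, 49, 44, 28, 30, 30, 16, 4, 16, 8], [67, 54, 52, 35, 36, 29, 2, 17, 17, 17, 8]⟩, .loop 29 6 [60, 49, 51, 28, 40, 31, 2, 17, 23, 24, 21] 4 5 [⟨[], 45, true, [1, 4, 6, 2, 5, 10]⟩, ⟨[28, 61, 63], 160, false, [1, 2, 6, 10, 5, 6, 4, 6, 2, 10]⟩] [⟨[52, 44, 42, 42, 44], 97, false, [2, 6, 5, 3, 5, 6, 5, 6, 2, 4]⟩]),
  (⟨false, 2, 5, [51, 51, 36, 27, 27, 16, 16, 24, 23], [60, 54, 47, 35, 35, 29, 16, 24, 16, 25], [50, 55, 33, 36, 41, 16, 4, 16, 19]⟩, .loop 35 3 [67, 44, 47, 47, 36, 28, 16, 2, 21, 17] 4 5 [⟨[245, 22, 21], 230, false, [4, 6, 2, 10, 5, 6, 5, 3, 6]⟩, ⟨[24, 23], 228, false, [1, 5, 3, 6, 4, 5, 6, 5, 10]⟩] [⟨[50, 245, 245, 22, 22], 108, false, [0, 2, 3, 4, 6, 5, 6, 4, 10, 5]⟩]),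
  (⟨false, 2, 2, [62, 44, 53, 56, 30, 16, 16, 20], [60, 51, 42, 31, 37, 35, 16, 11, 18, 17], [67, 45, 42, 36, 40, 37, 16, 16, 16, 24]⟩, .loop 45 5 [59, 46, 51, 33, 35, 41, 16, 10, 17, 6, 23] 2 3 [⟨[38], 201, true, [2, 5, 6, 4, 6, 10, 5, 3, 6]⟩] [⟨[66, 37, 66, 38], 229, false, [0, 5, 6, 2, 5, 6, 4, 10, 5, 6, 5]⟩]),
  (⟨false, 2, 2, [67, 44, 48, 43, 28, 40, 33, 16, 16, 25, 17], [60, 49, 53, 28, 38, 26, 2, 23, 6, 23, 16], [67, 50, 46, 28, 35, 31, 16, 16, 16, 4]⟩, .loop 28 2 [58, 44, 53, 56, 28, 38, 33, 2, 17, 17, 6, 11] 6 7 [⟨[24], 239, true, [6, 1, 5, 6, 2, 4, 6, 10]⟩, ⟨[50, 50, 245], 108, false, [2, 6, 2, 6, 5, 6, 4, 6]⟩, ⟨[38, 66, 66, 38], 98, false, [1, 2, 4, 6, 4, 5, 6, 2, 10, 5]⟩] []),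
  (⟨false, 2, 5, [59, 45, 43, 45, 36, 34, 16, 16, 22, 10], [66, 46, 44, 54, 35, 35, 16, 24, 16], [60, 49, 51, 31, 2, 17, 17, 22, 16]⟩, .loop 30 5 [62, 44, 42, 47, 30, 26, 33, 2, 17, 17, 13, 19] 6 7 [⟨[37], 85, false, [2, 3, 6, 5, 3, 6, 5, 3]⟩, ⟨[38, 37, 66], 204, true, [2, 3, 6, 2, 5, 6, 5, 3]⟩, ⟨[23, 24], 130, true, [0, 4, 6, 10, 5, 6, 2, 5, 3]⟩] []),
  (⟨false, 2, 2, [58, 47, 56, 38, 35, 19, 6, 23, 18], [61, 45, 56, 28, 35, 31, 2, 17, 23, 20, 25], [58, 46, 57, 28, 34, 30, 29, 16, 16, 11, 18]⟩, .loop 48 3 [44, 43, 57, 28, 35, 40, 2, 17, 17, 25, 12] 2 3 [⟨[], 199, true, [3, 6, 4, 5, 10, 5, 6, 2, 5, 6]⟩] [⟨[21, 245, 21, 245, 50], 197, false, [0, 5, 6, 4, 6, 2, 5, 3, 6, 2]⟩]),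
  (⟨false, 2, 2, [58, 45, 45, 28, 41, 38, 2, 23, 23, 18, 16], [45, 42, 49, 31, 26, 33, 2, 17, 23, 12], [62, 46, 46, 33, 31, 33, 16, 4, 16, 4]⟩, .loop 22 5 [62, 48, 43, 28, 38, 26, 16, 10, 25] 2 3 [⟨[37], 201, true, [3, 5, 6, 5, 3, 5, 6, 2]⟩] [⟨[66, 38, 66], 247, true, [2, 5, 6, 1, 4, 6, 10, 5, 6]⟩, ⟨[23, 24, 23], 249, false, [0, 4, 5, 6, 4, 10, 5, 6, 4, 5, 6]⟩]),
  (⟨false, 2, 2, [59, 56, 35, 28, 31, 2, 23, 23, 25, 10], [67, 56, 53, 28, 35, 31, 41, 2, 17, 23, 17, 8], [67, 44, 48, 28, 35, 40, 16, 18, 16, 20]⟩, .loop 23 2 [59, 51, 51, 36, 40, 26, 16, 16, 16, 22] 2 3 [⟨[23], 211, false, [5, 10, 5, 6, 2, 6, 4, 5]⟩] [⟨[24], 213, true, [1, 2, 4, 5, 6, 4, 5, 6, 5, 10]⟩, ⟨[50, 245, 22, 50], 132, true, [6, 2, 4, 5, 6, 5, 3, 5, 6, 2]⟩]),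
  (⟨false, 5, 2, [44, 56, 46, 28, 38, 33, 16, 18, 18, 6], [58, 44, 42, 46, 31, 26, 30, 2, 16, 16, 22, 24], [66, 55, 47, 28, 41, 17, 17, 23, 23]⟩, .loop 32 5 [59, 47, 49, 35, 29, 34, 17] 4 5 [⟨[], 133, false, [3, 4, 6, 1, 4, 6, 5, 3]⟩, ⟨[38, 66], 36, true, [0, 4, 6, 4, 10, 5, 10]⟩] [⟨[66, 66, 37, 37], 144, true, [2, 4, 6, 2, 5, 3, 6, 2, 6]⟩]),
  (⟨false, 5, 2, [62, 44, 55, 31, 36, 33, 17, 23], [61, 46, 44, 34, 2, 23, 25, 19, 17], [55, 47, 36, 28, 38, 16, 16, 2, 4, 24]⟩, .loop 32 2 [63, 49, 56, 38, 34] 2 3 [⟨[], 107, true, [2, 4, 6, 4, 5, 6, 4, 5, 10, 5]⟩] [⟨[23], 79, false, [4, 6, 1, 2, 5, 3, 6, 4, 6, 5]⟩, ⟨[38], 129, true, [4, 6, 4, 6, 2, 5, 3, 6, 5]⟩])]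

/-- facts 256 and on -/
def facts8 : List (Fact × Why) := [
  (⟨false, 4, 2, [62, 45, 50, 45, 33, 33, 31, 16, 16, 13], [63, 45, 50, 45, 31, 26, 26, 2, 23, 17, 6, 12], [66, 45, 43, 45, 30, 34, 28, 16, 2, 11, 23]⟩, .loop 22 2 [61, 56, 38, 34, 2, 17, 17, 10, 21] 6 7 [⟨[], 141, false, [5, 3, 6, 2, 6, 2, 4]⟩, ⟨[38, 37], 240, true, [1, 2, 6, 5, 6, 2, 5, 3]⟩, ⟨[23], 232, false, [2, 4, 5, 6, 4, 5, 6, 4, 5, 3, 6]⟩] []),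
  (⟨false, 5, 2, [63, 51, 51, 31, 34, 27, 2, 23, 23, 4, 23], [61, 44, 56, 31, 36, 33, 2, 17, 17, 0, 13], [67, 44, 42, 47, 28, 31, 33, 2, 23, 23, 18]⟩, .loop 31 2 [67, 44, 47, 28, 36, 32, 16, 16, 4, 6] 6 7 [⟨[24], 235, true, [3, 5, 3, 6, 5, 3, 6, 5, 10]⟩, ⟨[24], 235, false, [2, 3, 4, 5, 6, 2, 6, 4, 5, 6]⟩, ⟨[23], 250, false, [6, 4, 6, 2, 4, 5, 6, 10, 5]⟩] []),
  (⟨false, 2, 2, [55, 46, 31, 32, 38, 2, 17, 23, 18, 21], [67, 50, 55, 30, 38, 32, 16, 2, 19, 16], [58, 44, 42, 48, 35, 35, 16, 16, 18, 18]⟩, .loop 47 2 [62, 55, 49, 38, 29, 2, 17, 23] 4 5 [⟨[], 223, false, [1, 3, 4, 6, 2, 5, 6, 4, 6, 10]⟩, ⟨[24], 177, true, [0, 5, 6, 4, 6, 2, 6, 5, 6]⟩] []),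
  (⟨false, 2, 2, [58, 44, 46, 44, 30, 40, 34, 2, 16, 6, 17, 22], [66, 52, 50, 41, 26, 37, 16, 2], [62, 54, 43, 31, 35, 38, 2, 17, 22, 12]⟩, .loop 44 5 [63, 46, 43, 31, 36, 2, 17, 17, 22, 25] 2 3 [⟨[38], 174, false, [3, 6, 1, 4, 6, 4, 5, 6, 10]⟩] [⟨[37, 37], 200, true, [5, 6, 4, 6, 2, 6, 5, 3]⟩]),
  (⟨false, 2, 2, [60, 46, 56, 34, 31, 38, 16, 2, 21, 17], [60, 44, 42, 48, 35, 30, 16, 16, 22, 11], [61, 45, 45, 31, 38, 2, 17, 17, 20, 8]⟩, .loop 45 2 [63, 47, 44, 51, 40, 35, 26, 16, 8, 17] 2 3 [⟨[], 138, false, [1, 5, 6, 5, 6, 2, 6, 4, 5, 3]⟩] [⟨[23], 225, true, [0, 6, 4, 5, 6, 2, 6, 2, 10]⟩]),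
  (⟨false, 2, 2, [56, 53, 41, 28, 32, 16, 10, 19], [67, 49, 47, 38, 26, 16, 16, 2, 20], [62, 46, 51, 28, 35, 35, 16, 16, 4, 25]⟩, .loop 49 5 [58, 48, 46, 28, 30, 37, 16, 19, 22, 11] 2 3 [⟨[66, 37], 200, true, [6, 1, 4, 10, 5, 3, 6, 5, 6]⟩] [⟨[38, 66, 66], 219, false, [4, 6, 1, 10, 5, 3, 6, 2, 4]⟩]),
  (⟨false, 2, 2, [60, 56, 53, 28, 31, 40, 16, 11, 19, 22], [66, 44, 55, 34, 26, 2, 17, 0], [58, 48, 52, 34, 27, 2, 23, 23, 18, 11]⟩, .loop 32 5 [67, 45, 45, 36, 29, 16, 16, 24, 13] 4 5 [⟨[], 80, true, [2, 3, 5, 6, 5, 3, 5, 6, 2]⟩, ⟨[22, 245, 21, 21, 21], 127, false, [2, 6, 2, 6, 4, 10, 5, 3, 6]⟩] [⟨[66, 66], 35, true, [1, 2, 3, 5, 6, 5, 10, 5, 6, 2, 5]⟩]),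
  (⟨false, 2, 2, [67, 47, 51, 33, 27, 30, 16, 11, 16, 25], [59, 50, 50, 36, 32, 37, 2, 17, 17, 22, 6], [60, 52, 48, 31, 29, 40, 2, 17, 17, 13, 25]⟩, .loop 32 2 [28, 31, 35] 2 3 [⟨[24], 121, true, [1, 3, 4, 6, 5, 6, 4, 10, 5, 6, 5]⟩] [⟨[], 33, true, [0, 2, 4, 6, 4, 5, 6, 2, 6, 4]⟩, ⟨[38, 66, 37], 124, false, [2, 6, 4, 6, 5, 6, 2, 6]⟩]),
  (⟨false, 2, 2, [60, 56, 50, 33, 35, 28, 2, 23, 17, 17, 6], [62, 45, 42, 49, 31, 29, 41, 2, 17, 17, 6, 11], [62, 48, 52, 31, 33, 2, 17, 22, 18]⟩, .loop 21 2 [59, 48, 47, 36, 35, 40, 16, 16, 4, 17] 4 5 [⟨[], 81, true, [1, 5, 6, 4, 6, 2, 4, 5, 10]⟩, ⟨[22, 21, 50, 21], 199, true, [2, 6, 2, 6, 10, 5, 6, 4]⟩] [⟨[24, 23], 231, true, [1, 4, 10, 5, 6, 2, 6, 4, 5, 3]⟩]),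
  (⟨false, 2, 5, [66, 45, 33, 29, 37, 2, 23, 17, 25], [45, 43, 45, 28, 34, 19, 6], [59, 44, 49, 31, 37, 35, 16, 16, 16]⟩, .loop 29 2 [44, 42, 46, 36, 27, 27, 16, 16, 10, 21, 17] 4 5 [⟨[], 232, false, [1, 6, 2, 4, 5, 6, 10, 5, 3]⟩, ⟨[53, 63], 256, false, [2, 6, 2, 5, 6, 4, 5, 3, 5]⟩] [⟨[24, 23], 174, true, [2, 6, 4, 6, 10, 5, 6]⟩]),
  (⟨false, 2, 5, [63, 45, 54, 45, 30, 38, 31, 16, 16, 13, 16], [66, 56, 50, 38, 32, 34, 2, 17, 23, 17, 24], [60, 50, 42, 36, 32, 2, 17, 17, 20, 22]⟩, .loop 18 5 [59, 48, 44, 33, 27, 2, 23, 8, 23, 23] 6 7 [⟨[66, 37], 80, true, [0, 5, 6, 10, 5, 3, 6, 2, 4]⟩, ⟨[50, 245, 50, 22], 127, false, [2, 3, 6, 1, 4, 6, 5, 3, 6, 2]⟩, ⟨[24], 211, true, [2, 10, 5, 6, 4, 5]⟩] []),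
  (⟨false, 2, 5, [59, 44, 43, 53, 34, 38, 28, 19, 6, 17, 19], [66, 48, 43, 31, 28, 37, 16, 16, 4, 24], [61, 44, 30, 37, 31, 16, 18, 16, 8]⟩, .loop 68 5 [61, 52, 48, 31, 32, 29, 2, 23, 23, 25, 21] 6 7 [⟨[66], 133, false, [0, 4, 6, 5, 3, 6, 5, 6]⟩, ⟨[38, 37], 218, false, [0, 3, 4, 6, 5, 3, 6, 4]⟩, ⟨[], 147, true, [1, 6, 4, 5, 3, 6, 2, 5, 6, 10]⟩] []),
  (⟨false, 2, 5, [67, 51, 49, 34, 27, 41, 16, 8, 17, 6], [61, 48, 36, 28, 2, 17, 23, 23, 13], [59, 49, 56, 30, 26, 40, 2, 23, 23, 4, 23]⟩, .loop 31 5 [62, 47, 42, 31, 37, 16, 16, 4, 24] 4 5 [⟨[], 144, true, [1, 4, 5, 3, 6, 5, 3, 6, 4, 5]⟩, ⟨[23, 24], 130, true, [6, 10, 5, 3, 6]⟩] [⟨[66], 133, false, [2, 6, 1, 4, 5, 3, 6, 5, 10, 5]⟩]),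
  (⟨false, 2, 2, [56, 53, 33, 30, 36, 16, 16, 20, 8], [44, 57, 49, 30, 32, 40, 16, 25], [60, 47, 55, 31, 26, 30, 17, 17, 23, 20]⟩, .loop 30 2 [63, 44, 42, 51, 36, 34] 6 7 [⟨[23], 81, true, [6, 2, 6, 10, 5, 6, 5, 10, 5, 6]⟩, ⟨[21, 50, 21, 22], 152, true, [1, 2, 3, 5, 6, 4, 6, 5, 10]⟩, ⟨[], 236, true, [10, 5, 3, 6, 2, 6, 2, 5]⟩] []),
  (⟨false, 5, 2, [60, 49, 56, 30, 32, 31, 16, 25], [58, 55, 47, 30, 30, 28, 16, 2, 16, 2], [60, 45, 52, 28, 30, 17, 17, 22, 21]⟩, .loop 32 3 [61, 44, 55, 50, 34, 33, 16, 16, 19, 16] 4 5 [⟨[21, 22], 132, true, [2, 4, 10, 5, 3, 6, 4, 5, 6, 5]⟩, ⟨[], 143, true, [1, 6, 2, 6, 5, 10, 5, 6, 5, 10]⟩] [⟨[50, 245, 22, 50, 245, 21], 197, false, [0, 10, 5, 3, 6, 5, 10, 5]⟩]),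
  (⟨false, 2, 5, [63, 44, 42, 46, 28, 30, 27, 16, 19, 6, 23], [58, 49, 53, 28, 35, 36, 17, 23, 16, 11], [63, 48, 47, 33, 29, 16, 21, 16, 20]⟩, .loop 32 2 [63, 46, 48, 54, 41, 38, 16, 24, 6] 4 5 [⟨[24, 23], 81, true, [3, 6, 5, 3, 6, 2, 5, 6, 10, 5]⟩, ⟨[245, 245, 245, 21, 21], 164, false, [1, 6, 5, 3, 6, 2, 6, 4]⟩] [⟨[24], 105, true, [3, 4, 5, 6, 2, 6, 2, 4, 10, 5]⟩]),
  (⟨false, 2, 2, [61, 49, 57, 30, 28, 35, 2, 23, 17, 0, 25], [61, 49, 46, 34, 31, 31, 19, 6], [66, 44, 48, 28, 40, 26, 16, 11, 25, 16]⟩, .loop 46 2 [66, 44, 42, 48, 41, 32, 2, 23, 24] 4 5 [⟨[], 225, true, [0, 6, 4, 10]⟩, ⟨[24], 223, false, [1, 6, 2, 6, 5, 3, 5, 6, 5]⟩] []),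
  (⟨false, 2, 2, [58, 44, 51, 48, 31, 28, 40, 16, 16, 8, 16], [48, 50, 28, 26, 36, 17, 22, 21, 6], [49, 45, 28, 30, 41, 16, 4, 16, 19, 11]⟩, .loop 19 2 [61, 51, 47, 36, 27, 36, 2, 23, 17, 0, 6] 4 5 [⟨[], 257, true, [4, 5, 6, 4, 6, 5]⟩, ⟨[66, 66, 37, 37, 66], 271, true, [4, 5, 3, 5, 6, 5, 6, 2]⟩] [⟨[24], 196, true, [2, 4, 5, 3, 6, 2, 5]⟩]),
  (⟨false, 2, 5, [58, 48, 43, 31, 34, 2, 17, 23, 4, 20], [58, 50, 45, 31, 33, 34, 2, 23, 6, 23, 8], [60, 54, 46, 36, 32, 37, 2, 17, 23, 10]⟩, .loop 22 5 [60, 45, 56, 50, 41, 33, 19, 6, 23, 20] 6 7 [⟨[], 257, false, [3, 5, 6, 2, 5, 3, 6, 2]⟩, ⟨[24], 235, true, [0, 6, 4, 6, 4, 6, 10, 5, 3]⟩, ⟨[24, 23], 223, false, [0, 3, 5, 6, 4, 5, 6, 5, 3, 5]⟩] []),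
  (⟨false, 2, 2, [67, 49, 53, 30, 40, 33, 16, 16, 10, 13], [60, 46, 42, 51, 31, 29, 37, 16, 19, 16], [62, 55, 30, 28, 41, 2, 17, 17, 19]⟩, .loop 49 5 [61, 48, 57, 30, 40, 31, 16, 19, 6, 16] 2 3 [⟨[66, 37], 242, true, [1, 3, 4, 5, 6, 4, 6, 10, 5]⟩] [⟨[66, 66, 37, 66, 38], 254, false, [0, 5, 6, 2, 4, 5, 3, 6, 4, 6]⟩]),
  (⟨false, 2, 2, [60, 52, 48, 31, 28, 38, 17, 17, 23, 20], [63, 57, 55, 28, 41, 16, 8, 17, 23], [63, 55, 49, 34, 27, 31, 2, 23, 19, 16]⟩, .loop 46 5 [60, 54, 56, 31, 33, 33, 2, 23, 23, 24] 2 3 [⟨[37, 37], 210, true, [2, 3, 5, 6, 4, 6, 5, 6, 4]⟩] [⟨[38, 66, 38, 37], 257, false, [2, 6, 10, 5, 3, 6, 2, 6, 2]⟩]),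
  (⟨false, 2, 2, [60, 49, 44, 33, 34, 41, 2, 17, 17, 17, 21], [58, 45, 43, 45, 30, 28, 34, 16, 16, 18, 16], [61, 52, 49, 40, 38, 2, 17, 0, 17]⟩, .loop 45 3 [59, 50, 55, 35, 16, 18, 24] 2 3 [⟨[50, 21, 50], 164, false, [0, 5, 3, 5, 6, 4, 5, 10]⟩] [⟨[22, 50, 245, 50], 164, false, [2, 5, 3, 6, 5, 6, 2]⟩]),
  (⟨false, 2, 5, [66, 51, 57, 36, 32, 30, 2, 17, 25, 6], [46, 43, 33, 34, 33, 16, 22], [63, 49, 47, 35, 36, 30, 2, 23, 23, 25, 19]⟩, .loop 19 5 [63, 44, 51, 34, 37, 16, 4, 23] 6 7 [⟨[], 168, false, [0, 2, 3, 4, 6, 4, 5, 10]⟩, ⟨[], 251, true, [0, 4, 5, 6, 10, 5, 6, 2, 5, 10]⟩, ⟨[24, 23], 220, true, [2, 5, 3, 6, 2, 6, 5, 6, 5, 10]⟩] []),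
  (⟨false, 2, 2, [60, 44, 42, 46, 34, 36, 2, 17, 22, 12], [60, 45, 54, 31, 28, 30, 16, 21, 16, 8], [59, 47, 54, 40, 38, 16, 22, 22, 22]⟩, .loop 28 2 [63, 54, 56, 28, 26, 40] 4 5 [⟨[], 33, true, [0, 2, 4, 5, 6, 2, 6, 5, 6]⟩, ⟨[66, 66, 37, 37, 66], 265, true, [1, 6, 5, 6, 4, 6, 2, 5]⟩] [⟨[23], 102, false, [1, 3, 5, 3, 6, 5, 3, 6, 2, 6]⟩]),
  (⟨false, 2, 5, [66, 45, 43, 45, 28, 38, 33, 16, 10, 25], [59, 45, 50, 30, 40, 28, 2, 17, 17, 19], [63, 48, 45, 40, 40, 32, 16, 11, 16, 24]⟩, .loop 29 3 [66, 44, 42, 51, 28, 34, 30, 29] 4 5 [⟨[], 76, false, [0, 6, 4, 10, 5, 6, 4, 6, 5]⟩, ⟨[22, 21, 50, 245], 159, false, [4, 6, 5, 6, 2, 6, 4, 5]⟩] [⟨[22, 245, 245, 22], 78, false, [0, 3, 6, 4, 5, 6, 5, 6, 2]⟩]),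
  (⟨false, 2, 2, [61, 44, 56, 46, 34, 36, 35, 2, 17, 0, 23, 17], [61, 54, 46, 28, 38, 36, 16, 16, 2, 24, 19], [62, 44, 56, 46, 38, 33, 16, 11, 19]⟩, .loop 31 2 [66, 46, 56, 28, 41, 29, 16, 10, 17] 4 5 [⟨[], 97, true, [2, 6, 10, 5, 6, 4, 6, 5, 6, 10]⟩, ⟨[44, 44, 52, 42, 42, 44, 44, 52, 42], 97, false, [1, 4, 6, 5, 3, 5, 6, 2, 6]⟩] [⟨[23, 24], 135, false, [4, 6, 5, 6, 4, 5, 3, 6]⟩]),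
  (⟨false, 2, 5, [62, 44, 48, 43, 34, 26, 16, 16, 19, 6], [61, 54, 46, 30, 30, 38, 16, 16, 2, 11], [62, 48, 42, 31, 36, 34, 16, 16, 8, 21]⟩, .loop 31 3 [66, 45, 54, 35, 37, 38, 16, 4, 16, 22] 4 5 [⟨[], 213, false, [1, 6, 10, 5, 3, 6]⟩, ⟨[23, 24, 23], 269, true, [3, 6, 1, 2, 4, 5, 6, 10, 5]⟩] [⟨[245, 50, 245, 50], 108, false, [6, 4, 6, 5, 6, 10, 5, 6, 2]⟩]),
  (⟨false, 2, 2, [61, 50, 48, 30, 35, 41, 17, 23, 16], [67, 52, 31, 34, 30, 16, 16, 22, 11], [67, 50, 46, 30, 37, 35, 16, 16, 11, 24]⟩, .loop 66 2 [59, 46, 57, 30, 27, 31, 2, 17, 23, 13] 2 3 [⟨[24, 23], 91, true, [2, 3, 6, 1, 4, 5, 6, 10]⟩] [⟨[23, 24, 23], 253, true, [10, 5, 6, 1, 5, 3]⟩, ⟨[], 211, false, [4, 6, 10, 5, 6, 4, 5, 3]⟩]),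
  (⟨false, 2, 2, [66, 50, 28, 36, 29, 27, 2, 23, 8, 17, 25], [58, 44, 42, 51, 30, 40, 30, 16, 16, 20, 11], [60, 49, 53, 28, 41, 34, 2, 17, 17, 6, 4]⟩, .loop 17 5 [54, 44, 30, 27, 36, 2, 23, 17, 25] 4 5 [⟨[66, 66, 37], 85, false, [1, 3, 5, 3, 6, 2, 5, 10]⟩, ⟨[38, 37, 66], 204, true, [1, 6, 5, 3, 5, 6, 4, 6, 2, 5]⟩] [⟨[37, 37, 66], 250, true, [4, 6, 1, 5, 6, 2, 6, 5]⟩]),
  (⟨false, 2, 4, [44, 56, 30, 32, 34, 2, 23, 23, 25], [66, 55, 43, 30, 26, 40, 2, 23, 10, 23, 23], [63, 54, 33, 27, 40, 2, 23, 17, 24, 11]⟩, .loop 30 4 [63, 51, 43, 36, 29, 16, 25, 17] 6 7 [⟨[], 69, false, [0, 6, 5, 3, 6, 5, 3]⟩, ⟨[63, 63, 61], 75, false, [0, 3, 6, 2, 5, 6, 4, 5, 10]⟩, ⟨[66, 66, 37], 214, false, [3, 6, 1, 2, 6, 5, 6, 2, 4]⟩] []),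
  (⟨false, 2, 2, [57, 55, 30, 27, 35, 2, 17, 19], [66, 45, 50, 42, 31, 26, 30, 16, 22, 22], [61, 50, 48, 28, 35, 2, 17, 17, 13, 25]⟩, .loop 28 2 [63, 44, 46, 48, 30, 32, 30, 17] 2 3 [⟨[], 17, true, [0, 2, 4, 10, 5, 6, 5, 3, 6, 4, 5]⟩] [⟨[23, 24], 140, false, [10, 5, 6, 2, 5, 6, 10]⟩, ⟨[38, 66, 38, 37], 243, true, [4, 10, 5, 6, 1, 2, 4, 5, 10]⟩]),
  (⟨false, 2, 5, [63, 44, 43, 53, 31, 29, 40, 16, 22, 19, 22], [61, 44, 56, 46, 30, 37, 32, 2, 23, 8, 17, 25], [60, 47, 47, 33, 35, 41, 16, 4, 16, 20]⟩, .loop 17 4 [62, 46, 51, 28, 34, 38, 16, 2, 16, 6] 4 5 [⟨[], 184, false, [0, 6, 4, 6, 2, 6, 10, 5, 3, 6, 5]⟩, ⟨[], 228, true, [2, 3, 4, 5, 6, 4, 6, 4, 5]⟩] [⟨[61, 61, 53, 28], 71, false, [1, 4, 6, 4, 6, 5, 10]⟩])]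

end CfsgLib.Sporadic.ThPres
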