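import Cfsg.Agent.Lib.Sporadic.ThPres.MuImg

set_option autoImplicit false
set_option maxRecDepth 20000
set_option Elab.async false

/-! Checking the table of states (owner: helper9). -/

namespace CfsgLib.Sporadic.ThPres

open CfsgLib.ThreeTrans.CosetIndex (forallFrom)

theorem muOK0 : muOK 0 = true := by decide +kernel

theorem muOK1 : muOK 1 = true := by decide +kernel

theorem muOK2 : muOK 2 = true := by decide +kernel

theorem muOK3 : muOK 3 = true := by decide +kernel

theorem muOK4 : muOK 4 = true := by decide +kernel

theorem muOK5 : muOK 5 = true := by decide +kernel

theorem muOK6 : muOK 6 = true := by decide +kernel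

end CfsgLib.Sporadic.ThPres
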