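import Cfsg.Agent.Lib.Sporadic.ThPres.Act
import Cfsg.Agent.Lib.Sporadic.ThPres.P819Data

/-!
# The action on 819 points (owner: helper9)
-/

set_option autoImplicit false
set_option maxRecDepth 20000
set_option Elab.async false

namespace CfsgLib.Sporadic.ThPres

open CfsgLib.ThreeTrans.CosetIndex (forallFrom forallFrom_elim)

/-- A field of ten bits. -/
noncomputable def g10 (p x : ℕ) : ℕ := Nat.land (Nat.shiftRight p (Nat.mul 10 x)) 1023

/-- The image of a point under a letter. -/
noncomputable def img819 (k x : ℕ) : ℕ := g10 (p819 k) x

theorem img819_ok : forallFrom (fun k => forallFrom (fun x =>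
    Nat.blt (img819 k x) 819 && Nat.beq (img819 (Nat.xor k 1) (img819 k x)) x) 0 819) 0 14 = true := by decide +kernel

theorem img819_rels : (words27.all fun w => forallFrom (fun x => Nat.beq (rImg img819 w x) x) 0 819) = true := by
  decide +kernel

/-- The table on 819 points. -/
noncomputable def t819 : Tab where
  n := 819
  img := img819
  ok k hk x hx := by
    have h := forallFrom_elim (forallFrom_elim img819_ok (Nat.zero_le k) (by omega)) (Nat.zero_le x) (by omega)
    simp only [Bool.and_eq_true, Nat.blt_eq, Nat.beq_eq] at h
    exact h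
  rels w hw x hx :=
    Nat.eq_of_beq_eq_true (forallFrom_elim (List.all_eq_true.1 img819_rels w hw) (Nat.zero_le x) (by omega))

end CfsgLib.Sporadic.ThPres
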