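import Cfsg.Agent.Lib.Sporadic.ThPres.Check

/-!
# Soundness of deductions among double cosets (owner: helper9)
-/

set_option autoImplicit false
set_option maxRecDepth 20000

namespace CfsgLib.Sporadic.ThPres

open Cfsg
open CfsgLib.Recog.SporBound (Q)
open CfsgLib.ThreeTrans.CosetIndex (forallFrom forallFrom_elim)

/-- The image of a word in the Thompson group. -/
noncomputable def evT (w : List ℕ) : Spor.Th := toTh (ev w)

theorem evT_nil : evT [] = 1 := map_one _
theorem evT_append (u v : List ℕ) : evT (u ++ v) = evT u * evT v := by simp [evT]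
theorem evT_cons (k : ℕ) (w : List ℕ) : evT (k :: w) = toTh (valA k) * evT w := by simp [evT]
theorem evT_winv (w : List ℕ) : evT (winv w) = (evT w)⁻¹ := by simp [evT, ev_winv]

theorem evT_small : ∀ {w : List ℕ}, (∀ k ∈ w, k < 14) → evT w = (w.map thL).prod
  | [], _ => evT_nil
  | k :: w, h => by
    have hk := h k List.mem_cons_self
    rw [evT_cons, List.map_cons, List.prod_cons, valA_small hk, toTh_L hk,
      evT_small fun j hj => h j (List.mem_cons_of_mem _ hj)]

theorem evT_eqW {u v : List ℕ} (h : eqW u v = true) : evT u = evT v := congrArg toTh (eqW_sound h).2.2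

/-- The last generator. -/
noncomputable abbrev U : Spor.Th := thL 14

theorem U_inv : U⁻¹ = U * evT iac := by
  have h : (([14, 14, 5, 1] : List ℕ).map thL).prod = 1 := th_rel (by decide +kernel)
  simp only [List.map_cons, List.map_nil, List.prod_cons, List.prod_nil, mul_one] at h
  rw [evT_small (by simp [iac]), iac]
  simp only [List.map_cons, List.map_nil, List.prod_cons, List.prod_nil, mul_one]
  exact inv_eq_of_mul_eq_one_right h

theorem U_sq : U * U = evT acW := by
  have h : evT iac * evT acW = 1 := by
    rw [← evT_append, evT_small (by simp [iac, acW]), iac, acW]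
    simp only [List.cons_append, List.nil_append, List.map_cons, List.map_nil, List.prod_cons, List.prod_nil, mul_one]
    rw [show thL 5 = (thL 4)⁻¹ from thL_flp 4, show thL 1 = (thL 0)⁻¹ from thL_flp 0]
    group
  have h2 : U * U * evT iac = 1 := by rw [mul_assoc, ← U_inv, mul_inv_cancel]
  calc U * U = U * U * (evT iac * evT acW) := by rw [h, mul_one]
    _ = evT acW := by rw [← mul_assoc, h2, one_mul]

theorem iac_mul_U : evT iac * U = U⁻¹ := by
  have h : U * (evT iac * U) = 1 := by rw [← mul_assoc, ← U_inv, inv_mul_cancel]
  exact (inv_eq_of_mul_eq_one_right h).symm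

/-- The subgroup on the first seven generators. -/
noncomputable abbrev Hs : Subgroup Spor.Th := toTh.range

theorem evT_mem (w : List ℕ) : evT w ∈ Hs := ⟨_, rfl⟩

/-- The value of a step. -/
noncomputable def opVal : Option (List ℕ) → Spor.Th
  | none => U
  | some w => evT w

/-- A representative. -/
noncomputable def Wv (W : List (List (Option (List ℕ)))) (k : ℕ) : Spor.Th := ((W.getD k []).map opVal).prod

variable {F : Q (List (Fact × Why))} {W : List (List (Option (List ℕ)))}

/-- What a fact says. -/
def Holds (W : List (List (Option (List ℕ)))) (e : Fact) : Prop :=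
  if e.st then Wv W e.i * evT e.a = evT e.n * Wv W e.i
  else Wv W e.i * evT e.a * U = evT e.n * Wv W e.k * evT e.m

/-- The first facts hold. -/
def HoldsUpTo (F : Q (List (Fact × Why))) (W : List (List (Option (List ℕ)))) (lim : ℕ) : Prop :=
  ∀ q < lim, Holds W (factAt F q).1

/-- The pairs: generators of `K` are carried to their images by the last generator. -/
def PairsHold : Prop := ∀ j, evT (Kg.getD j []) * U = U * evT (Kp.getD j [])

theorem kgW_U (hP : PairsHold) : ∀ kw : List ℕ, evT (kgW kw) * U = U * evT (kpW kw)
  | [] => by simp [kgW, kpW, evT_nil]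
  | j :: kw => by
    rw [show kgW (j :: kw) = Kg.getD j [] ++ kgW kw from List.flatMap_cons,
      show kpW (j :: kw) = Kp.getD j [] ++ kpW kw from List.flatMap_cons, evT_append, evT_append,
      mul_assoc, kgW_U hP kw, ← mul_assoc, hP j, mul_assoc]

theorem hWord_sound {lim i : ℕ} (hF : HoldsUpTo F W lim) : ∀ {h : List ℕ} {r : List ℕ × List ℕ},
    hWord F lim i h = some r → Wv W i * evT r.1 = evT r.2 * Wv W i
  | [], r, h => by
    obtain rfl : ([], []) = r := Option.some.inj h
    simp [evT_nil]
  | g :: h, r, hr => by
    have hr' : Option.rec none (fun r' => cond (Nat.blt g lim && ((factAt F g).1.st && Nat.beq (factAt F g).1.i i))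
        (some ((factAt F g).1.a ++ r'.1, (factAt F g).1.n ++ r'.2)) none) (hWord F lim i h) = some r := hr
    cases hh : hWord F lim i h with
    | none => rw [hh] at hr'; simp at hr'
    | some r' =>
      rw [hh] at hr'
      dsimp only at hr'
      cases hc : (Nat.blt g lim && ((factAt F g).1.st && Nat.beq (factAt F g).1.i i)) with
      | false => rw [hc] at hr'; simp at hr'
      | true =>
        rw [hc, cond_true, Option.some.injEq] at hr'
        subst hr'
        simp only [Bool.and_eq_true, Nat.blt_eq, Nat.beq_eq] at hc
        obtain ⟨hl, hst, hi⟩ := hc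
        have he := hF g hl
        rw [Holds, hst, if_pos rfl, hi] at he
        dsimp only
        rw [evT_append, evT_append, ← mul_assoc, he, mul_assoc, hWord_sound hF hh, mul_assoc]

theorem useRes_sound (hP : PairsHold) {lim i : ℕ} {a : List ℕ} {u : Use} {r : ℕ × List ℕ × List ℕ}
    (hF : HoldsUpTo F W lim) (h : useRes F lim i a u = some r) :
    Wv W i * evT a * U = evT r.2.2 * Wv W r.1 * evT r.2.1 := by
  unfold useRes at h
  split at h
  next hw hn hh =>
    dsimp only at h
    set e := (factAt F u.f).1 with hedef
    cases hc : (Nat.blt u.f lim && (!e.st && (Nat.beq (cond u.rev e.k e.i) i &&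
        eqW a (hw ++ (cond u.rev e.m e.a ++ kgW u.kw))))) with
    | false => rw [hc] at h; simp at h
    | true =>
      rw [hc, cond_true, Option.some.injEq] at h
      subst h
      simp only [Bool.and_eq_true, Nat.blt_eq, Nat.beq_eq, Bool.not_eq_true'] at hc
      obtain ⟨hlim, hst, hi, heq⟩ := hc
      have hstab : Wv W i * evT hw = evT hn * Wv W i := hWord_sound hF hh
      have he := hF u.f hlim
      rw [Holds, ← hedef, hst] at he
      simp only [Bool.false_eq_true, if_false] at he
      have hE : Wv W i * evT (cond u.rev e.m e.a) * U =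
          evT (cond u.rev (winv e.n) e.n) * Wv W (cond u.rev e.i e.k) * evT (cond u.rev (e.a ++ acW) e.m) := by
        cases hr : u.rev with
        | false =>
          rw [hr] at hi
          simpa [← hi] using he
        | true =>
          rw [hr] at hi
          simp only [cond_true] at hi ⊢
          rw [← hi, evT_winv, evT_append, ← U_sq]
          calc Wv W e.k * evT e.m * U = (evT e.n)⁻¹ * (evT e.n * Wv W e.k * evT e.m) * U := by group
            _ = _ := by rw [← he]; group
      dsimp only
      rw [evT_eqW heq]
      simp only [evT_append]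
      calc Wv W i * (evT hw * (evT (cond u.rev e.m e.a) * evT (kgW u.kw))) * U
          = (Wv W i * evT hw) * evT (cond u.rev e.m e.a) * (evT (kgW u.kw) * U) := by group
        _ = evT hn * (Wv W i * evT (cond u.rev e.m e.a) * U) * evT (kpW u.kw) := by
          rw [hstab, kgW_U hP]; group
        _ = _ := by rw [hE]; group
  next => simp at h

theorem trace_sound (hP : PairsHold) {lim : ℕ} (hF : HoldsUpTo F W lim) : ∀ {ops : List (Option (List ℕ))}
    {us : List Use} {s r : ℕ × List ℕ × List ℕ}, trace F lim ops us s = some r →
    evT s.2.2 * Wv W s.1 * evT s.2.1 * (ops.map opVal).prod = evT r.2.2 * Wv W r.1 * evT r.2.1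
  | [], [], s, r, h => by
    obtain rfl : s = r := by simpa [trace] using h
    simp
  | [], _ :: _, s, r, h => by simp [trace] at h
  | some w :: ops, us, (i, a, n), r, h => by
    simp only [trace] at h
    rw [← trace_sound hP hF h]
    simp [opVal, evT_append, mul_assoc]
  | none :: _, [], (_, _, _), r, h => by simp [trace] at h
  | none :: ops, u :: us, (i, a, n), r, h => by
    simp only [trace] at h
    cases hu : useRes F lim i a u with
    | none => rw [hu] at h; simp at h
    | some q =>
      obtain ⟨k, m, n'⟩ := q
      rw [hu] at h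
      rw [← trace_sound hP hF h]
      have heq := useRes_sound hP hF hu
      dsimp only at heq ⊢
      rw [List.map_cons, List.prod_cons, opVal, evT_append]
      calc evT n * Wv W i * evT a * (U * (ops.map opVal).prod)
          = evT n * (Wv W i * evT a * U) * (ops.map opVal).prod := by group
        _ = _ := by rw [heq]; group

theorem traceBack_sound (hP : PairsHold) {lim : ℕ} (hF : HoldsUpTo F W lim) : ∀ {ops : List (Option (List ℕ))}
    {us : List Use} {s r : ℕ × List ℕ × List ℕ}, traceBack F lim ops us s = some r →
    evT s.2.2 * Wv W s.1 * evT s.2.1 * (ops.map fun o => (opVal o)⁻¹).prod = evT r.2.2 * Wv W r.1 * evT r.2.1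
  | [], [], s, r, h => by
    obtain rfl : s = r := by simpa [traceBack] using h
    simp
  | [], _ :: _, s, r, h => by simp [traceBack] at h
  | some w :: ops, us, (i, a, n), r, h => by
    simp only [traceBack] at h
    rw [← traceBack_sound hP hF h]
    simp [opVal, evT_append, evT_winv, mul_assoc]
  | none :: _, [], (_, _, _), r, h => by simp [traceBack] at h
  | none :: ops, u :: us, (i, a, n), r, h => by
    simp only [traceBack] at h
    cases hu : useRes F lim i (a ++ iac) u with
    | none => rw [hu] at h; simp at h
    | some q =>
      obtain ⟨k, m, n'⟩ := q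
      rw [hu] at h
      rw [← traceBack_sound hP hF h]
      have heq := useRes_sound hP hF hu
      dsimp only at heq ⊢
      rw [evT_append] at heq
      rw [List.map_cons, List.prod_cons, opVal, evT_append, ← iac_mul_U]
      calc evT n * Wv W i * evT a * (evT iac * U * (ops.map fun o => (opVal o)⁻¹).prod)
          = evT n * (Wv W i * (evT a * evT iac) * U) * (ops.map fun o => (opVal o)⁻¹).prod := by group
        _ = _ := by rw [heq]; group

theorem prod_posU : ∀ w : List ℕ, ((posU w).map thL).prod = (w.map thL).prod
  | [] => rfl
  | y :: w => by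
    rw [show posU (y :: w) = cond (Nat.beq y 15) [14, 5, 1] [y] ++ posU w from List.flatMap_cons,
      List.map_append, List.prod_append, prod_posU w, List.map_cons, List.prod_cons]
    congr 1
    cases h : Nat.beq y 15 with
    | false => simp
    | true =>
      rw [Nat.eq_of_beq_eq_true h, show thL 15 = U⁻¹ from thL_flp 14, U_inv, evT_small (by simp [iac])]
      simp [iac]

theorem loop_prod {L : Loop} (h : loopOK L = true) : (L.ops.map opVal).prod = 1 := by
  simp only [loopOK, Bool.and_eq_true, List.contains_iff_mem, decide_eq_true_eq, List.all_eq_true] at h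
  obtain ⟨hr, hlt, heq⟩ := h
  set w := posU (cond L.inv (PairEnum.winv L.r) L.r)
  have hw : (w.map thL).prod = 1 := by
    have hrel : (L.r.map thL).prod = 1 := by rw [← prod_red thL_flp]; exact th_rel hr
    rw [prod_posU]
    cases L.inv
    · exact hrel
    · rw [cond_true, PairEnum.prod_winv thL_flp, hrel, inv_one]
  have hflat : ∀ ops : List (Option (List ℕ)), (∀ o ∈ ops, (match o with
      | none => true
      | some w => w.all fun k => Nat.blt k 14) = true) →
      (ops.map opVal).prod = ((ops.flatMap fun o => o.getD [14]).map thL).prod := by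
    intro ops hops
    induction ops with
    | nil => rfl
    | cons o ops ih =>
      rw [List.map_cons, List.prod_cons, ih fun x hx => hops x (List.mem_cons_of_mem _ hx), List.flatMap_cons,
        List.map_append, List.prod_append]
      congr 1
      match o with
      | none => simp [opVal]
      | some v =>
        have hv := hops _ List.mem_cons_self
        simp only [List.all_eq_true, Nat.blt_eq] at hv
        exact evT_small hv
  rw [hflat L.ops hlt, heq, List.map_append, List.prod_append]
  have hsplit : ((w.take L.rot).map thL).prod * ((w.drop L.rot).map thL).prod = 1 := by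
    rw [← List.prod_append, ← List.map_append, List.take_append_drop, hw]
  exact mul_eq_one_comm.1 hsplit

theorem factOK_sound (hP : PairsHold) {Ls : List Loop} (hLs : ∀ L ∈ Ls, loopOK L = true)
    (hW0 : W.getD 0 [] = []) (hW1 : W.getD 1 [] = [some [], none]) {q : ℕ} {e : Fact}
    (hF : HoldsUpTo F W q) : ∀ {y : Why}, factOK F W Ls q e y = true → Holds W e
  | .defn, h => by
    simp only [factOK, Bool.and_eq_true, Bool.not_eq_true', List.isEmpty_iff, decide_eq_true_eq] at h
    obtain ⟨hst, hm, hn, -, hk⟩ := h
    rw [Holds, hst]
    simp only [Bool.false_eq_true, if_false]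
    rw [Wv, Wv, hk, hm, hn, evT_nil, mul_one, one_mul, List.map_append, List.prod_append]
    simp only [List.map_cons, List.map_nil, List.prod_cons, List.prod_nil, mul_one, opVal, mul_assoc]
  | .base, h => by
    simp only [factOK, Bool.and_eq_true, Nat.beq_eq] at h
    obtain ⟨hst, hi, heq⟩ := h
    rw [Holds, hst, if_pos rfl, hi, Wv, hW0, evT_eqW heq]
    simp
  | .pair kw, h => by
    simp only [factOK, Bool.and_eq_true, Nat.beq_eq] at h
    obtain ⟨hst, hi, heq, heq'⟩ := h
    rw [Holds, hst, if_pos rfl, hi, Wv, hW1]
    simp only [List.map_cons, List.map_nil, List.prod_cons, List.prod_nil, opVal, evT_nil, one_mul, mul_one]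
    rw [evT_eqW heq, evT_eqW heq', kgW_U hP]
  | .loop l li h0 f b u1 u2, h => by
    simp only [factOK, Bool.and_eq_true, Nat.blt_eq] at h
    obtain ⟨hl, h⟩ := h
    set ops := (Ls.getD l ⟨[], false, 0, []⟩).ops
    have hloop : (ops.map opVal).prod = 1 := by
      refine loop_prod (hLs _ ?_)
      rw [List.getD_eq_getElem _ _ hl]
      exact List.getElem_mem hl
    split at h
    next k1 m1 n1 k2 m2 n2 h1 h2 =>
      simp only [Bool.and_eq_true, Nat.beq_eq] at h
      obtain ⟨hi, hn, h⟩ := h
      have T1 := trace_sound hP hF h1
      have T2 := traceBack_sound hP hF h2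
      dsimp only at T1 T2
      have hback : ((ops.drop b).reverse.map fun o => (opVal o)⁻¹).prod = ((ops.drop b).map opVal).prod⁻¹ := by
        rw [List.prod_inv_reverse, List.map_map, List.map_reverse]
        rfl
      rw [hback] at T2
      simp only [evT_nil, one_mul] at T1 T2
      cases hst : e.st with
      | true =>
        rw [hst, cond_true, Bool.and_eq_true, Bool.and_eq_true, Nat.beq_eq, Nat.beq_eq] at h
        obtain ⟨hk, hbf, heq⟩ := h
        subst hk hbf
        have hinv : ((ops.drop b).map opVal).prod⁻¹ = ((ops.take b).map opVal).prod :=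
          inv_eq_of_mul_eq_one_left (by rw [← List.prod_append, ← List.map_append, List.take_append_drop, hloop])
        rw [hinv, T1] at T2
        rw [Holds, hst, if_pos rfl, hi, evT_eqW hn, evT_eqW heq]
        simp only [evT_append, evT_winv]
        calc Wv W k1 * (evT m1 * (evT m2)⁻¹)
            = (evT n1)⁻¹ * (evT n1 * Wv W k1 * evT m1) * (evT m2)⁻¹ := by group
          _ = _ := by rw [T2]; group
      | false =>
        rw [hst, cond_false] at h
        simp only [Bool.and_eq_true, Nat.beq_eq, decide_eq_true_eq] at h
        obtain ⟨hk, hbf, hop, heq1, heq2⟩ := h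
        subst hbf
        obtain ⟨hf, hopf⟩ := List.getElem?_eq_some_iff.1 hop
        have hsplit : ((ops.take f).map opVal).prod * U = ((ops.drop (f + 1)).map opVal).prod⁻¹ := by
          refine (inv_eq_of_mul_eq_one_left ?_).symm
          have e : U = opVal ops[f] := by rw [hopf]; rfl
          rw [e, ← List.prod_concat, ← List.map_concat, List.take_concat_get, ← List.prod_append, ← List.map_append,
            List.take_append_drop, hloop]
        rw [Holds, hst]
        simp only [Bool.false_eq_true, if_false]
        rw [hi, hk, evT_eqW hn, evT_eqW heq1, evT_eqW heq2]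
        simp only [evT_append, evT_winv]
        calc Wv W k1 * evT m1 * U = (evT n1)⁻¹ * (evT n1 * Wv W k1 * evT m1) * U := by group
          _ = (evT n1)⁻¹ * (Wv W li * evT h0 * (((ops.take f).map opVal).prod * U)) := by rw [← T1]; group
          _ = _ := by rw [hsplit, T2]; group
    next => simp at h
  | .coinc li h0 u1 u2, h => by
    simp only [factOK] at h
    split at h
    next k1 m1 n1 k2 m2 n2 h1 h2 =>
      simp only [Bool.and_eq_true, Nat.beq_eq] at h
      obtain ⟨hst, hi, hk, heq, hn⟩ := h
      subst hk
      have e : evT n2 * Wv W k1 * evT m2 = evT n1 * Wv W k1 * evT m1 :=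
        (useRes_sound hP hF h2).symm.trans (useRes_sound hP hF h1)
      rw [Holds, hst, if_pos rfl, hi, evT_eqW hn, evT_eqW heq]
      simp only [evT_append, evT_winv]
      calc Wv W k1 * (evT m2 * (evT m1)⁻¹)
          = (evT n2)⁻¹ * (evT n2 * Wv W k1 * evT m2) * (evT m1)⁻¹ := by group
        _ = _ := by rw [e]; group
    next => simp at h

theorem opsOf_prod : ∀ {w : List ℕ}, (∀ k ∈ w, k < 16) → ((opsOf w).map opVal).prod = (w.map thL).prod
  | [], _ => rfl
  | y :: w, h => by
    rw [show opsOf (y :: w) = cond (Nat.beq y 14) [none] (cond (Nat.beq y 15) [none, some iac] [some [y]]) ++ opsOf w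
      from List.flatMap_cons, List.map_append, List.prod_append, opsOf_prod fun k hk => h k (List.mem_cons_of_mem _ hk),
      List.map_cons, List.prod_cons]
    congr 1
    have hy := h y List.mem_cons_self
    cases h14 : Nat.beq y 14 with
    | true => rw [Nat.eq_of_beq_eq_true h14]; simp [opVal]
    | false =>
      cases h15 : Nat.beq y 15 with
      | true =>
        rw [Nat.eq_of_beq_eq_true h15, show thL 15 = U⁻¹ from thL_flp 14, U_inv]
        simp [opVal]
      | false =>
        have h1 : y ≠ 14 := fun e => by rw [e] at h14; simp at h14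
        have h2 : y ≠ 15 := fun e => by rw [e] at h15; simp at h15
        simp [opVal, evT_small (w := [y]) (by simp; omega)]

theorem isOne_sound (hP : PairsHold) (hW0 : W.getD 0 [] = []) {lim : ℕ} (hF : HoldsUpTo F W lim) {w : List ℕ}
    {us : List Use} (h : isOne F lim w us = true) : (w.map thL).prod = 1 := by
  simp only [isOne, Bool.and_eq_true, List.all_eq_true, Nat.blt_eq] at h
  obtain ⟨hlt, h⟩ := h
  split at h
  next k m n hk =>
    rw [Bool.and_eq_true, Nat.beq_eq] at h
    obtain ⟨rfl, heq⟩ := h
    have T := trace_sound hP hF hk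
    have hz : Wv W 0 = 1 := by rw [Wv, hW0]; rfl
    simp only [evT_nil, one_mul, hz, mul_one] at T
    rw [← opsOf_prod hlt, T, ← evT_append, evT_eqW heq, evT_nil]
  next => simp at h

theorem facts_sound (hP : PairsHold) {Ls : List Loop} (hLs : ∀ L ∈ Ls, loopOK L = true) (hW0 : W.getD 0 [] = [])
    (hW1 : W.getD 1 [] = [some [], none]) {n : ℕ}
    (h : ∀ q < n, factOK F W Ls q (factAt F q).1 (factAt F q).2 = true) : HoldsUpTo F W n := by
  intro q
  induction q using Nat.strong_induction_on with
  | _ q ih =>
    intro hq
    exact factOK_sound hP hLs hW0 hW1 (fun j hj => ih j hj (hj.trans hq)) (h q hq)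

end CfsgLib.Sporadic.ThPres
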