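import Cfsg.Prelude.Def_Spor_Th
import Mathlib.Tactic

/-!
# The relators of the presented Thompson group as words (owner: helper9)

Letters `2 * i` and `2 * i + 1` are the `i`-th generator (in the order a, b, c, d, e, s, t, u) and its inverse.
-/

set_option autoImplicit false
set_option maxRecDepth 20000
set_option Elab.async false

namespace CfsgLib.Sporadic.ThPres

open Cfsg

/-- The generators in order. -/
def genOf : Fin 8 → Spor.Th.Gen
  | 0 => .a | 1 => .b | 2 => .c | 3 => .d | 4 => .e | 5 => .s | 6 => .t | 7 => .u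

/-- The number of a generator. -/
def genNo : Spor.Th.Gen → ℕ
  | .a => 0 | .b => 1 | .c => 2 | .d => 3 | .e => 4 | .s => 5 | .t => 6 | .u => 7

/-- The number of a signed generator. -/
def code (p : Spor.Th.Gen × Bool) : ℕ := 2 * genNo p.1 + cond p.2 0 1

/-- The letters of an element of the free group. -/
def lettersOf (r : FreeGroup Spor.Th.Gen) : List ℕ := r.toWord.map code

/-- The relators. -/
def relWords : List (List ℕ) := [
  [0, 0],
  [2, 2],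
  [4, 4],
  [6, 6],
  [8, 8],
  [0, 2, 0, 2, 0, 2],
  [0, 8, 0, 8],
  [2, 4, 2, 4, 2, 4],
  [2, 6, 2, 6],
  [2, 8, 2, 8],
  [0, 7, 5, 7, 5, 7, 5, 7, 5],
  [4, 8, 4, 8],
  [6, 8, 6, 8, 6, 8],
  [2, 4, 6, 8, 2, 4, 6, 8, 2, 4, 6, 8, 2, 4, 6, 8, 2, 4, 6, 8, 2, 4, 6, 8, 2, 4, 6, 8, 2, 4, 6, 8],
  [10, 10, 10, 10, 10, 10, 10],
  [11, 1, 10, 0],
  [11, 3, 10, 2],
  [11, 5, 10, 4],
  [10, 6, 10, 6],
  [9, 11, 8, 11, 11, 9, 10, 10, 10],
  [12, 12, 12],
  [13, 1, 12, 0],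
  [13, 3, 12, 2],
  [13, 5, 12, 4],
  [13, 7, 12, 6],
  [13, 9, 12, 8],
  [13, 10, 12, 11, 11],
  [14, 14, 5, 1],
  [15, 1, 14, 0],
  [15, 5, 14, 4],
  [15, 9, 14, 8],
  [6, 8, 15, 6, 14, 6, 8, 15, 6, 14],
  [15, 3, 5, 1, 2, 14, 3, 0, 4, 2, 9],
  [7, 15, 6, 3, 5, 1, 2, 7, 14, 6, 3, 0, 4, 2, 5, 9, 7, 15, 6, 3, 5, 1, 2, 9, 15],
  [15, 12, 14, 12],
  [9, 11, 11, 15, 10, 10, 8, 11, 11, 14, 10, 10],
  [0, 4, 11, 15, 11, 15, 11, 15],
  [0, 4, 11, 15, 10, 14, 11, 15, 10, 14, 11, 15, 10, 14, 11, 15, 10, 14],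
  [6, 11, 11, 14, 10, 10, 6, 11, 11, 14, 10, 10, 6, 11, 11, 14, 10, 10, 6, 11, 11, 14, 9, 7, 5, 6, 8, 10, 10, 10, 9, 7, 5, 6, 8, 11, 7, 5, 6, 5, 1]
]

theorem relWords_eq : Spor.Th.extra.map lettersOf = relWords := by decide +kernel

/-- The relators not involving the last generator. -/
def words27 : List (List ℕ) := relWords.take 27

theorem words27_lt : words27.all (fun w => w.all fun k => Nat.blt k 14) = true := by decide +kernel

end CfsgLib.Sporadic.ThPres
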